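import Mathlib
import Cfsg.Agent.Lib.Helper3.OrbOct
import Cfsg.Agent.Lib.Helper3.OrbDod

set_option autoImplicit false

namespace Cfsg.Agent.Lib.Helper3

open Cfsg
open scoped Pointwise

theorem mem_orbit_stab_iff {α β : Type*} [MulAction (Equiv.Perm GolayPt) α]
    [MulAction (Equiv.Perm GolayPt) β] (y : α) (a b : β) :
    b ∈ MulAction.orbit (MulAction.stabilizer M24 y) a ↔ ∃ g ∈ M24, g • y = y ∧ g • a = b := by
  constructor
  · rintro ⟨⟨⟨g, hg⟩, hgy⟩, rfl⟩
    exact ⟨g, hg, hgy, rfl⟩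
  · rintro ⟨g, hg, hgy, rfl⟩
    exact ⟨⟨⟨g, hg⟩, hgy⟩, rfl⟩

theorem mem_orbit_M24_iff {β : Type*} [MulAction (Equiv.Perm GolayPt) β] (a b : β) :
    b ∈ MulAction.orbit M24 a ↔ ∃ g ∈ M24, g • a = b := by
  constructor
  · rintro ⟨⟨g, hg⟩, rfl⟩
    exact ⟨g, hg, rfl⟩
  · rintro ⟨g, hg, rfl⟩
    exact ⟨⟨g, hg⟩, rfl⟩

theorem exists_stab_iff {α β : Type*} [MulAction (Equiv.Perm GolayPt) α]
    [MulAction (Equiv.Perm GolayPt) β] (y : α) (a b : β) :
    (∃ g ∈ MulAction.stabilizer M24 y, g • a = b) ↔ ∃ g ∈ M24, g • y = y ∧ g • a = b := by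
  constructor
  · rintro ⟨⟨g, hg⟩, hgy, rfl⟩
    exact ⟨g, hg, hgy, rfl⟩
  · rintro ⟨g, hg, hgy, rfl⟩
    exact ⟨⟨g, hg⟩, hgy, rfl⟩

theorem orbit_M24_octad {o : Finset GolayPt} (ho : o ∈ octads) :
    MulAction.orbit M24 o = octads := by
  ext r
  rw [mem_orbit_M24_iff]
  constructor
  · rintro ⟨g, hg, rfl⟩
    exact smul_mem_octads hg ho
  · intro hr
    exact trans_octads ho hr

theorem card_M24' : Nat.card ↥M24 = 244823040 := card_M24

theorem card_stab_mul_orbit {β : Type*} [MulAction (Equiv.Perm GolayPt) β] (a : β) :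
    (MulAction.orbit M24 a).ncard * Nat.card (MulAction.stabilizer M24 a) = 244823040 := by
  rw [← card_M24', ← (MulAction.stabilizer M24 a).card_mul_index, MulAction.index_stabilizer,
    mul_comm]

theorem card_stab_octad {o : Finset GolayPt} (ho : o ∈ octads) :
    Nat.card (MulAction.stabilizer M24 o) = 322560 := by
  have h := card_stab_mul_orbit o
  rw [orbit_M24_octad ho, ncard_octads] at h
  omega

theorem octad_pair_trans {o o' o'' : Finset GolayPt} (ho : o ∈ octads) (ho' : o' ∈ octads)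
    (ho'' : o'' ∈ octads) (h : (o ∩ o').card = (o ∩ o'').card) :
    ∃ g ∈ M24, g • o = o ∧ g • o' = o'' := by
  obtain ⟨u, hu, huo⟩ := octad_to_O0 ho
  obtain ⟨σ', hσ', h'⟩ := octad_to_rep (smul_mem_octads hu ho')
  obtain ⟨σ'', hσ'', h''⟩ := octad_to_rep (smul_mem_octads hu ho'')
  refine transfer_pair (S := StabM [0x149f]) (Y0 := O0) (fun σ hσ => StabM_one hσ) hu huo hσ' hσ'' ?_
  apply mask_injective
  rw [h', h'', ← huo, card_smul_inter, card_smul_inter, h]

theorem orbit_stab_octad {o o' : Finset GolayPt} (ho : o ∈ octads) (ho' : o' ∈ octads) :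
    MulAction.orbit (MulAction.stabilizer M24 o) o' =
      {x | x ∈ octads ∧ (o ∩ x).card = (o ∩ o').card} := by
  ext x
  rw [mem_orbit_stab_iff]
  constructor
  · rintro ⟨g, hg, hgo, rfl⟩
    refine ⟨smul_mem_octads hg ho', ?_⟩
    conv_lhs => rw [← hgo]
    rw [card_smul_inter]
  · rintro ⟨hx, hc⟩
    exact octad_pair_trans ho ho' hx hc.symm

/-- test for octads meeting the standard octad in `n` points. -/
def octO0 (n x : ℕ) : Bool := Nat.beq (pcF x) 8 && Nat.beq (pcF (Nat.land 0x149f x)) n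

theorem count_octO0_0 : countRange (fun c => octO0 0 (encF c)) 12 0 = 30 := by decide +kernel
theorem count_octO0_2 : countRange (fun c => octO0 2 (encF c)) 12 0 = 448 := by decide +kernel
theorem count_octO0_4 : countRange (fun c => octO0 4 (encF c)) 12 0 = 280 := by decide +kernel

theorem ncard_octO0 (n : ℕ) : {d : Finset GolayPt | d ∈ octads ∧ (O0 ∩ d).card = n}.ncard =
    countRange (fun c => octO0 n (encF c)) 12 0 := by
  rw [← ncard_codeF (octO0 n)]
  congr 1
  ext s
  simp only [octads, wordsOfWeight, Set.mem_ofPred_eq, octO0, Bool.and_eq_true, Nat.beq_eq,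
    land_mask _ (show (0x149f : ℕ) < 2 ^ 24 by norm_num), ← card_eq_pcF, and_assoc]
  rfl

theorem ncard_oct_inter (n : ℕ) {o : Finset GolayPt} (ho : o ∈ octads) :
    {x : Finset GolayPt | x ∈ octads ∧ (o ∩ x).card = n}.ncard =
      countRange (fun c => octO0 n (encF c)) 12 0 := by
  obtain ⟨h, hh, hho⟩ := octad_to_O0 ho
  rw [← ncard_octO0]
  apply ncard_smul_transfer h
  intro x
  rw [smul_mem_octads_iff hh, ← hho, card_smul_inter]

theorem octad_inter_cases {o o' : Finset GolayPt} (ho : o ∈ octads) (ho' : o' ∈ octads) :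
    o' = o ∨ (o ∩ o').card = 0 ∨ (o ∩ o').card = 2 ∨ (o ∩ o').card = 4 := by
  have hw := code_weights _ (supports_symmDiff ho.1 ho'.1)
  have hc := card_symmDiff_add o o'
  have e1 : o.card = 8 := ho.2
  have e2 : o'.card = 8 := ho'.2
  by_cases h8 : (o ∩ o').card = 8
  · left
    have h1 : o ∩ o' = o := Finset.eq_of_subset_of_card_le Finset.inter_subset_left (by omega)
    have h2 : o ∩ o' = o' := Finset.eq_of_subset_of_card_le Finset.inter_subset_right (by omega)
    rw [← h2, h1]
  · right; omega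

theorem card_stab_two_octads {o o' : Finset GolayPt} (ho : o ∈ octads) (ho' : o' ∈ octads) :
    countRange (fun c => octO0 (o ∩ o').card (encF c)) 12 0 *
      Nat.card ↥(MulAction.stabilizer M24 o ⊓ MulAction.stabilizer M24 o') = 322560 := by
  rw [← card_stab_octad ho, card_eq_orbit_mul (MulAction.stabilizer M24 o) o',
    orbit_stab_octad ho ho', ncard_oct_inter _ ho]

theorem isCoatom_stab_octad {o : Finset GolayPt} (ho : o ∈ octads) :
    IsCoatom (MulAction.stabilizer M24 o) := by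
  apply isCoatom_stabilizer_of_classes o
    (fun i : Fin 3 => {x | x ∈ octads ∧ (o ∩ x).card = 2 * (i : ℕ)}) ![30, 448, 280] 759
  · rw [orbit_M24_octad ho, ncard_octads]
  · norm_num
  · intro x hx
    rw [orbit_M24_octad ho] at hx
    rcases octad_inter_cases ho hx with h | h | h | h
    · exact Or.inl h
    · exact Or.inr ⟨0, hx, h⟩
    · exact Or.inr ⟨1, hx, h⟩
    · exact Or.inr ⟨2, hx, h⟩
  · intro i x hx
    rw [orbit_M24_octad ho]; exact hx.1
  · intro i hx
    have h1 := hx.2
    rw [Finset.inter_self, ho.2] at h1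
    have := i.2
    omega
  · intro i j hij
    rw [Set.disjoint_left]
    intro x hx hx'
    apply hij
    have := hx.2.symm.trans hx'.2
    exact Fin.ext (by omega)
  · intro i x hx x' hx'
    rw [exists_stab_iff]
    exact octad_pair_trans ho hx.1 hx'.1 (hx.2.trans hx'.2.symm)
  · intro i
    rw [ncard_oct_inter _ ho]
    fin_cases i
    · exact count_octO0_0
    · exact count_octO0_2
    · exact count_octO0_4
  · decide

end Cfsg.Agent.Lib.Helper3
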