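import Mathlib
import Cfsg.Agent.Lib.Helper3.OctStab

set_option autoImplicit false

namespace Cfsg.Agent.Lib.Helper3

open Cfsg
open scoped Pointwise

/-- a list of at most five distinct points of a set with at least five points can be moved to the
first base points, five points of the set going to the five first base points. -/
theorem exists_map_list (o : Finset GolayPt) (ho : 5 ≤ o.card) (l : List GolayPt) (hl : l.Nodup)
    (hlo : ∀ p ∈ l, p ∈ o) (hlen : l.length ≤ 5) :
    ∃ u ∈ M24, (∀ j (hj : j < l.length), u l[j] = bpt j) ∧ ∀ j < 5, bpt j ∈ u • o := by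
  classical
  have hsub : l.toFinset ⊆ o := by
    intro p hp; exact hlo p (List.mem_toFinset.1 hp)
  have hcard : l.toFinset.card = l.length := List.toFinset_card_of_nodup hl
  have h1 : 5 - l.length ≤ (o \ l.toFinset).card := by
    rw [Finset.card_sdiff_of_subset hsub, hcard]; omega
  obtain ⟨t, hts, ht⟩ := Finset.exists_subset_card_eq h1
  set l' := l ++ t.toList with hl'
  have hlen' : l'.length = 5 := by
    rw [hl', List.length_append, Finset.length_toList, ht]; omega
  have hnd : l'.Nodup := by
    rw [hl', List.nodup_append]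
    refine ⟨hl, t.nodup_toList, ?_⟩
    intro a ha b hb hab
    have hb' := hts (Finset.mem_toList.1 hb)
    rw [Finset.mem_sdiff] at hb'
    exact hb'.2 (List.mem_toFinset.2 (hab ▸ ha))
  have hmem : ∀ p ∈ l', p ∈ o := by
    intro p hp
    rw [hl', List.mem_append] at hp
    rcases hp with hp | hp
    · exact hlo p hp
    · exact (Finset.mem_sdiff.1 (hts (Finset.mem_toList.1 hp))).1
  obtain ⟨u, hu, h⟩ := exists_H_map (fun n => l'.getD n none) (by
    intro i hi j hj hij
    simp only [List.getD_eq_getElem?_getD] at hij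
    rw [List.getElem?_eq_getElem (by omega), List.getElem?_eq_getElem (by omega)] at hij
    simp only [Option.getD_some] at hij
    exact (List.Nodup.getElem_inj_iff hnd).1 hij) 5 le_rfl
  refine ⟨u, H_le hu, ?_, ?_⟩
  · intro j hj
    have h2 := h j (by omega)
    simp only [List.getD_eq_getElem?_getD] at h2
    rw [List.getElem?_eq_getElem (by omega)] at h2
    simp only [Option.getD_some] at h2
    rw [← h2]
    congr 1
    simp only [hl']
    rw [List.getElem_append_left hj]
  · intro j hj
    have h2 := h j hj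
    simp only [List.getD_eq_getElem?_getD] at h2
    rw [List.getElem?_eq_getElem (by omega)] at h2
    simp only [Option.getD_some] at h2
    rw [← h2]
    exact Finset.smul_mem_smul_finset (hmem _ (List.getElem_mem _))

theorem eq_O0_of_base {o : Finset GolayPt} (ho : o ∈ octads) (h : ∀ j < 5, bpt j ∈ o) : o = O0 := by
  apply octad_unique (s := unmask 0x1F) ho O0_mem
  · rw [card_eq_pc, mask_unmask (by norm_num)]; decide +kernel
  · intro p hp
    rw [mem_unmask] at hp
    rw [mem_iff_testBit]
    have h1 := mask_and_base h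
    have h2 := congrArg (fun n => n.testBit (idx p)) h1
    simp only [Nat.testBit_and, hp, Bool.and_true] at h2
    exact h2
  · intro p hp
    rw [mem_unmask] at hp
    rw [O0, mem_unmask]
    have : ∀ i < 24, (0x1F : ℕ).testBit i = true → (0x149f : ℕ).testBit i = true := by decide
    exact this _ (idx_lt p) hp

theorem octad_to_O0_list {o : Finset GolayPt} (ho : o ∈ octads) (l : List GolayPt) (hl : l.Nodup)
    (hlo : ∀ p ∈ l, p ∈ o) (hlen : l.length ≤ 5) :
    ∃ u ∈ M24, u • o = O0 ∧ ∀ j (hj : j < l.length), u l[j] = bpt j := by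
  obtain ⟨u, hu, h1, h2⟩ := exists_map_list o (by rw [ho.2]; norm_num) l hl hlo hlen
  exact ⟨u, hu, eq_O0_of_base (smul_mem_octads hu ho) h2, h1⟩

/-- a point outside the standard octad can be moved to the last base point by an element fixing
the standard octad pointwise. -/
theorem outside_to_base {q : GolayPt} (hq : q ∉ O0) :
    ∃ u ∈ M24, u • O0 = O0 ∧ (∀ p ∈ O0, u p = p) ∧ u q = bpt 6 := by
  have h1 : (allow 6).testBit (idx q) = true := by
    rw [O0, mem_unmask] at hq
    have : ∀ i < 24, ¬ (0x149f : ℕ).testBit i = true → (allow 6).testBit i = true := by decide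
    exact this _ (idx_lt q) hq
  obtain ⟨u, hu, hf, huq⟩ := level_spec 6 (by norm_num) q h1
  have hK : u ∈ K 6 := (mem_K 6 u).2 ⟨H_le hu, hf⟩
  have h2 := (K6_elem hK).2
  refine ⟨u, H_le hu, ?_, h2, huq⟩
  exact stab_O (H_le hu) (by norm_num) hf

/-- list of conditions `(m, n)`: the set meets the set with mask `m` in `n` points. -/
def condsOK (cs : List (ℕ × ℕ)) (x : ℕ) : Bool :=
  cs.all fun c => Nat.beq (pcF (Nat.land c.1 x)) c.2

theorem condsOK_iff (cs : List (ℕ × ℕ)) (hcs : ∀ c ∈ cs, c.1 < 2 ^ 24) (s : Finset GolayPt) :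
    condsOK cs (mask s) = true ↔ ∀ c ∈ cs, (unmask c.1 ∩ s).card = c.2 := by
  unfold condsOK
  rw [List.all_eq_true]
  apply forall₂_congr
  intro c hc
  rw [land_mask _ (hcs c hc), ← card_eq_pcF, Nat.beq_eq]

theorem ncard_conds (cs : List (ℕ × ℕ)) (hcs : ∀ c ∈ cs, c.1 < 2 ^ 24) :
    {s : Finset GolayPt | s ∈ CS ∧ ∀ c ∈ cs, (unmask c.1 ∩ s).card = c.2}.ncard =
      countRange (fun c => condsOK cs (encF c)) 12 0 := by
  rw [← ncard_codeF (condsOK cs)]
  congr 1
  ext s
  simp only [Set.mem_ofPred_eq, condsOK_iff cs hcs]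

theorem unmask_shift {i : ℕ} (hi : i < 24) : unmask (1 <<< i) = {pt i} := by
  ext p
  rw [mem_unmask, Finset.mem_singleton, Nat.one_shiftLeft, Nat.testBit_two_pow]
  simp only [decide_eq_true_eq]
  constructor
  · intro h; rw [← pt_idx p, ← h]
  · intro h; rw [h, idx_pt hi]

theorem mem_iff_card {m i : ℕ} (hi : i < 24) (hm : m = 1 <<< i) (s : Finset GolayPt) :
    pt i ∈ s ↔ (unmask m ∩ s).card = 1 := by
  rw [hm, unmask_shift hi]
  by_cases h : pt i ∈ s
  · simp [h]
  · simp [h]

theorem not_mem_iff_card {m i : ℕ} (hi : i < 24) (hm : m = 1 <<< i) (s : Finset GolayPt) :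
    pt i ∉ s ↔ (unmask m ∩ s).card = 0 := by
  rw [hm, unmask_shift hi]
  by_cases h : pt i ∈ s
  · simp [h]
  · simp [h]

theorem unmask_full : unmask 0xFFFFFF = Finset.univ := by
  ext p
  rw [mem_unmask]
  simp only [Finset.mem_univ, iff_true]
  have : ∀ i < 24, (0xFFFFFF : ℕ).testBit i = true := by decide
  exact this _ (idx_lt p)

theorem card_full_inter (s : Finset GolayPt) : (unmask 0xFFFFFF ∩ s).card = s.card := by
  rw [unmask_full, Finset.univ_inter]

theorem fix_of_smul {m i : ℕ} (hi : i < 24) (hm : m = 1 <<< i) {σ : Equiv.Perm GolayPt}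
    (h : σ • unmask m = unmask m) : σ (pt i) = pt i := by
  rw [hm, unmask_shift hi, Finset.smul_finset_singleton, Finset.singleton_inj] at h
  exact h

end Cfsg.Agent.Lib.Helper3
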