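import Mathlib
import Cfsg.Agent.Lib.Helper3.Config

set_option autoImplicit false
open scoped Pointwise
open Cfsg

namespace Cfsg.Agent.Lib.Helper3

theorem wperm_append (a b : List ℕ) : wperm (a ++ b) = wperm a * wperm b := by
  simp [wperm]

/-- elements of the pointwise stabiliser of the standard octad are given by words. -/
theorem K6_wordB {g : Equiv.Perm GolayPt} (hg : g ∈ K 6) :
    ∃ q < 24, (allow 6).testBit q = true ∧ g = wperm ((tr 6).getD q []) := by
  have hg' := (mem_K 6 g).1 hg
  have hq := allowed (k := 6) (by norm_num) hg'.1 hg'.2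
  set q := idx (g (bpt 6)) with hqdef
  have hq24 : q < 24 := idx_lt _
  obtain ⟨hu1, hu2⟩ := level_word 6 (by norm_num) q hq24 hq
  set u := wperm ((tr 6).getD q []) with hu
  have hug : u * g = 1 := by
    apply eq_one_of_fixes (M24.mul_mem (wperm_mem _) hg'.1)
    intro j hj
    rcases Nat.lt_succ_iff_lt_or_eq.mp hj with h | rfl
    · show u (g (bpt j)) = _
      rw [hg'.2 j h, hu1 j h]
    · show u (g (bpt 6)) = _
      have h6 : g (bpt 6) = pt q := by rw [hqdef, pt_idx]
      rw [h6, hu2]
  refine ⟨q, hq24, hq, ?_⟩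
  have h1 : u = g⁻¹ := eq_inv_of_mul_eq_one_left hug
  have h2 : g⁻¹ = g := inv_eq_of_mul_eq_one_left (K6_elem hg).1
  rw [← hu, h1, h2]

/-- the word of an element of the pointwise stabiliser of five base points. -/
def w5 (q5 q6 : ℕ) : List ℕ := winv ((tr 5).getD q5 []) ++ (tr 6).getD q6 []

/-- the forty-eight elements fixing the five base points. -/
theorem K5_word {g : Equiv.Perm GolayPt} (hg : g ∈ K 5) :
    ∃ q5 < 24, ∃ q6 < 24, (allow 5).testBit q5 = true ∧ (allow 6).testBit q6 = true ∧
      g = wperm (w5 q5 q6) := by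
  have hg' := (mem_K 5 g).1 hg
  have hq := allowed (k := 5) (by norm_num) hg'.1 hg'.2
  set q := idx (g (bpt 5)) with hqdef
  have hq24 : q < 24 := idx_lt _
  obtain ⟨hu1, hu2⟩ := level_word 5 (by norm_num) q hq24 hq
  set u := wperm ((tr 5).getD q []) with hu
  have hug : u * g ∈ K 6 := by
    rw [mem_K]
    refine ⟨M24.mul_mem (wperm_mem _) hg'.1, ?_⟩
    intro j hj
    rcases Nat.lt_succ_iff_lt_or_eq.mp hj with h | rfl
    · show u (g (bpt j)) = _
      rw [hg'.2 j h, hu1 j h]
    · show u (g (bpt 5)) = _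
      have h6 : g (bpt 5) = pt q := by rw [hqdef, pt_idx]
      rw [h6, hu2]
  obtain ⟨q6, hq6, hb6, h6⟩ := K6_wordB hug
  refine ⟨q, hq24, q6, hq6, hq, hb6, ?_⟩
  rw [w5, wperm_append, wperm_winv, ← hu, ← h6, inv_mul_cancel_left]

/-- the mask of the fixed points of a word. -/
def fixW (w : List ℕ) : ℕ := Nat.ofBits (fun j : Fin 24 => wact w j == j)

theorem mask_fixed (w : List ℕ) :
    mask (Finset.univ.filter fun p => wperm w p = p) = fixW w := by
  apply Nat.eq_of_testBit_eq; intro i
  rw [testBit_mask, fixW, Nat.testBit_ofBits]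
  by_cases hi : i < 24
  · simp only [hi, true_and, Finset.mem_filter, Finset.mem_univ, dite_true]
    have : wperm w (pt i) = pt i ↔ wact w i = i := by
      constructor
      · intro h
        have h1 := congrArg idx h
        rwa [idx_wperm, idx_pt hi] at h1
      · intro h
        apply idx_injective
        rw [idx_wperm, idx_pt hi, h]
    simp only [this]
    by_cases h : wact w i = i <;> simp [h]
  · simp [hi]

theorem chkFix9 : (List.range 24).all (fun q5 => !(allow 5).testBit q5 ||
    (List.range 24).all fun q6 => !(allow 6).testBit q6 ||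
      Nat.ble (pc (fixW (w5 q5 q6))) 8 || Nat.beq (fixW (w5 q5 q6)) 0xFFFFFF) = true := by
  decide +kernel

/-- a non-identity element of the group fixes at most eight points. -/
theorem fix9 {g : Equiv.Perm GolayPt} (hg : g ∈ M24) (s : Finset GolayPt) (hs : 9 ≤ s.card)
    (hfix : ∀ p ∈ s, g p = p) : g = 1 := by
  obtain ⟨t, hts, ht⟩ := Finset.exists_subset_card_eq (show 5 ≤ s.card by omega)
  obtain ⟨u, hu, h1, _⟩ := exists_map_list Finset.univ (by decide) t.toList t.nodup_toList
    (by simp) (by rw [Finset.length_toList, ht])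
  have hK : u * g * u⁻¹ ∈ K 5 := by
    rw [mem_K]
    refine ⟨M24.mul_mem (M24.mul_mem hu hg) (M24.inv_mem hu), ?_⟩
    intro j hj
    have hj' : j < t.toList.length := by rw [Finset.length_toList, ht]; exact hj
    have h2 := h1 j hj'
    have h3 : t.toList[j] ∈ s := hts (Finset.mem_toList.1 (List.getElem_mem hj'))
    show u (g (u⁻¹ (bpt j))) = bpt j
    rw [← h2, Equiv.Perm.inv_def, Equiv.symm_apply_apply, hfix _ h3]
  obtain ⟨q5, hq5, q6, hq6, hb5, hb6, hw⟩ := K5_word hK
  have hc := chkFix9
  rw [List.all_eq_true] at hc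
  have hc1 := hc q5 (List.mem_range.2 hq5)
  rw [hb5, Bool.not_true, Bool.false_or, List.all_eq_true] at hc1
  have hc2 := hc1 q6 (List.mem_range.2 hq6)
  rw [hb6, Bool.not_true, Bool.false_or, Bool.or_eq_true, Nat.ble_eq, Nat.beq_eq, ← mask_fixed,
    ← card_eq_pc, ← hw] at hc2
  have hsub : u • s ⊆ Finset.univ.filter fun p => (u * g * u⁻¹) p = p := by
    intro p hp
    obtain ⟨p', hp', rfl⟩ := Finset.mem_smul_finset.1 hp
    rw [Finset.mem_filter]
    refine ⟨Finset.mem_univ _, ?_⟩
    show u (g (u⁻¹ (u p'))) = u p'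
    rw [Equiv.Perm.inv_def, Equiv.symm_apply_apply, hfix _ hp']
  have hcard := Finset.card_le_card hsub
  rw [Finset.card_smul_finset] at hcard
  rcases hc2 with hc2 | hc2
  · omega
  · have h4 : u * g * u⁻¹ = 1 := by
      apply Equiv.ext
      intro p
      have h5 : p ∈ Finset.univ.filter fun p => (u * g * u⁻¹) p = p := by
        rw [mem_iff_testBit, hc2]
        have : (0xFFFFFF : ℕ) = 2 ^ 24 - 1 := by norm_num
        rw [this, Nat.testBit_two_pow_sub_one]; simpa using idx_lt p
      exact (Finset.mem_filter.1 h5).2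
    have h6 : g = u⁻¹ * (u * g * u⁻¹) * u := by group
    rw [h6, h4]; group

end Cfsg.Agent.Lib.Helper3
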