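import Mathlib
import Cfsg.Agent.Lib.Helper3.K5

set_option autoImplicit false
open scoped Pointwise
open Cfsg

namespace Cfsg.Agent.Lib.Helper3

/-- an element agreeing with a word on the five base points. -/
theorem coset_word {g : Equiv.Perm GolayPt} (hg : g ∈ M24) (h : List ℕ)
    (hh : ∀ j < 5, wperm h (bpt j) = g (bpt j)) :
    ∃ q5 < 24, ∃ q6 < 24, (allow 5).testBit q5 = true ∧ (allow 6).testBit q6 = true ∧
      g = wperm (h ++ w5 q5 q6) := by
  have hK : (wperm h)⁻¹ * g ∈ K 5 := by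
    rw [mem_K]
    refine ⟨M24.mul_mem (M24.inv_mem (wperm_mem _)) hg, ?_⟩
    intro j hj
    show (wperm h)⁻¹ (g (bpt j)) = bpt j
    rw [← hh j hj, Equiv.Perm.inv_def, Equiv.symm_apply_apply]
  obtain ⟨q5, h5, q6, h6, b5, b6, e⟩ := K5_word hK
  refine ⟨q5, h5, q6, h6, b5, b6, ?_⟩
  rw [wperm_append, ← e, mul_inv_cancel_left]

theorem idx_wperm_pow (W : List ℕ) (n : ℕ) (p : GolayPt) :
    idx ((wperm W ^ n) p) = (wact W)^[n] (idx p) := by
  induction n generalizing p with
  | zero => simp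
  | succ n ih =>
    rw [pow_succ, Equiv.Perm.mul_apply, ih, idx_wperm, Function.iterate_succ_apply]

/-- the `n`-th power of a word is trivial. -/
def isPow (n : ℕ) (W : List ℕ) : Bool := (List.range 24).all fun i => (wact W)^[n] i == i

/-- `c` conjugates `W` to `z`. -/
def conjTo (W c z : List ℕ) : Bool :=
  (List.range 24).all fun i => wact c (wact W i) == wact z (wact c i)

theorem conjTo_sound {W c z : List ℕ} (h : conjTo W c z = true) :
    wperm c * wperm W * (wperm c)⁻¹ = wperm z := by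
  rw [mul_inv_eq_iff_eq_mul]
  apply Equiv.ext
  intro p
  apply idx_injective
  show idx (wperm c (wperm W p)) = idx (wperm z (wperm c p))
  rw [idx_wperm, idx_wperm, idx_wperm, idx_wperm]
  unfold conjTo at h
  rw [List.all_eq_true] at h
  simpa using h (idx p) (List.mem_range.2 (idx_lt p))

/-- check of a classification of the elements of order `n`. -/
def chkClass (n : ℕ) (hs : List (List ℕ)) (cj : List (ℕ × List ℕ)) (zA zB : List ℕ) : Bool :=
  (List.range 24).all fun f => Nat.blt f 5 ||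
    (List.range 24).all fun q5 => !(allow 5).testBit q5 ||
      (List.range 24).all fun q6 => !(allow 6).testBit q6 ||
        !(isPow n (hs.getD f [] ++ w5 q5 q6)) ||
          conjTo (hs.getD f [] ++ w5 q5 q6) ((cj.lookup ((f * 24 + q5) * 24 + q6)).getD []) zA ||
          conjTo (hs.getD f [] ++ w5 q5 q6) ((cj.lookup ((f * 24 + q5) * 24 + q6)).getD []) zB

theorem class_sound {n : ℕ} {hs : List (List ℕ)} {cj : List (ℕ × List ℕ)} {zA zB : List ℕ}
    (hchk : chkClass n hs cj zA zB = true) {g : Equiv.Perm GolayPt} (hg : g ∈ M24)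
    (hgn : g ^ n = 1) {f : ℕ} (hf : f < 24) (hf5 : 5 ≤ f)
    (hh : ∀ j < 5, wperm (hs.getD f []) (bpt j) = g (bpt j)) :
    ∃ k ∈ M24, k * g * k⁻¹ = wperm zA ∨ k * g * k⁻¹ = wperm zB := by
  obtain ⟨q5, h5, q6, h6, b5, b6, e⟩ := coset_word hg _ hh
  unfold chkClass at hchk
  rw [List.all_eq_true] at hchk
  have c1 := hchk f (List.mem_range.2 hf)
  have hb : Nat.blt f 5 = false := by
    rw [← Bool.not_eq_true, Nat.blt_eq]; omega
  rw [hb, Bool.false_or, List.all_eq_true] at c1
  have c2 := c1 q5 (List.mem_range.2 h5)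
  rw [b5, Bool.not_true, Bool.false_or, List.all_eq_true] at c2
  have c3 := c2 q6 (List.mem_range.2 h6)
  rw [b6, Bool.not_true, Bool.false_or] at c3
  have hp : isPow n (hs.getD f [] ++ w5 q5 q6) = true := by
    unfold isPow
    rw [List.all_eq_true]
    intro i hi
    have hi' := List.mem_range.1 hi
    have h1 := idx_wperm_pow (hs.getD f [] ++ w5 q5 q6) n (pt i)
    rw [← e, hgn, idx_pt hi'] at h1
    have h2 : idx ((1 : Equiv.Perm GolayPt) (pt i)) = i := idx_pt hi'
    rw [h2] at h1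
    rw [beq_iff_eq]
    exact h1.symm
  rw [hp, Bool.not_true, Bool.false_or, Bool.or_eq_true] at c3
  rcases c3 with c3 | c3
  · exact ⟨_, wperm_mem _, Or.inl (by rw [e]; exact conjTo_sound c3)⟩
  · exact ⟨_, wperm_mem _, Or.inr (by rw [e]; exact conjTo_sound c3)⟩

theorem exists_moved {g : Equiv.Perm GolayPt} (hg : g ∈ M24) (h1 : g ≠ 1) (t : Finset GolayPt)
    (ht : t.card ≤ 15) : ∃ a, g a ≠ a ∧ a ∉ t := by
  by_contra hcon
  push Not at hcon
  apply h1
  apply fix9 hg tᶜ
  · rw [Finset.card_compl]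
    have : Fintype.card GolayPt = 24 := rfl
    omega
  · intro p hp
    by_contra hne
    exact (Finset.mem_compl.1 hp) (hcon p hne)

/-- conjugating five given points to the base points. -/
theorem conj_base (g : Equiv.Perm GolayPt) (l : List GolayPt) (hl : l.Nodup)
    (hlen : l.length = 5) :
    ∃ u ∈ M24, ∀ j (hj : j < 5), u (l[j]'(hlen ▸ hj)) = bpt j ∧
      (u * g * u⁻¹) (bpt j) = u (g (l[j]'(hlen ▸ hj))) := by
  obtain ⟨u, hu, h1, _⟩ := exists_map_list Finset.univ (by decide) l hl (by simp) (by omega)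
  refine ⟨u, hu, fun j hj => ⟨h1 j (hlen ▸ hj), ?_⟩⟩
  show u (g (u⁻¹ (bpt j))) = _
  rw [← h1 j (hlen ▸ hj), Equiv.Perm.inv_def, Equiv.symm_apply_apply]

end Cfsg.Agent.Lib.Helper3
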