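import Mathlib
import Cfsg.Agent.Lib.Helper3.Classes

set_option autoImplicit false
open scoped Pointwise
open Cfsg

namespace Cfsg.Agent.Lib.Helper3

/-- an involution fixing the standard octad pointwise. -/
def zAw : List ℕ := [2, 3, 1, 4, 3, 1, 2, 0, 0, 0, 2, 1, 0, 0, 4, 4, 1]

/-- a fixed point free involution. -/
def zBw : List ℕ := [0, 4, 3, 4, 0, 0, 0, 2, 1, 3, 4, 0, 3, 2, 2, 0, 2, 0, 4, 0, 2, 3, 3, 2, 3]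

/-- an element of order three with six fixed points. -/
def xAw : List ℕ := [0, 4, 3, 4, 0, 0, 0, 2, 1, 3, 4, 0]

/-- a fixed point free element of order three. -/
def xBw : List ℕ := [4, 3, 4, 3, 1, 0, 0, 4]

/-- words with prescribed images of the base points (involutions). -/
def hsI : List (List ℕ) :=
  [[],
    [],
    [],
    [],
    [],
    [4, 0, 0, 0, 4, 1, 0, 4, 4, 1, 3, 2, 2],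
    [2, 2, 1, 0, 2, 2, 3, 3, 1, 0, 1],
    [4, 3, 4, 3, 1, 0, 0, 2, 3, 4, 1],
    [4, 3, 2, 3, 2, 2, 0, 4, 1, 0, 4, 3],
    [3, 2, 0, 4, 0, 2, 0, 2, 0, 4, 4, 0, 4],
    [0, 4, 0, 0, 4, 3, 2, 3, 4, 3, 4, 4, 0],
    [1, 0, 2, 3, 3, 4, 3, 1, 0, 2, 0, 2],
    [2, 0, 2, 3, 4, 0, 1, 0, 0, 2, 2, 0, 0],
    [2, 2, 0, 0, 4, 1, 3, 4, 0, 4, 4, 1],
    [2, 2, 3, 2, 3, 1, 0, 0, 1, 3, 4, 0, 0],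
    [2, 0, 4, 3, 4, 0, 4, 3, 4, 0, 2, 0, 0],
    [2, 2, 1, 3, 2, 0, 2, 1, 3, 3, 4, 4],
    [0, 1, 0, 0, 0, 4, 4, 3, 4, 4, 1],
    [1, 3, 3, 1, 0, 0, 0, 2, 2, 3, 2, 0],
    [0, 4, 1, 0, 4, 3, 2, 0, 4, 4, 3, 2, 1],
    [4, 3, 4, 3, 1, 0, 2, 0, 0, 4, 3, 1],
    [3, 3, 4, 3, 2, 0, 2, 3, 2, 0, 2, 3, 4],
    [0, 2, 1, 3, 2, 2, 3, 3, 3, 4, 0, 1],
    [0, 2, 3, 2, 1, 3, 4, 4, 0, 4, 0, 2]]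

/-- conjugating words (involutions). -/
def cjI : List (ℕ × List ℕ) :=
  [(3068, [0, 2, 3, 2, 2, 0, 2, 3, 3]),
    (3128, [3, 3, 3, 4, 3, 4, 0, 4]),
    (3174, [1, 3, 3, 4, 3, 1, 4]),
    (3646, [0, 2, 0, 4, 0, 1, 3, 3, 4]),
    (3702, [2, 0, 4, 0, 4, 0, 1, 3, 3]),
    (3755, [3, 1, 4, 3, 3, 2]),
    (4206, [0, 0, 2, 0, 0, 1, 0, 2, 3, 1]),
    (4209, [1, 3, 4, 4, 0, 4, 3]),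
    (4211, [3, 1, 4, 3, 3, 1]),
    (4213, [4, 4, 3, 3, 3, 4, 3, 4, 3]),
    (4218, [0, 0, 2, 2, 3, 3, 3, 1, 0]),
    (4220, [1, 4, 4, 0, 0, 2, 2]),
    (4221, [0, 2, 3, 2, 2, 0, 2]),
    (4222, [4, 0, 0, 4, 3, 4, 0, 4]),
    (4791, [1, 3, 2, 3, 2, 0, 4, 3, 1]),
    (4864, [1, 0, 0, 1, 4, 0, 2, 0]),
    (4904, [0, 0, 1, 2, 2, 3, 4, 0, 2, 3]),
    (5371, [0, 0, 0, 0, 0, 2, 0, 1]),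
    (5437, [1, 4, 3, 3, 4, 4, 3, 2]),
    (5489, [2, 2, 3, 3, 1, 0, 1, 2]),
    (6053, []),
    (6061, [2, 0, 4, 4, 0, 4, 0, 0, 2]),
    (6062, [0, 1, 2, 3, 1, 4, 0]),
    (6065, [0, 4, 0, 1, 3, 3, 3]),
    (6066, [0, 0, 1, 3, 4, 0, 4, 4, 3]),
    (6068, [1, 0, 0, 2, 0, 4, 3, 4, 3]),
    (6069, [2, 0, 2, 0, 4, 3, 3, 2]),
    (6071, [4, 3, 3, 4, 3, 3, 1]),
    (6520, [3, 4, 0, 2, 3, 4, 3, 2, 2]),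
    (6589, [4, 0, 0, 2, 3, 3, 3, 3]),
    (6647, [4, 4, 0, 1, 4, 3, 3]),
    (7205, [0, 0, 0, 4, 0, 2, 3, 3]),
    (7206, [4, 4, 3, 3, 3, 4, 0, 1]),
    (7209, [1, 3, 3, 2, 0, 4, 4, 0, 2]),
    (7211, [3, 3, 3, 4, 3, 4, 0, 0]),
    (7214, [0, 0, 1, 4, 0, 0, 4, 0, 0]),
    (7217, [0, 2, 2, 3, 2, 3]),
    (7222, [1, 3, 4, 0, 2, 0, 2, 3, 4]),
    (7223, [1, 3, 2, 3, 3, 1, 0, 4, 3]),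
    (7665, [0, 1, 0, 4, 4, 0, 1]),
    (7736, [4, 4, 0, 0, 1, 2, 3]),
    (7799, [3, 4, 4, 0, 1, 2, 2]),
    (8248, [0, 0, 0, 0, 1, 2, 0, 4]),
    (8310, [0, 1, 3, 2, 3, 2, 3, 2]),
    (8373, [0, 0, 1, 4, 0, 0, 0, 0]),
    (8817, [0, 2, 3, 2, 3, 3, 3, 1, 2]),
    (8897, [1, 3, 3, 3, 4, 4, 0, 0, 1]),
    (8948, [0, 4, 3, 3, 3, 1, 2, 3, 3, 2]),
    (9393, [0, 0, 2, 2, 0, 4, 0, 4]),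
    (9470, [0, 1, 2, 3, 1, 0, 2, 0, 4]),
    (9517, [0, 2, 2, 0, 4, 0, 1]),
    (9982, [1, 2, 0, 2, 0, 1, 4, 0, 1]),
    (10045, [4, 0, 0, 2, 3, 4, 3, 4]),
    (10096, [1, 2, 3, 4, 4, 3, 3, 3]),
    (10557, [0, 1, 0, 2, 0, 1, 3, 3]),
    (10626, [4, 0, 0, 2, 2, 0]),
    (10669, [0, 0, 1, 3, 2, 0, 1, 3, 3]),
    (11117, [2, 0, 0, 1, 0, 2, 0]),
    (11197, [2, 0, 4, 0, 1, 3, 4]),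
    (11243, [1, 0, 2, 2, 3, 2, 2]),
    (11704, [1, 2, 0, 1, 4, 0, 2]),
    (11774, [1, 4, 4, 0, 0, 2, 3, 2]),
    (11819, [2, 3, 4, 3, 3, 3, 4, 4]),
    (12273, [4, 3, 1, 2, 3, 1, 4]),
    (12351, [0, 0, 2, 0, 4, 0, 4, 4, 0]),
    (12398, [0, 1, 0, 4, 4, 3, 4, 0, 2]),
    (12856, [0, 2, 0, 0, 0, 0, 1, 2]),
    (12930, [2, 2, 3, 4, 0, 4, 3, 2, 3]),
    (12974, [0, 1, 0, 2, 3, 1, 0, 0, 2]),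
    (13431, [2, 3, 3, 4, 0, 4, 0, 4]),
    (13499, [3, 3, 1, 0, 2, 2, 3, 4, 4]),
    (13557, [2, 0, 1, 4, 3])]

/-- words with prescribed images of the base points (order three). -/
def hsT : List (List ℕ) :=
  [[],
    [],
    [],
    [],
    [],
    [4, 4, 1, 3, 2, 0, 4, 1, 0, 2, 2, 1],
    [0, 4, 4, 3, 4, 0, 2, 2, 3, 4],
    [0, 2, 2, 1, 3, 2, 2, 0, 2, 2, 3, 2, 1],
    [2, 3, 4, 3, 2, 3, 2, 0, 0, 0, 2],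
    [3, 3, 2, 3, 2, 2, 0, 2, 2, 0, 1, 0],
    [2, 2, 1, 0, 4, 4, 1, 3, 3, 4, 4, 3],
    [0, 2, 1, 0, 0, 0, 2, 3, 3, 2, 2, 3, 1],
    [3, 4, 3, 1, 0, 0, 4, 4, 1, 0, 4, 4],
    [2, 2, 0, 0, 1, 3, 3, 3, 3, 2, 3, 4, 0, 1],
    [0, 1, 3, 2, 3, 2, 0, 4, 4, 0, 4, 1],
    [0, 2, 2, 3, 2, 2, 3, 4, 3, 4, 0, 0],
    [2, 2, 0, 2, 3, 1, 0, 4, 0, 0, 4, 0],
    [3, 2, 2, 1, 3, 4, 3, 2, 1, 0, 4, 3],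
    [3, 4, 4, 3, 3, 2, 3, 1, 0, 4, 3, 2, 3],
    [4, 4, 3, 1, 0, 4, 0, 0, 4, 3, 2, 0, 2],
    [3, 2, 2, 0, 0, 0, 1, 0, 0, 1, 3],
    [0, 4, 1, 3, 4, 0, 0, 2, 0, 0, 2, 1],
    [2, 3, 2, 2, 1, 3, 3, 3, 2, 1, 3, 3, 4, 0],
    [4, 3, 4, 3, 4, 1, 0, 4, 3, 4, 0, 4, 1]]

/-- conjugating words (order three). -/
def cjT : List (ℕ × List ℕ) :=
  [(3053, [3, 1, 0, 4, 4, 3, 2]),
    (3143, [0, 1, 2, 0, 2, 2, 0, 2, 3, 3, 2]),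
    (3185, [1, 4, 0, 1, 4, 0, 1, 4, 3, 1]),
    (3644, [3, 2, 0, 2, 3, 3, 4, 3, 1]),
    (3713, [0, 4, 4, 0, 0, 0, 4, 0, 4, 3]),
    (3760, [0, 1, 2, 2, 3, 3, 1, 0, 0, 4]),
    (4326, [4, 3, 2, 0, 2, 3, 4, 0, 4, 0]),
    (4336, [1, 4, 0, 1, 4, 0, 2, 3, 2, 0]),
    (4337, [0, 0, 0, 1, 2, 0, 1, 4, 0, 0, 4, 4]),
    (4338, [0, 0, 0, 2, 3, 1, 0, 1, 4, 0, 2]),
    (4799, [0, 2, 2, 0, 2, 3, 3, 3, 1]),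
    (4868, [1, 0, 1, 2, 2, 0, 4, 4, 3, 2]),
    (4907, [3, 3, 4, 4, 0, 2, 2, 0]),
    (5370, [3, 3, 4, 3, 1, 2, 3, 2, 0, 2, 2]),
    (5447, [0, 2, 2, 0, 1, 2, 3, 2]),
    (5487, [1, 0, 0, 0, 4, 3, 4, 4, 0, 0]),
    (6065, [0, 4, 0, 0, 1, 2, 2, 0, 1, 2, 2]),
    (6067, [0, 0, 1, 3, 4, 3, 3, 1, 0, 4]),
    (6068, [2, 3, 1, 4, 0, 2, 2, 0, 0]),
    (6070, [0, 4, 0, 2, 2, 0, 4]),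
    (6522, [0, 2, 0, 0, 0, 1, 3, 2, 3, 1]),
    (6593, [0, 2, 2, 3, 4, 0, 4, 3, 4, 0, 4]),
    (6632, [2, 0, 1, 3, 4, 3, 3, 2, 2]),
    (7166, [2, 2, 3, 1, 4, 3, 4, 3, 1, 4, 3]),
    (7167, [0, 1, 4, 4, 0, 0, 1, 3, 2, 3]),
    (7170, [4, 0, 0, 0, 0, 2, 2, 0]),
    (7174, [2, 0, 0, 4, 0, 0, 1, 0, 2, 0, 2]),
    (7675, [0, 1, 2, 3, 2, 0, 1, 4, 0, 2, 2]),
    (7742, [0, 0, 2, 0, 0, 1, 3, 3, 2, 0, 0]),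
    (7798, [0, 0, 2, 3, 3, 1, 2, 2, 0, 4]),
    (8246, [0, 1, 2, 3, 1, 0, 0, 2, 2]),
    (8321, [4, 4, 3, 1, 4, 0, 4, 3, 2]),
    (8375, [0, 0, 4, 3, 4, 4, 3, 3, 1, 2, 2]),
    (8825, [1, 2, 3, 4, 3, 4, 4, 3, 3, 4]),
    (8900, [1, 4, 3, 3, 4, 0, 4, 0, 1, 3, 4]),
    (8937, [0, 4, 4, 0, 0, 2]),
    (9389, [1, 0, 0, 0, 0, 0, 1, 3, 2, 3, 2]),
    (9476, [3, 1, 2, 0, 4, 3, 1, 4, 0, 0]),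
    (9526, [3, 2, 3, 1, 0, 1, 4, 3, 3, 2]),
    (9977, [4, 0, 4, 0, 0, 1, 2, 3, 1, 2, 0]),
    (10046, [0, 1, 4, 3, 2, 2, 0, 1, 2, 3, 1, 0]),
    (10085, [0, 4, 3, 2, 0, 1, 2, 3, 1, 4, 3]),
    (10554, [1, 2, 2, 3, 3, 4, 3, 1, 4, 4]),
    (10621, [2, 0, 2, 3, 3, 4, 0, 1, 3, 3, 2]),
    (10677, [4, 0, 4, 3, 2, 0, 2, 0, 1, 4, 4]),
    (11123, [1, 0, 4, 3, 4, 0, 4, 0, 4]),
    (11189, [0, 1, 0, 4, 3, 4, 4, 3, 3, 1, 4]),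
    (11245, [0, 4, 3, 1, 2, 0, 4, 3, 2, 0]),
    (11701, [3, 2, 0, 4, 0, 1, 2, 0, 0, 0, 1]),
    (11780, [1, 3, 3, 3, 2, 0, 0, 4, 3, 1]),
    (11829, [0, 0, 2, 3, 3, 2, 2, 3, 1, 0]),
    (12286, [0, 0, 4, 3, 3, 2, 3, 1, 4, 3, 2]),
    (12352, [3, 2, 0, 4, 0, 0, 1, 0, 0, 2, 3]),
    (12407, [1, 2, 0, 0, 4, 0, 1, 3, 2, 3, 1, 0]),
    (12848, [0, 1, 0, 2, 2, 3, 1, 2, 0]),
    (12925, [0, 0, 2, 2, 3, 4, 3, 1, 4, 3, 3]),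
    (12965, [1, 0, 1, 2, 3, 2, 2, 3, 3, 3]),
    (13424, [1, 4, 0, 4, 3, 3, 2, 3, 2, 2, 3]),
    (13510, [1, 0, 4, 0, 0, 1, 3, 4, 3, 4, 4]),
    (13554, [3, 1, 0, 4, 3])]

theorem chkI : chkClass 2 hsI cjI zAw zBw = true := by decide +kernel

theorem chkT : chkClass 3 hsT cjT xAw xBw = true := by decide +kernel

theorem hsI_spec : ∀ f < 24, 5 ≤ f → wact (hsI.getD f []) 0 = 1 ∧ wact (hsI.getD f []) 1 = 0 ∧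
    wact (hsI.getD f []) 2 = 3 ∧ wact (hsI.getD f []) 3 = 2 ∧ wact (hsI.getD f []) 4 = f := by
  decide +kernel

theorem hsT_spec : ∀ f < 24, 5 ≤ f → wact (hsT.getD f []) 0 = 1 ∧ wact (hsT.getD f []) 1 = 2 ∧
    wact (hsT.getD f []) 2 = 0 ∧ wact (hsT.getD f []) 3 = 4 ∧ wact (hsT.getD f []) 4 = f := by
  decide +kernel

end Cfsg.Agent.Lib.Helper3
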