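import Mathlib
import Cfsg.Agent.Lib.Helper3.ClassData

set_option autoImplicit false
open scoped Pointwise
open Cfsg

namespace Cfsg.Agent.Lib.Helper3

theorem bpt_eq_pt {j : ℕ} (hj : j < 5) : bpt j = pt j := by
  interval_cases j <;> rfl

theorem wperm_bpt {w : List ℕ} {j k : ℕ} (hj : j < 5) (hk : k < 24) (h : wact w j = k) :
    wperm w (bpt j) = pt k := by
  apply idx_injective
  rw [idx_wperm, bpt_eq_pt hj, idx_pt (by omega), idx_pt hk, h]

/-- every involution of the group is conjugate to one of two representatives. -/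
theorem invol_class {g : Equiv.Perm GolayPt} (hg : g ∈ M24) (h2 : g * g = 1) (h1 : g ≠ 1) :
    ∃ k ∈ M24, k * g * k⁻¹ = wperm zAw ∨ k * g * k⁻¹ = wperm zBw := by
  have hgg : ∀ p, g (g p) = p := fun p => by
    have := congrArg (fun σ : Equiv.Perm GolayPt => σ p) h2
    exact this
  obtain ⟨a0, m0, _⟩ := exists_moved hg h1 ∅ (by simp)
  obtain ⟨a2, m2, n2⟩ := exists_moved hg h1 {a0, g a0} (by
    refine (Finset.card_le_two).trans (by norm_num))
  obtain ⟨a4, m4, n4⟩ := exists_moved hg h1 {a0, g a0, a2, g a2} (by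
    refine (Finset.card_le_four).trans (by norm_num))
  simp only [Finset.mem_insert, Finset.mem_singleton, not_or] at n2 n4
  have e1 : g a2 ≠ a0 := fun h => n2.2 (by rw [← h, hgg])
  have e2 : g a2 ≠ g a0 := fun h => n2.1 (g.injective h)
  have hl : [a0, g a0, a2, g a2, a4].Nodup := by
    simp only [List.nodup_cons, List.mem_cons, List.not_mem_nil, or_false, not_or,
      List.nodup_nil, not_false_eq_true, and_true]
    refine ⟨⟨m0.symm, Ne.symm n2.1, e1.symm, Ne.symm n4.1⟩, ⟨Ne.symm n2.2, e2.symm, Ne.symm n4.2.1⟩,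
      ⟨m2.symm, Ne.symm n4.2.2.1⟩, Ne.symm n4.2.2.2⟩
  obtain ⟨u, hu, h⟩ := conj_base g _ hl rfl
  set g' := u * g * u⁻¹ with hg'
  have hg'M : g' ∈ M24 := M24.mul_mem (M24.mul_mem hu hg) (M24.inv_mem hu)
  have b0 : g' (bpt 0) = bpt 1 := by rw [(h 0 (by norm_num)).2]; exact (h 1 (by norm_num)).1
  have b1 : g' (bpt 1) = bpt 0 := by
    rw [(h 1 (by norm_num)).2]
    show u (g (g a0)) = _
    rw [hgg]; exact (h 0 (by norm_num)).1
  have b2 : g' (bpt 2) = bpt 3 := by rw [(h 2 (by norm_num)).2]; exact (h 3 (by norm_num)).1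
  have b3 : g' (bpt 3) = bpt 2 := by
    rw [(h 3 (by norm_num)).2]
    show u (g (g a2)) = _
    rw [hgg]; exact (h 2 (by norm_num)).1
  have b4 : g' (bpt 4) = u (g a4) := (h 4 (by norm_num)).2
  set f := idx (g' (bpt 4)) with hf
  have hf24 : f < 24 := idx_lt _
  have hbne : ∀ i < 5, ∀ j < 5, bpt i = bpt j → i = j := by
    intro i hi j hj hij
    rw [bpt_eq_pt hi, bpt_eq_pt hj] at hij
    have := congrArg idx hij
    rwa [idx_pt (by omega), idx_pt (by omega)] at this
  have hf5 : 5 ≤ f := by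
    by_contra hlt
    have hlt' : f < 5 := by omega
    have e : g' (bpt 4) = bpt f := by
      rw [bpt_eq_pt hlt', hf, pt_idx]
    have hcases : f = 0 ∨ f = 1 ∨ f = 2 ∨ f = 3 ∨ f = 4 := by omega
    rcases hcases with c | c | c | c | c <;> rw [c] at e
    · have := hbne 4 (by norm_num) 1 (by norm_num) (g'.injective (e.trans b1.symm)); omega
    · have := hbne 4 (by norm_num) 0 (by norm_num) (g'.injective (e.trans b0.symm)); omega
    · have := hbne 4 (by norm_num) 3 (by norm_num) (g'.injective (e.trans b3.symm)); omega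
    · have := hbne 4 (by norm_num) 2 (by norm_num) (g'.injective (e.trans b2.symm)); omega
    · rw [b4, ← (h 4 (by norm_num)).1] at e
      exact m4 (u.injective e)
  obtain ⟨s0, s1, s2, s3, s4⟩ := hsI_spec f hf24 hf5
  have hpow : g' ^ 2 = 1 := by
    rw [hg', pow_two]
    have : u * g * u⁻¹ * (u * g * u⁻¹) = u * (g * g) * u⁻¹ := by group
    rw [this, h2]; group
  obtain ⟨k, hk, hc⟩ := class_sound chkI hg'M hpow hf24 hf5 (by
    intro j hj
    have hcases : j = 0 ∨ j = 1 ∨ j = 2 ∨ j = 3 ∨ j = 4 := by omega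
    rcases hcases with c | c | c | c | c <;> subst c
    · rw [wperm_bpt (by norm_num) (by norm_num) s0, b0]; rfl
    · rw [wperm_bpt (by norm_num) (by norm_num) s1, b1]; rfl
    · rw [wperm_bpt (by norm_num) (by norm_num) s2, b2]; rfl
    · rw [wperm_bpt (by norm_num) (by norm_num) s3, b3]; rfl
    · rw [wperm_bpt (by norm_num) hf24 s4, hf, pt_idx])
  refine ⟨k * u, M24.mul_mem hk hu, ?_⟩
  have e3 : k * u * g * (k * u)⁻¹ = k * g' * k⁻¹ := by rw [hg']; group
  rw [e3]; exact hc

/-- every element of order three of the group is conjugate to one of two representatives. -/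
theorem order3_class {g : Equiv.Perm GolayPt} (hg : g ∈ M24) (h3 : g ^ 3 = 1) (h1 : g ≠ 1) :
    ∃ k ∈ M24, k * g * k⁻¹ = wperm xAw ∨ k * g * k⁻¹ = wperm xBw := by
  have hggg : ∀ p, g (g (g p)) = p := fun p => by
    have := congrArg (fun σ : Equiv.Perm GolayPt => σ p) h3
    exact this
  have hmv : ∀ a, g a ≠ a → g (g a) ≠ a := by
    intro a ha h
    apply ha
    have := hggg a
    rw [h] at this
    exact this
  obtain ⟨a0, m0, _⟩ := exists_moved hg h1 ∅ (by simp)
  obtain ⟨a3, m3, n3⟩ := exists_moved hg h1 {a0, g a0, g (g a0)} (by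
    refine (Finset.card_le_three).trans (by norm_num))
  simp only [Finset.mem_insert, Finset.mem_singleton, not_or] at n3
  have e0 : g a3 ≠ a0 := fun h => n3.2.2 (by rw [← h, hggg])
  have e1 : g a3 ≠ g a0 := fun h => n3.1 (g.injective h)
  have e2 : g a3 ≠ g (g a0) := fun h => n3.2.1 (g.injective h)
  have hl : [a0, g a0, g (g a0), a3, g a3].Nodup := by
    simp only [List.nodup_cons, List.mem_cons, List.not_mem_nil, or_false, not_or,
      List.nodup_nil, not_false_eq_true, and_true]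
    refine ⟨⟨m0.symm, (hmv a0 m0).symm, Ne.symm n3.1, e0.symm⟩,
      ⟨fun h => m0 (g.injective h.symm), Ne.symm n3.2.1, e1.symm⟩,
      ⟨Ne.symm n3.2.2, e2.symm⟩, m3.symm⟩
  obtain ⟨u, hu, h⟩ := conj_base g _ hl rfl
  set g' := u * g * u⁻¹ with hg'
  have hg'M : g' ∈ M24 := M24.mul_mem (M24.mul_mem hu hg) (M24.inv_mem hu)
  have b0 : g' (bpt 0) = bpt 1 := by rw [(h 0 (by norm_num)).2]; exact (h 1 (by norm_num)).1
  have b1 : g' (bpt 1) = bpt 2 := by rw [(h 1 (by norm_num)).2]; exact (h 2 (by norm_num)).1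
  have b2 : g' (bpt 2) = bpt 0 := by
    rw [(h 2 (by norm_num)).2]
    show u (g (g (g a0))) = _
    rw [hggg]; exact (h 0 (by norm_num)).1
  have b3 : g' (bpt 3) = bpt 4 := by rw [(h 3 (by norm_num)).2]; exact (h 4 (by norm_num)).1
  have b4 : g' (bpt 4) = u (g (g a3)) := (h 4 (by norm_num)).2
  set f := idx (g' (bpt 4)) with hf
  have hf24 : f < 24 := idx_lt _
  have hbne : ∀ i < 5, ∀ j < 5, bpt i = bpt j → i = j := by
    intro i hi j hj hij
    rw [bpt_eq_pt hi, bpt_eq_pt hj] at hij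
    have := congrArg idx hij
    rwa [idx_pt (by omega), idx_pt (by omega)] at this
  have hf5 : 5 ≤ f := by
    by_contra hlt
    have hlt' : f < 5 := by omega
    have e : g' (bpt 4) = bpt f := by
      rw [bpt_eq_pt hlt', hf, pt_idx]
    have hcases : f = 0 ∨ f = 1 ∨ f = 2 ∨ f = 3 ∨ f = 4 := by omega
    rcases hcases with c | c | c | c | c <;> rw [c] at e
    · have := hbne 4 (by norm_num) 2 (by norm_num) (g'.injective (e.trans b2.symm)); omega
    · have := hbne 4 (by norm_num) 0 (by norm_num) (g'.injective (e.trans b0.symm)); omega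
    · have := hbne 4 (by norm_num) 1 (by norm_num) (g'.injective (e.trans b1.symm)); omega
    · rw [b4, ← (h 3 (by norm_num)).1] at e
      exact hmv a3 m3 (u.injective e)
    · have := hbne 4 (by norm_num) 3 (by norm_num) (g'.injective (e.trans b3.symm)); omega
  obtain ⟨s0, s1, s2, s3, s4⟩ := hsT_spec f hf24 hf5
  have hpow : g' ^ 3 = 1 := by
    rw [hg', conj_pow, h3]; group
  obtain ⟨k, hk, hc⟩ := class_sound chkT hg'M hpow hf24 hf5 (by
    intro j hj
    have hcases : j = 0 ∨ j = 1 ∨ j = 2 ∨ j = 3 ∨ j = 4 := by omega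
    rcases hcases with c | c | c | c | c <;> subst c
    · rw [wperm_bpt (by norm_num) (by norm_num) s0, b0]; rfl
    · rw [wperm_bpt (by norm_num) (by norm_num) s1, b1]; rfl
    · rw [wperm_bpt (by norm_num) (by norm_num) s2, b2]; rfl
    · rw [wperm_bpt (by norm_num) (by norm_num) s3, b3]; rfl
    · rw [wperm_bpt (by norm_num) hf24 s4, hf, pt_idx])
  refine ⟨k * u, M24.mul_mem hk hu, ?_⟩
  have e3 : k * u * g * (k * u)⁻¹ = k * g' * k⁻¹ := by rw [hg']; group
  rw [e3]; exact hc

end Cfsg.Agent.Lib.Helper3
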