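import Mathlib
import Cfsg.Agent.Lib.Helper3.ClassThm

set_option autoImplicit false
open scoped Pointwise
open Cfsg

namespace Cfsg.Agent.Lib.Helper3

/-- the set of fixed points. -/
def Fx (g : Equiv.Perm GolayPt) : Finset GolayPt := Finset.univ.filter fun p => g p = p

theorem mem_Fx {g : Equiv.Perm GolayPt} {p : GolayPt} : p ∈ Fx g ↔ g p = p := by
  simp [Fx]

theorem Fx_conj (k g : Equiv.Perm GolayPt) : Fx (k * g * k⁻¹) = k • Fx g := by
  ext p
  rw [← Finset.inv_smul_mem_iff, mem_Fx, mem_Fx]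
  show k (g (k⁻¹ p)) = p ↔ g (k⁻¹ p) = k⁻¹ p
  rw [Equiv.Perm.inv_def, ← Equiv.eq_symm_apply]

theorem Fx_word (w : List ℕ) {m : ℕ} (h : fixW w = m) : Fx (wperm w) = unmask m := by
  apply mask_injective
  have h1 : mask (Fx (wperm w)) = fixW w := mask_fixed w
  rw [h1, h, mask_unmask]
  rw [← h, ← h1]; exact mask_lt _

theorem Fx_zA : Fx (wperm zAw) = O0 := Fx_word zAw (by decide +kernel)
theorem Fx_zB : Fx (wperm zBw) = ∅ := by
  rw [Fx_word zBw (m := 0) (by decide +kernel)]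
  apply mask_injective
  rw [mask_unmask (by norm_num), mask_empty]
theorem Fx_xA : Fx (wperm xAw) = unmask 0x401f := Fx_word xAw (by decide +kernel)
theorem Fx_xB : Fx (wperm xBw) = ∅ := by
  rw [Fx_word xBw (m := 0) (by decide +kernel)]
  apply mask_injective
  rw [mask_unmask (by norm_num), mask_empty]

theorem wperm_pow_eq_one {w : List ℕ} {n : ℕ} (h : isPow n w = true) : wperm w ^ n = 1 := by
  apply Equiv.ext
  intro p
  apply idx_injective
  rw [idx_wperm_pow]
  unfold isPow at h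
  rw [List.all_eq_true] at h
  simpa using h (idx p) (List.mem_range.2 (idx_lt p))

theorem ne_one_of_Fx {g : Equiv.Perm GolayPt} (h : (Fx g).card < 24) : g ≠ 1 := by
  rintro rfl
  have : Fx 1 = Finset.univ := by
    ext p; simp [mem_Fx]
  rw [this] at h
  exact absurd h (by decide)

theorem card_O0 : O0.card = 8 := O0_mem.2

theorem orderOf_zA : orderOf (wperm zAw) = 2 :=
  orderOf_eq_prime (wperm_pow_eq_one (by decide +kernel))
    (ne_one_of_Fx (by rw [Fx_zA, card_O0]; norm_num))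

theorem orderOf_zB : orderOf (wperm zBw) = 2 :=
  orderOf_eq_prime (wperm_pow_eq_one (by decide +kernel))
    (ne_one_of_Fx (by rw [Fx_zB]; simp))

theorem card_Fx_xA : (Fx (wperm xAw)).card = 6 := by
  rw [Fx_xA, card_eq_pc, mask_unmask (by norm_num)]; decide +kernel

theorem orderOf_xA : orderOf (wperm xAw) = 3 :=
  haveI : Fact (Nat.Prime 3) := ⟨by norm_num⟩
  orderOf_eq_prime (wperm_pow_eq_one (by decide +kernel))
    (ne_one_of_Fx (by rw [card_Fx_xA]; norm_num))

theorem orderOf_xB : orderOf (wperm xBw) = 3 :=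
  haveI : Fact (Nat.Prime 3) := ⟨by norm_num⟩
  orderOf_eq_prime (wperm_pow_eq_one (by decide +kernel))
    (ne_one_of_Fx (by rw [Fx_xB]; simp))

theorem card_Fx_conj {k g z : Equiv.Perm GolayPt} (h : k * g * k⁻¹ = z) :
    (Fx g).card = (Fx z).card := by
  rw [← h, Fx_conj, Finset.card_smul_finset]

theorem invol_cases {g : Equiv.Perm GolayPt} (hg : g ∈ M24) (ho : orderOf g = 2) :
    (∃ k ∈ M24, k * g * k⁻¹ = wperm zAw ∧ (Fx g).card = 8) ∨
      (∃ k ∈ M24, k * g * k⁻¹ = wperm zBw ∧ (Fx g).card = 0) := by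
  have h2 : g * g = 1 := by rw [← pow_two, ← ho]; exact pow_orderOf_eq_one g
  have h1 : g ≠ 1 := by
    rintro rfl
    rw [orderOf_one] at ho; omega
  obtain ⟨k, hk, h | h⟩ := invol_class hg h2 h1
  · exact Or.inl ⟨k, hk, h, by rw [card_Fx_conj h, Fx_zA, card_O0]⟩
  · exact Or.inr ⟨k, hk, h, by rw [card_Fx_conj h, Fx_zB]; rfl⟩

theorem order3_cases {g : Equiv.Perm GolayPt} (hg : g ∈ M24) (ho : orderOf g = 3) :
    (∃ k ∈ M24, k * g * k⁻¹ = wperm xAw ∧ (Fx g).card = 6) ∨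
      (∃ k ∈ M24, k * g * k⁻¹ = wperm xBw ∧ (Fx g).card = 0) := by
  have h2 : g ^ 3 = 1 := by rw [← ho]; exact pow_orderOf_eq_one g
  have h1 : g ≠ 1 := by
    rintro rfl
    rw [orderOf_one] at ho; omega
  obtain ⟨k, hk, h | h⟩ := order3_class hg h2 h1
  · exact Or.inl ⟨k, hk, h, by rw [card_Fx_conj h, card_Fx_xA]⟩
  · exact Or.inr ⟨k, hk, h, by rw [card_Fx_conj h, Fx_xB]; rfl⟩

theorem Fx_card_zero_iff {g : Equiv.Perm GolayPt} : (Fx g).card = 0 ↔ ∀ p, g p ≠ p := by
  rw [Finset.card_eq_zero, Finset.eq_empty_iff_forall_notMem]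
  exact forall_congr' fun p => not_congr mem_Fx

end Cfsg.Agent.Lib.Helper3
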