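import Mathlib
import Cfsg.Prelude.Def_Sporadic_a

set_option autoImplicit false

namespace Cfsg.Agent.Lib.Helper3

open Cfsg

/-- index of a point: residues `0..22`, the extra point is `23`. -/
def idx : GolayPt → ℕ
  | none => 23
  | some x => x.val

/-- the point with a given index. -/
def pt (i : ℕ) : GolayPt := if i = 23 then none else some (i : ZMod 23)

theorem idx_lt (p : GolayPt) : idx p < 24 := by revert p; decide
theorem pt_idx (p : GolayPt) : pt (idx p) = p := by revert p; decide
theorem idx_pt {i : ℕ} (h : i < 24) : idx (pt i) = i := by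
  revert i; decide

theorem idx_injective : Function.Injective idx := fun p q h => by
  rw [← pt_idx p, ← pt_idx q, h]

/-- the 24-bit mask of a set of points. -/
def mask (s : Finset GolayPt) : ℕ := Nat.ofBits (fun i : Fin 24 => decide (pt i ∈ s))

theorem testBit_mask (s : Finset GolayPt) (i : ℕ) :
    (mask s).testBit i = decide (i < 24 ∧ pt i ∈ s) := by
  unfold mask
  rw [Nat.testBit_ofBits]
  by_cases h : i < 24 <;> simp [h]

theorem mask_lt (s : Finset GolayPt) : mask s < 2 ^ 24 := Nat.ofBits_lt_two_pow _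

theorem mem_iff_testBit (p : GolayPt) (s : Finset GolayPt) :
    p ∈ s ↔ (mask s).testBit (idx p) = true := by
  rw [testBit_mask]; simp [idx_lt, pt_idx]

theorem mask_injective : Function.Injective mask := fun s t h => by
  ext p; rw [mem_iff_testBit, mem_iff_testBit, h]

theorem mask_symmDiff (s t : Finset GolayPt) : mask (symmDiff s t) = mask s ^^^ mask t := by
  apply Nat.eq_of_testBit_eq; intro i
  rw [Nat.testBit_xor, testBit_mask, testBit_mask, testBit_mask]
  by_cases h : i < 24 <;> by_cases h1 : pt i ∈ s <;> by_cases h2 : pt i ∈ t <;>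
    simp [h, h1, h2, Finset.mem_symmDiff]

theorem mask_inter (s t : Finset GolayPt) : mask (s ∩ t) = mask s &&& mask t := by
  apply Nat.eq_of_testBit_eq; intro i
  rw [Nat.testBit_and, testBit_mask, testBit_mask, testBit_mask]
  by_cases h : i < 24 <;> by_cases h1 : pt i ∈ s <;> by_cases h2 : pt i ∈ t <;>
    simp [h, h1, h2]

theorem mask_union (s t : Finset GolayPt) : mask (s ∪ t) = mask s ||| mask t := by
  apply Nat.eq_of_testBit_eq; intro i
  rw [Nat.testBit_or, testBit_mask, testBit_mask, testBit_mask]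
  by_cases h : i < 24 <;> by_cases h1 : pt i ∈ s <;> by_cases h2 : pt i ∈ t <;>
    simp [h, h1, h2]

theorem mask_empty : mask ∅ = 0 := by
  apply Nat.eq_of_testBit_eq; intro i
  rw [testBit_mask]; simp

theorem mask_univ : mask Finset.univ = 0xFFFFFF := by
  apply Nat.eq_of_testBit_eq; intro i
  rw [testBit_mask]
  have : (0xFFFFFF : ℕ) = 2 ^ 24 - 1 := by norm_num
  rw [this, Nat.testBit_two_pow_sub_one]
  simp

theorem mask_compl (s : Finset GolayPt) : mask sᶜ = mask s ^^^ 0xFFFFFF := by
  rw [← mask_univ, ← mask_symmDiff]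
  congr 1
  ext p; simp [Finset.mem_symmDiff]

/-- the set of points with a given mask. -/
def unmask (x : ℕ) : Finset GolayPt := Finset.univ.filter (fun p => x.testBit (idx p) = true)

theorem mask_unmask {x : ℕ} (h : x < 2 ^ 24) : mask (unmask x) = x := by
  apply Nat.eq_of_testBit_eq; intro i
  rw [testBit_mask]
  by_cases hi : i < 24
  · simp [unmask, hi, idx_pt hi]
  · have : x.testBit i = false := by
      apply Nat.testBit_lt_two_pow
      exact lt_of_lt_of_le h (Nat.pow_le_pow_right (by norm_num) (by omega))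
    simp [hi, this]

theorem unmask_mask (s : Finset GolayPt) : unmask (mask s) = s :=
  mask_injective (mask_unmask (mask_lt s))

/-- popcount loop. -/
def pcAux : ℕ → ℕ → ℕ → ℕ
  | 0, _, acc => acc
  | k+1, n, acc => pcAux k (Nat.shiftRight n 1) (Nat.add acc (Nat.land n 1))

/-- number of ones among the low 24 bits. -/
def pc (x : ℕ) : ℕ := pcAux 24 x 0

theorem pcAux_eq (k n acc : ℕ) :
    pcAux k n acc = acc + ∑ i ∈ Finset.range k, (n.testBit i).toNat := by
  induction k generalizing n acc with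
  | zero => simp [pcAux]
  | succ k ih =>
    rw [pcAux, ih, Finset.sum_range_succ']
    have h1 : ∀ i, (Nat.shiftRight n 1).testBit i = n.testBit (i + 1) := by
      intro i
      show (n >>> 1).testBit i = _
      rw [Nat.testBit_shiftRight, add_comm]
    have h2 : Nat.land n 1 = (n.testBit 0).toNat := by
      show n &&& 1 = _
      rw [Nat.and_one_is_mod, Nat.testBit_zero]
      rcases Nat.mod_two_eq_zero_or_one n with h | h <;> simp [h]
    simp only [h1, h2]
    show acc + _ + _ = _
    ring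

theorem card_eq_pc (s : Finset GolayPt) : s.card = pc (mask s) := by
  unfold pc
  rw [pcAux_eq, zero_add]
  let e : GolayPt ≃ Fin 24 :=
    { toFun := fun p => ⟨idx p, idx_lt p⟩
      invFun := fun i => pt i
      left_inv := fun p => pt_idx p
      right_inv := fun i => Fin.ext (idx_pt i.2) }
  rw [Finset.sum_range, ← Equiv.sum_comp e]
  have : ∀ p : GolayPt, ((mask s).testBit ((e p : Fin 24) : ℕ)).toNat = if p ∈ s then 1 else 0 := by
    intro p
    show ((mask s).testBit (idx p)).toNat = _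
    by_cases h : p ∈ s
    · rw [(mem_iff_testBit p s).mp h]; simp [h]
    · have : (mask s).testBit (idx p) = false := by
        rw [mem_iff_testBit] at h; simpa using h
      rw [this]; simp [h]
  simp only [this]
  rw [Finset.sum_ite_mem]
  simp

/-! ### Kernel friendly bounded quantifiers -/

/-- check `p` on `[lo, lo + 2 ^ k)` by binary splitting. -/
def allRange (p : ℕ → Bool) : ℕ → ℕ → Bool
  | 0, lo => p lo
  | k+1, lo => allRange p k lo && allRange p k (Nat.add lo (Nat.pow 2 k))

theorem allRange_spec (p : ℕ → Bool) (k lo : ℕ) (h : allRange p k lo = true) :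
    ∀ c, lo ≤ c → c < lo + 2 ^ k → p c = true := by
  induction k generalizing lo with
  | zero =>
    intro c h1 h2
    have : c = lo := by simp at h2; omega
    rw [this]; exact h
  | succ k ih =>
    intro c h1 h2
    rw [allRange, Bool.and_eq_true] at h
    by_cases hc : c < lo + 2 ^ k
    · exact ih lo h.1 c h1 hc
    · apply ih _ h.2 c
      · show lo + 2 ^ k ≤ c
        omega
      · show c < lo + 2 ^ k + 2 ^ k
        rw [pow_succ] at h2; omega

theorem forall_lt_of_allRange (p : ℕ → Bool) (k : ℕ) (h : allRange p k 0 = true) :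
    ∀ c < 2 ^ k, p c = true := fun c hc =>
  allRange_spec p k 0 h c (Nat.zero_le _) (by simpa using hc)

/-- count `p` on `[lo, lo + 2 ^ k)` by binary splitting. -/
def countRange (p : ℕ → Bool) : ℕ → ℕ → ℕ
  | 0, lo => bif p lo then 1 else 0
  | k+1, lo => Nat.add (countRange p k lo) (countRange p k (Nat.add lo (Nat.pow 2 k)))

theorem countRange_spec (p : ℕ → Bool) (k lo : ℕ) :
    countRange p k lo = ((Finset.Ico lo (lo + 2 ^ k)).filter (fun c => p c = true)).card := by
  induction k generalizing lo with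
  | zero =>
    simp only [countRange, pow_zero, Nat.Ico_succ_singleton, Finset.filter_singleton]
    cases h : p lo <;> simp
  | succ k ih =>
    rw [countRange, ih, ih]
    show _ + ((Finset.Ico (lo + 2 ^ k) (lo + 2 ^ k + 2 ^ k)).filter _).card = _
    rw [← Finset.card_union_of_disjoint, ← Finset.filter_union, Finset.Ico_union_Ico_eq_Ico]
    · congr 3; rw [pow_succ]; ring
    · exact Nat.le_add_right _ _
    · exact Nat.le_add_right _ _
    · apply Finset.disjoint_filter_filter
      exact Finset.Ico_disjoint_Ico_consecutive _ _ _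

theorem countRange_zero (p : ℕ → Bool) (k : ℕ) :
    countRange p k 0 = ((Finset.range (2 ^ k)).filter (fun c => p c = true)).card := by
  rw [countRange_spec, zero_add, Finset.range_eq_Ico]

/-! ### The code -/

/-- mask of the support of a word. -/
def W (w : GolayPt → ZMod 2) : ℕ := Nat.ofBits (fun i : Fin 24 => decide (w (pt i) ≠ 0))

theorem mask_support₂ (w : GolayPt → ZMod 2) : mask (support₂ w) = W w := by
  unfold mask W support₂
  congr 1; funext i; simp

theorem testBit_W (w : GolayPt → ZMod 2) (i : ℕ) :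
    (W w).testBit i = decide (i < 24 ∧ w (pt i) ≠ 0) := by
  unfold W
  rw [Nat.testBit_ofBits]
  by_cases h : i < 24 <;> simp [h]

theorem zmod2_add_ne (a b : ZMod 2) : (decide (a + b ≠ 0)) = ((decide (a ≠ 0)) ^^ (decide (b ≠ 0))) := by
  revert a b; decide

theorem W_add (v w : GolayPt → ZMod 2) : W (v + w) = W v ^^^ W w := by
  apply Nat.eq_of_testBit_eq; intro i
  rw [Nat.testBit_xor, testBit_W, testBit_W, testBit_W]
  by_cases h : i < 24
  · simp only [h, true_and, Pi.add_apply]
    exact zmod2_add_ne _ _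
  · simp [h]

theorem W_zero : W 0 = 0 := by
  apply Nat.eq_of_testBit_eq; intro i
  rw [testBit_W]; simp

theorem support₂_injective : Function.Injective (support₂ : (GolayPt → ZMod 2) → Finset GolayPt) := by
  intro v w h
  funext p
  have h1 : p ∈ support₂ v ↔ p ∈ support₂ w := by rw [h]
  simp only [support₂, Finset.mem_filter, Finset.mem_univ, true_and] at h1
  generalize v p = a at h1
  generalize w p = b at h1
  revert a b; decide

theorem W_injective : Function.Injective W := by
  intro v w h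
  rw [← mask_support₂, ← mask_support₂] at h
  exact support₂_injective (mask_injective h)

/-- the systematic encoder: the code word whose low 12 bits are `c`. -/
def enc (c : ℕ) : ℕ :=
  (bif c.testBit 0 then 0xc75001 else 0) ^^^
  (bif c.testBit 1 then 0x49f002 else 0) ^^^
  (bif c.testBit 2 then 0xd4b004 else 0) ^^^
  (bif c.testBit 3 then 0x6e3008 else 0) ^^^
  (bif c.testBit 4 then 0x9b3010 else 0) ^^^
  (bif c.testBit 5 then 0xb66020 else 0) ^^^
  (bif c.testBit 6 then 0xecc040 else 0) ^^^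
  (bif c.testBit 7 then 0x1ed080 else 0) ^^^
  (bif c.testBit 8 then 0x3da100 else 0) ^^^
  (bif c.testBit 9 then 0x7b4200 else 0) ^^^
  (bif c.testBit 10 then 0xb1d400 else 0) ^^^
  (bif c.testBit 11 then 0xe3a800 else 0)

theorem cond_xor (a b : Bool) (x : ℕ) :
    (bif (a ^^ b) then x else 0) = (bif a then x else 0) ^^^ (bif b then x else 0) := by
  cases a <;> cases b <;> simp

theorem enc_xor (c d : ℕ) : enc (c ^^^ d) = enc c ^^^ enc d := by
  simp only [enc, Nat.testBit_xor, cond_xor]
  ac_rfl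

theorem enc_mod : ∀ c < 4096, enc c % 4096 = c := by
  have h : allRange (fun c => enc c % 4096 == c) 12 0 = true := by decide +kernel
  intro c hc
  simpa using forall_lt_of_allRange _ 12 h c hc

theorem enc_lt : ∀ c < 4096, enc c < 2 ^ 24 := by
  have h : allRange (fun c => decide (enc c < 2 ^ 24)) 12 0 = true := by decide +kernel
  intro c hc
  simpa using forall_lt_of_allRange _ 12 h c hc

/-- membership of a mask in the code. -/
def InC (x : ℕ) : Prop := x = enc (x % 4096)

instance InC.decidable : DecidablePred InC := fun _ => Nat.decEq _ _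

theorem inC_iff (x : ℕ) : InC x ↔ ∃ c < 4096, x = enc c := by
  constructor
  · intro h; exact ⟨x % 4096, Nat.mod_lt _ (by norm_num), h⟩
  · rintro ⟨c, hc, rfl⟩
    unfold InC; rw [enc_mod c hc]

theorem inC_enc {c : ℕ} (hc : c < 4096) : InC (enc c) := (inC_iff _).2 ⟨c, hc, rfl⟩

theorem inC_xor {x y : ℕ} (hx : InC x) (hy : InC y) : InC (x ^^^ y) := by
  rw [inC_iff] at *
  obtain ⟨c, hc, rfl⟩ := hx
  obtain ⟨d, hd, rfl⟩ := hy
  exact ⟨c ^^^ d, Nat.xor_lt_two_pow (n := 12) hc hd, (enc_xor c d).symm⟩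

theorem inC_qr : ∀ t : ZMod 23, InC (W (qrWord t)) := by decide +kernel

theorem inC_one : InC (W 1) := by decide +kernel

/-- masks of genuine code words. -/
def InX (x : ℕ) : Prop := ∃ v ∈ golayCode, W v = x

theorem inX_xor {x y : ℕ} (hx : InX x) (hy : InX y) : InX (x ^^^ y) := by
  obtain ⟨v, hv, rfl⟩ := hx
  obtain ⟨w, hw, rfl⟩ := hy
  exact ⟨v + w, golayCode.add_mem hv hw, W_add v w⟩

theorem inX_zero : InX 0 := ⟨0, golayCode.zero_mem, W_zero⟩

theorem inX_qr (t : ZMod 23) : InX (W (qrWord t)) :=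
  ⟨qrWord t, Submodule.subset_span (Or.inl ⟨t, rfl⟩), rfl⟩

theorem inX_one : InX (W 1) := ⟨1, Submodule.subset_span (Or.inr rfl), rfl⟩

theorem inX_b0 : InX 0xc75001 := by
  have h : W (qrWord 0) ^^^ W (qrWord 3) ^^^ W (qrWord 5) ^^^ W (qrWord 7) ^^^ W (qrWord 9) ^^^ W (qrWord 10) ^^^ W 1 = 0xc75001 := by decide +kernel
  rw [← h]
  exact inX_xor (inX_xor (inX_xor (inX_xor (inX_xor (inX_xor ((inX_qr 0)) (inX_qr 3)) (inX_qr 5)) (inX_qr 7)) (inX_qr 9)) (inX_qr 10)) inX_one
theorem inX_b1 : InX 0x49f002 := by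
  have h : W (qrWord 3) ^^^ W (qrWord 4) ^^^ W (qrWord 8) = 0x49f002 := by decide +kernel
  rw [← h]
  exact inX_xor (inX_xor ((inX_qr 3)) (inX_qr 4)) (inX_qr 8)
theorem inX_b2 : InX 0xd4b004 := by
  have h : W (qrWord 0) ^^^ W (qrWord 3) ^^^ W (qrWord 4) ^^^ W (qrWord 7) ^^^ W (qrWord 10) ^^^ W 1 = 0xd4b004 := by decide +kernel
  rw [← h]
  exact inX_xor (inX_xor (inX_xor (inX_xor (inX_xor ((inX_qr 0)) (inX_qr 3)) (inX_qr 4)) (inX_qr 7)) (inX_qr 10)) inX_one
theorem inX_b3 : InX 0x6e3008 := by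
  have h : W (qrWord 3) ^^^ W (qrWord 4) ^^^ W (qrWord 5) ^^^ W (qrWord 6) ^^^ W (qrWord 8) ^^^ W (qrWord 10) = 0x6e3008 := by decide +kernel
  rw [← h]
  exact inX_xor (inX_xor (inX_xor (inX_xor (inX_xor ((inX_qr 3)) (inX_qr 4)) (inX_qr 5)) (inX_qr 6)) (inX_qr 8)) (inX_qr 10)
theorem inX_b4 : InX 0x9b3010 := by
  have h : W (qrWord 1) ^^^ W (qrWord 3) ^^^ W (qrWord 4) ^^^ W (qrWord 5) ^^^ W (qrWord 7) ^^^ W (qrWord 9) ^^^ W (qrWord 10) ^^^ W 1 = 0x9b3010 := by decide +kernel
  rw [← h]
  exact inX_xor (inX_xor (inX_xor (inX_xor (inX_xor (inX_xor (inX_xor ((inX_qr 1)) (inX_qr 3)) (inX_qr 4)) (inX_qr 5)) (inX_qr 7)) (inX_qr 9)) (inX_qr 10)) inX_one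
theorem inX_b5 : InX 0xb66020 := by
  have h : W (qrWord 0) ^^^ W (qrWord 1) ^^^ W (qrWord 2) ^^^ W (qrWord 4) ^^^ W (qrWord 7) ^^^ W (qrWord 8) ^^^ W (qrWord 9) ^^^ W (qrWord 10) ^^^ W 1 = 0xb66020 := by decide +kernel
  rw [← h]
  exact inX_xor (inX_xor (inX_xor (inX_xor (inX_xor (inX_xor (inX_xor (inX_xor ((inX_qr 0)) (inX_qr 1)) (inX_qr 2)) (inX_qr 4)) (inX_qr 7)) (inX_qr 8)) (inX_qr 9)) (inX_qr 10)) inX_one
theorem inX_b6 : InX 0xecc040 := by
  have h : W (qrWord 0) ^^^ W (qrWord 2) ^^^ W (qrWord 3) ^^^ W (qrWord 6) ^^^ W (qrWord 7) ^^^ W (qrWord 8) ^^^ W (qrWord 10) ^^^ W 1 = 0xecc040 := by decide +kernel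
  rw [← h]
  exact inX_xor (inX_xor (inX_xor (inX_xor (inX_xor (inX_xor (inX_xor ((inX_qr 0)) (inX_qr 2)) (inX_qr 3)) (inX_qr 6)) (inX_qr 7)) (inX_qr 8)) (inX_qr 10)) inX_one
theorem inX_b7 : InX 0x1ed080 := by
  have h : W (qrWord 4) ^^^ W (qrWord 6) ^^^ W (qrWord 7) ^^^ W (qrWord 8) ^^^ W (qrWord 9) ^^^ W (qrWord 10) = 0x1ed080 := by decide +kernel
  rw [← h]
  exact inX_xor (inX_xor (inX_xor (inX_xor (inX_xor ((inX_qr 4)) (inX_qr 6)) (inX_qr 7)) (inX_qr 8)) (inX_qr 9)) (inX_qr 10)
theorem inX_b8 : InX 0x3da100 := by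
  have h : W (qrWord 0) ^^^ W (qrWord 1) ^^^ W (qrWord 6) ^^^ W (qrWord 8) ^^^ W (qrWord 10) = 0x3da100 := by decide +kernel
  rw [← h]
  exact inX_xor (inX_xor (inX_xor (inX_xor ((inX_qr 0)) (inX_qr 1)) (inX_qr 6)) (inX_qr 8)) (inX_qr 10)
theorem inX_b9 : InX 0x7b4200 := by
  have h : W (qrWord 0) ^^^ W (qrWord 2) ^^^ W (qrWord 5) ^^^ W (qrWord 6) = 0x7b4200 := by decide +kernel
  rw [← h]
  exact inX_xor (inX_xor (inX_xor ((inX_qr 0)) (inX_qr 2)) (inX_qr 5)) (inX_qr 6)
theorem inX_b10 : InX 0xb1d400 := by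
  have h : W (qrWord 0) ^^^ W (qrWord 1) ^^^ W (qrWord 5) ^^^ W (qrWord 6) ^^^ W (qrWord 9) ^^^ W (qrWord 10) ^^^ W 1 = 0xb1d400 := by decide +kernel
  rw [← h]
  exact inX_xor (inX_xor (inX_xor (inX_xor (inX_xor (inX_xor ((inX_qr 0)) (inX_qr 1)) (inX_qr 5)) (inX_qr 6)) (inX_qr 9)) (inX_qr 10)) inX_one
theorem inX_b11 : InX 0xe3a800 := by
  have h : W (qrWord 0) ^^^ W (qrWord 2) ^^^ W (qrWord 5) ^^^ W (qrWord 9) ^^^ W (qrWord 10) ^^^ W 1 = 0xe3a800 := by decide +kernel
  rw [← h]
  exact inX_xor (inX_xor (inX_xor (inX_xor (inX_xor ((inX_qr 0)) (inX_qr 2)) (inX_qr 5)) (inX_qr 9)) (inX_qr 10)) inX_one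

theorem inX_cond {x : ℕ} (hx : InX x) (b : Bool) : InX (bif b then x else 0) := by
  cases b
  · exact inX_zero
  · exact hx

theorem inX_enc (c : ℕ) : InX (enc c) := by
  unfold enc
  exact inX_xor (inX_xor (inX_xor (inX_xor (inX_xor (inX_xor (inX_xor (inX_xor (inX_xor (inX_xor (inX_xor (inX_cond inX_b0 _) (inX_cond inX_b1 _)) (inX_cond inX_b2 _)) (inX_cond inX_b3 _)) (inX_cond inX_b4 _)) (inX_cond inX_b5 _)) (inX_cond inX_b6 _)) (inX_cond inX_b7 _)) (inX_cond inX_b8 _)) (inX_cond inX_b9 _)) (inX_cond inX_b10 _)) (inX_cond inX_b11 _)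

theorem mem_golayCode_iff (w : GolayPt → ZMod 2) : w ∈ golayCode ↔ InC (W w) := by
  constructor
  · intro h
    unfold golayCode at h
    induction h using Submodule.span_induction with
    | mem x hx =>
      rcases hx with ⟨t, rfl⟩ | hx
      · exact inC_qr t
      · rw [Set.mem_singleton_iff.mp hx]; exact inC_one
    | zero => rw [W_zero]; decide +kernel
    | add x y _ _ hx hy => rw [W_add]; exact inC_xor hx hy
    | smul a x _ hx =>
      have ha : a = 0 ∨ a = 1 := by revert a; decide
      rcases ha with rfl | rfl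
      · rw [zero_smul, W_zero]; decide +kernel
      · rw [one_smul]; exact hx
  · intro h
    obtain ⟨v, hv, hvw⟩ := inX_enc (W w % 4096)
    have : v = w := W_injective (hvw.trans h.symm)
    exact this ▸ hv

theorem mem_supports_iff (s : Finset GolayPt) :
    s ∈ supports (golayCode : Set (GolayPt → ZMod 2)) ↔ InC (mask s) := by
  constructor
  · rintro ⟨w, hw, rfl⟩
    rw [mask_support₂]; exact (mem_golayCode_iff w).1 hw
  · intro h
    obtain ⟨v, hv, hvw⟩ := inX_enc (mask s % 4096)
    refine ⟨v, hv, mask_injective ?_⟩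
    rw [mask_support₂, hvw]; exact h.symm

/-! ### Transfer principles -/

theorem forall_code (Q : ℕ → Bool) (h : allRange (fun c => Q (enc c)) 12 0 = true) :
    ∀ s ∈ supports (golayCode : Set (GolayPt → ZMod 2)), Q (mask s) = true := by
  intro s hs
  rw [mem_supports_iff] at hs
  have := forall_lt_of_allRange _ 12 h (mask s % 4096) (Nat.mod_lt _ (by norm_num))
  rwa [← hs] at this

theorem code_filter_eq (Q : ℕ → Bool) :
    {s : Finset GolayPt | s ∈ supports (golayCode : Set (GolayPt → ZMod 2)) ∧ Q (mask s) = true} =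
      ↑(((Finset.range (2 ^ 12)).filter (fun c => Q (enc c) = true)).image
        (fun c => unmask (enc c))) := by
  ext s
  simp only [Set.mem_ofPred_eq, Finset.coe_image, Finset.coe_filter, Finset.mem_range, Set.mem_image]
  constructor
  · rintro ⟨hs, hQ⟩
    rw [mem_supports_iff] at hs
    refine ⟨mask s % 4096, ⟨Nat.mod_lt _ (by norm_num), ?_⟩, ?_⟩
    · rw [← hs]; exact hQ
    · rw [← hs]; exact unmask_mask s
  · rintro ⟨c, ⟨hc, hQ⟩, rfl⟩
    have hc' : c < 4096 := by simpa using hc
    rw [mem_supports_iff, mask_unmask (enc_lt c hc')]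
    exact ⟨inC_enc hc', hQ⟩

theorem unmask_enc_injOn : Set.InjOn (fun c => unmask (enc c)) {c | c < 4096} := by
  intro c hc d hd h
  have h1 : enc c = enc d := by
    have := congrArg mask h
    simpa only [mask_unmask (enc_lt c hc), mask_unmask (enc_lt d hd)] using this
  rw [← enc_mod c hc, ← enc_mod d hd, h1]

theorem ncard_code (Q : ℕ → Bool) :
    {s : Finset GolayPt | s ∈ supports (golayCode : Set (GolayPt → ZMod 2)) ∧
      Q (mask s) = true}.ncard = countRange (fun c => Q (enc c)) 12 0 := by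
  rw [code_filter_eq, Set.ncard_coe_finset, countRange_zero, Finset.card_image_of_injOn]
  intro c hc d hd h
  apply unmask_enc_injOn _ _ h
  · have := (Finset.mem_filter.mp hc).1; simpa using this
  · have := (Finset.mem_filter.mp hd).1; simpa using this

theorem mem_octads_iff (o : Finset GolayPt) :
    o ∈ octads ↔ InC (mask o) ∧ pc (mask o) = 8 := by
  unfold octads wordsOfWeight
  rw [Set.mem_ofPred_eq, mem_supports_iff, card_eq_pc]

theorem mem_dodecads_iff (o : Finset GolayPt) :
    o ∈ dodecads ↔ InC (mask o) ∧ pc (mask o) = 12 := by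
  unfold dodecads wordsOfWeight
  rw [Set.mem_ofPred_eq, mem_supports_iff, card_eq_pc]

/-- admissible weights. -/
def wtOK (x : ℕ) : Bool := pc x == 0 || pc x == 8 || pc x == 12 || pc x == 16 || pc x == 24

theorem code_weights_aux : allRange (fun c => wtOK (enc c)) 12 0 = true := by decide +kernel

theorem code_weights : ∀ s ∈ supports (golayCode : Set (GolayPt → ZMod 2)),
    s.card = 0 ∨ s.card = 8 ∨ s.card = 12 ∨ s.card = 16 ∨ s.card = 24 := by
  intro s hs
  have := forall_code wtOK code_weights_aux s hs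
  rw [card_eq_pc]
  simpa [wtOK, or_assoc] using this

theorem count_all : countRange (fun c => (fun _ => true) (enc c)) 12 0 = 4096 := by decide +kernel

theorem ncard_supports : (supports (golayCode : Set (GolayPt → ZMod 2))).ncard = 4096 := by
  have h := ncard_code (fun _ => true)
  rw [count_all] at h
  simpa using h

/-- weight test. -/
def wtIs (n x : ℕ) : Bool := pc x == n

theorem count_8 : countRange (fun c => wtIs 8 (enc c)) 12 0 = 759 := by decide +kernel

theorem count_12 : countRange (fun c => wtIs 12 (enc c)) 12 0 = 2576 := by decide +kernel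

theorem ncard_octads : octads.ncard = 759 := by
  have h := ncard_code (wtIs 8)
  rw [count_8] at h
  rw [← h]
  congr 1
  ext s
  simp [octads, wordsOfWeight, card_eq_pc, wtIs]

theorem ncard_dodecads : dodecads.ncard = 2576 := by
  have h := ncard_code (wtIs 12)
  rw [count_12] at h
  rw [← h]
  congr 1
  ext s
  simp [dodecads, wordsOfWeight, card_eq_pc, wtIs]

end Cfsg.Agent.Lib.Helper3
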