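import Mathlib
import Cfsg.Agent.Lib.Helper3.Golay

set_option autoImplicit false

namespace Cfsg.Agent.Lib.Helper3

open Cfsg
open scoped Pointwise

/-- the code as a family of supports. -/
abbrev CS : Set (Finset GolayPt) := supports (golayCode : Set (GolayPt → ZMod 2))

theorem supports_symmDiff {s t : Finset GolayPt} (hs : s ∈ CS) (ht : t ∈ CS) :
    symmDiff s t ∈ CS := by
  rw [mem_supports_iff] at *
  rw [mask_symmDiff]; exact inC_xor hs ht

theorem unmask_xor (x y : ℕ) : unmask (x ^^^ y) = symmDiff (unmask x) (unmask y) := by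
  ext p
  simp only [unmask, Finset.mem_filter, Finset.mem_univ, true_and, Finset.mem_symmDiff,
    Nat.testBit_xor]
  cases x.testBit (idx p) <;> cases y.testBit (idx p) <;> simp

theorem mem_unmask (x : ℕ) (p : GolayPt) : p ∈ unmask x ↔ x.testBit (idx p) = true := by
  simp [unmask]

/-- the echelon basis of the code. -/
def basisList : List ℕ :=
  [0xc75001, 0x49f002, 0xd4b004, 0x6e3008, 0x9b3010, 0xb66020, 0xecc040, 0x1ed080, 0x3da100,
    0x7b4200, 0xb1d400, 0xe3a800]

theorem enc_induction (P : ℕ → Prop) (h0 : P 0) (hx : ∀ x y, P x → P y → P (x ^^^ y))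
    (hb : ∀ b ∈ basisList, P b) (c : ℕ) : P (enc c) := by
  have hc : ∀ (b : ℕ) (t : Bool), b ∈ basisList → P (bif t then b else 0) := by
    intro b t hbm
    cases t
    · exact h0
    · exact hb b hbm
  unfold enc
  refine hx _ _ (hx _ _ (hx _ _ (hx _ _ (hx _ _ (hx _ _ (hx _ _ (hx _ _ (hx _ _ (hx _ _ (hx _ _
    (hc _ _ ?_) (hc _ _ ?_)) (hc _ _ ?_)) (hc _ _ ?_)) (hc _ _ ?_)) (hc _ _ ?_)) (hc _ _ ?_))
    (hc _ _ ?_)) (hc _ _ ?_)) (hc _ _ ?_)) (hc _ _ ?_)) (hc _ _ ?_) <;> simp [basisList]

theorem mem_M24_iff (σ : Equiv.Perm GolayPt) : σ ∈ M24 ↔ ∀ s ∈ CS, σ • s ∈ CS := by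
  unfold M24 setSystemAut
  rw [MulAction.mem_stabilizer_set_iff_smul_set_subset (Set.toFinite _)]
  constructor
  · intro h s hs
    exact h (Set.smul_mem_smul_set hs)
  · rintro h _ ⟨s, hs, rfl⟩
    exact h s hs

theorem mem_M24_of_basis (σ : Equiv.Perm GolayPt)
    (h : ∀ b ∈ basisList, InC (mask (σ • unmask b))) : σ ∈ M24 := by
  rw [mem_M24_iff]
  intro s hs
  rw [mem_supports_iff] at hs ⊢
  have key : ∀ c, InC (mask (σ • unmask (enc c))) := by
    apply enc_induction (fun x => InC (mask (σ • unmask x)))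
    · have : unmask 0 = ∅ := by ext p; simp [unmask]
      rw [this, Finset.smul_finset_empty, mask_empty]; decide +kernel
    · intro x y hx hy
      rw [unmask_xor, Finset.smul_finset_symmDiff, mask_symmDiff]
      exact inC_xor hx hy
    · exact h
  have := key (mask s % 4096)
  rwa [← hs, unmask_mask] at this

/-- bit `j` of the output is bit `f j` of the input. -/
def pm (f : ℕ → ℕ) (x : ℕ) : ℕ := Nat.ofBits (fun j : Fin 24 => x.testBit (f j))

theorem testBit_pm (f : ℕ → ℕ) (x i : ℕ) :
    (pm f x).testBit i = (decide (i < 24) && x.testBit (f i)) := by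
  unfold pm
  rw [Nat.testBit_ofBits]
  by_cases h : i < 24 <;> simp [h]

theorem mask_smul (σ : Equiv.Perm GolayPt) (s : Finset GolayPt) (f : ℕ → ℕ)
    (hf : ∀ p, idx (σ⁻¹ p) = f (idx p)) : mask (σ • s) = pm f (mask s) := by
  apply Nat.eq_of_testBit_eq; intro i
  rw [testBit_pm, testBit_mask]
  by_cases h : i < 24
  · simp only [h, true_and, decide_true, Bool.true_and]
    have h1 : pt i ∈ σ • s ↔ σ⁻¹ (pt i) ∈ s := by
      rw [← Finset.inv_smul_mem_iff]; rfl
    have h2 : f i = idx (σ⁻¹ (pt i)) := by rw [hf, idx_pt h]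
    rw [h2]
    by_cases h3 : σ⁻¹ (pt i) ∈ s
    · rw [(mem_iff_testBit _ _).1 h3]; simpa using h1.2 h3
    · have h4 : ¬ pt i ∈ σ • s := fun h' => h3 (h1.1 h')
      rw [mem_iff_testBit] at h3
      simp only [Bool.not_eq_true] at h3
      rw [h3]; simpa using h4
  · simp [h]

theorem mem_M24_of_tbl (σ : Equiv.Perm GolayPt) (f : ℕ → ℕ) (hf : ∀ p, idx (σ p) = f (idx p))
    (h : basisList.all (fun b => decide (InC (pm f b))) = true) : σ ∈ M24 := by
  have h1 : σ⁻¹ ∈ M24 := by
    apply mem_M24_of_basis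
    intro b hb
    rw [mask_smul σ⁻¹ _ f (by simpa using hf)]
    have hb24 : b < 2 ^ 24 := by
      revert b; decide
    rw [mask_unmask hb24]
    rw [List.all_eq_true] at h
    simpa using h b hb
  simpa using M24.inv_mem h1

/-! ### Packed tables and the generators -/

/-- entry `i` of a table packed in base 32. -/
def look (T i : ℕ) : ℕ := Nat.land (Nat.shiftRight T (Nat.mul 5 i)) 31

/-- packed tables of the generators and two inverses. -/
def genT : ℕ → ℕ
  | 0 => 0xb82d5a4e5183dcd62d4941cc520c41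
  | 1 => 0x5883388a1c8f5140b46cd317aed7
  | 2 => 0xbba8ab116d7c52899d90286a219a40
  | 3 => 0xbd6939460f7358b525073148310416
  | _ => 0xbccb5585c87da098d1ac508f2190c0

/-- translation, inversion, cube twist, and the inverses of the first and the third. -/
noncomputable def gen : ℕ → Equiv.Perm GolayPt
  | 0 => Equiv.optionCongr (Equiv.addRight (1 : ZMod 23))
  | 1 => projInv
  | 2 => cubeTwist
  | 3 => (Equiv.optionCongr (Equiv.addRight (1 : ZMod 23)))⁻¹
  | _ => cubeTwist⁻¹

theorem inv_tbl (σ : Equiv.Perm GolayPt) (T T' : ℕ) (h : ∀ p, idx (σ p) = look T (idx p))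
    (h' : ∀ i < 24, look T' i < 24 ∧ look T (look T' i) = i) :
    ∀ p, idx (σ⁻¹ p) = look T' (idx p) := by
  intro p
  obtain ⟨h1, h2⟩ := h' (idx p) (idx_lt p)
  have h3 : σ (pt (look T' (idx p))) = p := by
    apply idx_injective
    rw [h, idx_pt h1, h2]
  have h4 : σ⁻¹ p = pt (look T' (idx p)) := by
    rw [Equiv.Perm.inv_eq_iff_eq]; exact h3.symm
  rw [h4, idx_pt h1]

theorem gen0_tbl : ∀ p, idx (gen 0 p) = look (genT 0) (idx p) := by decide +kernel
theorem gen1_tbl : ∀ p, idx (gen 1 p) = look (genT 1) (idx p) := by decide +kernel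
theorem gen2_tbl : ∀ p, idx (gen 2 p) = look (genT 2) (idx p) := by decide +kernel

theorem gen_tbl (k : ℕ) (p : GolayPt) : idx (gen k p) = look (genT k) (idx p) := by
  match k with
  | 0 => exact gen0_tbl p
  | 1 => exact gen1_tbl p
  | 2 => exact gen2_tbl p
  | 3 => exact inv_tbl (gen 0) (genT 0) (genT 3) gen0_tbl (by decide +kernel) p
  | (n+4) => exact inv_tbl (gen 2) (genT 2) (genT 4) gen2_tbl (by decide +kernel) p

theorem gen0_mem : gen 0 ∈ M24 := mem_M24_of_tbl _ _ gen0_tbl (by decide +kernel)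
theorem gen1_mem : gen 1 ∈ M24 := mem_M24_of_tbl _ _ gen1_tbl (by decide +kernel)
theorem gen2_mem : gen 2 ∈ M24 := mem_M24_of_tbl _ _ gen2_tbl (by decide +kernel)

/-- the subgroup generated by the three generators. -/
noncomputable def H : Subgroup (Equiv.Perm GolayPt) := Subgroup.closure {gen 0, gen 1, gen 2}

theorem H_le : H ≤ M24 := by
  unfold H
  rw [Subgroup.closure_le]
  rintro x (rfl | rfl | rfl)
  · exact gen0_mem
  · exact gen1_mem
  · exact gen2_mem

theorem gen_mem_H (k : ℕ) : gen k ∈ H := by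
  match k with
  | 0 => exact Subgroup.subset_closure (by simp)
  | 1 => exact Subgroup.subset_closure (by simp)
  | 2 => exact Subgroup.subset_closure (by simp)
  | 3 => exact H.inv_mem (Subgroup.subset_closure (Or.inl rfl))
  | (n+4) => exact H.inv_mem (Subgroup.subset_closure (Or.inr (Or.inr rfl)))

/-- the permutation spelled by a word. -/
noncomputable def wperm (w : List ℕ) : Equiv.Perm GolayPt := (w.map gen).prod

/-- the action of a word on indices. -/
def wact (w : List ℕ) (i : ℕ) : ℕ := w.foldr (fun k i => look (genT k) i) i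

theorem idx_wperm (w : List ℕ) (p : GolayPt) : idx (wperm w p) = wact w (idx p) := by
  induction w with
  | nil => simp [wperm, wact]
  | cons k w ih =>
    have : wperm (k :: w) p = gen k (wperm w p) := by simp [wperm]
    rw [this, gen_tbl, ih]; rfl

theorem wperm_mem_H (w : List ℕ) : wperm w ∈ H := by
  unfold wperm
  apply Subgroup.list_prod_mem
  intro x hx
  obtain ⟨k, _, rfl⟩ := List.mem_map.mp hx
  exact gen_mem_H k

theorem wperm_mem (w : List ℕ) : wperm w ∈ M24 := H_le (wperm_mem_H w)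

/-- inverse letter. -/
def invSym : ℕ → ℕ
  | 0 => 3
  | 1 => 1
  | 2 => 4
  | 3 => 0
  | _ => 2

theorem gen_invSym (k : ℕ) : gen (invSym k) = (gen k)⁻¹ := by
  match k with
  | 0 => rfl
  | 1 =>
    show projInv = projInv⁻¹
    rw [eq_comm, inv_eq_iff_mul_eq_one]
    apply Equiv.ext
    intro p
    exact projInv.left_inv p
  | 2 => rfl
  | 3 => simp [invSym, gen]
  | (n+4) => simp [invSym, gen]

/-- inverse word. -/
def winv (w : List ℕ) : List ℕ := (w.map invSym).reverse

theorem wperm_winv (w : List ℕ) : wperm (winv w) = (wperm w)⁻¹ := by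
  induction w with
  | nil => simp [wperm, winv]
  | cons k w ih =>
    have h1 : wperm (winv (k :: w)) = wperm (winv w) * gen (invSym k) := by
      simp [wperm, winv]
    have h2 : wperm (k :: w) = gen k * wperm w := by simp [wperm]
    rw [h1, h2, ih, gen_invSym, mul_inv_rev]

theorem mask_wperm_smul (w : List ℕ) (s : Finset GolayPt) :
    mask (wperm w • s) = pm (wact (winv w)) (mask s) := by
  apply mask_smul
  intro p
  rw [← wperm_winv, idx_wperm]

end Cfsg.Agent.Lib.Helper3
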