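import Mathlib
import Cfsg.Agent.Lib.Helper3.GolayPerm

set_option autoImplicit false

namespace Cfsg.Agent.Lib.Helper3

open Cfsg
open scoped Pointwise

theorem octads_subset : octads ⊆ CS := fun _ h => h.1

theorem card_symmDiff_add (s t : Finset GolayPt) :
    (symmDiff s t).card + 2 * (s ∩ t).card = s.card + t.card := by
  have h1 := Finset.card_sdiff_add_card_inter s t
  have h2 := Finset.card_sdiff_add_card_inter t s
  rw [Finset.inter_comm] at h2
  have h3 : (symmDiff s t).card = (s \ t).card + (t \ s).card := by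
    rw [symmDiff_def, Finset.sup_eq_union, Finset.card_union_of_disjoint]
    exact disjoint_sdiff_sdiff
  omega

theorem octad_unique {b b' s : Finset GolayPt} (hb : b ∈ octads) (hb' : b' ∈ octads)
    (hs : 5 ≤ s.card) (h1 : s ⊆ b) (h2 : s ⊆ b') : b = b' := by
  have hw := code_weights _ (supports_symmDiff hb.1 hb'.1)
  have hc := card_symmDiff_add b b'
  have h5 : s.card ≤ (b ∩ b').card := Finset.card_le_card (Finset.subset_inter h1 h2)
  have e1 : b.card = 8 := hb.2
  have e2 : b'.card = 8 := hb'.2
  have h0 : (symmDiff b b').card = 0 := by omega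
  rw [Finset.card_eq_zero] at h0
  exact symmDiff_eq_bot.mp h0

theorem exists_octad (s : Finset GolayPt) (hs : s.card = 5) : ∃ b ∈ octads, s ⊆ b := by
  classical
  have hfin : octads.Finite := Set.toFinite _
  set O := hfin.toFinset with hOdef
  have hO : O.card = 759 := by
    rw [← ncard_octads, Set.ncard_eq_toFinset_card _ hfin]
  have hmem : ∀ o, o ∈ O ↔ o ∈ octads := fun o => by simp [hOdef]
  have hdisj : (O : Set (Finset GolayPt)).PairwiseDisjoint (fun o => o.powersetCard 5) := by
    intro o ho o' ho' hne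
    rw [Function.onFun, Finset.disjoint_left]
    intro t ht ht'
    rw [Finset.mem_powersetCard] at ht ht'
    exact hne (octad_unique ((hmem o).1 ho) ((hmem o').1 ho') (le_of_eq ht.2.symm) ht.1 ht'.1)
  have hU : (O.biUnion (fun o => o.powersetCard 5)).card = 42504 := by
    rw [Finset.card_biUnion hdisj]
    have : ∀ o ∈ O, (o.powersetCard 5).card = 56 := by
      intro o ho
      rw [Finset.card_powersetCard, ((hmem o).1 ho).2]; rfl
    rw [Finset.sum_congr rfl this, Finset.sum_const, hO]; rfl
  have hsub : O.biUnion (fun o => o.powersetCard 5) ⊆ (Finset.univ : Finset GolayPt).powersetCard 5 := by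
    intro t ht
    rw [Finset.mem_biUnion] at ht
    obtain ⟨o, _, ht⟩ := ht
    rw [Finset.mem_powersetCard] at ht ⊢
    exact ⟨Finset.subset_univ _, ht.2⟩
  have hcard : ((Finset.univ : Finset GolayPt).powersetCard 5).card = 42504 := by
    rw [Finset.card_powersetCard]
    have : (Finset.univ : Finset GolayPt).card = 24 := by rfl
    rw [this]; rfl
  have heq := Finset.eq_of_subset_of_card_le hsub (by rw [hU, hcard])
  have hsm : s ∈ (Finset.univ : Finset GolayPt).powersetCard 5 := by
    rw [Finset.mem_powersetCard]; exact ⟨Finset.subset_univ _, hs⟩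
  rw [← heq, Finset.mem_biUnion] at hsm
  obtain ⟨o, ho, hso⟩ := hsm
  exact ⟨o, (hmem o).1 ho, (Finset.mem_powersetCard.mp hso).1⟩

theorem steiner : IsSteinerSystem 5 8 octads := by
  refine ⟨fun b hb => hb.2, fun s hs => ?_⟩
  obtain ⟨b, hb, hsb⟩ := exists_octad s hs
  refine ⟨b, ⟨hb, hsb⟩, ?_⟩
  rintro b' ⟨hb', hsb'⟩
  exact octad_unique hb' hb (le_of_eq hs.symm) hsb' hsb

theorem smul_mem_CS {σ : Equiv.Perm GolayPt} (hσ : σ ∈ M24) {s : Finset GolayPt} (hs : s ∈ CS) :
    σ • s ∈ CS := (mem_M24_iff σ).1 hσ s hs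

theorem smul_mem_octads {σ : Equiv.Perm GolayPt} (hσ : σ ∈ M24) {s : Finset GolayPt}
    (hs : s ∈ octads) : σ • s ∈ octads :=
  ⟨smul_mem_CS hσ hs.1, by rw [Finset.card_smul_finset]; exact hs.2⟩

theorem smul_mem_dodecads {σ : Equiv.Perm GolayPt} (hσ : σ ∈ M24) {s : Finset GolayPt}
    (hs : s ∈ dodecads) : σ • s ∈ dodecads :=
  ⟨smul_mem_CS hσ hs.1, by rw [Finset.card_smul_finset]; exact hs.2⟩

theorem basis_octads : ∀ b ∈ basisList, unmask b ∈ octads := by
  intro b hb
  rw [mem_octads_iff]
  have hb24 : b < 2 ^ 24 := by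
    revert b; decide
  rw [mask_unmask hb24]
  revert b
  decide +kernel

theorem M24_eq_aut_octads : M24 = setSystemAut octads := by
  ext σ
  constructor
  · intro hσ
    unfold setSystemAut
    rw [MulAction.mem_stabilizer_set_iff_smul_set_subset (Set.toFinite _)]
    rintro _ ⟨s, hs, rfl⟩
    exact smul_mem_octads hσ hs
  · intro hσ
    unfold setSystemAut at hσ
    rw [MulAction.mem_stabilizer_set_iff_smul_set_subset (Set.toFinite _)] at hσ
    apply mem_M24_of_basis
    intro b hb
    have h1 : σ • unmask b ∈ octads := hσ (Set.smul_mem_smul_set (basis_octads b hb))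
    exact (mem_supports_iff _).1 h1.1

end Cfsg.Agent.Lib.Helper3
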