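import Mathlib
import Cfsg.Agent.Lib.Helper3.GolaySteiner

set_option autoImplicit false

namespace Cfsg.Agent.Lib.Helper3

open Cfsg
open scoped Pointwise

/-! ### Base, transversals -/

/-- indices of the base points. -/
def bidx : ℕ → ℕ
  | 0 => 0
  | 1 => 1
  | 2 => 2
  | 3 => 3
  | 4 => 4
  | 5 => 7
  | _ => 5

/-- the base points. -/
def bpt (k : ℕ) : GolayPt := pt (bidx k)

/-- `g` fixes the first `k` base points. -/
def Fixes (k : ℕ) (g : Equiv.Perm GolayPt) : Prop := ∀ j < k, g (bpt j) = bpt j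

/-- the possible images of base point `k` under elements fixing the earlier ones. -/
def allow : ℕ → ℕ
  | 0 => 0xFFFFFF
  | 1 => 0xFFFFFE
  | 2 => 0xFFFFFC
  | 3 => 0xFFFFF8
  | 4 => 0xFFFFF0
  | 5 => 0x1480
  | _ => 0xFFEB60

/-- transversal words: `tr k` has at position `q` a word fixing the first `k` base points and moving `q` to the next one. -/
def tr : ℕ → List (List ℕ)
  | 0 => [[3, 4, 3, 4, 3],
      [1, 3, 1, 4, 3],
      [2, 2, 3, 4, 3, 1, 2],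
      [3, 3, 3, 3, 4, 3],
      [0, 1, 4, 4],
      [2, 0, 0, 2],
      [3, 4, 4, 3, 3],
      [0, 4, 0, 1],
      [3, 2, 3, 2, 0, 0],
      [4, 4, 0, 0, 1, 2],
      [0, 4, 0, 1, 3, 3, 3],
      [3, 4, 0, 1, 2, 3, 2],
      [3, 3, 1, 4, 4, 0, 1],
      [0, 1, 2, 0, 1, 2],
      [3, 4, 3, 4, 4],
      [0, 0, 1, 3, 2, 0, 2],
      [4, 0, 2, 0, 0, 0],
      [3, 1, 2, 0, 0],
      [2, 2, 3, 2, 2, 0, 4],
      [3, 1, 3, 4, 3, 4, 3],
      [3, 3, 1, 4, 3],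
      [3, 3, 4, 3, 4, 4],
      [2, 3, 2, 0, 4, 3],
      [1, 2, 2, 0]]
  | 1 => [[],
      [],
      [1, 0, 4, 0, 1, 2],
      [1, 4, 3, 1, 2],
      [1, 4, 3, 3, 3, 1],
      [1, 2, 2, 3, 1, 2],
      [1, 0, 4, 0, 1],
      [3, 1, 2, 0, 2, 0],
      [1, 2, 3, 1],
      [1, 2, 3, 1, 2, 2],
      [1, 4, 4, 0, 1],
      [1, 3, 4, 3, 3, 1],
      [1, 0, 0, 1, 2],
      [3, 1, 3, 2, 2],
      [1, 3, 3, 1, 4],
      [1, 0, 2, 0, 0, 1],
      [3, 2, 2, 0, 0],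
      [1, 2, 0, 1, 4],
      [1, 3, 4, 0, 1, 4],
      [1, 0, 2, 3, 1],
      [1, 4, 4, 0, 1, 2],
      [1, 4, 0, 0, 1],
      [1, 3, 2, 2, 3, 1],
      [0, 1, 3, 4, 4, 0]]
  | 2 => [[],
      [],
      [],
      [3, 4, 3, 4, 3, 4],
      [1, 3, 2, 0, 2, 3, 2, 3, 1],
      [1, 0, 4, 3, 3, 1],
      [1, 4, 0, 2, 0, 0, 1, 2],
      [1, 4, 3, 4, 0, 1, 2],
      [1, 2, 3, 3, 3, 1],
      [1, 4, 3, 3, 4, 3, 1, 2],
      [1, 0, 0, 0, 1, 4],
      [1, 2, 3, 2, 3, 1],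
      [1, 4, 3, 2, 0, 1, 2],
      [1, 3, 4, 0, 1],
      [1, 4, 4, 3, 3, 1, 4],
      [2, 2, 3, 2, 2, 0, 0],
      [1, 0, 0, 2, 0, 2, 3, 1],
      [0, 1, 2, 2, 0, 1, 3],
      [1, 0, 0, 2, 3, 1],
      [1, 2, 0, 2, 0, 0, 1],
      [1, 3, 2, 0, 1],
      [1, 3, 2, 2, 0, 1],
      [1, 0, 4, 0, 1, 4],
      [0, 1, 3, 1, 4, 4, 3]]
  | 3 => [[],
      [],
      [],
      [],
      [4, 3, 4, 3, 4, 3],
      [1, 4, 4, 0, 0, 0, 1, 2],
      [3, 3, 2, 3, 4, 3, 3, 2, 2],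
      [1, 2, 3, 3, 2, 3, 4, 4, 3, 1, 4],
      [0, 0, 0, 0, 0, 4, 0, 0, 0, 0, 2],
      [1, 0, 4, 4, 0, 2, 3, 1, 2],
      [1, 3, 2, 3, 4, 3, 3, 3, 3, 1],
      [4, 0, 1, 2, 2, 3, 3, 4, 0, 0],
      [0, 2, 2, 3, 3, 1, 0, 2, 0, 0, 2],
      [1, 4, 0, 4, 3, 2, 2, 3, 1],
      [3, 2, 0, 4, 4, 3, 3, 3, 4],
      [0, 1, 4, 4, 3, 3, 1, 4, 3],
      [1, 3, 4, 0, 2, 0, 2, 0, 0, 1],
      [2, 0, 0, 0, 2, 2, 3, 4, 0],
      [0, 0, 1, 2, 2, 0, 1, 3, 3],
      [1, 4, 3, 3, 3, 1, 2, 2],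
      [2, 3, 1, 4, 3, 2, 0, 1, 2, 0],
      [3, 4, 3, 2, 0, 4, 0, 4, 0, 2],
      [2, 3, 2, 2, 3, 4, 3, 2, 2, 0, 4],
      [0, 0, 1, 3, 1, 4, 4, 3, 3]]
  | 4 => [[],
      [],
      [],
      [],
      [],
      [1, 2, 3, 3, 4, 3, 3, 2, 3, 2, 3, 1],
      [1, 2, 0, 0, 2, 3, 4, 3, 3, 3, 3, 1, 4],
      [3, 3, 2, 0, 0, 2, 3, 4, 3, 1, 0, 2],
      [1, 4, 4, 0, 4, 0, 2, 3, 2, 3, 3, 1],
      [1, 2, 0, 4, 3, 2, 0, 0, 4, 3, 1],
      [3, 1, 4, 3, 3, 1, 4, 0, 1, 3, 2, 3, 3],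
      [3, 3, 3, 3, 4, 3, 2, 0, 4, 4, 0],
      [3, 4, 4, 3, 4, 0, 0, 0, 2, 0, 4, 4],
      [1, 2, 3, 1, 2, 3, 2, 0, 0, 2, 3, 4, 3],
      [1, 2, 0, 0, 2, 2, 3, 2, 2, 0, 1],
      [1, 0, 2, 3, 3, 4, 0, 2, 3, 1, 4],
      [3, 3, 2, 0, 1, 4, 3, 3, 3, 2, 0, 2],
      [1, 0, 4, 0, 4, 4, 0, 2, 3, 3, 3, 1, 4],
      [0, 2, 3, 3, 3, 3, 1, 4, 0, 2, 3, 3, 1],
      [0, 0, 0, 1, 2, 2, 0, 1, 3, 3, 3],
      [3, 2, 2, 3, 4, 0, 2, 0, 0, 0, 0],
      [4, 3, 3, 3, 2, 3, 2, 3, 4, 3, 2, 2],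
      [1, 3, 4, 4, 0, 4, 4, 3, 3, 1, 4],
      [0, 0, 0, 1, 3, 1, 4, 4, 3, 3, 3]]
  | 5 => [[],
      [],
      [],
      [],
      [],
      [],
      [],
      [],
      [],
      [],
      [3, 2, 0, 1, 4, 3, 3, 3, 2, 0, 2, 3],
      [],
      [0, 4, 3, 4, 0, 0, 0, 2, 1, 3, 4, 0],
      [],
      [],
      [],
      [],
      [],
      [],
      [],
      [],
      [],
      [],
      []]
  | 6 => [[],
      [],
      [],
      [],
      [],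
      [],
      [2, 3, 1, 4, 3, 1, 2, 0, 0, 0, 2, 1, 0, 0, 4, 4, 1],
      [],
      [3, 2, 3, 2, 3, 2, 3, 1, 0, 2, 2, 0, 4, 3, 4, 0],
      [3, 1, 4, 0, 0, 0, 4, 3, 4, 4, 0, 4, 0, 4],
      [],
      [0, 4, 4, 3, 2, 3, 3, 1, 0, 2, 1, 0, 1, 3, 2, 0, 1],
      [],
      [3, 4, 3, 1, 4, 3, 3, 3, 4, 0, 4, 3, 4, 3, 4, 4],
      [1, 3, 4, 3, 1, 4, 0, 0, 1, 3, 4, 0, 2, 0, 1, 0, 0],
      [0, 0, 4, 0, 1, 2, 2, 0, 0, 2, 3, 3, 2, 0, 0],
      [0, 4, 3, 1, 0, 2, 0, 1, 0, 0, 4, 1, 3, 4, 0],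
      [0, 4, 3, 1, 2, 2, 3, 4, 0, 0, 1, 3, 2, 3, 1],
      [3, 3, 3, 1, 0, 0, 4, 0, 1, 0, 0, 0, 4, 1, 0, 0],
      [1, 3, 1, 4, 4, 0, 4, 0, 0, 2, 3, 4, 0, 4, 1, 3],
      [1, 3, 1, 2, 3, 4, 3, 4, 3, 4, 4, 1, 0, 1],
      [3, 2, 2, 0, 4, 0, 1, 3, 3, 4, 4, 3, 4, 3, 2, 2],
      [2, 2, 3, 3, 1, 4, 4, 0, 2, 0, 4, 3, 1, 0, 2, 3, 4],
      [0, 2, 0, 0, 2, 3, 1, 4, 3, 4, 0, 0, 1, 3, 3, 2, 1]]
  | _ => []

/-- certificate for the triviality of the stabiliser of the base. -/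
def fixCert : List (ℕ × ℕ × ℕ) :=
  [(0x82402f, 0x2060b5, 14),
   (0x68401e, 0x50803d, 22),
   (0xc12017, 0x45102e, 16),
   (0xc12017, 0x82402f, 23),
   (0xc75001, 0x9d4006, 18),
   (0xc75001, 0x27c00a, 17),
   (0xc75001, 0x5a1007, 12),
   (0x49f002, 0x9d4006, 19),
   (0x49f002, 0x6e3008, 13),
   (0x49f002, 0x8ea003, 15),
   (0xd4b004, 0x13e005, 20),
   (0x6e3008, 0xa96009, 21),
   (0xecc040, 0x2b9041, 6),
   (0x3da100, 0x745102, 8),
   (0x7b4200, 0xbc1201, 9),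
   (0xb1d400, 0x768401, 10),
   (0xe3a800, 0x24f801, 11)]

/-- check of the transversal at level `k`. -/
def chkLevel (k : ℕ) : Bool :=
  (List.range 24).all fun q =>
    !((allow k).testBit q) ||
      ((List.range k).all (fun j => wact ((tr k).getD q []) (bidx j) == bidx j) &&
        wact ((tr k).getD q []) q == bidx k)

theorem chkLevel_all : ∀ k < 7, chkLevel k = true := by decide +kernel

theorem bidx_lt (k : ℕ) : bidx k < 24 := by
  unfold bidx; split <;> norm_num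

theorem idx_bpt (k : ℕ) : idx (bpt k) = bidx k := idx_pt (bidx_lt k)

theorem level_spec (k : ℕ) (hk : k < 7) (q : GolayPt) (hq : (allow k).testBit (idx q) = true) :
    ∃ u ∈ H, Fixes k u ∧ u q = bpt k := by
  have h := chkLevel_all k hk
  unfold chkLevel at h
  rw [List.all_eq_true] at h
  have h1 := h (idx q) (List.mem_range.mpr (idx_lt q))
  rw [hq] at h1
  simp only [Bool.not_true, Bool.false_or, Bool.and_eq_true, List.all_eq_true, List.mem_range,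
    beq_iff_eq] at h1
  refine ⟨wperm ((tr k).getD (idx q) []), wperm_mem_H _, ?_, ?_⟩
  · intro j hj
    apply idx_injective
    rw [idx_wperm, idx_bpt]
    exact h1.1 j hj
  · apply idx_injective
    rw [idx_wperm, idx_bpt]
    exact h1.2

/-! ### Fixed points -/

/-- `g` fixes every point of the mask `F`. -/
def FixM (g : Equiv.Perm GolayPt) (F : ℕ) : Prop := ∀ p, F.testBit (idx p) = true → g p = p

/-- octad test on masks. -/
def isOct (x : ℕ) : Bool := decide (InC x) && pc x == 8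

theorem unmask_mem_octads {x : ℕ} (h : isOct x = true) : unmask x ∈ octads ∧ x < 2 ^ 24 := by
  unfold isOct at h
  simp only [Bool.and_eq_true, decide_eq_true_eq, beq_iff_eq] at h
  have hlt : x < 2 ^ 24 := by
    rw [h.1]; exact enc_lt _ (Nat.mod_lt _ (by norm_num))
  refine ⟨?_, hlt⟩
  rw [mem_octads_iff, mask_unmask hlt]; exact h

theorem smul_eq_of_fixM {g : Equiv.Perm GolayPt} (hg : g ∈ M24) {F o : ℕ} (hF : FixM g F)
    (ho : isOct o = true) (h5 : 5 ≤ pc (o &&& F)) : g • unmask o = unmask o := by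
  obtain ⟨hoct, hlt⟩ := unmask_mem_octads ho
  have hlt2 : o &&& F < 2 ^ 24 := lt_of_le_of_lt Nat.and_le_left hlt
  apply octad_unique (s := unmask (o &&& F)) (smul_mem_octads hg hoct) hoct
  · rw [card_eq_pc, mask_unmask hlt2]; exact h5
  · intro p hp
    rw [mem_unmask, Nat.testBit_and, Bool.and_eq_true] at hp
    have : g p = p := hF p hp.2
    rw [← this]
    exact Finset.smul_mem_smul_finset ((mem_unmask _ _).2 hp.1)
  · intro p hp
    rw [mem_unmask, Nat.testBit_and, Bool.and_eq_true] at hp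
    exact (mem_unmask _ _).2 hp.1

theorem apply_mem_of_smul_eq {g : Equiv.Perm GolayPt} {s : Finset GolayPt} (h : g • s = s)
    {p : GolayPt} : g p ∈ s ↔ p ∈ s := by
  conv_lhs => rw [← h]
  exact Finset.smul_mem_smul_finset_iff g

/-- one step of the certificate. -/
def certStep (F : ℕ) (c : ℕ × ℕ × ℕ) : ℕ :=
  bif isOct c.1 && isOct c.2.1 && Nat.ble 5 (pc (c.1 &&& F)) && Nat.ble 5 (pc (c.2.1 &&& F)) &&
      ((c.1 &&& c.2.1) &&& (F ^^^ 0xFFFFFF) == 1 <<< c.2.2) then F ||| (1 <<< c.2.2) else F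

theorem certStep_sound {g : Equiv.Perm GolayPt} (hg : g ∈ M24) (F : ℕ) (c : ℕ × ℕ × ℕ)
    (hF : FixM g F) : FixM g (certStep F c) := by
  unfold certStep
  cases hc : (isOct c.1 && isOct c.2.1 && Nat.ble 5 (pc (c.1 &&& F)) && Nat.ble 5 (pc (c.2.1 &&& F)) &&
      ((c.1 &&& c.2.1) &&& (F ^^^ 0xFFFFFF) == 1 <<< c.2.2))
  · exact hF
  · simp only [Bool.and_eq_true, Nat.ble_eq, beq_iff_eq] at hc
    obtain ⟨⟨⟨⟨h1, h2⟩, h3⟩, h4⟩, h5⟩ := hc
    have e1 := smul_eq_of_fixM hg hF h1 h3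
    have e2 := smul_eq_of_fixM hg hF h2 h4
    simp only [cond_true]
    intro p hp
    rw [Nat.testBit_or, Bool.or_eq_true] at hp
    rcases hp with hp | hp
    · exact hF p hp
    · rw [Nat.one_shiftLeft, Nat.testBit_two_pow, decide_eq_true_eq] at hp
      -- `p` is the new point
      have key : ∀ q : GolayPt, q ∈ unmask c.1 → q ∈ unmask c.2.1 → F.testBit (idx q) = true ∨ idx q = c.2.2 := by
        intro q hq1 hq2
        rw [mem_unmask] at hq1 hq2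
        by_cases hq : F.testBit (idx q) = true
        · exact Or.inl hq
        · right
          have h6 := congrArg (fun n => n.testBit (idx q)) h5
          simp only [Nat.testBit_and, Nat.testBit_xor, hq1, hq2, Bool.and_self, Bool.true_and,
            Nat.one_shiftLeft, Nat.testBit_two_pow] at h6
          have h7 : (0xFFFFFF : ℕ).testBit (idx q) = true := by
            have : (0xFFFFFF : ℕ) = 2 ^ 24 - 1 := by norm_num
            rw [this, Nat.testBit_two_pow_sub_one]; simpa using idx_lt q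
          rw [h7] at h6
          simp only [Bool.not_eq_true] at hq
          rw [hq] at h6
          simp only [Bool.false_bne, Bool.true_eq, decide_eq_true_eq] at h6
          exact h6.symm
      have hp12 : p ∈ unmask c.1 ∧ p ∈ unmask c.2.1 := by
        have h6 := congrArg (fun n => n.testBit (idx p)) h5
        simp only [Nat.testBit_and, Nat.one_shiftLeft, Nat.testBit_two_pow, hp, decide_true,
          Bool.and_eq_true] at h6
        exact ⟨(mem_unmask _ _).2 h6.1.1, (mem_unmask _ _).2 h6.1.2⟩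
      rcases key (g p) ((apply_mem_of_smul_eq e1).2 hp12.1) ((apply_mem_of_smul_eq e2).2 hp12.2) with h | h
      · exact g.injective (hF _ h)
      · exact idx_injective (h.trans hp)

theorem runCert_sound {g : Equiv.Perm GolayPt} (hg : g ∈ M24) (l : List (ℕ × ℕ × ℕ)) (F : ℕ)
    (hF : FixM g F) : FixM g (l.foldl certStep F) := by
  induction l generalizing F with
  | nil => exact hF
  | cons c l ih => exact ih _ (certStep_sound hg F c hF)

theorem fixCert_run : fixCert.foldl certStep 0xBF = 0xFFFFFF := by decide +kernel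

theorem eq_one_of_fixes {g : Equiv.Perm GolayPt} (hg : g ∈ M24) (h : Fixes 7 g) : g = 1 := by
  have h0 : FixM g 0xBF := by
    intro p hp
    have : ∀ i < 24, (0xBF : ℕ).testBit i = true → ∃ j < 7, i = bidx j := by decide
    obtain ⟨j, hj, hij⟩ := this (idx p) (idx_lt p) hp
    have hp' : p = bpt j := by rw [← pt_idx p, hij]; rfl
    rw [hp']; exact h j hj
  have h1 := runCert_sound hg fixCert _ h0
  rw [fixCert_run] at h1
  ext p
  have h7 : (0xFFFFFF : ℕ).testBit (idx p) = true := by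
    have : (0xFFFFFF : ℕ) = 2 ^ 24 - 1 := by norm_num
    rw [this, Nat.testBit_two_pow_sub_one]; simpa using idx_lt p
  rw [h1 p h7]; rfl

end Cfsg.Agent.Lib.Helper3
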