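import Mathlib
import Cfsg.Agent.Lib.Helper3.M24Chain

set_option autoImplicit false

namespace Cfsg.Agent.Lib.Helper3

open Cfsg
open scoped Pointwise

theorem bidx_inj : ∀ i < 7, ∀ j < 7, bidx i = bidx j → i = j := by decide

theorem bpt_inj {i j : ℕ} (hi : i < 7) (hj : j < 7) (h : bpt i = bpt j) : i = j := by
  apply bidx_inj i hi j hj
  rw [← idx_bpt, ← idx_bpt, h]

theorem allow_lt5 : ∀ k < 5, ∀ i < 24, (∀ j < k, i ≠ bidx j) → (allow k).testBit i = true := by
  decide

/-- moving any five distinct points to the first five base points. -/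
theorem exists_H_map (x : ℕ → GolayPt) (hx : ∀ i < 5, ∀ j < 5, x i = x j → i = j) (k : ℕ)
    (hk : k ≤ 5) : ∃ u ∈ H, ∀ j < k, u (x j) = bpt j := by
  induction k with
  | zero => exact ⟨1, H.one_mem, by simp⟩
  | succ k ih =>
    obtain ⟨u, hu, hux⟩ := ih (by omega)
    have hq : (allow k).testBit (idx (u (x k))) = true := by
      apply allow_lt5 k (by omega) _ (idx_lt _)
      intro j hj heq
      have h1 : u (x k) = u (x j) := by
        apply idx_injective; rw [heq, hux j hj, idx_bpt]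
      have := hx k (by omega) j (by omega) (u.injective h1)
      omega
    obtain ⟨v, hv, hvf, hvq⟩ := level_spec k (by omega) _ hq
    refine ⟨v * u, H.mul_mem hv hu, ?_⟩
    intro j hj
    rcases Nat.lt_succ_iff_lt_or_eq.mp hj with h | rfl
    · show v (u (x j)) = _
      rw [hux j h, hvf j h]
    · exact hvq

theorem fixM_of_fixes5 {g : Equiv.Perm GolayPt} {k : ℕ} (hk : 5 ≤ k) (h : Fixes k g) :
    FixM g 0x1F := by
  intro p hp
  have : ∀ i < 24, (0x1F : ℕ).testBit i = true → ∃ j < 5, i = bidx j := by decide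
  obtain ⟨j, hj, hij⟩ := this (idx p) (idx_lt p) hp
  have hp' : p = bpt j := by rw [← pt_idx p, hij]; rfl
  rw [hp']; exact h j (by omega)

theorem stab_O {g : Equiv.Perm GolayPt} (hg : g ∈ M24) {k : ℕ} (hk : 5 ≤ k) (h : Fixes k g) :
    g • unmask 0x149f = unmask 0x149f :=
  smul_eq_of_fixM hg (fixM_of_fixes5 hk h) (by decide +kernel) (by decide +kernel)

theorem allowed {k : ℕ} (hk : k < 7) {g : Equiv.Perm GolayPt} (hg : g ∈ M24) (h : Fixes k g) :
    (allow k).testBit (idx (g (bpt k))) = true := by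
  have hne : ∀ j < k, idx (g (bpt k)) ≠ bidx j := by
    intro j hj heq
    have h1 : g (bpt k) = g (bpt j) := by
      apply idx_injective; rw [heq, h j hj, idx_bpt]
    have := bpt_inj hk (by omega) (g.injective h1)
    omega
  by_cases h5 : k < 5
  · exact allow_lt5 k h5 _ (idx_lt _) hne
  · have hO := stab_O hg (by omega) h
    have hk' : k = 5 ∨ k = 6 := by omega
    rcases hk' with rfl | rfl
    · have h1 : bpt 5 ∈ unmask 0x149f := by rw [mem_unmask, idx_bpt]; decide
      have h2 := (apply_mem_of_smul_eq hO).2 h1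
      rw [mem_unmask] at h2
      have : ∀ i < 24, (0x149f : ℕ).testBit i = true → (∀ j < 5, i ≠ bidx j) →
          (allow 5).testBit i = true := by decide
      exact this _ (idx_lt _) h2 hne
    · have h1 : ¬ bpt 6 ∈ unmask 0x149f := by rw [mem_unmask, idx_bpt]; decide
      have h2 : ¬ g (bpt 6) ∈ unmask 0x149f := fun h' => h1 ((apply_mem_of_smul_eq hO).1 h')
      rw [mem_unmask] at h2
      have : ∀ i < 24, ¬ (0x149f : ℕ).testBit i = true → (allow 6).testBit i = true := by decide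
      exact this _ (idx_lt _) h2

theorem sift_aux {g : Equiv.Perm GolayPt} (hg : g ∈ M24) (k : ℕ) (hk : k ≤ 7) :
    ∃ u ∈ H, Fixes k (u * g) := by
  induction k with
  | zero => exact ⟨1, H.one_mem, fun j hj => absurd hj (Nat.not_lt_zero _)⟩
  | succ k ih =>
    obtain ⟨u, hu, huf⟩ := ih (by omega)
    have hug : u * g ∈ M24 := M24.mul_mem (H_le hu) hg
    obtain ⟨v, hv, hvf, hvq⟩ := level_spec k (by omega) _ (allowed (by omega) hug huf)
    refine ⟨v * u, H.mul_mem hv hu, ?_⟩
    intro j hj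
    rw [mul_assoc]
    rcases Nat.lt_succ_iff_lt_or_eq.mp hj with h | rfl
    · show v ((u * g) (bpt j)) = _
      rw [huf j h, hvf j h]
    · exact hvq

theorem sift {g : Equiv.Perm GolayPt} (hg : g ∈ M24) : ∃ u ∈ H, u * g = 1 := by
  obtain ⟨u, hu, huf⟩ := sift_aux hg 7 le_rfl
  exact ⟨u, hu, eq_one_of_fixes (M24.mul_mem (H_le hu) hg) huf⟩

theorem H_eq : H = M24 := by
  apply le_antisymm H_le
  intro g hg
  obtain ⟨u, hu, h⟩ := sift hg
  have : g = u⁻¹ := (inv_eq_of_mul_eq_one_right h).symm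
  rw [this]; exact H.inv_mem hu

/-! ### Orders -/

theorem card_eq_orbit_mul {G Ω : Type*} [Group G] [MulAction G Ω] (K : Subgroup G) (b : Ω) :
    Nat.card K = (MulAction.orbit K b).ncard * Nat.card ↥(K ⊓ MulAction.stabilizer G b) := by
  rw [← (MulAction.stabilizer K b).card_mul_index, MulAction.index_stabilizer, mul_comm]
  congr 1
  apply Nat.card_congr
  exact
    { toFun := fun x => ⟨x.1.1, ⟨x.1.2, x.2⟩⟩
      invFun := fun x => ⟨⟨x.1, x.2.1⟩, x.2.2⟩
      left_inv := fun _ => rfl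
      right_inv := fun _ => rfl }

/-- the stabiliser chain. -/
def K : ℕ → Subgroup (Equiv.Perm GolayPt)
  | 0 => M24
  | k+1 => K k ⊓ MulAction.stabilizer (Equiv.Perm GolayPt) (bpt k)

theorem mem_K (k : ℕ) (g : Equiv.Perm GolayPt) : g ∈ K k ↔ g ∈ M24 ∧ Fixes k g := by
  induction k with
  | zero => simp [K, Fixes]
  | succ k ih =>
    rw [K, Subgroup.mem_inf, ih, MulAction.mem_stabilizer_iff, and_assoc]
    apply and_congr_right
    intro _
    constructor
    · rintro ⟨h1, h2⟩ j hj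
      rcases Nat.lt_succ_iff_lt_or_eq.mp hj with h | rfl
      · exact h1 j h
      · exact h2
    · intro h
      exact ⟨fun j hj => h j (by omega), h k (by omega)⟩

theorem orbit_K {k : ℕ} (hk : k < 7) :
    MulAction.orbit (K k) (bpt k) = ↑(unmask (allow k)) := by
  ext q
  constructor
  · rintro ⟨⟨g, hg⟩, rfl⟩
    rw [mem_K] at hg
    show g (bpt k) ∈ unmask (allow k)
    rw [mem_unmask]
    exact allowed hk hg.1 hg.2
  · intro hq
    have hq' : q ∈ unmask (allow k) := hq
    rw [mem_unmask] at hq'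
    obtain ⟨u, hu, huf, huq⟩ := level_spec k hk q hq'
    have hmem : u⁻¹ ∈ K k := by
      apply (K k).inv_mem
      rw [mem_K]; exact ⟨H_le hu, huf⟩
    refine ⟨⟨u⁻¹, hmem⟩, ?_⟩
    show u⁻¹ (bpt k) = q
    rw [Equiv.Perm.inv_eq_iff_eq]; exact huq.symm

theorem card_K {k : ℕ} (hk : k < 7) : Nat.card (K k) = pc (allow k) * Nat.card (K (k + 1)) := by
  rw [card_eq_orbit_mul (K k) (bpt k), orbit_K hk, Set.ncard_coe_finset, card_eq_pc, mask_unmask]
  · rfl
  · revert k; decide

theorem K7 : K 7 = ⊥ := by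
  rw [eq_bot_iff]
  intro g hg
  rw [mem_K] at hg
  exact eq_one_of_fixes hg.1 hg.2

theorem card_K_values : Nat.card (K 7) = 1 ∧ Nat.card (K 6) = 16 ∧ Nat.card (K 5) = 48 ∧
    Nat.card (K 4) = 960 ∧ Nat.card (K 3) = 20160 ∧ Nat.card (K 2) = 443520 ∧
    Nat.card (K 1) = 10200960 ∧ Nat.card (K 0) = 244823040 := by
  have h7 : Nat.card (K 7) = 1 := by rw [K7]; exact Subgroup.card_bot
  have p : pc (allow 6) = 16 ∧ pc (allow 5) = 3 ∧ pc (allow 4) = 20 ∧ pc (allow 3) = 21 ∧
      pc (allow 2) = 22 ∧ pc (allow 1) = 23 ∧ pc (allow 0) = 24 := by decide +kernel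
  obtain ⟨p6, p5, p4, p3, p2, p1, p0⟩ := p
  have h6 : Nat.card (K 6) = 16 := by rw [card_K (by norm_num), h7, p6]
  have h5 : Nat.card (K 5) = 48 := by rw [card_K (by norm_num), h6, p5]
  have h4 : Nat.card (K 4) = 960 := by rw [card_K (by norm_num), h5, p4]
  have h3 : Nat.card (K 3) = 20160 := by rw [card_K (by norm_num), h4, p3]
  have h2 : Nat.card (K 2) = 443520 := by rw [card_K (by norm_num), h3, p2]
  have h1 : Nat.card (K 1) = 10200960 := by rw [card_K (by norm_num), h2, p1]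
  have h0 : Nat.card (K 0) = 244823040 := by rw [card_K (by norm_num), h1, p0]
  exact ⟨h7, h6, h5, h4, h3, h2, h1, h0⟩

theorem card_M24 : Nat.card M24 = 244823040 := card_K_values.2.2.2.2.2.2.2

/-- five-fold transitivity, in elementary form. -/
theorem five_trans (x y : Fin 5 ↪ GolayPt) : ∃ g ∈ M24, ∀ i, g (x i) = y i := by
  have ext : ∀ z : Fin 5 ↪ GolayPt, ∃ u ∈ H, ∀ i : Fin 5, u (z i) = bpt i := by
    intro z
    obtain ⟨u, hu, h⟩ := exists_H_map (fun n => if h : n < 5 then z ⟨n, h⟩ else none) (by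
      intro i hi j hj hij
      simp only [hi, hj, dif_pos] at hij
      simpa using z.injective hij) 5 le_rfl
    refine ⟨u, hu, fun i => ?_⟩
    have := h i i.2
    simpa [i.2] using this
  obtain ⟨u, hu, hux⟩ := ext x
  obtain ⟨v, hv, hvy⟩ := ext y
  refine ⟨v⁻¹ * u, M24.mul_mem (M24.inv_mem (H_le hv)) (H_le hu), fun i => ?_⟩
  show v⁻¹ (u (x i)) = y i
  rw [hux, Equiv.Perm.inv_eq_iff_eq, hvy]

end Cfsg.Agent.Lib.Helper3
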