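import Mathlib
import Cfsg.Agent.Lib.Helper3.M24Order

set_option autoImplicit false

namespace Cfsg.Agent.Lib.Helper3

open Cfsg
open scoped Pointwise

theorem M24_five : MulAction.IsMultiplyPretransitive M24 GolayPt 5 := by
  rw [MulAction.isMultiplyPretransitive_iff]
  intro x y
  obtain ⟨g, hg, h⟩ := five_trans x y
  refine ⟨⟨g, hg⟩, ?_⟩
  apply Function.Embedding.ext
  intro i
  exact h i

theorem card_GolayPt : Nat.card GolayPt = 24 := by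
  rw [Nat.card_eq_fintype_card]; rfl

theorem M24_trans_le {k : ℕ} (hk : k ≤ 5) : MulAction.IsMultiplyPretransitive M24 GolayPt k := by
  have := M24_five
  exact MulAction.isMultiplyPretransitive_of_le hk (by rw [card_GolayPt]; norm_num)

theorem exists_map_to_base (s : Finset GolayPt) (hs : 5 ≤ s.card) :
    ∃ u ∈ H, ∀ j < 5, bpt j ∈ u • s := by
  obtain ⟨t, hts, ht⟩ := Finset.exists_subset_card_eq hs
  let e := (t.equivFinOfCardEq ht).symm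
  obtain ⟨u, hu, h⟩ := exists_H_map (fun n => if h : n < 5 then (e ⟨n, h⟩ : GolayPt) else none) (by
    intro i hi j hj hij
    simp only [hi, hj, dif_pos] at hij
    simpa using e.injective (Subtype.ext hij)) 5 le_rfl
  refine ⟨u, hu, fun j hj => ?_⟩
  have h1 := h j hj
  simp only [hj, dif_pos] at h1
  rw [← h1]
  exact Finset.smul_mem_smul_finset (hts (e ⟨j, hj⟩).2)

theorem and_eq_of_forall {m F : ℕ} (h : ∀ i, F.testBit i = true → m.testBit i = true) :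
    m &&& F = F := by
  apply Nat.eq_of_testBit_eq; intro i
  rw [Nat.testBit_and]
  cases hF : F.testBit i
  · simp
  · simp [h i hF]

theorem mask_and_base {s : Finset GolayPt} (h : ∀ j < 5, bpt j ∈ s) : mask s &&& 0x1F = 0x1F := by
  apply and_eq_of_forall
  intro i hi
  have : ∀ i, (0x1F : ℕ).testBit i = true → ∃ j < 5, i = bidx j := by
    intro i hi
    have hi5 : i < 5 := by
      by_contra hcon
      have : (0x1F : ℕ).testBit i = false :=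
        Nat.testBit_lt_two_pow (lt_of_lt_of_le (by norm_num : (0x1F : ℕ) < 2 ^ 5)
          (Nat.pow_le_pow_right (by norm_num) (by omega)))
      rw [this] at hi; exact Bool.false_ne_true hi
    exact ⟨i, hi5, by interval_cases i <;> rfl⟩
  obtain ⟨j, hj, rfl⟩ := this i hi
  have := (mem_iff_testBit _ _).1 (h j hj)
  rwa [idx_bpt] at this

/-- the standard octad. -/
def O0 : Finset GolayPt := unmask 0x149f

theorem O0_mem : O0 ∈ octads := (unmask_mem_octads (by decide +kernel)).1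

theorem octad_to_O0 {o : Finset GolayPt} (ho : o ∈ octads) : ∃ u ∈ M24, u • o = O0 := by
  obtain ⟨u, hu, h⟩ := exists_map_to_base o (by rw [ho.2]; norm_num)
  refine ⟨u, H_le hu, ?_⟩
  apply octad_unique (s := unmask 0x1F) (smul_mem_octads (H_le hu) ho) O0_mem
  · rw [card_eq_pc, mask_unmask (by norm_num)]; decide +kernel
  · intro p hp
    rw [mem_unmask] at hp
    rw [mem_iff_testBit]
    have h1 := mask_and_base h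
    have h2 := congrArg (fun n => n.testBit (idx p)) h1
    simp only [Nat.testBit_and, hp, Bool.and_true] at h2
    exact h2
  · intro p hp
    rw [mem_unmask] at hp
    rw [O0, mem_unmask]
    have : ∀ i < 24, (0x1F : ℕ).testBit i = true → (0x149f : ℕ).testBit i = true := by decide
    exact this _ (idx_lt p) hp

theorem trans_octads {o o' : Finset GolayPt} (ho : o ∈ octads) (ho' : o' ∈ octads) :
    ∃ g ∈ M24, g • o = o' := by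
  obtain ⟨u, hu, h⟩ := octad_to_O0 ho
  obtain ⟨v, hv, h'⟩ := octad_to_O0 ho'
  refine ⟨v⁻¹ * u, M24.mul_mem (M24.inv_mem hv) hu, ?_⟩
  rw [mul_smul, h, ← h', inv_smul_smul]

/-- for each dodecad through the first five base points, a word moving it to the dodecad of squares. -/
def dodWords : List (ℕ × List ℕ) :=
  [(0x2877f, [3, 4, 4, 0, 4, 0, 4, 3, 3, 4, 1, 0, 4, 1, 3, 3]),
   (0x5335f, []),
   (0x7a0bf, [0, 0, 1, 2, 3, 1, 2, 0, 0, 2, 3, 2, 3, 2, 2, 0]),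
   (0x8c8ff, [2, 3, 1, 0, 4, 0, 4, 4, 3, 4, 4, 1, 0, 0, 0]),
   (0xa5b1f, [1, 3, 1, 2, 3, 4, 3, 4, 3, 4, 4, 1, 0, 1]),
   (0x11ac5f, [0, 4, 3, 4, 0, 0, 0, 2, 1, 3, 4, 0]),
   (0x148b9f, [3, 2, 0, 1, 4, 3, 3, 3, 2, 0, 2, 3]),
   (0x16187f, [3, 2, 3, 2, 3, 2, 3, 1, 0, 2, 2, 0, 4, 3, 4, 0]),
   (0x19703f, [3, 1, 4, 0, 0, 0, 4, 3, 4, 4, 0, 4, 0, 4]),
   (0x1ec41f, [2, 0, 4, 0, 2, 3, 3, 4, 4, 3, 2, 0, 0, 1, 3, 2]),
   (0x23651f, [0, 2, 0, 4, 3, 3, 4, 4, 0, 2, 2, 1, 0, 2, 2]),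
   (0x24d13f, [2, 3, 1, 4, 3, 1, 2, 0, 0, 0, 2, 1, 0, 0, 4, 4, 1]),
   (0x2642df, [4, 4, 3, 1, 4, 4, 3, 2, 2, 0, 0, 2, 3, 4, 3]),
   (0x292a9f, [2, 3, 1, 0, 2, 0, 4, 3, 3, 4, 0, 0, 4, 4]),
   (0x2c0d5f, [2, 2, 3, 3, 2, 0, 0, 2, 3, 4, 3, 1, 0, 4]),
   (0x304e3f, [2, 3, 1, 4, 3, 1, 2, 3, 4, 3, 3, 2, 3, 4, 3]),
   (0x38925f, [1, 3, 4, 3, 1, 4, 0, 0, 1, 3, 4, 0, 2, 0, 1, 0, 0]),
   (0x3a01bf, [3, 2, 2, 3, 1, 0, 0, 0, 4, 4, 0, 0, 2, 1, 0, 2]),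
   (0x4143bf, [2, 0, 2, 3, 4, 3, 2, 3, 4, 0, 2, 1, 0, 2, 3]),
   (0x43d05f, [3, 2, 2, 0, 4, 0, 1, 3, 3, 4, 4, 3, 4, 3, 2, 2]),
   (0x44647f, [0, 4, 3, 1, 4, 3, 2, 0, 4, 0, 2, 0, 4, 3, 4]),
   (0x4b0c3f, [1, 3, 3, 2, 0, 1, 2, 0, 4, 0, 0, 1, 0, 0, 4, 1, 0]),
   (0x4cb81f, [0, 2, 0, 0, 2, 3, 1, 4, 3, 4, 0, 0, 1, 3, 3, 2, 1]),
   (0x52689f, [3, 1, 4, 0, 2, 0, 0, 2, 3, 3, 3, 3, 3, 2, 2, 0]),
   (0x58271f, [1, 4, 0, 0, 0, 0, 2, 3, 2, 0, 4, 4, 0, 4, 3, 1]),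
   (0x5d00df, [1, 3, 4, 0, 2, 0, 0, 2, 3, 2, 0, 4, 3, 3, 4, 1]),
   (0x60a1df, [2, 0, 2, 0, 2, 3, 4, 0, 4, 4, 0, 0, 2, 0, 2]),
   (0x62323f, [0, 4, 3, 1, 0, 2, 0, 1, 0, 0, 4, 1, 3, 4, 0]),
   (0x65861f, [4, 3, 4, 3, 3, 2, 2, 3, 2, 0, 4, 3, 4, 3, 4]),
   (0x71191f, [0, 4, 3, 1, 2, 2, 3, 4, 0, 0, 1, 3, 2, 3, 1]),
   (0x819a3f, [3, 4, 3, 1, 4, 3, 3, 3, 4, 0, 4, 3, 4, 3, 4, 4]),
   (0x8309df, [3, 2, 2, 3, 3, 2, 0, 0, 2, 3, 4, 3, 1, 0, 4, 0]),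
   (0x862e1f, [3, 2, 3, 1, 0, 2, 0, 4, 3, 3, 4, 0, 0, 4, 4, 0]),
   (0x89465f, [0, 2, 0, 4, 4, 3, 4, 4, 1, 3, 4, 3, 2, 1, 0, 4]),
   (0x8c619f, [1, 3, 3, 2, 0, 0, 0, 4, 4, 3, 4, 0, 4, 3, 4, 1]),
   (0x9022ff, [1, 3, 4, 0, 1, 4, 3, 4, 4, 3, 4, 0, 2, 3, 3]),
   (0x92b11f, [0, 4, 4, 3, 2, 3, 3, 1, 0, 2, 1, 0, 1, 3, 2, 0, 1]),
   (0x95053f, [0, 0, 4, 3, 2, 0, 2, 2, 0, 2, 1, 3, 2, 0, 1]),
   (0xa0785f, [0, 0, 4, 0, 1, 2, 2, 0, 0, 2, 3, 3, 2, 0, 0]),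
   (0xa8a43f, [1, 2, 2, 3, 3, 1, 2, 0, 2, 2, 0, 2, 0, 4, 3, 2]),
   (0xaf101f, [2, 2, 3, 3, 1, 4, 4, 0, 2, 0, 4, 3, 1, 0, 2, 3, 4]),
   (0xb1c09f, [3, 1, 2, 3, 3, 1, 3, 3, 2, 3, 4, 1, 3, 4, 0, 0, 1]),
   (0xc0cd1f, [4, 4, 0, 2, 3, 3, 4, 0, 0, 4, 1, 3, 2, 1, 3, 2]),
   (0xc8117f, [3, 3, 3, 1, 0, 0, 4, 0, 1, 0, 0, 0, 4, 1, 0, 0]),
   (0xca829f, [0, 2, 0, 4, 0, 0, 2, 0, 4, 1, 0, 2, 1, 0, 4]),
   (0xd4521f, [1, 3, 1, 4, 4, 0, 4, 0, 0, 2, 3, 4, 0, 4, 1, 3]),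
   (0xe408bf, [4, 0, 1, 3, 3, 4, 0, 2, 2, 0, 0, 4, 3, 2, 3, 4]),
   (0xf2045f, [3, 3, 3, 1, 2, 2, 0, 2, 2, 3, 2, 3, 1, 0, 4])]


/-- the word attached to a mask. -/
def dodWord (x : ℕ) : List ℕ := (dodWords.lookup x).getD []

/-- check for one code word. -/
def chkDod (x : ℕ) : Bool :=
  !(x &&& 0x1F == 0x1F && pc x == 12) || pm (wact (winv (dodWord x))) x == 0x5335f

theorem chkDod_all : allRange (fun c => chkDod (enc c)) 12 0 = true := by decide +kernel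

/-- the dodecad of squares. -/
def D0 : Finset GolayPt := unmask 0x5335f

theorem D0_mem : D0 ∈ dodecads := by
  rw [D0, mem_dodecads_iff, mask_unmask (by norm_num)]
  decide +kernel

theorem dodecad_to_D0 {d : Finset GolayPt} (hd : d ∈ dodecads) : ∃ u ∈ M24, u • d = D0 := by
  obtain ⟨u, hu, h⟩ := exists_map_to_base d (by rw [hd.2]; norm_num)
  have hud := smul_mem_dodecads (H_le hu) hd
  have h1 := forall_code chkDod chkDod_all _ hud.1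
  have h2 := mask_and_base h
  have h3 : pc (mask (u • d)) = 12 := by rw [← card_eq_pc]; exact hud.2
  unfold chkDod at h1
  rw [h2, h3] at h1
  simp only [beq_self_eq_true, Bool.and_self, Bool.not_true, Bool.false_or, beq_iff_eq] at h1
  refine ⟨wperm (dodWord (mask (u • d))) * u, M24.mul_mem (wperm_mem _) (H_le hu), ?_⟩
  apply mask_injective
  rw [mul_smul, mask_wperm_smul, h1, D0, mask_unmask (by norm_num)]

theorem trans_dodecads {d d' : Finset GolayPt} (hd : d ∈ dodecads) (hd' : d' ∈ dodecads) :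
    ∃ g ∈ M24, g • d = d' := by
  obtain ⟨u, hu, h⟩ := dodecad_to_D0 hd
  obtain ⟨v, hv, h'⟩ := dodecad_to_D0 hd'
  refine ⟨v⁻¹ * u, M24.mul_mem (M24.inv_mem hv) hu, ?_⟩
  rw [mul_smul, h, ← h', inv_smul_smul]

end Cfsg.Agent.Lib.Helper3
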