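import Mathlib
import Cfsg.Agent.Lib.Helper3.M24Trans

set_option autoImplicit false

namespace Cfsg.Agent.Lib.Helper3

open Cfsg
open scoped Pointwise

/-- transversal words for the stabiliser of the dodecad of squares. -/
def tr12 : ℕ → List (List ℕ)
  | 0 => [[3, 4, 3, 3, 3, 2, 0, 2, 2, 0],
      [2, 0, 1, 3, 3, 4, 0, 0, 0, 0, 1],
      [2, 3, 1, 2, 3, 1, 0, 0, 2],
      [0, 2, 3, 2, 2, 0, 0, 0, 2, 0, 2],
      [1, 0, 2, 2, 3, 1, 0, 0, 2, 0],
      [],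
      [1, 3, 1, 0, 0, 4, 3, 4, 0, 1],
      [],
      [1, 3, 3, 2, 3, 1, 0, 4, 0, 0, 4],
      [4, 4, 0, 0, 2, 2, 3, 2, 0, 0, 0],
      [],
      [],
      [2, 2, 3, 3, 3, 1, 3, 4, 0],
      [2, 3, 1, 0, 0, 1, 4, 0, 0, 0],
      [],
      [],
      [2, 3, 4, 4, 3, 2, 2, 0, 4, 3, 2],
      [],
      [2, 3, 2, 3, 4, 0, 4, 3, 2, 3, 2],
      [],
      [],
      [],
      [],
      []]
  | 1 => [[],
      [],
      [2, 2],
      [2, 0, 1, 3, 4, 3, 4, 3, 1, 4, 3],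
      [3, 4, 4, 3, 4, 0, 0, 0, 2, 0, 2],
      [],
      [2],
      [],
      [3, 4, 3, 3, 3, 2, 0, 2, 2, 0, 4],
      [1, 2, 0, 2, 0, 4, 3, 3, 2, 3, 1],
      [],
      [],
      [3, 4, 3, 3, 3, 2, 0, 2, 2, 0],
      [1, 0, 4, 0, 0, 2, 3, 4, 3, 1],
      [],
      [],
      [1, 3, 2, 3, 4, 0, 4, 3, 2, 3, 1],
      [],
      [4],
      [],
      [],
      [],
      [],
      []]
  | 2 => [[],
      [],
      [],
      [4, 0, 1, 3, 4, 3, 4, 3, 1, 4, 3, 2, 2],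
      [3, 2, 0, 1, 4, 3, 3, 3, 2, 0, 2, 3, 0, 0, 2, 0, 0, 4, 3, 4, 0, 0, 4],
      [],
      [0, 4, 3, 4, 0, 0, 0, 2, 1, 3, 4, 0, 4, 4, 3, 3, 1, 0, 4, 0, 2, 0, 0],
      [],
      [1, 3, 4, 4, 3, 2, 2, 0, 4, 3, 1, 4],
      [1, 4, 3, 2, 3, 4, 0, 4, 3, 2, 3, 1, 2],
      [],
      [],
      [0, 4, 3, 4, 0, 0, 0, 2, 1, 3, 4, 0, 0, 0, 0, 2, 3, 1, 4, 3, 4, 3],
      [3, 4, 0, 4, 0, 0, 4, 3, 1, 0, 2, 0, 1, 3],
      [],
      [],
      [3, 2, 0, 1, 4, 3, 3, 3, 2, 0, 2, 3, 0, 0, 2, 2, 0, 4, 0, 1, 3, 3, 3, 1],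
      [],
      [1, 4, 3, 4, 3, 3, 3, 2, 0, 2, 2, 0, 1],
      [],
      [],
      [],
      [],
      []]
  | 3 => [[],
      [],
      [],
      [],
      [3, 4, 4, 0, 4, 0, 4, 3, 3, 4, 1, 0, 4, 1, 3, 3, 4, 3, 4, 3, 4, 3],
      [],
      [0, 1, 3, 4, 3, 4, 3, 1, 4, 3],
      [],
      [1, 3, 4, 0, 1, 4, 3, 4, 4, 3, 4, 0, 2, 3, 3, 3, 4, 4, 0, 1, 2, 0, 4, 3, 1, 2, 3],
      [1, 3, 3, 3, 4, 0, 4, 4, 3, 3, 1],
      [],
      [],
      [1, 3, 4, 0, 1, 4, 3, 4, 4, 3, 4, 0, 2, 3, 3, 3, 1, 0, 2, 3, 4, 3, 2, 0, 0, 0, 0],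
      [4, 3, 4, 3, 3, 2, 2, 3, 2, 0, 4, 3, 4, 3, 4, 1, 4, 0, 4, 3, 2, 2, 3, 1],
      [],
      [],
      [1, 0, 0, 2, 2, 3, 2, 0, 0, 0, 1],
      [],
      [2, 3, 1, 4, 3, 1, 2, 3, 4, 3, 3, 2, 3, 4, 3, 1, 2, 0, 0, 0, 2, 0, 4, 4, 3, 1],
      [],
      [],
      [],
      [],
      []]
  | 4 => [[],
      [],
      [],
      [],
      [],
      [],
      [0, 2, 0, 4, 4, 3, 4, 4, 1, 3, 4, 3, 2, 1, 0, 4, 1, 2, 0, 0, 2, 3, 4, 3, 3, 3, 3, 1, 4],
      [],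
      [2, 0, 4, 0, 2, 3, 3, 4, 4, 3, 2, 0, 0, 1, 3, 2, 1, 4, 4, 0, 4, 0, 2, 3, 2, 3, 3, 1],
      [3, 4, 3, 1, 4, 3, 3, 3, 4, 0, 4, 3, 4, 3, 4, 4, 1, 2, 0, 4, 3, 2, 0, 0, 4, 3, 1],
      [],
      [],
      [3, 4, 4, 3, 4, 0, 0, 0, 2, 0, 4, 4],
      [0, 2, 0, 4, 0, 0, 2, 0, 4, 1, 0, 2, 1, 0, 4, 1, 2, 3, 1, 2, 3, 2, 0, 0, 2, 3, 4, 3],
      [],
      [],
      [0, 0, 4, 0, 1, 2, 2, 0, 0, 2, 3, 3, 2, 0, 0, 3, 3, 2, 0, 1, 4, 3, 3, 3, 2, 0, 2],
      [],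
      [1, 3, 3, 2, 0, 0, 0, 4, 4, 3, 4, 0, 4, 3, 4, 1, 0, 2, 3, 3, 3, 3, 1, 4, 0, 2, 3, 3, 1],
      [],
      [],
      [],
      [],
      []]
  | _ => []

/-- possible images of base point `k` in the stabiliser of the dodecad of squares. -/
def allow12 : ℕ → ℕ
  | 0 => 0x5335f
  | 1 => 0x5335e
  | 2 => 0x5335c
  | 3 => 0x53358
  | _ => 0x53350

/-- check of the transversal at level `k`. -/
def chk12 (k : ℕ) : Bool :=
  (List.range 24).all fun q =>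
    !((allow12 k).testBit q) ||
      ((List.range k).all (fun j => wact ((tr12 k).getD q []) (bidx j) == bidx j) &&
        wact ((tr12 k).getD q []) q == bidx k &&
        pm (wact (winv ((tr12 k).getD q []))) 0x5335f == 0x5335f)

theorem chk12_all : ∀ k < 5, chk12 k = true := by decide +kernel

theorem level12_spec (k : ℕ) (hk : k < 5) (q : GolayPt)
    (hq : (allow12 k).testBit (idx q) = true) :
    ∃ u ∈ M24, u • D0 = D0 ∧ Fixes k u ∧ u q = bpt k := by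
  have h := chk12_all k hk
  unfold chk12 at h
  rw [List.all_eq_true] at h
  have h1 := h (idx q) (List.mem_range.mpr (idx_lt q))
  rw [hq] at h1
  simp only [Bool.not_true, Bool.false_or, Bool.and_eq_true, List.all_eq_true, List.mem_range,
    beq_iff_eq] at h1
  refine ⟨wperm ((tr12 k).getD (idx q) []), wperm_mem _, ?_, ?_, ?_⟩
  · apply mask_injective
    rw [mask_wperm_smul, D0, mask_unmask (by norm_num)]
    exact h1.2
  · intro j hj
    apply idx_injective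
    rw [idx_wperm, idx_bpt]
    exact h1.1.1 j hj
  · apply idx_injective
    rw [idx_wperm, idx_bpt]
    exact h1.1.2

/-- the chain of stabilisers inside the stabiliser of the dodecad of squares. -/
def L (k : ℕ) : Subgroup (Equiv.Perm GolayPt) :=
  K k ⊓ MulAction.stabilizer (Equiv.Perm GolayPt) D0

theorem mem_L (k : ℕ) (g : Equiv.Perm GolayPt) :
    g ∈ L k ↔ g ∈ M24 ∧ Fixes k g ∧ g • D0 = D0 := by
  rw [L, Subgroup.mem_inf, mem_K, and_assoc]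
  rfl

theorem L_succ (k : ℕ) : L (k + 1) = L k ⊓ MulAction.stabilizer (Equiv.Perm GolayPt) (bpt k) := by
  unfold L
  rw [K, inf_right_comm]

theorem allow12_spec : ∀ k < 5, ∀ i < 24, (0x5335f : ℕ).testBit i = true → (∀ j < k, i ≠ bidx j) →
    (allow12 k).testBit i = true := by decide

theorem bpt_mem_D0 : ∀ k < 5, bpt k ∈ D0 := by
  intro k hk
  rw [D0, mem_unmask, idx_bpt]
  revert k; decide

theorem exists_L_map (x : ℕ → GolayPt) (hx : ∀ i < 5, ∀ j < 5, x i = x j → i = j)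
    (hxD : ∀ i < 5, x i ∈ D0) (k : ℕ) (hk : k ≤ 5) : ∃ u ∈ L 0, ∀ j < k, u (x j) = bpt j := by
  induction k with
  | zero => exact ⟨1, (L 0).one_mem, by simp⟩
  | succ k ih =>
    obtain ⟨u, hu, hux⟩ := ih (by omega)
    have hu' := (mem_L 0 u).1 hu
    have hq : (allow12 k).testBit (idx (u (x k))) = true := by
      apply allow12_spec k (by omega) _ (idx_lt _)
      · have := (apply_mem_of_smul_eq hu'.2.2).2 (hxD k (by omega))
        rwa [D0, mem_unmask] at this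
      · intro j hj heq
        have h1 : u (x k) = u (x j) := by
          apply idx_injective; rw [heq, hux j hj, idx_bpt]
        have := hx k (by omega) j (by omega) (u.injective h1)
        omega
    obtain ⟨v, hv, hvD, hvf, hvq⟩ := level12_spec k (by omega) _ hq
    have hvL : v ∈ L 0 := (mem_L 0 v).2 ⟨hv, fun j hj => absurd hj (Nat.not_lt_zero _), hvD⟩
    refine ⟨v * u, (L 0).mul_mem hvL hu, ?_⟩
    intro j hj
    rcases Nat.lt_succ_iff_lt_or_eq.mp hj with h | rfl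
    · show v (u (x j)) = _
      rw [hux j h, hvf j h]
    · exact hvq

theorem orbit_L {k : ℕ} (hk : k < 5) :
    MulAction.orbit (L k) (bpt k) = ↑(unmask (allow12 k)) := by
  ext q
  constructor
  · rintro ⟨⟨g, hg⟩, rfl⟩
    rw [mem_L] at hg
    show g (bpt k) ∈ unmask (allow12 k)
    rw [mem_unmask]
    apply allow12_spec k hk _ (idx_lt _)
    · have := (apply_mem_of_smul_eq hg.2.2).2 (bpt_mem_D0 k hk)
      rwa [D0, mem_unmask] at this
    · intro j hj heq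
      have h1 : g (bpt k) = g (bpt j) := by
        apply idx_injective; rw [heq, hg.2.1 j hj, idx_bpt]
      have := bpt_inj (by omega) (by omega) (g.injective h1)
      omega
  · intro hq
    have hq' : q ∈ unmask (allow12 k) := hq
    rw [mem_unmask] at hq'
    obtain ⟨u, hu, huD, huf, huq⟩ := level12_spec k hk q hq'
    have hmem : u⁻¹ ∈ L k := by
      apply (L k).inv_mem
      rw [mem_L]; exact ⟨hu, huf, huD⟩
    refine ⟨⟨u⁻¹, hmem⟩, ?_⟩
    show u⁻¹ (bpt k) = q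
    rw [Equiv.Perm.inv_eq_iff_eq]; exact huq.symm

theorem card_L {k : ℕ} (hk : k < 5) : Nat.card (L k) = pc (allow12 k) * Nat.card (L (k + 1)) := by
  rw [card_eq_orbit_mul (L k) (bpt k), orbit_L hk, Set.ncard_coe_finset, card_eq_pc, mask_unmask,
    L_succ]
  revert k; decide

theorem orbit_M24_dodecad {d : Finset GolayPt} (hd : d ∈ dodecads) :
    MulAction.orbit M24 d = dodecads := by
  ext r
  constructor
  · rintro ⟨⟨g, hg⟩, rfl⟩
    exact smul_mem_dodecads hg hd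
  · intro hr
    obtain ⟨g, hg, h⟩ := trans_dodecads hd hr
    exact ⟨⟨g, hg⟩, h⟩

theorem card_L0 : Nat.card (L 0) = 95040 := by
  have h := card_eq_orbit_mul M24 D0
  rw [orbit_M24_dodecad D0_mem, ncard_dodecads, card_M24] at h
  have : L 0 = M24 ⊓ MulAction.stabilizer (Equiv.Perm GolayPt) D0 := rfl
  rw [this]
  omega

theorem card_L_values : Nat.card (L 1) = 7920 ∧ Nat.card (L 2) = 720 ∧ Nat.card (L 3) = 72 ∧
    Nat.card (L 4) = 8 ∧ Nat.card (L 5) = 1 := by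
  have p : pc (allow12 0) = 12 ∧ pc (allow12 1) = 11 ∧ pc (allow12 2) = 10 ∧ pc (allow12 3) = 9 ∧
      pc (allow12 4) = 8 := by decide +kernel
  obtain ⟨p0, p1, p2, p3, p4⟩ := p
  have h0 := card_L (k := 0) (by norm_num)
  have h1 := card_L (k := 1) (by norm_num)
  have h2 := card_L (k := 2) (by norm_num)
  have h3 := card_L (k := 3) (by norm_num)
  have h4 := card_L (k := 4) (by norm_num)
  rw [p0, card_L0] at h0
  rw [p1] at h1
  rw [p2] at h2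
  rw [p3] at h3
  rw [p4] at h4
  simp only [zero_add, Nat.reduceAdd] at h0 h1 h2 h3 h4
  omega

theorem L5 : L 5 = ⊥ := by
  have h := card_L_values.2.2.2.2
  exact (Subgroup.card_eq_one).1 h

/-- sharp five-fold transitivity of the stabiliser of a dodecad on its points. -/
theorem sharp5 {d : Finset GolayPt} (hd : d ∈ dodecads) (x y : Fin 5 ↪ GolayPt)
    (hx : ∀ i, x i ∈ d) (hy : ∀ i, y i ∈ d) :
    ∃! g : Equiv.Perm GolayPt, g ∈ M24 ∧ g • d = d ∧ ∀ i, g (x i) = y i := by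
  obtain ⟨h, hh, hhd⟩ := dodecad_to_D0 hd
  have ext : ∀ z : Fin 5 ↪ GolayPt, (∀ i, z i ∈ d) → ∃ u ∈ L 0, ∀ i : Fin 5, u (h (z i)) = bpt i := by
    intro z hz
    obtain ⟨u, hu, h1⟩ := exists_L_map (fun n => if hn : n < 5 then h (z ⟨n, hn⟩) else none) (by
      intro i hi j hj hij
      simp only [hi, hj, dif_pos] at hij
      simpa using z.injective (h.injective hij)) (by
      intro i hi
      simp only [hi, dif_pos]
      rw [← hhd]
      exact Finset.smul_mem_smul_finset (hz _)) 5 le_rfl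
    refine ⟨u, hu, fun i => ?_⟩
    have := h1 i i.2
    simpa [i.2] using this
  obtain ⟨u, hu, hux⟩ := ext x hx
  obtain ⟨v, hv, hvy⟩ := ext y hy
  have hu' := (mem_L 0 u).1 hu
  have hv' := (mem_L 0 v).1 hv
  refine ⟨(v * h)⁻¹ * (u * h), ⟨?_, ?_, ?_⟩, ?_⟩
  · exact M24.mul_mem (M24.inv_mem (M24.mul_mem hv'.1 hh)) (M24.mul_mem hu'.1 hh)
  · rw [mul_smul, mul_smul, hhd, hu'.2.2, inv_smul_eq_iff, mul_smul, hhd, hv'.2.2]
  · intro i
    show (v * h)⁻¹ (u (h (x i))) = y i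
    rw [hux, Equiv.Perm.inv_eq_iff_eq]
    exact (hvy i).symm
  · rintro g ⟨hg, hgd, hgx⟩
    have he : (v * h) * g * (u * h)⁻¹ ∈ L 5 := by
      rw [mem_L]
      refine ⟨M24.mul_mem (M24.mul_mem (M24.mul_mem hv'.1 hh) hg)
        (M24.inv_mem (M24.mul_mem hu'.1 hh)), ?_, ?_⟩
      · intro j hj
        have h1 : (u * h)⁻¹ (bpt j) = x ⟨j, hj⟩ := by
          rw [Equiv.Perm.inv_eq_iff_eq]; exact (hux ⟨j, hj⟩).symm
        show (v * h) (g ((u * h)⁻¹ (bpt j))) = bpt j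
        rw [h1, hgx]
        exact hvy ⟨j, hj⟩
      · have h1 : (u * h)⁻¹ • D0 = d := by
          rw [inv_smul_eq_iff, mul_smul, hhd, hu'.2.2]
        rw [mul_smul, mul_smul, h1, hgd, mul_smul, hhd, hv'.2.2]
    rw [L5, Subgroup.mem_bot] at he
    have h2 : (v * h) * g = u * h := by
      rwa [mul_inv_eq_one] at he
    rw [eq_inv_mul_iff_mul_eq]; exact h2

theorem trans_in_dodecad {d : Finset GolayPt} (hd : d ∈ dodecads) {p q : GolayPt} (hp : p ∈ d)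
    (hq : q ∈ d) : ∃ g ∈ M24, g • d = d ∧ g p = q := by
  obtain ⟨h, hh, hhd⟩ := dodecad_to_D0 hd
  have key : ∀ r ∈ d, ∃ u ∈ M24, u • D0 = D0 ∧ u (h r) = bpt 0 := by
    intro r hr
    have h1 : h r ∈ D0 := by rw [← hhd]; exact Finset.smul_mem_smul_finset hr
    rw [D0, mem_unmask] at h1
    obtain ⟨u, hu, huD, _, huq⟩ := level12_spec 0 (by norm_num) (h r) h1
    exact ⟨u, hu, huD, huq⟩
  obtain ⟨u, hu, huD, hup⟩ := key p hp
  obtain ⟨v, hv, hvD, hvq⟩ := key q hq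
  refine ⟨(v * h)⁻¹ * (u * h), ?_, ?_, ?_⟩
  · exact M24.mul_mem (M24.inv_mem (M24.mul_mem hv hh)) (M24.mul_mem hu hh)
  · rw [mul_smul, mul_smul, hhd, huD, inv_smul_eq_iff, mul_smul, hhd, hvD]
  · show (v * h)⁻¹ (u (h p)) = q
    rw [hup, Equiv.Perm.inv_eq_iff_eq]
    exact hvq.symm

end Cfsg.Agent.Lib.Helper3
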