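import Mathlib
import Cfsg.Agent.Lib.Helper3.PointData
import Cfsg.Agent.Lib.Helper3.M12Chain

set_option autoImplicit false

namespace Cfsg.Agent.Lib.Helper3

open Cfsg
open scoped Pointwise

theorem StabM_mono {ms ms' : List ℕ} (h : ∀ m ∈ ms, m ∈ ms') : StabM ms' ≤ StabM ms :=
  fun _ hg => ⟨hg.1, fun m hm => hg.2 m (h m hm)⟩

theorem not_mem_of_stab {σ : Equiv.Perm GolayPt} {s : Finset GolayPt} (h : σ • s = s) {q : GolayPt}
    (hq : q ∉ s) : σ q ∉ s := by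
  intro hc
  rw [← h] at hc
  exact hq ((Finset.smul_mem_smul_finset_iff σ).1 hc)

/-- three distinct points outside the dodecad of squares can be moved to standard positions by an
element fixing the dodecad and its first point. -/
theorem M11_three (z : Fin 3 ↪ GolayPt) (hz : ∀ i, z i ∉ D0) :
    ∃ σ ∈ StabM [0x5335f, 1], σ (z 0) = pt 5 ∧ σ (z 1) = pt 7 ∧ σ (z 2) = pt 10 := by
  have t0 : ∀ i < 24, ¬ (0x5335f : ℕ).testBit i = true → (0xacca0 ||| 0xf00000 : ℕ).testBit i = true := by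
    decide
  have t1 : ∀ i < 24, ¬ (0x5335f : ℕ).testBit i = true → i ≠ 5 → (0xfacc80 : ℕ).testBit i = true := by
    decide
  have t2 : ∀ i < 24, ¬ (0x5335f : ℕ).testBit i = true → i ≠ 5 → i ≠ 7 →
      (0xfacc00 : ℕ).testBit i = true := by decide
  have nm : ∀ q : GolayPt, q ∉ D0 → ¬ (0x5335f : ℕ).testBit (idx q) = true := by
    intro q hq; rwa [D0, mem_unmask] at hq
  have ne : ∀ (q : GolayPt) (i : ℕ), i < 24 → q ≠ pt i → idx q ≠ i := by
    intro q i _ hq hc; apply hq; rw [← pt_idx q, hc]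
  obtain ⟨σ0, hσ0, h0⟩ := point_trans gensP0 orbP0 (z 0) (t0 _ (idx_lt _) (nm _ (hz 0)))
  have s0 : σ0 • D0 = D0 := hσ0.2 _ (by simp)
  have z01 : z 0 ≠ z 1 := fun h => by simpa using z.injective h
  have z02 : z 0 ≠ z 2 := fun h => by simpa using z.injective h
  have z12 : z 1 ≠ z 2 := fun h => by simpa using z.injective h
  have a1 : σ0 (z 1) ≠ pt 5 := by rw [← h0]; exact fun h => z01 (σ0.injective h).symm
  have a2 : σ0 (z 2) ≠ pt 5 := by rw [← h0]; exact fun h => z02 (σ0.injective h).symm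
  obtain ⟨σ1, hσ1, h1⟩ := point_trans gensP1 orbP1 (σ0 (z 1))
    (t1 _ (idx_lt _) (nm _ (not_mem_of_stab s0 (hz 1))) (ne _ 5 (by norm_num) a1))
  have s1 : σ1 • D0 = D0 := hσ1.2 _ (by simp)
  have f1 : σ1 (pt 5) = pt 5 := fix_of_smul (i := 5) (m := 32) (by norm_num) rfl (hσ1.2 _ (by simp))
  have b2 : σ1 (σ0 (z 2)) ≠ pt 5 := by
    intro h; rw [← f1] at h; exact a2 (σ1.injective h)
  have b2' : σ1 (σ0 (z 2)) ≠ pt 7 := by
    rw [← h1]; exact fun h => z12 (σ0.injective (σ1.injective h)).symm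
  obtain ⟨σ2, hσ2, h2⟩ := point_trans gensP2 orbP2 (σ1 (σ0 (z 2)))
    (t2 _ (idx_lt _) (nm _ (not_mem_of_stab s1 (not_mem_of_stab s0 (hz 2))))
      (ne _ 5 (by norm_num) b2) (ne _ 7 (by norm_num) b2'))
  have g5 : σ2 (pt 5) = pt 5 := fix_of_smul (i := 5) (m := 32) (by norm_num) rfl (hσ2.2 _ (by simp))
  have g7 : σ2 (pt 7) = pt 7 := fix_of_smul (i := 7) (m := 128) (by norm_num) rfl (hσ2.2 _ (by simp))
  refine ⟨σ2 * σ1 * σ0, ?_, ?_, ?_, ?_⟩
  · apply Subgroup.mul_mem _ (Subgroup.mul_mem _ _ _) hσ0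
    · exact StabM_mono (by simp) hσ2
    · exact StabM_mono (by simp) hσ1
  · show σ2 (σ1 (σ0 (z 0))) = _
    rw [h0, f1, g5]
  · show σ2 (σ1 (σ0 (z 1))) = _
    rw [h1, g7]
  · exact h2

/-- a dodecad and a point of it can be moved to the standard ones. -/
theorem dodecad_point_to_std {d : Finset GolayPt} (hd : d ∈ dodecads) {x : GolayPt} (hx : x ∈ d) :
    ∃ u ∈ M24, u • d = D0 ∧ u x = pt 0 := by
  obtain ⟨u1, hu1, hu1d⟩ := dodecad_to_D0 hd
  have hx1 : (allow12 0).testBit (idx (u1 x)) = true := by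
    have : u1 x ∈ D0 := by rw [← hu1d]; exact Finset.smul_mem_smul_finset hx
    rwa [D0, mem_unmask] at this
  obtain ⟨u2, hu2, hu2d, _, hu2x⟩ := level12_spec 0 (by norm_num) _ hx1
  exact ⟨u2 * u1, M24.mul_mem hu2 hu1, by rw [mul_smul, hu1d, hu2d], hu2x⟩

end Cfsg.Agent.Lib.Helper3
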