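import Mathlib
import Cfsg.Agent.Lib.Helper3.M11Trans

set_option autoImplicit false

namespace Cfsg.Agent.Lib.Helper3

open Cfsg
open scoped Pointwise

/-- extend a list of distinct points of a set to a list of five distinct points of it. -/
theorem extend_list (o : Finset GolayPt) (ho : 5 ≤ o.card) (l : List GolayPt) (hl : l.Nodup)
    (hlo : ∀ p ∈ l, p ∈ o) (hlen : l.length ≤ 5) :
    ∃ x : ℕ → GolayPt, (∀ i < 5, ∀ j < 5, x i = x j → i = j) ∧ (∀ i < 5, x i ∈ o) ∧
      ∀ j (hj : j < l.length), x j = l[j] := by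
  classical
  have hsub : l.toFinset ⊆ o := by
    intro p hp; exact hlo p (List.mem_toFinset.1 hp)
  have hcard : l.toFinset.card = l.length := List.toFinset_card_of_nodup hl
  have h1 : 5 - l.length ≤ (o \ l.toFinset).card := by
    rw [Finset.card_sdiff_of_subset hsub, hcard]; omega
  obtain ⟨t, hts, ht⟩ := Finset.exists_subset_card_eq h1
  set l' := l ++ t.toList with hl'
  have hlen' : l'.length = 5 := by
    rw [hl', List.length_append, Finset.length_toList, ht]; omega
  have hnd : l'.Nodup := by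
    rw [hl', List.nodup_append]
    refine ⟨hl, t.nodup_toList, ?_⟩
    intro a ha b hb hab
    have hb' := hts (Finset.mem_toList.1 hb)
    rw [Finset.mem_sdiff] at hb'
    exact hb'.2 (List.mem_toFinset.2 (hab ▸ ha))
  have hmem : ∀ p ∈ l', p ∈ o := by
    intro p hp
    rw [hl', List.mem_append] at hp
    rcases hp with hp | hp
    · exact hlo p hp
    · exact (Finset.mem_sdiff.1 (hts (Finset.mem_toList.1 hp))).1
  have hget : ∀ i (hi : i < 5), l'.getD i none = l'[i]'(by omega) := by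
    intro i hi
    rw [List.getD_eq_getElem?_getD, List.getElem?_eq_getElem (by omega), Option.getD_some]
  refine ⟨fun n => l'.getD n none, ?_, ?_, ?_⟩
  · intro i hi j hj hij
    simp only [hget i hi, hget j hj] at hij
    exact (List.Nodup.getElem_inj_iff hnd).1 hij
  · intro i hi
    simp only [hget i hi]
    exact hmem _ (List.getElem_mem _)
  · intro j hj
    simp only [hget j (by omega)]
    simp only [hl']
    rw [List.getElem_append_left hj]

theorem dodecad_to_D0_list {d : Finset GolayPt} (hd : d ∈ dodecads) (l : List GolayPt)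
    (hl : l.Nodup) (hlo : ∀ p ∈ l, p ∈ d) (hlen : l.length ≤ 5) :
    ∃ u ∈ M24, u • d = D0 ∧ ∀ j (hj : j < l.length), u l[j] = bpt j := by
  obtain ⟨x, hx1, hx2, hx3⟩ := extend_list d (by rw [hd.2]; norm_num) l hl hlo hlen
  obtain ⟨u1, hu1, hu1d⟩ := dodecad_to_D0 hd
  obtain ⟨u2, hu2, h2⟩ := exists_L_map (fun n => u1 (x n))
    (fun i hi j hj hij => hx1 i hi j hj (u1.injective hij))
    (fun i hi => by rw [← hu1d]; exact Finset.smul_mem_smul_finset (hx2 i hi)) 5 le_rfl
  have hu2' := (mem_L 0 u2).1 hu2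
  refine ⟨u2 * u1, M24.mul_mem hu2'.1 hu1, by rw [mul_smul, hu1d, hu2'.2.2], ?_⟩
  intro j hj
  rw [← hx3 j hj]
  exact h2 j (by omega)

/-- the order of a subgroup of the code's group from that of a conjugate. -/
theorem card_conj_subgroup {u : Equiv.Perm GolayPt} (A : Subgroup ↥M24)
    (B : Subgroup (Equiv.Perm GolayPt))
    (h : ∀ g : Equiv.Perm GolayPt, (∃ hg : g ∈ M24, (⟨g, hg⟩ : ↥M24) ∈ A) ↔ u * g * u⁻¹ ∈ B) :
    Nat.card A = Nat.card B := by
  apply Nat.card_congr
  refine Equiv.ofBijective (fun a => ⟨u * a.1.1 * u⁻¹, (h a.1.1).1 ⟨a.1.2, a.2⟩⟩) ⟨?_, ?_⟩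
  · intro a b hab
    have h1 : u * a.1.1 * u⁻¹ = u * b.1.1 * u⁻¹ := congrArg Subtype.val hab
    have h2 : a.1.1 = b.1.1 := by
      have := mul_right_cancel h1
      exact mul_left_cancel this
    exact Subtype.ext (Subtype.ext h2)
  · intro b
    have h1 : u * (u⁻¹ * b.1 * u) * u⁻¹ ∈ B := by
      have : u * (u⁻¹ * b.1 * u) * u⁻¹ = b.1 := by group
      rw [this]; exact b.2
    obtain ⟨hg, hA⟩ := (h _).2 h1
    refine ⟨⟨⟨_, hg⟩, hA⟩, ?_⟩
    apply Subtype.ext
    show u * (u⁻¹ * b.1 * u) * u⁻¹ = b.1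
    group

theorem conj_mem_M24_iff {u g : Equiv.Perm GolayPt} (hu : u ∈ M24) :
    u * g * u⁻¹ ∈ M24 ↔ g ∈ M24 := by
  constructor
  · intro h
    have : g = u⁻¹ * (u * g * u⁻¹) * u := by group
    rw [this]
    exact M24.mul_mem (M24.mul_mem (M24.inv_mem hu) h) hu
  · intro h
    exact M24.mul_mem (M24.mul_mem hu h) (M24.inv_mem hu)

theorem conj_smul_iff {α : Type*} [MulAction (Equiv.Perm GolayPt) α] {u g : Equiv.Perm GolayPt}
    {y Y : α} (hy : u • y = Y) : (u * g * u⁻¹) • Y = Y ↔ g • y = y := by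
  rw [← hy, mul_smul, mul_smul, inv_smul_smul]
  exact (MulAction.injective u).eq_iff

end Cfsg.Agent.Lib.Helper3
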