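import Mathlib

set_option autoImplicit false

namespace Cfsg.Agent.Lib.Helper3

open Subgroup

/-- a Sylow subgroup of prime order lies in every normal subgroup of order divisible by `p`. -/
theorem sylow_le_normal {G : Type*} [Group G] [Finite G] {p : ℕ} [Fact p.Prime] (P : Sylow p G)
    (hP : Nat.card (P : Subgroup G) = p) (N : Subgroup G) [N.Normal] (hN : p ∣ Nat.card N) :
    (P : Subgroup G) ≤ N := by
  have hp := (Fact.out : p.Prime)
  have h1 : ¬ p ∣ Nat.card (G ⧸ N) := by
    intro h
    have h2 : Nat.card G = Nat.card (G ⧸ N) * Nat.card N :=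
      Subgroup.card_eq_card_quotient_mul_card_subgroup N
    have h3 : Nat.card G = Nat.card (P : Subgroup G) * (P : Subgroup G).index := (Subgroup.card_mul_index _).symm
    have h4 := P.not_dvd_index
    obtain ⟨a, ha⟩ := h
    obtain ⟨b, hb⟩ := hN
    rw [ha, hb, h3, hP] at h2
    apply h4
    have : (P : Subgroup G).index = p * (a * b) := by
      apply Nat.eq_of_mul_eq_mul_left hp.pos
      rw [h2]; ring
    exact ⟨_, this⟩
  intro x hx
  rw [← QuotientGroup.eq_one_iff]
  have h5 : orderOf (x : G ⧸ N) ∣ p := by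
    have h7 : orderOf x ∣ p := by
      have h8 := orderOf_dvd_natCard (⟨x, hx⟩ : (P : Subgroup G))
      rw [hP] at h8
      rwa [Subgroup.orderOf_mk] at h8
    exact (orderOf_map_dvd (QuotientGroup.mk' N) x).trans h7
  have h6 : orderOf (x : G ⧸ N) ∣ Nat.card (G ⧸ N) := orderOf_dvd_natCard _
  rcases (Nat.dvd_prime hp).1 h5 with h | h
  · exact orderOf_eq_one_iff.1 h
  · exact absurd (h ▸ h6) h1

/-- simplicity from a Sylow subgroup of prime order whose normaliser has order `p * m`,
`m` prime. -/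
theorem simple_of_sylow {G : Type*} [Group G] [Finite G] (p m : ℕ) [Fact p.Prime] (hm : m.Prime)
    (P : Sylow p G) (hP : Nat.card (P : Subgroup G) = p)
    (hN : Nat.card (normalizer ((P : Subgroup G) : Set G)) = p * m) (hG : Nat.card G ≠ p * m)
    (hnorm : ∀ N : Subgroup G, N.Normal → N ≠ ⊥ → p ∣ Nat.card N) : IsSimpleGroup G := by
  have hp := (Fact.out : p.Prime)
  have hnt : Nontrivial G := by
    rw [← Finite.one_lt_card_iff_nontrivial]
    have h1 : Nat.card (P : Subgroup G) ∣ Nat.card G := Subgroup.card_subgroup_dvd_card _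
    rw [hP] at h1
    exact lt_of_lt_of_le hp.one_lt (Nat.le_of_dvd Nat.card_pos h1)
  refine ⟨fun N hNn => ?_⟩
  by_cases hbot : N = ⊥
  · exact Or.inl hbot
  right
  have hpN := hnorm N hNn hbot
  have hPN : (P : Subgroup G) ≤ N := sylow_le_normal P hP N hpN
  have hfr : normalizer ((P : Subgroup G) : Set G) ⊔ N = ⊤ := Sylow.normalizer_sup_eq_top' P hPN
  set M := normalizer ((P : Subgroup G) : Set G) ⊓ N with hM
  have hPM : (P : Subgroup G) ≤ M := le_inf le_normalizer hPN
  have h1 : p ∣ Nat.card M := hP ▸ Subgroup.card_dvd_of_le hPM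
  have h2 : Nat.card M ∣ p * m := hN ▸ Subgroup.card_dvd_of_le inf_le_left
  obtain ⟨j, hj⟩ := h1
  have hjm : j ∣ m := by
    rw [hj] at h2
    exact Nat.dvd_of_mul_dvd_mul_left hp.pos h2
  rcases (Nat.dvd_prime hm).1 hjm with rfl | rfl
  · -- the normaliser in `N` is `P`
    exfalso
    have hMP : M = (P : Subgroup G) := by
      symm
      apply Subgroup.eq_of_le_of_card_ge hPM
      rw [hP, hj, mul_one]
    have hcomm : ∀ a ∈ (P : Subgroup G), ∀ b ∈ (P : Subgroup G), a * b = b * a := by
      have hcyc : IsCyclic (P : Subgroup G) := isCyclic_of_prime_card hP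
      intro a ha b hb
      have := (IsCyclic.isMulCommutative (α := (P : Subgroup G))).is_comm.comm ⟨a, ha⟩ ⟨b, hb⟩
      exact congrArg Subtype.val this
    set PN : Sylow p ↥N := P.subtype hPN with hPNdef
    have hmemPN : ∀ x : ↥N, x ∈ (PN : Subgroup ↥N) ↔ (x : G) ∈ (P : Subgroup G) := by
      intro x
      rw [hPNdef, Sylow.coe_subtype, Subgroup.mem_subgroupOf]
    have hnc : normalizer ((PN : Subgroup ↥N) : Set ↥N) ≤
        centralizer ((PN : Subgroup ↥N) : Set ↥N) := by
      intro x hx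
      have hxM : (x : G) ∈ M := by
        refine Subgroup.mem_inf.2 ⟨?_, x.2⟩
        rw [Subgroup.mem_normalizer_iff]
        intro h
        rw [Subgroup.mem_normalizer_iff] at hx
        constructor
        · intro hh
          have := (hx ⟨h, hPN hh⟩).1 ((hmemPN _).2 hh)
          exact (hmemPN _).1 this
        · intro hh
          have hhN : h ∈ N := by
            have h5 := hPN hh
            have h6 : h = (x : G)⁻¹ * ((x : G) * h * (x : G)⁻¹) * (x : G) := by group
            rw [h6]
            exact N.mul_mem (N.mul_mem (N.inv_mem x.2) h5) x.2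
          have := (hx ⟨h, hhN⟩).2 ((hmemPN _).2 hh)
          exact (hmemPN _).1 this
      rw [hMP] at hxM
      rw [Subgroup.mem_centralizer_iff]
      intro y hy
      apply Subtype.ext
      exact hcomm _ ((hmemPN y).1 hy) _ hxM
    have hK := MonoidHom.ker_transferSylow_isComplement' PN hnc
    have hKp := MonoidHom.not_dvd_card_ker_transferSylow PN hnc
    set K := (MonoidHom.transferSylow PN hnc).ker with hKdef
    have hcardPN : Nat.card (PN : Subgroup ↥N) = p := by
      rw [hPNdef, Sylow.coe_subtype]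
      exact (Nat.card_congr (Subgroup.subgroupOfEquivOfLe hPN).toEquiv).trans hP
    have hK1n : (K.map N.subtype).Normal := by
      constructor
      rintro _ ⟨x, hx, rfl⟩ g
      have hyN : g * (x : G) * g⁻¹ ∈ N := hNn.conj_mem _ x.2 g
      refine ⟨⟨_, hyN⟩, ?_, rfl⟩
      rw [SetLike.mem_coe, hKdef, MonoidHom.mem_ker]
      set t := MonoidHom.transferSylow PN hnc ⟨_, hyN⟩ with ht
      have h5 : orderOf t ∣ p := by
        have h10 := orderOf_dvd_natCard t
        rwa [hcardPN] at h10
      have h6 : orderOf t ∣ Nat.card K := by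
        have h7 : orderOf t ∣ orderOf (⟨_, hyN⟩ : ↥N) := orderOf_map_dvd _ _
        have h8 : orderOf (⟨_, hyN⟩ : ↥N) = orderOf x := by
          rw [← Subgroup.orderOf_coe, ← Subgroup.orderOf_coe]
          have : g * (x : G) * g⁻¹ = MulAut.conj g (x : G) := rfl
          show orderOf (g * (x : G) * g⁻¹) = _
          rw [this, MulEquiv.orderOf_eq]
        have h9 : orderOf x ∣ Nat.card K := by
          have := orderOf_dvd_natCard (⟨x, hx⟩ : K)
          rwa [Subgroup.orderOf_mk] at this
        exact h7.trans (h8 ▸ h9)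
      rcases (Nat.dvd_prime hp).1 h5 with h | h
      · exact orderOf_eq_one_iff.1 h
      · exact absurd (h ▸ h6) hKp
    have hcardK1 : Nat.card (K.map N.subtype) = Nat.card K :=
      Subgroup.card_map_of_injective N.subtype_injective
    have hK1bot : K.map N.subtype = ⊥ := by
      by_contra hne
      exact hKp (hcardK1 ▸ hnorm _ hK1n hne)
    have hKone : Nat.card K = 1 := by
      rw [← hcardK1, hK1bot]; exact Subgroup.card_bot
    have hcardN : Nat.card N = p := by
      have := hK.card_mul_card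
      rw [hKone, one_mul, hcardPN] at this
      exact this.symm
    have hNP : (P : Subgroup G) = N := by
      apply Subgroup.eq_of_le_of_card_ge hPN
      rw [hcardN, hP]
    have hPn : (P : Subgroup G).Normal := hNP ▸ hNn
    apply hG
    rw [← hN, Subgroup.normalizer_eq_top_iff.2 hPn]
    exact Subgroup.card_top.symm
  · have h3 : M = normalizer ((P : Subgroup G) : Set G) := by
      apply Subgroup.eq_of_le_of_card_ge inf_le_left
      rw [hN, hj]
    have h4 : normalizer ((P : Subgroup G) : Set G) ≤ N := h3 ▸ inf_le_right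
    rwa [sup_eq_right.2 h4] at hfr

/-- the order of the normaliser of a Sylow subgroup of prime order. -/
theorem card_normalizer_sylow {G : Type*} [Group G] [Finite G] (p : ℕ) [Fact p.Prime]
    (P : Sylow p G) (hP : Nat.card (P : Subgroup G) = p) :
    ∃ r n, r ∣ p - 1 ∧ Nat.card (normalizer ((P : Subgroup G) : Set G)) =
      Nat.card (centralizer ((P : Subgroup G) : Set G)) * r ∧
      Nat.card G = Nat.card (normalizer ((P : Subgroup G) : Set G)) * n ∧ n % p = 1 := by
  have hp := (Fact.out : p.Prime)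
  have hcyc : IsCyclic (P : Subgroup G) := isCyclic_of_prime_card hP
  have key := Subgroup.card_dvd_of_injective _
    (QuotientGroup.kerLift_injective (P : Subgroup G).normalizerMonoidHom)
  rw [normalizerMonoidHom_ker, ← index, ← relIndex, hcyc.card_mulAut, hP,
    Nat.totient_prime hp] at key
  refine ⟨_, (normalizer ((P : Subgroup G) : Set G)).index, key, ?_, ?_, ?_⟩
  · have h1 := Subgroup.card_mul_index
      ((centralizer ((P : Subgroup G) : Set G)).subgroupOf (normalizer ((P : Subgroup G) : Set G)))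
    rw [← h1]
    congr 1
    exact Nat.card_congr (Subgroup.subgroupOfEquivOfLe
      (centralizer_le_normalizer ((P : Subgroup G) : Set G))).toEquiv
  · exact (Subgroup.card_mul_index _).symm
  · have h1 := card_sylow_modEq_one p G
    rw [P.card_eq_index_normalizer] at h1
    have h2 : 1 % p = 1 := Nat.mod_eq_of_lt hp.one_lt
    rw [← h2]
    exact h1

/-- a faithful doubly transitive action on an invariant set. -/
structure TwoTrans (G : Type*) {α : Type*} [Group G] [MulAction G α] (Δ : Set α) : Prop where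
  inv : ∀ (g : G), ∀ a ∈ Δ, g • a ∈ Δ
  faithful : ∀ g : G, (∀ a ∈ Δ, g • a = a) → g = 1
  trans2 : ∀ a ∈ Δ, ∀ b ∈ Δ, ∀ c ∈ Δ, b ≠ a → c ≠ a → ∃ g : G, g • a = a ∧ g • b = c

section action

variable {G α : Type*} [Group G] [MulAction G α] {Δ : Set α}

/-- a nontrivial normal subgroup of a doubly transitive group is transitive. -/
theorem TwoTrans.normal_trans (h : TwoTrans G Δ) (N : Subgroup G) [hn : N.Normal] (hN : N ≠ ⊥) :
    ∀ a ∈ Δ, ∀ c ∈ Δ, ∃ n ∈ N, n • a = c := by
  obtain ⟨⟨n0, hn0⟩, hne⟩ := (Subgroup.ne_bot_iff_exists_ne_one).1 hN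
  have hne' : n0 ≠ 1 := fun h1 => hne (Subtype.ext h1)
  have hex : ∃ a0 ∈ Δ, n0 • a0 ≠ a0 := by
    by_contra hcon
    push Not at hcon
    exact hne' (h.faithful n0 hcon)
  obtain ⟨a0, ha0, hmove⟩ := hex
  have key : ∀ c ∈ Δ, ∃ n ∈ N, n • a0 = c := by
    intro c hc
    by_cases hca : c = a0
    · exact ⟨1, N.one_mem, by rw [one_smul, hca]⟩
    · obtain ⟨g, hg1, hg2⟩ := h.trans2 a0 ha0 (n0 • a0) (h.inv n0 a0 ha0) c hc hmove hca
      refine ⟨g * n0 * g⁻¹, hn.conj_mem n0 hn0 g, ?_⟩
      rw [mul_smul, mul_smul, inv_smul_eq_iff.2 hg1.symm, hg2]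
  intro a ha c hc
  obtain ⟨n1, hn1, e1⟩ := key a ha
  obtain ⟨n2, hn2, e2⟩ := key c hc
  refine ⟨n2 * n1⁻¹, N.mul_mem hn2 (N.inv_mem hn1), ?_⟩
  rw [mul_smul, ← e1, inv_smul_smul, e2]

theorem TwoTrans.orbit_normal (h : TwoTrans G Δ) (N : Subgroup G) [hn : N.Normal] (hN : N ≠ ⊥)
    {a : α} (ha : a ∈ Δ) : MulAction.orbit N a = Δ := by
  ext c
  constructor
  · rintro ⟨n, rfl⟩
    exact h.inv n.1 a ha
  · intro hc
    obtain ⟨n, hn1, e⟩ := h.normal_trans N hN a ha c hc
    exact ⟨⟨n, hn1⟩, e⟩

theorem TwoTrans.dvd_card_normal [Finite G] (h : TwoTrans G Δ) (N : Subgroup G) [hn : N.Normal]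
    (hN : N ≠ ⊥) (hΔ : Δ.Nonempty) : Δ.ncard ∣ Nat.card N := by
  obtain ⟨a, ha⟩ := hΔ
  rw [← h.orbit_normal N hN ha, ← MulAction.index_stabilizer]
  exact Subgroup.index_dvd_card _

/-- the centraliser of a Sylow subgroup of prime order acts semiregularly. -/
theorem TwoTrans.card_centralizer [Finite G] (h : TwoTrans G Δ) (hfin : Δ.Finite) (p : ℕ)
    [Fact p.Prime] (P : Sylow p G) (hP : Nat.card (P : Subgroup G) = p)
    (hfix : ∀ g : G, ∀ s : Set α, s.ncard = p → (∀ b ∈ s, g • b = b) → g = 1) :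
    ∃ c, Nat.card (centralizer ((P : Subgroup G) : Set G)) = p * c ∧ p * c ≤ Δ.ncard := by
  have hp := (Fact.out : p.Prime)
  have hcomm : ∀ a ∈ (P : Subgroup G), ∀ b ∈ (P : Subgroup G), a * b = b * a := by
    have hcyc : IsCyclic (P : Subgroup G) := isCyclic_of_prime_card hP
    intro a ha b hb
    have := (IsCyclic.isMulCommutative (α := (P : Subgroup G))).is_comm.comm ⟨a, ha⟩ ⟨b, hb⟩
    exact congrArg Subtype.val this
  have hPC : (P : Subgroup G) ≤ centralizer ((P : Subgroup G) : Set G) := by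
    intro x hx
    rw [Subgroup.mem_centralizer_iff]
    intro y hy
    exact hcomm y hy x hx
  have hdvd : p ∣ Nat.card (centralizer ((P : Subgroup G) : Set G)) := by
    have h0 := Subgroup.card_dvd_of_le hPC
    rwa [hP] at h0
  obtain ⟨c, hc⟩ := hdvd
  refine ⟨c, hc, ?_⟩
  rw [← hc]
  -- a point moved by `P`
  have hPne : (P : Subgroup G) ≠ ⊥ := by
    intro hb
    rw [hb, Subgroup.card_bot] at hP
    exact hp.one_lt.ne hP
  obtain ⟨⟨x, hx⟩, hne⟩ := (Subgroup.ne_bot_iff_exists_ne_one).1 hPne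
  have hne' : x ≠ 1 := fun h1 => hne (Subtype.ext h1)
  have hex : ∃ a0 ∈ Δ, x • a0 ≠ a0 := by
    by_contra hcon
    push Not at hcon
    exact hne' (h.faithful x hcon)
  obtain ⟨a, ha, hmove⟩ := hex
  have horb : (MulAction.orbit (P : Subgroup G) a).ncard = p := by
    have h1 : (MulAction.orbit (P : Subgroup G) a).ncard ∣ p := by
      rw [← MulAction.index_stabilizer]
      have h0 := Subgroup.index_dvd_card (MulAction.stabilizer (P : Subgroup G) a)
      rwa [hP] at h0
    rcases (Nat.dvd_prime hp).1 h1 with h2 | h2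
    · exfalso
      rw [Set.ncard_eq_one] at h2
      obtain ⟨b, hb⟩ := h2
      have h3 : a ∈ MulAction.orbit (P : Subgroup G) a := MulAction.mem_orbit_self a
      have h4 : x • a ∈ MulAction.orbit (P : Subgroup G) a := ⟨⟨x, hx⟩, rfl⟩
      rw [hb, Set.mem_singleton_iff] at h3 h4
      exact hmove (h4.trans h3.symm)
    · exact h2
  have hfree : ∀ g ∈ centralizer ((P : Subgroup G) : Set G), g • a = a → g = 1 := by
    intro g hg hga
    apply hfix g _ horb
    rintro _ ⟨y, rfl⟩
    rw [Subgroup.mem_centralizer_iff] at hg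
    show g • (y : G) • a = (y : G) • a
    rw [← mul_smul, ← hg y y.2, mul_smul, hga]
  have hinj : Function.Injective
      (fun g : centralizer ((P : Subgroup G) : Set G) => (⟨(g : G) • a, h.inv _ a ha⟩ : Δ)) := by
    intro g g' hgg
    have h1 : (g : G) • a = (g' : G) • a := congrArg Subtype.val hgg
    have h2 : ((g' : G)⁻¹ * (g : G)) = 1 := by
      apply hfree _ (Subgroup.mul_mem _ (Subgroup.inv_mem _ g'.2) g.2)
      rw [mul_smul, h1, inv_smul_smul]
    apply Subtype.ext
    exact (inv_mul_eq_one.1 h2).symm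
  have : Finite Δ := hfin
  have h5 := Nat.card_le_card_of_injective _ hinj
  rwa [Nat.card_coe_set_eq] at h5

/-- simplicity of a doubly transitive group from a Sylow subgroup of prime order. -/
theorem TwoTrans.simple_of_prime [Finite G] (h : TwoTrans G Δ) (hfin : Δ.Finite) (p m k : ℕ)
    [Fact p.Prime] (hm : m.Prime) (hcard : Nat.card G = p * k) (hk : ¬ p ∣ k) (hkm : k ≠ m)
    (hpΔ : p ∣ Δ.ncard) (hΔ0 : Δ.Nonempty)
    (hfix : ∀ g : G, ∀ s : Set α, s.ncard = p → (∀ b ∈ s, g • b = b) → g = 1)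
    (hnum : ∀ c r n, p * c ≤ Δ.ncard → r ∣ p - 1 → k = c * r * n → n % p = 1 → c * r = m) :
    IsSimpleGroup G := by
  have hp := (Fact.out : p.Prime)
  let P : Sylow p G := default
  have hP : Nat.card (P : Subgroup G) = p := by
    have hk0 : k ≠ 0 := by
      rintro rfl
      exact hk (dvd_zero p)
    rw [P.card_eq_multiplicity, hcard, Nat.factorization_mul hp.ne_zero hk0, Finsupp.add_apply,
      hp.factorization_self, Nat.factorization_eq_zero_of_not_dvd hk, pow_one]
  obtain ⟨c, hc1, hc2⟩ := h.card_centralizer hfin p P hP hfix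
  obtain ⟨r, n, hr, h1, h2, h3⟩ := card_normalizer_sylow p P hP
  have h4 : k = c * r * n := by
    apply Nat.eq_of_mul_eq_mul_left hp.pos
    rw [← hcard, h2, h1, hc1]; ring
  have h5 := hnum c r n hc2 hr h4 h3
  apply simple_of_sylow p m hm P hP
  · rw [h1, hc1, mul_assoc, h5]
  · rw [hcard]
    intro h6
    exact hkm (Nat.eq_of_mul_eq_mul_left hp.pos h6)
  · intro N hN hNb
    exact hpΔ.trans (h.dvd_card_normal N hNb hΔ0)

/-- a doubly transitive group whose degree is not a prime power and whose point stabiliser is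
simple is simple. -/
theorem TwoTrans.simple_of_stabilizer [Finite G] (h : TwoTrans G Δ) {a : α} (ha : a ∈ Δ)
    (hs : IsSimpleGroup (MulAction.stabilizer G a)) (hpp : ¬ IsPrimePow Δ.ncard)
    (h1 : 1 < Δ.ncard) : IsSimpleGroup G := by
  have hnt : Nontrivial G := by
    obtain ⟨x, y, hxy⟩ := hs.toNontrivial.exists_pair_ne
    exact ⟨⟨x.1, y.1, fun hc => hxy (Subtype.ext hc)⟩⟩
  refine ⟨fun N hNn => ?_⟩
  by_cases hbot : N = ⊥
  · exact Or.inl hbot
  right
  have htr := h.normal_trans N hbot
  rcases hs.eq_bot_or_eq_top_of_normal (N.subgroupOf (MulAction.stabilizer G a)) inferInstance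
    with h2 | h2
  · exfalso
    rw [Subgroup.subgroupOf_eq_bot] at h2
    have hdisj : ∀ n ∈ N, n • a = a → n = 1 := by
      intro n hn hna
      exact Subgroup.disjoint_def.1 h2 hn hna
    have hconj : ∀ n1 ∈ N, ∀ n2 ∈ N, n1 ≠ 1 → n2 ≠ 1 → ∃ g : G, g * n1 * g⁻¹ = n2 := by
      intro n1 hn1 n2 hn2 hne1 hne2
      obtain ⟨g, hg1, hg2⟩ := h.trans2 a ha (n1 • a) (h.inv _ a ha) (n2 • a) (h.inv _ a ha)
        (fun hc => hne1 (hdisj n1 hn1 hc)) (fun hc => hne2 (hdisj n2 hn2 hc))
      refine ⟨g, ?_⟩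
      have h3 : n2⁻¹ * (g * n1 * g⁻¹) = 1 := by
        apply hdisj _ (N.mul_mem (N.inv_mem hn2) (hNn.conj_mem n1 hn1 g))
        rw [mul_smul, mul_smul, mul_smul, inv_smul_eq_iff.2 hg1.symm, hg2, inv_smul_smul]
      exact (inv_mul_eq_one.1 h3).symm
    have hcardN : Nat.card N = Δ.ncard := by
      rw [← h.orbit_normal N hbot ha, ← MulAction.index_stabilizer]
      have h3 : MulAction.stabilizer N a = ⊥ := by
        rw [Subgroup.eq_bot_iff_forall]
        intro n hn
        apply Subtype.ext
        exact hdisj n.1 n.2 hn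
      rw [h3, Subgroup.index_bot]
    set q := (Nat.card N).minFac with hq
    have hqp : q.Prime := Nat.minFac_prime (by rw [hcardN]; exact h1.ne')
    haveI : Fact q.Prime := ⟨hqp⟩
    obtain ⟨x, hx⟩ := exists_prime_orderOf_dvd_card' q (Nat.minFac_dvd (Nat.card N))
    have hx1 : (x : G) ≠ 1 := by
      intro hc
      have : x = 1 := Subtype.ext hc
      rw [this, orderOf_one] at hx
      exact hqp.one_lt.ne hx
    have hpg : IsPGroup q N := by
      intro y
      by_cases hy : (y : G) = 1
      · exact ⟨0, by rw [pow_zero, pow_one]; exact Subtype.ext hy⟩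
      · obtain ⟨g, hg⟩ := hconj x x.2 y y.2 hx1 hy
        refine ⟨1, ?_⟩
        rw [pow_one]
        apply Subtype.ext
        show (y : G) ^ q = 1
        rw [← hg, conj_pow]
        have : (x : G) ^ q = 1 := by
          have h4 := pow_orderOf_eq_one x
          rw [hx] at h4
          exact congrArg Subtype.val h4
        rw [this]; group
    obtain ⟨n, hn⟩ := IsPGroup.iff_card.1 hpg
    apply hpp
    rw [← hcardN, hn, isPrimePow_nat_iff]
    refine ⟨q, n, hqp, ?_, rfl⟩
    rcases Nat.eq_zero_or_pos n with rfl | h5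
    · rw [pow_zero, hcardN] at hn
      omega
    · exact h5
  · rw [Subgroup.subgroupOf_eq_top] at h2
    rw [eq_top_iff]
    intro g _
    obtain ⟨n, hn, e⟩ := htr a ha (g • a) (h.inv g a ha)
    have h3 : n⁻¹ * g ∈ MulAction.stabilizer G a := by
      rw [MulAction.mem_stabilizer_iff, mul_smul, ← e, inv_smul_smul]
    have h4 := N.mul_mem hn (h2 h3)
    rwa [mul_inv_cancel_left] at h4

end action

end Cfsg.Agent.Lib.Helper3
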