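import Mathlib
import Cfsg.Agent.Lib.Helper3.K5
import Cfsg.Agent.Lib.Helper3.Simple
import Cfsg.Agent.Lib.Helper3.M12Config

set_option autoImplicit false
open scoped Pointwise
open Cfsg

namespace Cfsg.Agent.Lib.Helper3

theorem M24_lists (l l' : List GolayPt) (hl : l.Nodup) (hl' : l'.Nodup)
    (hlen : l.length = l'.length) (h5 : l.length ≤ 5) :
    ∃ g ∈ M24, ∀ j (hj : j < l.length), g l[j] = l'[j]'(hlen ▸ hj) := by
  obtain ⟨u, hu, h1, _⟩ := exists_map_list Finset.univ (by decide) l hl (by simp) h5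
  obtain ⟨u', hu', h1', _⟩ := exists_map_list Finset.univ (by decide) l' hl' (by simp) (hlen ▸ h5)
  refine ⟨u'⁻¹ * u, M24.mul_mem (M24.inv_mem hu') hu, ?_⟩
  intro j hj
  show u'⁻¹ (u l[j]) = _
  rw [h1 j hj, ← h1' j (hlen ▸ hj), Equiv.Perm.inv_def, Equiv.symm_apply_apply]

theorem M12_lists {d : Finset GolayPt} (hd : d ∈ dodecads) (l l' : List GolayPt) (hl : l.Nodup)
    (hl' : l'.Nodup) (hld : ∀ p ∈ l, p ∈ d) (hld' : ∀ p ∈ l', p ∈ d)
    (hlen : l.length = l'.length) (h5 : l.length ≤ 5) :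
    ∃ g ∈ M24, g • d = d ∧ ∀ j (hj : j < l.length), g l[j] = l'[j]'(hlen ▸ hj) := by
  obtain ⟨u, hu, hud, h1⟩ := dodecad_to_D0_list hd l hl hld h5
  obtain ⟨u', hu', hud', h1'⟩ := dodecad_to_D0_list hd l' hl' hld' (hlen ▸ h5)
  refine ⟨u'⁻¹ * u, M24.mul_mem (M24.inv_mem hu') hu, ?_, ?_⟩
  · rw [mul_smul, hud, ← hud', inv_smul_smul]
  · intro j hj
    show u'⁻¹ (u l[j]) = _
    rw [h1 j hj, ← h1' j (hlen ▸ hj), Equiv.Perm.inv_def, Equiv.symm_apply_apply]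

theorem fix9' {g : Equiv.Perm GolayPt} (hg : g ∈ M24) (s : Set GolayPt) (hs : 9 ≤ s.ncard)
    (hfix : ∀ p ∈ s, g p = p) : g = 1 := by
  classical
  apply fix9 hg s.toFinset
  · rwa [← Set.ncard_eq_toFinset_card']
  · intro p hp
    exact hfix p (Set.mem_toFinset.1 hp)

/-- the stabiliser inside a subgroup. -/
def stabEquiv {G α : Type*} [Group G] [MulAction G α] (H : Subgroup G) (a : α) :
    MulAction.stabilizer H a ≃* ↥(H ⊓ MulAction.stabilizer G a) where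
  toFun x := ⟨x.1.1, x.1.2, x.2⟩
  invFun y := ⟨⟨y.1, y.2.1⟩, y.2.2⟩
  left_inv _ := rfl
  right_inv _ := rfl
  map_mul' _ _ := rfl

end Cfsg.Agent.Lib.Helper3
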