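import Mathlib

set_option autoImplicit false

namespace Cfsg.Agent.Lib.Helper3

open scoped Pointwise

theorem ncard_smul_transfer {G α : Type*} [Group G] [MulAction G α] (h : G) {P Q : α → Prop}
    (hPQ : ∀ x, P x ↔ Q (h • x)) : {x | P x}.ncard = {x | Q x}.ncard := by
  have : {x | Q x} = (fun x => h • x) '' {x | P x} := by
    ext x
    constructor
    · intro hx
      refine ⟨h⁻¹ • x, (hPQ _).2 ?_, by simp⟩
      rw [smul_inv_smul]; exact hx
    · rintro ⟨y, hy, rfl⟩
      exact (hPQ y).1 hy
  rw [this, Set.ncard_image_of_injective _ (MulAction.injective h)]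

theorem ncard_biUnion_finset {ι α : Type*} (J : Finset ι) (C : ι → Set α)
    (hfin : ∀ i ∈ J, (C i).Finite) (hdisj : ∀ i ∈ J, ∀ j ∈ J, i ≠ j → Disjoint (C i) (C j)) :
    (⋃ i ∈ J, C i).ncard = ∑ i ∈ J, (C i).ncard := by
  classical
  induction J using Finset.induction_on with
  | empty => simp
  | insert a J ha ih =>
    have hd : Disjoint (C a) (⋃ i ∈ J, C i) := by
      rw [Set.disjoint_iUnion₂_right]
      intro i hi
      apply hdisj a (Finset.mem_insert_self _ _) i (Finset.mem_insert_of_mem hi)
      rintro rfl; exact ha hi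
    rw [Finset.set_biUnion_insert, Finset.sum_insert ha,
      Set.ncard_union_eq hd (hfin a (Finset.mem_insert_self _ _))
        (Set.Finite.biUnion J.finite_toSet (fun i hi => hfin i (Finset.mem_insert_of_mem hi))), ih]
    · exact fun i hi => hfin i (Finset.mem_insert_of_mem hi)
    · exact fun i hi j hj => hdisj i (Finset.mem_insert_of_mem hi) j (Finset.mem_insert_of_mem hj)

/-- maximality of a point stabiliser from the lengths of its orbits. -/
theorem isCoatom_stabilizer_of_classes {G α : Type*} [Group G] [Finite G] [MulAction G α]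
    (y : α) {k : ℕ} (C : Fin k → Set α) (n : Fin k → ℕ) (N : ℕ)
    (hN : (MulAction.orbit G y).ncard = N) (hN1 : 1 < N)
    (hcover : ∀ x ∈ MulAction.orbit G y, x = y ∨ ∃ i, x ∈ C i)
    (hsub : ∀ i, C i ⊆ MulAction.orbit G y) (hy : ∀ i, y ∉ C i)
    (hdisj : ∀ i j, i ≠ j → Disjoint (C i) (C j))
    (htrans : ∀ i, ∀ x ∈ C i, ∀ x' ∈ C i, ∃ g ∈ MulAction.stabilizer G y, g • x = x')
    (hn : ∀ i, (C i).ncard = n i)
    (harith : ∀ J : Finset (Fin k), J.Nonempty → (1 + ∑ j ∈ J, n j) ∣ N → J = Finset.univ) :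
    IsCoatom (MulAction.stabilizer G y) := by
  classical
  have hfinO : (MulAction.orbit G y).Finite := Set.finite_range _
  have hfinC : ∀ i, (C i).Finite := fun i => hfinO.subset (hsub i)
  constructor
  · intro htop
    have : MulAction.orbit G y = {y} := by
      ext x; constructor
      · rintro ⟨g, rfl⟩
        have : g ∈ MulAction.stabilizer G y := by rw [htop]; trivial
        exact this
      · rintro rfl; exact MulAction.mem_orbit_self _
    rw [this, Set.ncard_singleton] at hN; omega
  · intro H hH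
    set B : Set α := MulAction.orbit H y with hBdef
    have hBsub : B ⊆ MulAction.orbit G y := MulAction.orbit_subgroup_subset H y
    let J : Finset (Fin k) := Finset.univ.filter (fun i => (C i ∩ B).Nonempty)
    have hCB : ∀ i ∈ J, C i ⊆ B := by
      intro i hi x hx
      obtain ⟨x0, hx0C, hx0B⟩ := (Finset.mem_filter.1 hi).2
      obtain ⟨g, hg, rfl⟩ := htrans i x0 hx0C x hx
      obtain ⟨h, rfl⟩ := hx0B
      exact ⟨⟨g, hH.le hg⟩ * h, mul_smul (⟨g, hH.le hg⟩ : H) h y⟩
    have hB : B = {y} ∪ ⋃ i ∈ J, C i := by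
      ext x
      constructor
      · intro hx
        rcases hcover x (hBsub hx) with rfl | ⟨i, hi⟩
        · exact Or.inl rfl
        · refine Or.inr (Set.mem_iUnion₂.2 ⟨i, ?_, hi⟩)
          exact Finset.mem_filter.2 ⟨Finset.mem_univ _, ⟨x, hi, hx⟩⟩
      · rintro (rfl | hx)
        · exact MulAction.mem_orbit_self _
        · obtain ⟨i, hi, hx⟩ := Set.mem_iUnion₂.1 hx
          exact hCB i hi hx
    have hcard : B.ncard = 1 + ∑ j ∈ J, n j := by
      have hd : Disjoint ({y} : Set α) (⋃ i ∈ J, C i) := by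
        rw [Set.disjoint_singleton_left]
        intro hx
        obtain ⟨i, _, hx⟩ := Set.mem_iUnion₂.1 hx
        exact hy i hx
      rw [hB, Set.ncard_union_eq hd (Set.finite_singleton _)
        (Set.Finite.biUnion J.finite_toSet (fun i _ => hfinC i)), Set.ncard_singleton,
        ncard_biUnion_finset J C (fun i _ => hfinC i) (fun i _ j _ hij => hdisj i j hij)]
      exact congrArg _ (Finset.sum_congr rfl (fun i _ => hn i))
    have key : (MulAction.stabilizer G y).subgroupOf H = MulAction.stabilizer H y := by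
      ext; rfl
    have hidx : B.ncard * H.index = N := by
      rw [← hN, ← MulAction.index_stabilizer G y, ← Subgroup.relIndex_mul_index hH.le,
        Subgroup.relIndex, key, MulAction.index_stabilizer]
    have hJne : J.Nonempty := by
      obtain ⟨h, hhH, hhs⟩ := SetLike.exists_of_lt hH
      have h1 : h • y ∈ B := ⟨⟨h, hhH⟩, rfl⟩
      rcases hcover _ (hBsub h1) with h2 | ⟨i, hi⟩
      · exact absurd h2 hhs
      · exact ⟨i, Finset.mem_filter.2 ⟨Finset.mem_univ _, ⟨_, hi, h1⟩⟩⟩
    have hJ := harith J hJne (hcard ▸ Dvd.intro _ hidx)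
    have hBO : B = MulAction.orbit G y := by
      apply Set.Subset.antisymm hBsub
      intro x hx
      rcases hcover x hx with rfl | ⟨i, hi⟩
      · exact MulAction.mem_orbit_self _
      · exact hCB i (by rw [hJ]; exact Finset.mem_univ _) hi
    rw [hBO, hN] at hidx
    rw [← Subgroup.index_eq_one]
    have : N * H.index = N * 1 := by rw [hidx, mul_one]
    exact Nat.eq_of_mul_eq_mul_left (by omega) this

/-- classes inside orbits are the orbits, when no sum of several class lengths divides the group
order. -/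
theorem orbit_eq_of_classes {G α : Type*} [Group G] [Finite G] [MulAction G α]
    {k : ℕ} (C : Fin k → Set α) (X : Fin k → α) (n : Fin k → ℕ)
    (hinv : ∀ (g : G) (i : Fin k), ∃ j, g • X i ∈ C j)
    (hdisj : ∀ i j, i ≠ j → Disjoint (C i) (C j))
    (htrans : ∀ i, ∀ x ∈ C i, ∃ g : G, g • X i = x)
    (hn : ∀ i, (C i).ncard = n i)
    (harith : ∀ J : Finset (Fin k), 2 ≤ J.card → ¬ (∑ j ∈ J, n j) ∣ Nat.card G) (i : Fin k) :
    MulAction.orbit G (X i) = C i := by
  classical
  have hCo : ∀ j, C j ⊆ MulAction.orbit G (X j) := by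
    intro j x hx
    obtain ⟨g, rfl⟩ := htrans j x hx
    exact ⟨g, rfl⟩
  have hfinC : ∀ j, (C j).Finite := fun j => (Set.finite_range _).subset (hCo j)
  let J : Finset (Fin k) :=
    Finset.univ.filter (fun j => MulAction.orbit G (X j) = MulAction.orbit G (X i))
  have hO : MulAction.orbit G (X i) = ⋃ j ∈ J, C j := by
    ext x
    constructor
    · rintro ⟨g, rfl⟩
      obtain ⟨j, hj⟩ := hinv g i
      refine Set.mem_iUnion₂.2 ⟨j, Finset.mem_filter.2 ⟨Finset.mem_univ _, ?_⟩, hj⟩
      have h1 : g • X i ∈ MulAction.orbit G (X j) := hCo j hj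
      rw [← MulAction.orbit_eq_iff.2 h1]
      exact MulAction.orbit_eq_iff.2 ⟨g, rfl⟩
    · intro hx
      obtain ⟨j, hj, hx⟩ := Set.mem_iUnion₂.1 hx
      rw [← (Finset.mem_filter.1 hj).2]
      exact hCo j hx
  have hcard : (MulAction.orbit G (X i)).ncard = ∑ j ∈ J, n j := by
    rw [hO, ncard_biUnion_finset]
    · exact Finset.sum_congr rfl (fun i _ => hn i)
    · exact fun i _ => hfinC i
    · exact fun i _ j _ hij => hdisj i j hij
  have hdvd : (∑ j ∈ J, n j) ∣ Nat.card G := by
    rw [← hcard, ← MulAction.index_stabilizer]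
    exact Subgroup.index_dvd_card _
  have hJ : J.card < 2 := by
    by_contra hcon
    exact harith J (by omega) hdvd
  have hiJ : i ∈ J := Finset.mem_filter.2 ⟨Finset.mem_univ _, rfl⟩
  have hJi : J = {i} := by
    apply Finset.eq_singleton_iff_unique_mem.2 ⟨hiJ, ?_⟩
    intro j hj
    by_contra hne
    have : ({i, j} : Finset (Fin k)).card ≤ J.card := Finset.card_le_card (by
      intro x hx
      rcases Finset.mem_insert.1 hx with rfl | hx
      · exact hiJ
      · rw [Finset.mem_singleton.1 hx]; exact hj)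
    rw [Finset.card_pair (Ne.symm hne)] at this
    omega
  rw [hO, hJi]; simp

/-- orbits of conjugate stabilisers. -/
theorem orbit_stabilizer_smul {G α β : Type*} [Group G] [MulAction G α] [MulAction G β]
    (g : G) (y : α) (x : β) :
    MulAction.orbit (MulAction.stabilizer G (g • y)) (g • x) =
      (fun z => g • z) '' MulAction.orbit (MulAction.stabilizer G y) x := by
  ext z
  constructor
  · rintro ⟨⟨u, hu⟩, rfl⟩
    refine ⟨(g⁻¹ * u * g) • x, ⟨⟨g⁻¹ * u * g, ?_⟩, rfl⟩, ?_⟩
    · rw [MulAction.mem_stabilizer_iff] at hu ⊢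
      rw [mul_smul, mul_smul, hu, inv_smul_smul]
    · show g • (g⁻¹ * u * g) • x = u • g • x
      simp [mul_smul]
  · rintro ⟨_, ⟨⟨u, hu⟩, rfl⟩, rfl⟩
    refine ⟨⟨g * u * g⁻¹, ?_⟩, ?_⟩
    · rw [MulAction.mem_stabilizer_iff] at hu ⊢
      rw [mul_smul, mul_smul, inv_smul_smul, hu]
    · show (g * u * g⁻¹) • g • x = g • u • x
      simp [mul_smul]

theorem ncard_orbit_stabilizer_smul {G α β : Type*} [Group G] [MulAction G α] [MulAction G β]
    (g : G) (y : α) (x : β) :
    (MulAction.orbit (MulAction.stabilizer G (g • y)) (g • x)).ncard =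
      (MulAction.orbit (MulAction.stabilizer G y) x).ncard := by
  rw [orbit_stabilizer_smul, Set.ncard_image_of_injective _ (MulAction.injective g)]

/-- conjugate stabilisers have the same order. -/
theorem card_stabilizer_smul {G α : Type*} [Group G] [MulAction G α] (g : G) (y : α) :
    Nat.card (MulAction.stabilizer G (g • y)) = Nat.card (MulAction.stabilizer G y) := by
  rw [MulAction.stabilizer_smul_eq_stabilizer_map_conj]
  exact Nat.card_congr ((MulAction.stabilizer G y).equivMapOfInjective _
    (MulAut.conj g).injective).symm.toEquiv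

theorem isCoatom_stabilizer_smul {G α : Type*} [Group G] [MulAction G α] (g : G) (y : α)
    (h : IsCoatom (MulAction.stabilizer G y)) : IsCoatom (MulAction.stabilizer G (g • y)) := by
  rw [MulAction.stabilizer_smul_eq_stabilizer_map_conj]
  have e : Subgroup G ≃o Subgroup G := (MulAut.conj g).mapSubgroup
  exact ((MulAut.conj g).mapSubgroup.isCoatom_iff _).2 h

end Cfsg.Agent.Lib.Helper3
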