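import Mathlib
import Cfsg.Agent.Lib.Helper3.ClassCount

set_option autoImplicit false
open scoped Pointwise
open Cfsg

namespace Cfsg.Agent.Lib.Helper3

theorem tab_zA : chkGen [] zAw 0x5c613a22d56a5ecba9d2394c418820 = true := by decide +kernel

theorem mask_zA (s : Finset GolayPt) : mask (wperm zAw • s) = pmU 0x5c613a22d56a5ecba9d2394c418820 (mask s) :=
  (chkGen_sound tab_zA).2 s

theorem oct_zA : countRange (fun c => Nat.beq (pcF (encF c)) 8 &&
    Nat.beq (pmU 0x5c613a22d56a5ecba9d2394c418820 (encF c)) (encF c)) 12 0 = 71 := by decide +kernel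

theorem dod_zA : countRange (fun c => Nat.beq (pcF (encF c)) 12 &&
    Nat.beq (pmU 0x5c613a22d56a5ecba9d2394c418820 (encF c)) (encF c)) 12 0 = 112 := by decide +kernel

theorem sx_zA : countRange (fun c => !Nat.beq (tet c) 0 &&
    Nat.beq (cz (pmU 0x5c613a22d56a5ecba9d2394c418820 (tet c))) (cz (tet c))) 12 0 = 91 := by decide +kernel

theorem tab_zB : chkGen [] zBw 0x2ae95435cf84647b10d3626ea10c01 = true := by decide +kernel

theorem mask_zB (s : Finset GolayPt) : mask (wperm zBw • s) = pmU 0x2ae95435cf84647b10d3626ea10c01 (mask s) :=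
  (chkGen_sound tab_zB).2 s

theorem oct_zB : countRange (fun c => Nat.beq (pcF (encF c)) 8 &&
    Nat.beq (pmU 0x2ae95435cf84647b10d3626ea10c01 (encF c)) (encF c)) 12 0 = 15 := by decide +kernel

theorem dod_zB : countRange (fun c => Nat.beq (pcF (encF c)) 12 &&
    Nat.beq (pmU 0x2ae95435cf84647b10d3626ea10c01 (encF c)) (encF c)) 12 0 = 32 := by decide +kernel

theorem sx_zB : countRange (fun c => !Nat.beq (tet c) 0 &&
    Nat.beq (cz (pmU 0x2ae95435cf84647b10d3626ea10c01 (tet c))) (cz (tet c))) 12 0 = 51 := by decide +kernel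

theorem tab_xA : chkGen [] xAw 0x8d668b40ab4b9ea91da6652e418820 = true := by decide +kernel

theorem mask_xA (s : Finset GolayPt) : mask (wperm xAw • s) = pmU 0x8d668b40ab4b9ea91da6652e418820 (mask s) :=
  (chkGen_sound tab_xA).2 s

theorem oct_xA : countRange (fun c => Nat.beq (pcF (encF c)) 8 &&
    Nat.beq (pmU 0x8d668b40ab4b9ea91da6652e418820 (encF c)) (encF c)) 12 0 = 21 := by decide +kernel

theorem dod_xA : countRange (fun c => Nat.beq (pcF (encF c)) 12 &&
    Nat.beq (pmU 0x8d668b40ab4b9ea91da6652e418820 (encF c)) (encF c)) 12 0 = 20 := by decide +kernel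

theorem sx_xA : countRange (fun c => !Nat.beq (tet c) 0 &&
    Nat.beq (cz (pmU 0x8d668b40ab4b9ea91da6652e418820 (tet c))) (cz (tet c))) 12 0 = 16 := by decide +kernel

theorem tab_xB : chkGen [] xBw 0xa40e1538686949501a3664e4f4aee2 = true := by decide +kernel

theorem mask_xB (s : Finset GolayPt) : mask (wperm xBw • s) = pmU 0xa40e1538686949501a3664e4f4aee2 (mask s) :=
  (chkGen_sound tab_xB).2 s

theorem oct_xB : countRange (fun c => Nat.beq (pcF (encF c)) 8 &&
    Nat.beq (pmU 0xa40e1538686949501a3664e4f4aee2 (encF c)) (encF c)) 12 0 = 0 := by decide +kernel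

theorem dod_xB : countRange (fun c => Nat.beq (pcF (encF c)) 12 &&
    Nat.beq (pmU 0xa40e1538686949501a3664e4f4aee2 (encF c)) (encF c)) 12 0 = 14 := by decide +kernel

theorem sx_xB : countRange (fun c => !Nat.beq (tet c) 0 &&
    Nat.beq (cz (pmU 0xa40e1538686949501a3664e4f4aee2 (tet c))) (cz (tet c))) 12 0 = 7 := by decide +kernel

theorem tr_zA : countRange (fun i => Nat.blt i 3795 && mem3 (pmU 0x5c613a22d56a5ecba9d2394c418820 (tra i)) i &&
    mem3 (pmU 0x5c613a22d56a5ecba9d2394c418820 (trb i)) i) 12 0 = 99 := by decide +kernel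

theorem tr_zB : countRange (fun i => Nat.blt i 3795 && mem3 (pmU 0x2ae95435cf84647b10d3626ea10c01 (tra i)) i &&
    mem3 (pmU 0x2ae95435cf84647b10d3626ea10c01 (trb i)) i) 12 0 = 75 := by decide +kernel

theorem tr_xA : countRange (fun i => Nat.blt i 3795 && mem3 (pmU 0x8d668b40ab4b9ea91da6652e418820 (tra i)) i &&
    mem3 (pmU 0x8d668b40ab4b9ea91da6652e418820 (trb i)) i) 12 0 = 15 := by decide +kernel

theorem tr_xB : countRange (fun i => Nat.blt i 3795 && mem3 (pmU 0xa40e1538686949501a3664e4f4aee2 (tra i)) i &&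
    mem3 (pmU 0xa40e1538686949501a3664e4f4aee2 (trb i)) i) 12 0 = 15 := by decide +kernel

end Cfsg.Agent.Lib.Helper3
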