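import Mathlib
import Cfsg.Agent.Lib.Helper3.M24Trans

set_option autoImplicit false

namespace Cfsg.Agent.Lib.Helper3

open Cfsg
open scoped Pointwise

theorem octad_inter_dodecad {o d : Finset GolayPt} (ho : o ∈ octads) (hd : d ∈ dodecads) :
    (o ∩ d).card = 2 ∨ (o ∩ d).card = 4 ∨ (o ∩ d).card = 6 := by
  have hw := code_weights _ (supports_symmDiff ho.1 hd.1)
  have hc := card_symmDiff_add o d
  have e1 : o.card = 8 := ho.2
  have e2 : d.card = 12 := hd.2
  have h8 : (o ∩ d).card ≤ 8 := e1 ▸ Finset.card_le_card Finset.inter_subset_left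
  omega

theorem level_word (k : ℕ) (hk : k < 7) (q : ℕ) (hq24 : q < 24)
    (hq : (allow k).testBit q = true) :
    Fixes k (wperm ((tr k).getD q [])) ∧ wperm ((tr k).getD q []) (pt q) = bpt k := by
  have h := chkLevel_all k hk
  unfold chkLevel at h
  rw [List.all_eq_true] at h
  have h1 := h q (List.mem_range.mpr hq24)
  rw [hq] at h1
  simp only [Bool.not_true, Bool.false_or, Bool.and_eq_true, List.all_eq_true, List.mem_range,
    beq_iff_eq] at h1
  refine ⟨?_, ?_⟩
  · intro j hj
    apply idx_injective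
    rw [idx_wperm, idx_bpt]
    exact h1.1 j hj
  · apply idx_injective
    rw [idx_wperm, idx_bpt, idx_pt hq24]
    exact h1.2

/-- the sixteen elements fixing six points of the standard octad fix it pointwise and are
involutions. -/
def chkK6 : Bool :=
  (List.range 24).all fun q =>
    !((allow 6).testBit q) ||
      (wact ((tr 6).getD q []) 10 == 10 && wact ((tr 6).getD q []) 12 == 12 &&
        (List.range 24).all (fun i => wact ((tr 6).getD q []) (wact ((tr 6).getD q []) i) == i))

theorem chkK6_true : chkK6 = true := by decide +kernel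

theorem K6_elem {g : Equiv.Perm GolayPt} (hg : g ∈ K 6) :
    g * g = 1 ∧ ∀ p ∈ O0, g p = p := by
  have hg' := (mem_K 6 g).1 hg
  have hq := allowed (k := 6) (by norm_num) hg'.1 hg'.2
  set q := idx (g (bpt 6)) with hqdef
  have hq24 : q < 24 := idx_lt _
  obtain ⟨hu1, hu2⟩ := level_word 6 (by norm_num) q hq24 hq
  set u := wperm ((tr 6).getD q []) with hu
  have hug : u * g = 1 := by
    apply eq_one_of_fixes (M24.mul_mem (wperm_mem _) hg'.1)
    intro j hj
    rcases Nat.lt_succ_iff_lt_or_eq.mp hj with h | rfl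
    · show u (g (bpt j)) = _
      rw [hg'.2 j h, hu1 j h]
    · show u (g (bpt 6)) = _
      have h6 : g (bpt 6) = pt q := by rw [hqdef, pt_idx]
      rw [h6, hu2]
  have hgu : g = u⁻¹ := (inv_eq_of_mul_eq_one_right hug).symm
  have h := chkK6_true
  unfold chkK6 at h
  rw [List.all_eq_true] at h
  have h1 := h q (List.mem_range.mpr hq24)
  rw [hq] at h1
  simp only [Bool.not_true, Bool.false_or, Bool.and_eq_true, List.all_eq_true, List.mem_range,
    beq_iff_eq] at h1
  have huu : u * u = 1 := by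
    apply Equiv.ext
    intro p
    apply idx_injective
    show idx (u (u p)) = idx p
    rw [hu, idx_wperm, idx_wperm]
    exact h1.2 _ (idx_lt p)
  have hgu' : g = u := by rw [hgu]; exact inv_eq_of_mul_eq_one_left huu
  refine ⟨by rw [hgu']; exact huu, ?_⟩
  intro p hp
  rw [O0, mem_unmask] at hp
  have hcases : ∀ i < 24, (0x149f : ℕ).testBit i = true → (∃ j < 6, i = bidx j) ∨ i = 10 ∨ i = 12 := by
    decide
  rcases hcases _ (idx_lt p) hp with ⟨j, hj, hij⟩ | h10 | h12
  · have hp' : p = bpt j := by rw [← pt_idx p, hij]; rfl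
    rw [hp']; exact hg'.2 j hj
  · apply idx_injective
    rw [hgu', hu, idx_wperm, h10]; exact h1.1.1
  · apply idx_injective
    rw [hgu', hu, idx_wperm, h12]; exact h1.1.2

theorem fix_O0_eq : M24 ⊓ fixingSubgroup (Equiv.Perm GolayPt) (O0 : Set GolayPt) = K 6 := by
  ext g
  rw [Subgroup.mem_inf, mem_fixingSubgroup_iff]
  constructor
  · rintro ⟨hg, hf⟩
    rw [mem_K]
    refine ⟨hg, fun j hj => hf _ ?_⟩
    show bpt j ∈ O0
    rw [O0, mem_unmask, idx_bpt]
    revert j; decide
  · intro hg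
    exact ⟨((mem_K 6 g).1 hg).1, fun p hp => (K6_elem hg).2 p hp⟩

/-- conjugation carries the pointwise stabiliser of `s` to that of `h • s`. -/
def fixConj (h : Equiv.Perm GolayPt) (hh : h ∈ M24) (s : Finset GolayPt) :
    ↥(M24 ⊓ fixingSubgroup (Equiv.Perm GolayPt) (s : Set GolayPt)) ≃
      ↥(M24 ⊓ fixingSubgroup (Equiv.Perm GolayPt) ((h • s : Finset GolayPt) : Set GolayPt)) where
  toFun g := ⟨h * g.1 * h⁻¹, by
    obtain ⟨g, hg⟩ := g
    obtain ⟨hg1, hg2⟩ := Subgroup.mem_inf.mp hg
    rw [mem_fixingSubgroup_iff] at hg2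
    refine Subgroup.mem_inf.mpr ⟨M24.mul_mem (M24.mul_mem hh hg1) (M24.inv_mem hh), ?_⟩
    rw [mem_fixingSubgroup_iff]
    intro p hp
    have hp' : h⁻¹ p ∈ s := by
      have : p ∈ h • s := hp
      rwa [← Finset.inv_smul_mem_iff] at this
    show h (g (h⁻¹ p)) = p
    have h3 : g (h⁻¹ p) = h⁻¹ p := hg2 _ hp'
    rw [h3]; simp⟩
  invFun g := ⟨h⁻¹ * g.1 * h, by
    obtain ⟨g, hg⟩ := g
    obtain ⟨hg1, hg2⟩ := Subgroup.mem_inf.mp hg
    rw [mem_fixingSubgroup_iff] at hg2
    refine Subgroup.mem_inf.mpr ⟨M24.mul_mem (M24.mul_mem (M24.inv_mem hh) hg1) hh, ?_⟩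
    rw [mem_fixingSubgroup_iff]
    intro p hp
    have hp' : h p ∈ h • s := Finset.smul_mem_smul_finset hp
    show h⁻¹ (g (h p)) = p
    have h3 : g (h p) = h p := hg2 _ hp'
    rw [h3]; simp⟩
  left_inv g := by
    apply Subtype.ext
    simp [mul_assoc]
  right_inv g := by
    apply Subtype.ext
    simp [mul_assoc]

theorem fix_octad {o : Finset GolayPt} (ho : o ∈ octads) :
    Nat.card ↥(M24 ⊓ fixingSubgroup (Equiv.Perm GolayPt) (o : Set GolayPt)) = 16 ∧
      ∀ g ∈ M24 ⊓ fixingSubgroup (Equiv.Perm GolayPt) (o : Set GolayPt), g * g = 1 := by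
  obtain ⟨h, hh, hho⟩ := octad_to_O0 ho
  have e := fixConj h hh o
  rw [hho] at e
  constructor
  · rw [Nat.card_congr e, fix_O0_eq]
    exact card_K_values.2.1
  · intro g hg
    have h1 : h * g * h⁻¹ ∈ M24 ⊓ fixingSubgroup (Equiv.Perm GolayPt) ((h • o : Finset GolayPt) : Set GolayPt) :=
      (fixConj h hh o ⟨g, hg⟩).2
    rw [hho, fix_O0_eq] at h1
    have h2 := (K6_elem h1).1
    have h3 : (h * g * h⁻¹) * (h * g * h⁻¹) = 1 := h2
    have h4 : h * (g * g) * h⁻¹ = 1 := by
      rw [← h3]; group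
    have h5 : g * g = h⁻¹ * (h * (g * g) * h⁻¹) * h := by group
    rw [h5, h4]; group

/-- the numbers of octads meeting a dodecad in a given number of points do not depend on the
dodecad. -/
theorem ncard_octads_inter (n : ℕ) {d : Finset GolayPt} (hd : d ∈ dodecads) :
    {o : Finset GolayPt | o ∈ octads ∧ (o ∩ d).card = n}.ncard =
      {o : Finset GolayPt | o ∈ octads ∧ (o ∩ D0).card = n}.ncard := by
  obtain ⟨h, hh, hhd⟩ := dodecad_to_D0 hd
  have : {o : Finset GolayPt | o ∈ octads ∧ (o ∩ D0).card = n} =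
      (fun o => h • o) '' {o : Finset GolayPt | o ∈ octads ∧ (o ∩ d).card = n} := by
    ext o
    constructor
    · rintro ⟨h1, h2⟩
      refine ⟨h⁻¹ • o, ⟨smul_mem_octads (M24.inv_mem hh) h1, ?_⟩, by simp⟩
      have : h⁻¹ • o ∩ d = h⁻¹ • (o ∩ D0) := by
        rw [Finset.smul_finset_inter, ← hhd, inv_smul_smul]
      rw [this, Finset.card_smul_finset]; exact h2
    · rintro ⟨o', ⟨h1, h2⟩, rfl⟩
      refine ⟨smul_mem_octads hh h1, ?_⟩
      show (h • o' ∩ D0).card = n
      rw [← hhd, ← Finset.smul_finset_inter, Finset.card_smul_finset]; exact h2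
  rw [this, Set.ncard_image_of_injective _ (MulAction.injective h)]

/-- test for octads meeting the dodecad of squares in `n` points. -/
def octD0 (n x : ℕ) : Bool := pc x == 8 && pc (x &&& 0x5335f) == n

theorem count_octD0_6 : countRange (fun c => octD0 6 (enc c)) 12 0 = 132 := by decide +kernel
theorem count_octD0_4 : countRange (fun c => octD0 4 (enc c)) 12 0 = 495 := by decide +kernel
theorem count_octD0_2 : countRange (fun c => octD0 2 (enc c)) 12 0 = 132 := by decide +kernel

theorem ncard_octD0 (n : ℕ) : {o : Finset GolayPt | o ∈ octads ∧ (o ∩ D0).card = n}.ncard =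
    countRange (fun c => octD0 n (enc c)) 12 0 := by
  rw [← ncard_code (octD0 n)]
  congr 1
  ext s
  simp only [octads, wordsOfWeight, Set.mem_ofPred_eq, octD0, Bool.and_eq_true, beq_iff_eq,
    card_eq_pc, mask_inter, D0, mask_unmask (show (0x5335f : ℕ) < 2 ^ 24 by norm_num), and_assoc]

end Cfsg.Agent.Lib.Helper3
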