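import Mathlib
import Cfsg.Agent.Lib.Helper3.M24Octad

set_option autoImplicit false

namespace Cfsg.Agent.Lib.Helper3

open Cfsg
open scoped Pointwise

/-- evaluate the argument first (for kernel evaluation). -/
def force {α : Type} (x : ℕ) (f : ℕ → α) : α :=
  match x with
  | 0 => f 0
  | Nat.succ n => f (Nat.succ n)

theorem force_eq {α : Type} (x : ℕ) (f : ℕ → α) : force x f = f x := by
  cases x <;> rfl

/-- loop computing the image of a mask; `T` is the packed table of the inverse permutation. -/
def pmIaux : ℕ → ℕ → ℕ → ℕ → ℕ
  | 0, _, _, acc => acc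
  | k+1, T, x, acc =>
    pmIaux k T x (Nat.add (Nat.shiftLeft acc 1) (Nat.land (Nat.shiftRight x (look T k)) 1))

/-- image of a mask; `T` is the packed table of the inverse permutation. -/
def pmI (T x : ℕ) : ℕ := pmIaux 24 T x 0

theorem pmIaux_eq (k T x acc : ℕ) :
    pmIaux k T x acc =
      Fin.foldr k (fun (i : Fin k) v => 2 * v + (x.testBit (look T i)).toNat) acc := by
  induction k generalizing acc with
  | zero => simp [pmIaux]
  | succ k ih =>
    rw [pmIaux, ih, Fin.foldr_succ_last]
    congr 1
    have h1 : Nat.land (Nat.shiftRight x (look T k)) 1 = (x.testBit (look T k)).toNat := by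
      rw [Nat.toNat_testBit]
      show (x >>> (look T k)) &&& 1 = _
      rw [Nat.and_one_is_mod, Nat.shiftRight_eq_div_pow]
    rw [h1]
    show (acc <<< 1) + _ = _
    rw [Nat.shiftLeft_eq]
    simp [Nat.mul_comm]

theorem pmI_eq_pm (T x : ℕ) : pmI T x = pm (look T) x := by
  unfold pmI pm Nat.ofBits
  rw [pmIaux_eq]


/-- unrolled version of `pmI`. -/
def pmU (T x : ℕ) : ℕ :=
  (Nat.add (Nat.shiftLeft (Nat.add (Nat.shiftLeft (Nat.add (Nat.shiftLeft (Nat.add (Nat.shiftLeft (Nat.add (Nat.shiftLeft (Nat.add (Nat.shiftLeft (Nat.add (Nat.shiftLeft (Nat.add (Nat.shiftLeft (Nat.add (Nat.shiftLeft (Nat.add (Nat.shiftLeft (Nat.add (Nat.shiftLeft (Nat.add (Nat.shiftLeft (Nat.add (Nat.shiftLeft (Nat.add (Nat.shiftLeft (Nat.add (Nat.shiftLeft (Nat.add (Nat.shiftLeft (Nat.add (Nat.shiftLeft (Nat.add (Nat.shiftLeft (Nat.add (Nat.shiftLeft (Nat.add (Nat.shiftLeft (Nat.add (Nat.shiftLeft (Nat.add (Nat.shiftLeft (Nat.add (Nat.shiftLeft (Nat.add (Nat.shiftLeft 0 1) (Nat.land (Nat.shiftRight x (look T 23)) 1)) 1) (Nat.land (Nat.shiftRight x (look T 22)) 1)) 1) (Nat.land (Nat.shiftRight x (look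 T 21)) 1)) 1) (Nat.land (Nat.shiftRight x (look T 20)) 1)) 1) (Nat.land (Nat.shiftRight x (look T 19)) 1)) 1) (Nat.land (Nat.shiftRight x (look T 18)) 1)) 1) (Nat.land (Nat.shiftRight x (look T 17)) 1)) 1) (Nat.land (Nat.shiftRight x (look T 16)) 1)) 1) (Nat.land (Nat.shiftRight x (look T 15)) 1)) 1) (Nat.land (Nat.shiftRight x (look T 14)) 1)) 1) (Nat.land (Nat.shiftRight x (look T 13)) 1)) 1) (Nat.land (Nat.shiftRight x (look T 12)) 1)) 1) (Nat.land (Nat.shiftRight x (look T 11)) 1)) 1) (Nat.land (Nat.shiftRight x (look T 10)) 1)) 1) (Nat.land (Nat.shiftRight x (look T 9)) 1)) 1) (Nat.land (Nat.shiftRight x (look T 8)) 1)) 1) (Nat.land (Nat.shiftRight x (look T 7)) 1)) 1) (Nat.land (Nat.shiftRight x (look T 6)) 1)) 1) (Nat.land (Nat.shiftRight x (look T 5)) 1)) 1) (Nat.land (Nat.shiftRight x (look T 4)) 1)) 1) (Nat.land (Nat.shiftRight x (look T 3)) 1)) 1) (Nat.land (Nat.shiftRight x (look T 2)) 1)) 1) (Nat.land (Nat.shiftRight x (look T 1)) 1)) 1) (Nat.land (Nat.shiftRight x (look T 0)) 1))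

theorem pmU_eq (T x : ℕ) : pmU T x = pmI T x := rfl

theorem pmU_eq_pm (T x : ℕ) : pmU T x = pm (look T) x := by rw [pmU_eq, pmI_eq_pm]

/-- fast encoder. -/
def encF (c : ℕ) : ℕ :=
  Nat.xor (Nat.land (Nat.shiftRight 0x19703fde203e50803d97d03ccdc03b0a903a843039436038774037b010363eb035f9e034a3f03364a032ea00312d503082402f45102ecbb02d0ce02c56f02b91a02a1f0029d85028ec70272b2026a5802562d02438c023ff9022713021b66020af101f68401ee6e01d21b01c7ba01bbcf01a325019f50018c1201706701688d0154f8014159013d2c0125c60119b301034200ff3700e7dd00dba800ce0900b27c00aa960096e30085a10079d400613e005d4b0048ea00349f002c75001000000 (Nat.mul 24 (Nat.land c 63))) 0xFFFFFF)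
    (Nat.land (Nat.shiftRight 0xe68fc00a4f80f85f40149f00db2ec037ee80c5fe40293e009dcdc0710d80831d406fdd00a06cc04cac80bebc40527c00575bc0bb9b80498b40a54b006afac0863a80742a4098ea002c19c0c0d98032c940de090011b8c0fd78800f6840e3a8000527c0e9e7801bf740f737003886c0d44680265640ca96007e65c092a58060b5408c750043c4c0af04805d1440b1d400b4f3c0583380aa234046e3008952c06592809782407b4200cfb1c0237180d161403da100f210c01ed080ecc040000000 (Nat.mul 24 (Nat.shiftRight c 6))) 0xFFFFFF)

theorem encF_eq : ∀ c < 4096, encF c = enc c := by
  have h : allRange (fun c => Nat.beq (encF c) (enc c)) 12 0 = true := by decide +kernel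
  intro c hc
  exact Nat.eq_of_beq_eq_true (forall_lt_of_allRange _ 12 h c hc)

/-- table look-up for the number of ones of a 12 bit number. -/
def pcT (v : ℕ) : ℕ :=
  Nat.land (Nat.shiftRight 0xcbbabaa9baa9a998baa9a998a9989887baa9a998a9989887a998988798878776baa9a998a9989887a998988798878776a9989887988787769887877687767665baa9a998a9989887a998988798878776a9989887988787769887877687767665a998988798878776988787768776766598878776877676658776766576656554baa9a998a9989887a998988798878776a9989887988787769887877687767665a998988798878776988787768776766598878776877676658776766576656554a9989887988787769887877687767665988787768776766587767665766565549887877687767665877676657665655487767665766565547665655465545443baa9a998a9989887a998988798878776a9989887988787769887877687767665a998988798878776988787768776766598878776877676658776766576656554a9989887988787769887877687767665988787768776766587767665766565549887877687767665877676657665655487767665766565547665655465545443a998988798878776988787768776766598878776877676658776766576656554988787768776766587767665766565548776766576656554766565546554544398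878776877676658776766576656554877676657665655476656554655454438776766576656554766565546554544376656554655454436554544354434332baa9a998a9989887a998988798878776a9989887988787769887877687767665a998988798878776988787768776766598878776877676658776766576656554a9989887988787769887877687767665988787768776766587767665766565549887877687767665877676657665655487767665766565547665655465545443a998988798878776988787768776766598878776877676658776766576656554988787768776766587767665766565548776766576656554766565546554544398878776877676658776766576656554877676657665655476656554655454438776766576656554766565546554544376656554655454436554544354434332a998988798878776988787768776766598878776877676658776766576656554988787768776766587767665766565548776766576656554766565546554544398878776877676658776766576656554877676657665655476656554655454438776766576656554766565546554544376656554655454436554544354434332988787768776766587767665766565548776766576656554766565546554544387767665766565547665655465545443766565546554544365545443544343328776766576656554766565546554544376656554655454436554544354434332766565546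5545443655454435443433265545443544343325443433243323221baa9a998a9989887a998988798878776a9989887988787769887877687767665a998988798878776988787768776766598878776877676658776766576656554a9989887988787769887877687767665988787768776766587767665766565549887877687767665877676657665655487767665766565547665655465545443a998988798878776988787768776766598878776877676658776766576656554988787768776766587767665766565548776766576656554766565546554544398878776877676658776766576656554877676657665655476656554655454438776766576656554766565546554544376656554655454436554544354434332a9989887988787769887877687767665988787768776766587767665766565549887877687767665877676657665655487767665766565547665655465545443988787768776766587767665766565548776766576656554766565546554544387767665766565547665655465545443766565546554544365545443544343329887877687767665877676657665655487767665766565547665655465545443877676657665655476656554655454437665655465545443655454435443433287767665766565547665655465545443766565546554544365545443544343327665655465545443655454435443433265545443544343325443433243323221a998988798878776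988787768776766598878776877676658776766576656554988787768776766587767665766565548776766576656554766565546554544398878776877676658776766576656554877676657665655476656554655454438776766576656554766565546554544376656554655454436554544354434332988787768776766587767665766565548776766576656554766565546554544387767665766565547665655465545443766565546554544365545443544343328776766576656554766565546554544376656554655454436554544354434332766565546554544365545443544343326554544354434332544343324332322198878776877676658776766576656554877676657665655476656554655454438776766576656554766565546554544376656554655454436554544354434332877676657665655476656554655454437665655465545443655454435443433276656554655454436554544354434332655454435443433254434332433232218776766576656554766565546554544376656554655454436554544354434332766565546554544365545443544343326554544354434332544343324332322176656554655454436554544354434332655454435443433254434332433232216554544354434332544343324332322154434332433232214332322132212110 (Nat.mul 4 v)) 15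

theorem pcT_eq : ∀ v < 4096, pcT v = pc v := by
  have h : allRange (fun c => Nat.beq (pcT c) (pc c)) 12 0 = true := by decide +kernel
  intro c hc
  exact Nat.eq_of_beq_eq_true (forall_lt_of_allRange _ 12 h c hc)

/-- fast number of ones of a 24 bit number. -/
def pcF (x : ℕ) : ℕ := Nat.add (pcT (Nat.land x 4095)) (pcT (Nat.shiftRight x 12))

theorem pc_split {x : ℕ} (hx : x < 2 ^ 24) : pc x = pc (x &&& 4095) + pc (x >>> 12) := by
  unfold pc
  rw [pcAux_eq, pcAux_eq, pcAux_eq, zero_add, zero_add, zero_add]
  rw [show (24 : ℕ) = 12 + 12 from rfl, Finset.sum_range_add, Finset.sum_range_add,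
    Finset.sum_range_add (fun i => ((x >>> 12).testBit i).toNat)]
  have h1 : ∀ i, ((x &&& 4095).testBit i) = (x.testBit i && decide (i < 12)) := by
    intro i
    rw [Nat.testBit_and, show (4095 : ℕ) = 2 ^ 12 - 1 from rfl, Nat.testBit_two_pow_sub_one]
  have h2 : ∑ i ∈ Finset.range 12, ((x &&& 4095).testBit i).toNat =
      ∑ i ∈ Finset.range 12, (x.testBit i).toNat := by
    apply Finset.sum_congr rfl
    intro i hi
    rw [h1, decide_eq_true (Finset.mem_range.mp hi), Bool.and_true]
  have h3 : ∑ i ∈ Finset.range 12, ((x &&& 4095).testBit (12 + i)).toNat = 0 := by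
    apply Finset.sum_eq_zero
    intro i _
    rw [h1, decide_eq_false (by omega), Bool.and_false]; rfl
  have h4 : ∑ i ∈ Finset.range 12, ((x >>> 12).testBit i).toNat =
      ∑ i ∈ Finset.range 12, (x.testBit (12 + i)).toNat := by
    apply Finset.sum_congr rfl
    intro i _
    rw [Nat.testBit_shiftRight]
  have h5 : ∑ i ∈ Finset.range 12, ((x >>> 12).testBit (12 + i)).toNat = 0 := by
    apply Finset.sum_eq_zero
    intro i _
    rw [Nat.testBit_shiftRight, Nat.testBit_lt_two_pow]; · rfl
    exact lt_of_lt_of_le hx (Nat.pow_le_pow_right (by norm_num) (by omega))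
  rw [h2, h3, h4, h5]; ring

theorem pcF_eq {x : ℕ} (hx : x < 2 ^ 24) : pcF x = pc x := by
  rw [pc_split hx]
  show pcT (x &&& 4095) + pcT (x >>> 12) = _
  rw [pcT_eq, pcT_eq]
  · rw [Nat.shiftRight_eq_div_pow]
    apply Nat.div_lt_of_lt_mul
    calc x < 2 ^ 24 := hx
      _ = 2 ^ 12 * 4096 := by norm_num
  · exact lt_of_le_of_lt Nat.and_le_right (by norm_num)

theorem card_eq_pcF (s : Finset GolayPt) : s.card = pcF (mask s) := by
  rw [pcF_eq (mask_lt s), card_eq_pc]

theorem forall_codeF (Q : ℕ → Bool) (h : allRange (fun c => Q (encF c)) 12 0 = true) :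
    ∀ s ∈ CS, Q (mask s) = true := by
  intro s hs
  rw [mem_supports_iff] at hs
  have h1 : mask s % 4096 < 4096 := Nat.mod_lt _ (by norm_num)
  have := forall_lt_of_allRange _ 12 h (mask s % 4096) h1
  rwa [encF_eq _ h1, ← hs] at this

theorem ncard_codeF (Q : ℕ → Bool) :
    {s : Finset GolayPt | s ∈ CS ∧ Q (mask s) = true}.ncard =
      countRange (fun c => Q (encF c)) 12 0 := by
  rw [ncard_code, countRange_zero, countRange_zero]
  have : (Finset.range (2 ^ 12)).filter (fun c => Q (enc c) = true) =
      (Finset.range (2 ^ 12)).filter (fun c => Q (encF c) = true) :=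
    Finset.filter_congr (fun c hc => by
      rw [encF_eq c (by rw [Finset.mem_range] at hc; exact hc)])
  rw [this]

/-- packed identity table. -/
def idT : ℕ := 0xbdab49ca307b9ac5a928398a418820


/-- the subgroup of the code's group stabilising the sets with the given masks. -/
def StabM (ms : List ℕ) : Subgroup (Equiv.Perm GolayPt) where
  carrier := {g | g ∈ M24 ∧ ∀ m ∈ ms, g • unmask m = unmask m}
  mul_mem' := by
    rintro a b ⟨ha, ha'⟩ ⟨hb, hb'⟩
    exact ⟨M24.mul_mem ha hb, fun m hm => by rw [mul_smul, hb' m hm, ha' m hm]⟩
  one_mem' := ⟨M24.one_mem, fun m _ => one_smul _ _⟩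
  inv_mem' := by
    rintro a ⟨ha, ha'⟩
    exact ⟨M24.inv_mem ha, fun m hm => by rw [inv_smul_eq_iff, ha' m hm]⟩

theorem mem_StabM {ms : List ℕ} {g : Equiv.Perm GolayPt} :
    g ∈ StabM ms ↔ g ∈ M24 ∧ ∀ m ∈ ms, g • unmask m = unmask m := Iff.rfl

/-- the `d`-th table of a packed list of tables. -/
def tabOf (TT d : ℕ) : ℕ :=
  Nat.land (Nat.shiftRight TT (Nat.mul 120 d)) 0xFFFFFFFFFFFFFFFFFFFFFFFFFFFFFF

/-- `T` is the table of the inverse of the word `w`, and `w` stabilises the masks `ms`. -/
def chkGen (ms : List ℕ) (w : List ℕ) (T : ℕ) : Bool :=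
  (List.range 24).all (fun j => look T j == wact (winv w) j) &&
    ms.all (fun m => Nat.blt m 16777216 && pmU T m == m)

/-- check of sixteen packed tables. -/
def chkGens (ms : List ℕ) (ws : List (List ℕ)) (TT : ℕ) : Bool :=
  (List.range 16).all fun d => chkGen ms (ws.getD d []) (tabOf TT d)

theorem pm_congr {f g : ℕ → ℕ} (h : ∀ j < 24, f j = g j) (x : ℕ) : pm f x = pm g x := by
  apply Nat.eq_of_testBit_eq; intro i
  rw [testBit_pm, testBit_pm]
  by_cases hi : i < 24
  · rw [h i hi]
  · simp [hi]

theorem chkGen_sound {ms : List ℕ} {w : List ℕ} {T : ℕ} (h : chkGen ms w T = true) :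
    wperm w ∈ StabM ms ∧ ∀ s : Finset GolayPt, mask (wperm w • s) = pmU T (mask s) := by
  unfold chkGen at h
  simp only [Bool.and_eq_true, List.all_eq_true, List.mem_range, beq_iff_eq] at h
  have h2 : ∀ s : Finset GolayPt, mask (wperm w • s) = pmU T (mask s) := by
    intro s
    rw [mask_wperm_smul, pmU_eq_pm]
    exact (pm_congr h.1 _).symm
  refine ⟨⟨wperm_mem w, fun m hm => ?_⟩, h2⟩
  obtain ⟨h3, h4⟩ := h.2 m hm
  have h5 : m < 2 ^ 24 := by
    have := Nat.le_of_ble_eq_true h3
    omega
  apply mask_injective
  rw [h2, mask_unmask h5, h4]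

/-- follow the directions given by `dir`. -/
def descend (TT : ℕ) (dir : ℕ → ℕ) : ℕ → ℕ → ℕ
  | 0, x => x
  | n+1, x => force (pmU (tabOf TT (Nat.land (dir x) 15)) x) (descend TT dir n)

theorem descend_sound {ms : List ℕ} {ws : List (List ℕ)} {TT : ℕ} (hg : chkGens ms ws TT = true)
    (dir : ℕ → ℕ) (n : ℕ) (s : Finset GolayPt) :
    ∃ σ ∈ StabM ms, mask (σ • s) = descend TT dir n (mask s) := by
  induction n generalizing s with
  | zero => exact ⟨1, (StabM ms).one_mem, by rw [one_smul]; rfl⟩
  | succ n ih =>
    unfold chkGens at hg
    rw [List.all_eq_true] at hg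
    have hd : Nat.land (dir (mask s)) 15 < 16 :=
      lt_of_le_of_lt (Nat.and_le_right (n := dir (mask s)) (m := 15)) (by norm_num)
    obtain ⟨h1, h2⟩ := chkGen_sound (hg _ (List.mem_range.mpr hd))
    obtain ⟨σ, hσ, h3⟩ := ih (wperm (ws.getD (Nat.land (dir (mask s)) 15) []) • s)
    refine ⟨σ * wperm (ws.getD (Nat.land (dir (mask s)) 15) []), (StabM ms).mul_mem hσ h1, ?_⟩
    rw [mul_smul, h3, h2, descend, force_eq]

/-- check for one element of an enumerated family. -/
def chkOrb (en : ℕ → ℕ) (TT : ℕ) (dir : ℕ → ℕ) (D : ℕ) (fin : ℕ → ℕ → Bool) (c : ℕ) : Bool :=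
  force (en c) fun x => fin x (descend TT dir D x)

theorem orbit_enum {ms : List ℕ} {ws : List (List ℕ)} {TT : ℕ} {en dir : ℕ → ℕ} {D k : ℕ}
    {fin : ℕ → ℕ → Bool} (hg : chkGens ms ws TT = true)
    (h : allRange (chkOrb en TT dir D fin) k 0 = true) (s : Finset GolayPt) (c : ℕ)
    (hc : c < 2 ^ k) (hs : mask s = en c) :
    ∃ σ ∈ StabM ms, fin (mask s) (mask (σ • s)) = true := by
  obtain ⟨σ, hσ, h1⟩ := descend_sound hg dir D s
  refine ⟨σ, hσ, ?_⟩
  have h2 := forall_lt_of_allRange _ k h c hc
  unfold chkOrb at h2
  rw [force_eq, ← hs] at h2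
  rw [h1]; exact h2

/-- direction table indexed by the low twelve bits. -/
def dirC (DIR x : ℕ) : ℕ := Nat.land (Nat.shiftRight DIR (Nat.mul 4 (Nat.land x 4095))) 15

theorem orbit_code {ms : List ℕ} {ws : List (List ℕ)} {TT : ℕ} {dir : ℕ → ℕ} {D : ℕ}
    {fin : ℕ → ℕ → Bool} (hg : chkGens ms ws TT = true)
    (h : allRange (chkOrb encF TT dir D fin) 12 0 = true) (s : Finset GolayPt) (hs : s ∈ CS) :
    ∃ σ ∈ StabM ms, fin (mask s) (mask (σ • s)) = true := by
  rw [mem_supports_iff] at hs
  have h1 : mask s % 4096 < 4096 := Nat.mod_lt _ (by norm_num)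
  apply orbit_enum hg h s (mask s % 4096) h1
  rw [encF_eq _ h1]; exact hs

end Cfsg.Agent.Lib.Helper3
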