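import Mathlib
import Cfsg.Agent.Lib.Helper3.Config

set_option autoImplicit false

namespace Cfsg.Agent.Lib.Helper3

open Cfsg
open scoped Pointwise

/-- final test: members of the family `cs` go to the representative given by the number of points
in common with the set of mask `m0`. -/
def finG (cs : List (ℕ × ℕ)) (m0 : ℕ) (rep : ℕ → ℕ) (x y : ℕ) : Bool :=
  !(condsOK cs x) || Nat.beq y (rep (pcF (Nat.land m0 x)))

theorem toRep {ms : List ℕ} {ws : List (List ℕ)} {TT : ℕ} {dir : ℕ → ℕ} {D : ℕ}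
    {cs : List (ℕ × ℕ)} {m0 : ℕ} {rep : ℕ → ℕ} (hg : chkGens ms ws TT = true)
    (h : allRange (chkOrb encF TT dir D (finG cs m0 rep)) 12 0 = true)
    (hcs : ∀ c ∈ cs, c.1 < 2 ^ 24) (hm0 : m0 < 2 ^ 24) {s : Finset GolayPt} (hs : s ∈ CS)
    (hfam : ∀ c ∈ cs, (unmask c.1 ∩ s).card = c.2) :
    ∃ σ ∈ StabM ms, mask (σ • s) = rep (unmask m0 ∩ s).card := by
  obtain ⟨σ, hσ, h1⟩ := orbit_code hg h s hs
  refine ⟨σ, hσ, ?_⟩
  unfold finG at h1
  rw [(condsOK_iff cs hcs s).2 hfam, land_mask _ hm0, ← card_eq_pcF] at h1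
  simpa using h1

theorem pair_trans {ms : List ℕ} {ws : List (List ℕ)} {TT : ℕ} {dir : ℕ → ℕ} {D : ℕ}
    {cs : List (ℕ × ℕ)} {m0 : ℕ} {rep : ℕ → ℕ} (hg : chkGens ms ws TT = true)
    (h : allRange (chkOrb encF TT dir D (finG cs m0 rep)) 12 0 = true)
    (hcs : ∀ c ∈ cs, c.1 < 2 ^ 24) (hm0 : m0 < 2 ^ 24) {s s' : Finset GolayPt}
    (hs : s ∈ CS ∧ ∀ c ∈ cs, (unmask c.1 ∩ s).card = c.2)
    (hs' : s' ∈ CS ∧ ∀ c ∈ cs, (unmask c.1 ∩ s').card = c.2)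
    (hinv : (unmask m0 ∩ s).card = (unmask m0 ∩ s').card) :
    ∃ g ∈ StabM ms, g • s = s' := by
  obtain ⟨σ, hσ, h1⟩ := toRep hg h hcs hm0 hs.1 hs.2
  obtain ⟨σ', hσ', h1'⟩ := toRep hg h hcs hm0 hs'.1 hs'.2
  refine ⟨σ'⁻¹ * σ, (StabM ms).mul_mem ((StabM ms).inv_mem hσ') hσ, ?_⟩
  rw [mul_smul, inv_smul_eq_iff]
  apply mask_injective
  rw [h1, h1', hinv]

/-- conjugating back. -/
theorem conj_back {α β : Type*} [MulAction (Equiv.Perm GolayPt) α]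
    [MulAction (Equiv.Perm GolayPt) β] {u g : Equiv.Perm GolayPt} (hu : u ∈ M24) (hg : g ∈ M24)
    {y : α} (hy : g • u • y = u • y) {a b : β} (hab : g • u • a = u • b) :
    ∃ g' ∈ M24, g' • y = y ∧ g' • a = b := by
  refine ⟨u⁻¹ * g * u, M24.mul_mem (M24.mul_mem (M24.inv_mem hu) hg) hu, ?_, ?_⟩
  · rw [mul_smul, mul_smul, hy, inv_smul_smul]
  · rw [mul_smul, mul_smul, hab, inv_smul_smul]

theorem oct_iff {u : Equiv.Perm GolayPt} (hu : u ∈ M24) (s : Finset GolayPt) :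
    s ∈ octads ↔ u • s ∈ CS ∧ (unmask 0xFFFFFF ∩ u • s).card = 8 := by
  rw [← smul_mem_octads_iff hu, card_full_inter]; rfl

theorem dod_iff {u : Equiv.Perm GolayPt} (hu : u ∈ M24) (s : Finset GolayPt) :
    s ∈ dodecads ↔ u • s ∈ CS ∧ (unmask 0xFFFFFF ∩ u • s).card = 12 := by
  rw [← smul_mem_dodecads_iff hu, card_full_inter]; rfl

theorem pmem_iff {u : Equiv.Perm GolayPt} {x : GolayPt} {m i : ℕ} (hi : i < 24) (hm : m = 1 <<< i)
    (hux : u x = pt i) (s : Finset GolayPt) : x ∈ s ↔ (unmask m ∩ u • s).card = 1 := by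
  rw [← mem_iff_card hi hm, ← hux]
  exact (Finset.smul_mem_smul_finset_iff u).symm

theorem pnmem_iff {u : Equiv.Perm GolayPt} {x : GolayPt} {m i : ℕ} (hi : i < 24)
    (hm : m = 1 <<< i) (hux : u x = pt i) (s : Finset GolayPt) :
    x ∉ s ↔ (unmask m ∩ u • s).card = 0 := by
  rw [← not_mem_iff_card hi hm, ← hux]
  exact not_congr (Finset.smul_mem_smul_finset_iff u).symm

theorem inter_eq {u : Equiv.Perm GolayPt} {o : Finset GolayPt} {m : ℕ} (huo : u • o = unmask m)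
    (s : Finset GolayPt) : (o ∩ s).card = (unmask m ∩ u • s).card := by
  rw [← huo, card_smul_inter]

end Cfsg.Agent.Lib.Helper3
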