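import Mathlib
import Cfsg.Agent.Lib.Helper3.Rank

set_option autoImplicit false

namespace Cfsg.Agent.Lib.Helper3

open Cfsg
open scoped Pointwise

/-- direction table for one point sets. -/
def dirP (DIR x : ℕ) : ℕ := Nat.land (Nat.shiftRight DIR (Nat.mul 4 (Nat.log2 x))) 15

/-- final test for one point sets: points of `F` go to the point `r`. -/
def finP (F r x y : ℕ) : Bool := Nat.beq (Nat.land x F) 0 || Nat.beq y (Nat.shiftLeft 1 r)

theorem mask_singleton (q : GolayPt) : mask {q} = 1 <<< idx q := by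
  have h : ({q} : Finset GolayPt) = unmask (1 <<< idx q) := by
    rw [unmask_shift (idx_lt q), pt_idx]
  rw [h, mask_unmask]
  rw [Nat.one_shiftLeft]
  exact Nat.pow_lt_pow_right (by norm_num) (idx_lt q)

theorem point_trans {ms : List ℕ} {ws : List (List ℕ)} {TT DIR D F r : ℕ}
    (hg : chkGens ms ws TT = true)
    (h : allRange (chkOrb (Nat.shiftLeft 1) TT (dirP DIR) D (finP F r)) 5 0 = true)
    (q : GolayPt) (hq : F.testBit (idx q) = true) : ∃ σ ∈ StabM ms, σ q = pt r := by
  obtain ⟨σ, hσ, h1⟩ := orbit_enum hg h {q} (idx q) (lt_trans (idx_lt q) (by norm_num))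
    (mask_singleton q)
  refine ⟨σ, hσ, ?_⟩
  unfold finP at h1
  have h2 : Nat.land (mask {q}) F ≠ 0 := by
    intro h0
    have h3 : (Nat.land (mask {q}) F).testBit (idx q) = true := by
      show ((mask {q}) &&& F).testBit (idx q) = true
      rw [Nat.testBit_and, hq, mask_singleton, Nat.one_shiftLeft, Nat.testBit_two_pow_self]; rfl
    rw [h0] at h3
    simp at h3
  have h4 : Nat.beq (Nat.land (mask {q}) F) 0 = false := by
    rw [← Bool.not_eq_true, Nat.beq_eq]; exact h2
  rw [h4, Bool.false_or, Nat.beq_eq, Finset.smul_finset_singleton, mask_singleton] at h1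
  have h5 : (1 : ℕ) <<< idx (σ • q) = 1 <<< r := h1
  rw [Nat.one_shiftLeft, Nat.one_shiftLeft] at h5
  have h6 := Nat.pow_right_injective (le_refl 2) h5
  have h7 : idx (σ q) = r := h6
  rw [← pt_idx (σ q), h7]

end Cfsg.Agent.Lib.Helper3
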