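import Cfsg.Agent.Lib.Helper3.StD21data

set_option autoImplicit false
set_option maxRecDepth 100000

namespace Cfsg.Agent.Lib.Helper3.Stq.D21

open Cfsg Cfsg.Agent.Lib.Helper3.Stq

def phAc1 : Cert := (.node 272 (.sub (.goto []) .nil))
def phAc2 : Cert := (.sub (.node 272 (.sub (.goto [(7, 8), (11, 12), (13, 17), (14, 18), (15, 20), (16, 19)]) .nil)) .nil)
def phAc3 : Cert := (.node 144 (.sub (.node 272 (.sub (.goto [(13, 17), (14, 18), (15, 19), (16, 20)]) .nil)) .nil))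
def phAc4 : Cert := (.sub (.node 144 (.sub (.node 272 (.sub (.goto [(7, 8), (11, 12), (15, 16), (19, 20)]) .nil)) .nil)) .nil)
def phAc5 : Cert := (.sub (.node 144 (.sub (.node 272 (.sub (.goto [(7, 8), (9, 17), (10, 18), (11, 20), (12, 19), (13, 9), (14, 10), (15, 12), (16, 11), (15, 16)]) .nil)) .nil)) .nil)
def phAc6 : Cert := (.node 80 (.sub (.node 144 (.sub (.node 272 (.sub (.goto [(9, 13), (10, 14), (11, 15), (12, 16)]) .nil)) .nil)) .nil))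
def phAc7 : Cert := (.sub (.node 80 (.sub (.node 144 (.sub (.node 272 (.sub (.goto [(7, 8), (9, 17), (10, 18), (11, 20), (12, 19), (15, 16)]) .nil)) .nil)) .nil)) .nil)
def phAc8 : Cert := (.node 48 (.sub (.node 80 (.sub (.node 144 (.sub (.node 272 (.sub (.goto [(9, 13), (10, 14), (11, 15), (12, 16), (9, 17), (10, 18), (11, 19), (12, 20)]) .nil)) .nil)) .nil)) .nil))
def phAc9 : Cert := (.node 48 (.sub (.node 80 (.sub (.node 144 (.sub (.node 272 (.sub (.goto [(9, 17), (10, 18), (11, 19), (12, 20), (13, 9), (14, 10), (15, 11), (16, 12)]) .nil)) .nil)) .nil)) .nil))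
def phAc10 : Cert := (.sub (.node 48 (.sub (.node 80 (.sub (.node 144 (.sub (.node 272 (.sub (.goto [(7, 8), (9, 13), (10, 14), (11, 16), (12, 15), (19, 20)]) .nil)) .nil)) .nil)) .nil)) .nil)
def phAc11 : Cert := (.node 264 (.sub (.node 48 (.sub (.node 80 (.sub (.node 144 (.sub (.node 272 (.sub (.goto [(9, 17), (10, 18), (11, 19), (12, 20)]) .nil)) .nil)) .nil)) .nil)) .nil))
def phAc12 : Cert := (.sub (.node 264 (.sub (.node 48 (.sub (.node 80 (.sub (.node 144 (.sub (.node 272 (.sub (.goto [(7, 8), (9, 13), (10, 14), (11, 16), (12, 15), (9, 17), (10, 18), (12, 20), (11, 19), (11, 12)]) .nil)) .nil)) .nil)) .nil)) .nil)) .nil)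
def phAc13 : Cert := (.iso 139810 [(10, 9), (16, 13), (18, 17)] (.iso 139810 [(10, 9), (16, 13), (19, 17)] (.iso 139810 [(10, 9), (16, 13), (20, 17)] (.iso 139810 [(11, 9)] (.iso 139810 [(11, 9), (18, 17)] (.iso 139810 [(11, 9), (19, 17)] (.iso 139810 [(11, 9), (20, 17)] (.iso 139810 [(11, 9), (14, 13)] (.iso 139810 [(11, 9), (14, 13), (18, 17)] (.iso 139810 [(11, 9), (14, 13), (19, 17)] (.iso 139810 [(11, 9), (14, 13), (20, 17)] (.iso 139810 [(11, 9), (15, 13)] (.iso 139810 [(11, 9), (15, 13), (18, 17)] (.iso 139810 [(11, 9), (15, 13), (19, 17)] (.iso 139810 [(11, 9), (15, 13), (20, 17)] (.iso 139810 [(11, 9), (16, 13)] (.iso 139810 [(11, 9), (16, 13), (18, 17)] (.iso 139810 [(11, 9), (16, 13), (19, 17)] (.iso 139810 [(11, 9), (16, 13), (20, 17)] (.iso 139810 [(12, 9)] (.iso 139810 [(12, 9), (18, 17)] (.iso 139810 [(12, 9), (19,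 17)] (.iso 139810 [(12, 9), (20, 17)] (.iso 139810 [(12, 9), (14, 13)] (.iso 139810 [(12, 9), (14, 13), (18, 17)] (.iso 139810 [(12, 9), (14, 13), (19, 17)] (.iso 139810 [(12, 9), (14, 13), (20, 17)] (.iso 139810 [(12, 9), (15, 13)] (.iso 139810 [(12, 9), (15, 13), (18, 17)] (.iso 139810 [(12, 9), (15, 13), (19, 17)] (.iso 139810 [(12, 9), (15, 13), (20, 17)] (.iso 139810 [(12, 9), (16, 13)] (.iso 139810 [(12, 9), (16, 13), (18, 17)] (.iso 139810 [(12, 9), (16, 13), (19, 17)] (.iso 139810 [(12, 9), (16, 13), (20, 17)] .nil)))))))))))))))))))))))))))))))))))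
def phAc14 : Cert := (.iso 122881 [(17, 14), (19, 15), (20, 16)] (.iso 122881 [(18, 14), (19, 15), (20, 16)] .nil))
def phAc15 : Cert := (.iso 7681 [(16, 10), (17, 11), (18, 12)] (.iso 7681 [(16, 10), (17, 11), (19, 12)] (.iso 7681 [(16, 10), (17, 11), (20, 12)] (.iso 7681 [(16, 10), (18, 11), (19, 12)] (.iso 7681 [(16, 10), (18, 11), (20, 12)] (.iso 7681 [(16, 10), (19, 11), (20, 12)] (.iso 7681 [(17, 10), (18, 11), (19, 12)] (.iso 7681 [(17, 10), (18, 11), (20, 12)] (.iso 7681 [(17, 10), (19, 11), (20, 12)] (.iso 7681 [(18, 10), (19, 11), (20, 12)] .nil))))))))))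
def phAc16 : Cert := (.iso 7681 [(13, 10), (15, 11), (16, 12)] (.iso 7681 [(13, 10), (15, 11), (17, 12)] (.iso 7681 [(13, 10), (15, 11), (18, 12)] (.iso 7681 [(13, 10), (15, 11), (19, 12)] (.iso 7681 [(13, 10), (15, 11), (20, 12)] (.iso 7681 [(13, 10), (16, 11), (17, 12)] (.iso 7681 [(13, 10), (16, 11), (18, 12)] (.iso 7681 [(13, 10), (16, 11), (19, 12)] (.iso 7681 [(13, 10), (16, 11), (20, 12)] (.iso 7681 [(13, 10), (17, 11), (18, 12)] (.iso 7681 [(13, 10), (17, 11), (19, 12)] (.iso 7681 [(13, 10), (17, 11), (20, 12)] (.iso 7681 [(13, 10), (18, 11), (19, 12)] (.iso 7681 [(13, 10), (18, 11), (20, 12)] (.iso 7681 [(13, 10), (19, 11), (20, 12)] (.iso 7681 [(14, 10), (15, 11), (16, 12)] (.iso 7681 [(14, 10), (15, 11), (17, 12)] (.iso 7681 [(14, 10), (15, 11), (18, 12)] (.iso 7681 [(14, 10), (15, 11), (19, 12)] (.iso 7681 [(14, 10),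 (15, 11), (20, 12)] (.iso 7681 [(14, 10), (16, 11), (17, 12)] (.iso 7681 [(14, 10), (16, 11), (18, 12)] (.iso 7681 [(14, 10), (16, 11), (19, 12)] (.iso 7681 [(14, 10), (16, 11), (20, 12)] (.iso 7681 [(14, 10), (17, 11), (18, 12)] (.iso 7681 [(14, 10), (17, 11), (19, 12)] (.iso 7681 [(14, 10), (17, 11), (20, 12)] (.iso 7681 [(14, 10), (18, 11), (19, 12)] (.iso 7681 [(14, 10), (18, 11), (20, 12)] (.iso 7681 [(14, 10), (19, 11), (20, 12)] (.iso 7681 [(15, 10), (16, 11), (17, 12)] (.iso 7681 [(15, 10), (16, 11), (18, 12)] (.iso 7681 [(15, 10), (16, 11), (19, 12)] (.iso 7681 [(15, 10), (16, 11), (20, 12)] (.iso 7681 [(15, 10), (17, 11), (18, 12)] (.iso 7681 [(15, 10), (17, 11), (19, 12)] (.iso 7681 [(15, 10), (17, 11), (20, 12)] (.iso 7681 [(15, 10), (18, 11), (19, 12)] (.iso 7681 [(15, 10), (18, 11), (20, 12)] (.iso 7681 [(15, 10), (19,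 11), (20, 12)] phAc15))))))))))))))))))))))))))))))))))))))))
def phAc17 : Cert := (.iso 7681 [(17, 10), (18, 12)] (.iso 7681 [(17, 10), (19, 12)] (.iso 7681 [(17, 10), (20, 12)] (.iso 7681 [(18, 10), (19, 12)] (.iso 7681 [(18, 10), (20, 12)] (.iso 7681 [(19, 10), (20, 12)] (.iso 7681 [(13, 10), (14, 11)] (.iso 7681 [(13, 10), (15, 11)] (.iso 7681 [(13, 10), (16, 11)] (.iso 7681 [(13, 10), (17, 11)] (.iso 7681 [(13, 10), (18, 11)] (.iso 7681 [(13, 10), (19, 11)] (.iso 7681 [(13, 10), (20, 11)] (.iso 7681 [(14, 10), (15, 11)] (.iso 7681 [(14, 10), (16, 11)] (.iso 7681 [(14, 10), (17, 11)] (.iso 7681 [(14, 10), (18, 11)] (.iso 7681 [(14, 10), (19, 11)] (.iso 7681 [(14, 10), (20, 11)] (.iso 7681 [(15, 10), (16, 11)] (.iso 7681 [(15, 10), (17, 11)] (.iso 7681 [(15, 10), (18, 11)] (.iso 7681 [(15, 10), (19, 11)] (.iso 7681 [(15, 10),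 (20, 11)] (.iso 7681 [(16, 10), (17, 11)] (.iso 7681 [(16, 10), (18, 11)] (.iso 7681 [(16, 10), (19, 11)] (.iso 7681 [(16, 10), (20, 11)] (.iso 7681 [(17, 10), (18, 11)] (.iso 7681 [(17, 10), (19, 11)] (.iso 7681 [(17, 10), (20, 11)] (.iso 7681 [(18, 10), (19, 11)] (.iso 7681 [(18, 10), (20, 11)] (.iso 7681 [(19, 10), (20, 11)] (.iso 7681 [(13, 10), (14, 11), (15, 12)] (.iso 7681 [(13, 10), (14, 11), (16, 12)] (.iso 7681 [(13, 10), (14, 11), (17, 12)] (.iso 7681 [(13, 10), (14, 11), (18, 12)] (.iso 7681 [(13, 10), (14, 11), (19, 12)] (.iso 7681 [(13, 10), (14, 11), (20, 12)] phAc16))))))))))))))))))))))))))))))))))))))))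
def phAc18 : Cert := (.iso 7681 [(16, 11), (17, 12)] (.iso 7681 [(16, 11), (18, 12)] (.iso 7681 [(16, 11), (19, 12)] (.iso 7681 [(16, 11), (20, 12)] (.iso 7681 [(17, 11), (18, 12)] (.iso 7681 [(17, 11), (19, 12)] (.iso 7681 [(17, 11), (20, 12)] (.iso 7681 [(18, 11), (19, 12)] (.iso 7681 [(18, 11), (20, 12)] (.iso 7681 [(19, 11), (20, 12)] (.iso 7681 [(13, 10)] (.iso 7681 [(14, 10)] (.iso 7681 [(15, 10)] (.iso 7681 [(16, 10)] (.iso 7681 [(17, 10)] (.iso 7681 [(18, 10)] (.iso 7681 [(19, 10)] (.iso 7681 [(20, 10)] (.iso 7681 [(13, 10), (14, 12)] (.iso 7681 [(13, 10), (15, 12)] (.iso 7681 [(13, 10), (16, 12)] (.iso 7681 [(13, 10), (17, 12)] (.iso 7681 [(13, 10), (18, 12)] (.iso 7681 [(13, 10), (19, 12)] (.iso 7681 [(13, 10), (20, 12)] (.iso 7681 [(14, 10), (15, 12)] (.iso 7681 [(14, 10), (16, 12)] (.iso 7681 [(14, 10), (17, 12)] (.iso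 7681 [(14, 10), (18, 12)] (.iso 7681 [(14, 10), (19, 12)] (.iso 7681 [(14, 10), (20, 12)] (.iso 7681 [(15, 10), (16, 12)] (.iso 7681 [(15, 10), (17, 12)] (.iso 7681 [(15, 10), (18, 12)] (.iso 7681 [(15, 10), (19, 12)] (.iso 7681 [(15, 10), (20, 12)] (.iso 7681 [(16, 10), (17, 12)] (.iso 7681 [(16, 10), (18, 12)] (.iso 7681 [(16, 10), (19, 12)] (.iso 7681 [(16, 10), (20, 12)] phAc17))))))))))))))))))))))))))))))))))))))))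
def phAc19 : Cert := (.iso 481 [(15, 6), (16, 7), (19, 8)] (.iso 481 [(15, 6), (16, 7), (20, 8)] (.iso 481 [(15, 6), (17, 7), (18, 8)] (.iso 481 [(15, 6), (17, 7), (19, 8)] (.iso 481 [(15, 6), (17, 7), (20, 8)] (.iso 481 [(15, 6), (18, 7), (19, 8)] (.iso 481 [(15, 6), (18, 7), (20, 8)] (.iso 481 [(15, 6), (19, 7), (20, 8)] (.iso 481 [(16, 6), (17, 7), (18, 8)] (.iso 481 [(16, 6), (17, 7), (19, 8)] (.iso 481 [(16, 6), (17, 7), (20, 8)] (.iso 481 [(16, 6), (18, 7), (19, 8)] (.iso 481 [(16, 6), (18, 7), (20, 8)] (.iso 481 [(16, 6), (19, 7), (20, 8)] (.iso 481 [(17, 6), (18, 7), (19, 8)] (.iso 481 [(17, 6), (18, 7), (20, 8)] (.iso 481 [(17, 6), (19, 7), (20, 8)] (.iso 481 [(18, 6), (19, 7), (20, 8)] .nil))))))))))))))))))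
def phAc20 : Cert := (.iso 481 [(12, 6), (18, 7), (20, 8)] (.iso 481 [(12, 6), (19, 7), (20, 8)] (.iso 481 [(13, 6), (14, 7), (15, 8)] (.iso 481 [(13, 6), (14, 7), (16, 8)] (.iso 481 [(13, 6), (14, 7), (17, 8)] (.iso 481 [(13, 6), (14, 7), (18, 8)] (.iso 481 [(13, 6), (14, 7), (19, 8)] (.iso 481 [(13, 6), (14, 7), (20, 8)] (.iso 481 [(13, 6), (15, 7), (16, 8)] (.iso 481 [(13, 6), (15, 7), (17, 8)] (.iso 481 [(13, 6), (15, 7), (18, 8)] (.iso 481 [(13, 6), (15, 7), (19, 8)] (.iso 481 [(13, 6), (15, 7), (20, 8)] (.iso 481 [(13, 6), (16, 7), (17, 8)] (.iso 481 [(13, 6), (16, 7), (18, 8)] (.iso 481 [(13, 6), (16, 7), (19, 8)] (.iso 481 [(13, 6), (16, 7), (20, 8)] (.iso 481 [(13, 6), (17, 7), (18, 8)] (.iso 481 [(13, 6), (17, 7), (19, 8)] (.iso 481 [(13, 6), (17, 7), (20, 8)] (.iso 481 [(13, 6), (18, 7), (19, 8)] (.iso 481 [(13, 6), (18,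 7), (20, 8)] (.iso 481 [(13, 6), (19, 7), (20, 8)] (.iso 481 [(14, 6), (15, 7), (16, 8)] (.iso 481 [(14, 6), (15, 7), (17, 8)] (.iso 481 [(14, 6), (15, 7), (18, 8)] (.iso 481 [(14, 6), (15, 7), (19, 8)] (.iso 481 [(14, 6), (15, 7), (20, 8)] (.iso 481 [(14, 6), (16, 7), (17, 8)] (.iso 481 [(14, 6), (16, 7), (18, 8)] (.iso 481 [(14, 6), (16, 7), (19, 8)] (.iso 481 [(14, 6), (16, 7), (20, 8)] (.iso 481 [(14, 6), (17, 7), (18, 8)] (.iso 481 [(14, 6), (17, 7), (19, 8)] (.iso 481 [(14, 6), (17, 7), (20, 8)] (.iso 481 [(14, 6), (18, 7), (19, 8)] (.iso 481 [(14, 6), (18, 7), (20, 8)] (.iso 481 [(14, 6), (19, 7), (20, 8)] (.iso 481 [(15, 6), (16, 7), (17, 8)] (.iso 481 [(15, 6), (16, 7), (18, 8)] phAc19))))))))))))))))))))))))))))))))))))))))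
def phAc21 : Cert := (.iso 481 [(11, 6), (15, 7), (17, 8)] (.iso 481 [(11, 6), (15, 7), (18, 8)] (.iso 481 [(11, 6), (15, 7), (19, 8)] (.iso 481 [(11, 6), (15, 7), (20, 8)] (.iso 481 [(11, 6), (16, 7), (17, 8)] (.iso 481 [(11, 6), (16, 7), (18, 8)] (.iso 481 [(11, 6), (16, 7), (19, 8)] (.iso 481 [(11, 6), (16, 7), (20, 8)] (.iso 481 [(11, 6), (17, 7), (18, 8)] (.iso 481 [(11, 6), (17, 7), (19, 8)] (.iso 481 [(11, 6), (17, 7), (20, 8)] (.iso 481 [(11, 6), (18, 7), (19, 8)] (.iso 481 [(11, 6), (18, 7), (20, 8)] (.iso 481 [(11, 6), (19, 7), (20, 8)] (.iso 481 [(12, 6), (13, 7), (14, 8)] (.iso 481 [(12, 6), (13, 7), (15, 8)] (.iso 481 [(12, 6), (13, 7), (16, 8)] (.iso 481 [(12, 6), (13, 7), (17, 8)] (.iso 481 [(12, 6), (13, 7), (18, 8)] (.iso 481 [(12, 6), (13, 7), (19, 8)] (.iso 481 [(12, 6), (13, 7), (20, 8)] (.iso 481 [(12, 6), (14,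 7), (15, 8)] (.iso 481 [(12, 6), (14, 7), (16, 8)] (.iso 481 [(12, 6), (14, 7), (17, 8)] (.iso 481 [(12, 6), (14, 7), (18, 8)] (.iso 481 [(12, 6), (14, 7), (19, 8)] (.iso 481 [(12, 6), (14, 7), (20, 8)] (.iso 481 [(12, 6), (15, 7), (16, 8)] (.iso 481 [(12, 6), (15, 7), (17, 8)] (.iso 481 [(12, 6), (15, 7), (18, 8)] (.iso 481 [(12, 6), (15, 7), (19, 8)] (.iso 481 [(12, 6), (15, 7), (20, 8)] (.iso 481 [(12, 6), (16, 7), (17, 8)] (.iso 481 [(12, 6), (16, 7), (18, 8)] (.iso 481 [(12, 6), (16, 7), (19, 8)] (.iso 481 [(12, 6), (16, 7), (20, 8)] (.iso 481 [(12, 6), (17, 7), (18, 8)] (.iso 481 [(12, 6), (17, 7), (19, 8)] (.iso 481 [(12, 6), (17, 7), (20, 8)] (.iso 481 [(12, 6), (18, 7), (19, 8)] phAc20))))))))))))))))))))))))))))))))))))))))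
def phAc22 : Cert := (.iso 481 [(10, 6), (14, 7), (18, 8)] (.iso 481 [(10, 6), (14, 7), (19, 8)] (.iso 481 [(10, 6), (14, 7), (20, 8)] (.iso 481 [(10, 6), (15, 7), (16, 8)] (.iso 481 [(10, 6), (15, 7), (17, 8)] (.iso 481 [(10, 6), (15, 7), (18, 8)] (.iso 481 [(10, 6), (15, 7), (19, 8)] (.iso 481 [(10, 6), (15, 7), (20, 8)] (.iso 481 [(10, 6), (16, 7), (17, 8)] (.iso 481 [(10, 6), (16, 7), (18, 8)] (.iso 481 [(10, 6), (16, 7), (19, 8)] (.iso 481 [(10, 6), (16, 7), (20, 8)] (.iso 481 [(10, 6), (17, 7), (18, 8)] (.iso 481 [(10, 6), (17, 7), (19, 8)] (.iso 481 [(10, 6), (17, 7), (20, 8)] (.iso 481 [(10, 6), (18, 7), (19, 8)] (.iso 481 [(10, 6), (18, 7), (20, 8)] (.iso 481 [(10, 6), (19, 7), (20, 8)] (.iso 481 [(11, 6), (12, 7), (13, 8)] (.iso 481 [(11, 6), (12, 7), (14, 8)] (.iso 481 [(11, 6), (12, 7), (15, 8)] (.iso 481 [(11, 6), (12,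 7), (16, 8)] (.iso 481 [(11, 6), (12, 7), (17, 8)] (.iso 481 [(11, 6), (12, 7), (18, 8)] (.iso 481 [(11, 6), (12, 7), (19, 8)] (.iso 481 [(11, 6), (12, 7), (20, 8)] (.iso 481 [(11, 6), (13, 7), (14, 8)] (.iso 481 [(11, 6), (13, 7), (15, 8)] (.iso 481 [(11, 6), (13, 7), (16, 8)] (.iso 481 [(11, 6), (13, 7), (17, 8)] (.iso 481 [(11, 6), (13, 7), (18, 8)] (.iso 481 [(11, 6), (13, 7), (19, 8)] (.iso 481 [(11, 6), (13, 7), (20, 8)] (.iso 481 [(11, 6), (14, 7), (15, 8)] (.iso 481 [(11, 6), (14, 7), (16, 8)] (.iso 481 [(11, 6), (14, 7), (17, 8)] (.iso 481 [(11, 6), (14, 7), (18, 8)] (.iso 481 [(11, 6), (14, 7), (19, 8)] (.iso 481 [(11, 6), (14, 7), (20, 8)] (.iso 481 [(11, 6), (15, 7), (16, 8)] phAc21))))))))))))))))))))))))))))))))))))))))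
def phAc23 : Cert := (.iso 481 [(9, 6), (15, 7), (18, 8)] (.iso 481 [(9, 6), (15, 7), (19, 8)] (.iso 481 [(9, 6), (15, 7), (20, 8)] (.iso 481 [(9, 6), (16, 7), (17, 8)] (.iso 481 [(9, 6), (16, 7), (18, 8)] (.iso 481 [(9, 6), (16, 7), (19, 8)] (.iso 481 [(9, 6), (16, 7), (20, 8)] (.iso 481 [(9, 6), (17, 7), (18, 8)] (.iso 481 [(9, 6), (17, 7), (19, 8)] (.iso 481 [(9, 6), (17, 7), (20, 8)] (.iso 481 [(9, 6), (18, 7), (19, 8)] (.iso 481 [(9, 6), (18, 7), (20, 8)] (.iso 481 [(9, 6), (19, 7), (20, 8)] (.iso 481 [(10, 6), (11, 7), (12, 8)] (.iso 481 [(10, 6), (11, 7), (13, 8)] (.iso 481 [(10, 6), (11, 7), (14, 8)] (.iso 481 [(10, 6), (11, 7), (15, 8)] (.iso 481 [(10, 6), (11, 7), (16, 8)] (.iso 481 [(10, 6), (11, 7), (17, 8)] (.iso 481 [(10, 6), (11, 7), (18, 8)] (.iso 481 [(10, 6), (11, 7), (19, 8)] (.iso 481 [(10, 6), (11, 7), (20, 8)]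 (.iso 481 [(10, 6), (12, 7), (13, 8)] (.iso 481 [(10, 6), (12, 7), (14, 8)] (.iso 481 [(10, 6), (12, 7), (15, 8)] (.iso 481 [(10, 6), (12, 7), (16, 8)] (.iso 481 [(10, 6), (12, 7), (17, 8)] (.iso 481 [(10, 6), (12, 7), (18, 8)] (.iso 481 [(10, 6), (12, 7), (19, 8)] (.iso 481 [(10, 6), (12, 7), (20, 8)] (.iso 481 [(10, 6), (13, 7), (14, 8)] (.iso 481 [(10, 6), (13, 7), (15, 8)] (.iso 481 [(10, 6), (13, 7), (16, 8)] (.iso 481 [(10, 6), (13, 7), (17, 8)] (.iso 481 [(10, 6), (13, 7), (18, 8)] (.iso 481 [(10, 6), (13, 7), (19, 8)] (.iso 481 [(10, 6), (13, 7), (20, 8)] (.iso 481 [(10, 6), (14, 7), (15, 8)] (.iso 481 [(10, 6), (14, 7), (16, 8)] (.iso 481 [(10, 6), (14, 7), (17, 8)] phAc22))))))))))))))))))))))))))))))))))))))))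
def phAc24 : Cert := (.iso 481 [(9, 6), (10, 7), (13, 8)] (.iso 481 [(9, 6), (10, 7), (14, 8)] (.iso 481 [(9, 6), (10, 7), (15, 8)] (.iso 481 [(9, 6), (10, 7), (16, 8)] (.iso 481 [(9, 6), (10, 7), (17, 8)] (.iso 481 [(9, 6), (10, 7), (18, 8)] (.iso 481 [(9, 6), (10, 7), (19, 8)] (.iso 481 [(9, 6), (10, 7), (20, 8)] (.iso 481 [(9, 6), (11, 7), (12, 8)] (.iso 481 [(9, 6), (11, 7), (13, 8)] (.iso 481 [(9, 6), (11, 7), (14, 8)] (.iso 481 [(9, 6), (11, 7), (15, 8)] (.iso 481 [(9, 6), (11, 7), (16, 8)] (.iso 481 [(9, 6), (11, 7), (17, 8)] (.iso 481 [(9, 6), (11, 7), (18, 8)] (.iso 481 [(9, 6), (11, 7), (19, 8)] (.iso 481 [(9, 6), (11, 7), (20, 8)] (.iso 481 [(9, 6), (12, 7), (13, 8)] (.iso 481 [(9, 6), (12, 7), (14, 8)] (.iso 481 [(9, 6), (12, 7), (15, 8)] (.iso 481 [(9, 6), (12, 7), (16, 8)] (.iso 481 [(9, 6), (12, 7), (17, 8)] (.iso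 481 [(9, 6), (12, 7), (18, 8)] (.iso 481 [(9, 6), (12, 7), (19, 8)] (.iso 481 [(9, 6), (12, 7), (20, 8)] (.iso 481 [(9, 6), (13, 7), (14, 8)] (.iso 481 [(9, 6), (13, 7), (15, 8)] (.iso 481 [(9, 6), (13, 7), (16, 8)] (.iso 481 [(9, 6), (13, 7), (17, 8)] (.iso 481 [(9, 6), (13, 7), (18, 8)] (.iso 481 [(9, 6), (13, 7), (19, 8)] (.iso 481 [(9, 6), (13, 7), (20, 8)] (.iso 481 [(9, 6), (14, 7), (15, 8)] (.iso 481 [(9, 6), (14, 7), (16, 8)] (.iso 481 [(9, 6), (14, 7), (17, 8)] (.iso 481 [(9, 6), (14, 7), (18, 8)] (.iso 481 [(9, 6), (14, 7), (19, 8)] (.iso 481 [(9, 6), (14, 7), (20, 8)] (.iso 481 [(9, 6), (15, 7), (16, 8)] (.iso 481 [(9, 6), (15, 7), (17, 8)] phAc23))))))))))))))))))))))))))))))))))))))))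
def phAc25 : Cert := (.iso 481 [(11, 6), (19, 7)] (.iso 481 [(11, 6), (20, 7)] (.iso 481 [(12, 6), (13, 7)] (.iso 481 [(12, 6), (14, 7)] (.iso 481 [(12, 6), (15, 7)] (.iso 481 [(12, 6), (16, 7)] (.iso 481 [(12, 6), (17, 7)] (.iso 481 [(12, 6), (18, 7)] (.iso 481 [(12, 6), (19, 7)] (.iso 481 [(12, 6), (20, 7)] (.iso 481 [(13, 6), (14, 7)] (.iso 481 [(13, 6), (15, 7)] (.iso 481 [(13, 6), (16, 7)] (.iso 481 [(13, 6), (17, 7)] (.iso 481 [(13, 6), (18, 7)] (.iso 481 [(13, 6), (19, 7)] (.iso 481 [(13, 6), (20, 7)] (.iso 481 [(14, 6), (15, 7)] (.iso 481 [(14, 6), (16, 7)] (.iso 481 [(14, 6), (17, 7)] (.iso 481 [(14, 6), (18, 7)] (.iso 481 [(14, 6), (19, 7)] (.iso 481 [(14, 6), (20, 7)] (.iso 481 [(15, 6), (16, 7)] (.iso 481 [(15, 6), (17, 7)] (.iso 481 [(15, 6), (18, 7)] (.iso 481 [(15, 6), (19, 7)] (.iso 481 [(15, 6), (20, 7)] (.iso 481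 [(16, 6), (17, 7)] (.iso 481 [(16, 6), (18, 7)] (.iso 481 [(16, 6), (19, 7)] (.iso 481 [(16, 6), (20, 7)] (.iso 481 [(17, 6), (18, 7)] (.iso 481 [(17, 6), (19, 7)] (.iso 481 [(17, 6), (20, 7)] (.iso 481 [(18, 6), (19, 7)] (.iso 481 [(18, 6), (20, 7)] (.iso 481 [(19, 6), (20, 7)] (.iso 481 [(9, 6), (10, 7), (11, 8)] (.iso 481 [(9, 6), (10, 7), (12, 8)] phAc24))))))))))))))))))))))))))))))))))))))))
def phAc26 : Cert := (.iso 481 [(15, 6), (19, 8)] (.iso 481 [(15, 6), (20, 8)] (.iso 481 [(16, 6), (17, 8)] (.iso 481 [(16, 6), (18, 8)] (.iso 481 [(16, 6), (19, 8)] (.iso 481 [(16, 6), (20, 8)] (.iso 481 [(17, 6), (18, 8)] (.iso 481 [(17, 6), (19, 8)] (.iso 481 [(17, 6), (20, 8)] (.iso 481 [(18, 6), (19, 8)] (.iso 481 [(18, 6), (20, 8)] (.iso 481 [(19, 6), (20, 8)] (.iso 481 [(9, 6), (10, 7)] (.iso 481 [(9, 6), (11, 7)] (.iso 481 [(9,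 6), (12, 7)] (.iso 481 [(9, 6), (13, 7)] (.iso 481 [(9, 6), (14, 7)] (.iso 481 [(9, 6), (15, 7)] (.iso 481 [(9, 6), (16, 7)] (.iso 481 [(9, 6), (17, 7)] (.iso 481 [(9, 6), (18, 7)] (.iso 481 [(9, 6), (19, 7)] (.iso 481 [(9, 6), (20, 7)] (.iso 481 [(10, 6), (11, 7)] (.iso 481 [(10, 6), (12, 7)] (.iso 481 [(10, 6), (13, 7)] (.iso 481 [(10, 6), (14, 7)] (.iso 481 [(10, 6), (15, 7)] (.iso 481 [(10, 6), (16, 7)] (.iso 481 [(10, 6), (17, 7)] (.iso 481 [(10, 6), (18, 7)] (.iso 481 [(10, 6), (19, 7)] (.iso 481 [(10, 6), (20, 7)] (.iso 481 [(11, 6), (12, 7)] (.iso 481 [(11, 6), (13, 7)] (.iso 481 [(11, 6), (14, 7)] (.iso 481 [(11, 6), (15, 7)] (.iso 481 [(11, 6), (16, 7)] (.iso 481 [(11, 6), (17, 7)] (.iso 481 [(11, 6), (18, 7)] phAc25))))))))))))))))))))))))))))))))))))))))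
def phAc27 : Cert := (.iso 481 [(10, 6), (14, 8)] (.iso 481 [(10, 6), (15, 8)] (.iso 481 [(10, 6), (16, 8)] (.iso 481 [(10, 6), (17, 8)] (.iso 481 [(10, 6), (18, 8)] (.iso 481 [(10, 6), (19, 8)] (.iso 481 [(10, 6), (20, 8)] (.iso 481 [(11, 6), (12, 8)] (.iso 481 [(11, 6), (13, 8)] (.iso 481 [(11, 6), (14, 8)] (.iso 481 [(11, 6), (15, 8)] (.iso 481 [(11, 6), (16, 8)] (.iso 481 [(11, 6), (17, 8)] (.iso 481 [(11, 6), (18, 8)] (.iso 481 [(11, 6), (19, 8)] (.iso 481 [(11, 6), (20, 8)] (.iso 481 [(12, 6), (13, 8)] (.iso 481 [(12, 6), (14, 8)] (.iso 481 [(12, 6), (15, 8)] (.iso 481 [(12, 6), (16, 8)] (.iso 481 [(12, 6), (17, 8)] (.iso 481 [(12, 6), (18, 8)] (.iso 481 [(12, 6), (19, 8)] (.iso 481 [(12, 6), (20, 8)] (.iso 481 [(13, 6), (14, 8)] (.iso 481 [(13, 6), (15, 8)] (.iso 481 [(13, 6), (16, 8)] (.iso 481 [(13, 6), (17, 8)] (.iso 481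 [(13, 6), (18, 8)] (.iso 481 [(13, 6), (19, 8)] (.iso 481 [(13, 6), (20, 8)] (.iso 481 [(14, 6), (15, 8)] (.iso 481 [(14, 6), (16, 8)] (.iso 481 [(14, 6), (17, 8)] (.iso 481 [(14, 6), (18, 8)] (.iso 481 [(14, 6), (19, 8)] (.iso 481 [(14, 6), (20, 8)] (.iso 481 [(15, 6), (16, 8)] (.iso 481 [(15, 6), (17, 8)] (.iso 481 [(15, 6), (18, 8)] phAc26))))))))))))))))))))))))))))))))))))))))
def phAc28 : Cert := (.iso 481 [(15, 7), (17, 8)] (.iso 481 [(15, 7), (18, 8)] (.iso 481 [(15, 7), (19, 8)] (.iso 481 [(15, 7), (20, 8)] (.iso 481 [(16, 7), (17, 8)] (.iso 481 [(16, 7), (18, 8)] (.iso 481 [(16, 7), (19, 8)] (.iso 481 [(16, 7), (20, 8)] (.iso 481 [(17, 7), (18, 8)] (.iso 481 [(17, 7), (19, 8)] (.iso 481 [(17, 7), (20, 8)] (.iso 481 [(18, 7), (19, 8)] (.iso 481 [(18, 7), (20, 8)] (.iso 481 [(19, 7), (20, 8)] (.iso 481 [(9, 6)] (.iso 481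 [(10, 6)] (.iso 481 [(11, 6)] (.iso 481 [(12, 6)] (.iso 481 [(13, 6)] (.iso 481 [(14, 6)] (.iso 481 [(15, 6)] (.iso 481 [(16, 6)] (.iso 481 [(17, 6)] (.iso 481 [(18, 6)] (.iso 481 [(19, 6)] (.iso 481 [(20, 6)] (.iso 481 [(9, 6), (10, 8)] (.iso 481 [(9, 6), (11, 8)] (.iso 481 [(9, 6), (12, 8)] (.iso 481 [(9, 6), (13, 8)] (.iso 481 [(9, 6), (14, 8)] (.iso 481 [(9, 6), (15, 8)] (.iso 481 [(9, 6), (16, 8)] (.iso 481 [(9, 6), (17, 8)] (.iso 481 [(9, 6), (18, 8)] (.iso 481 [(9, 6), (19, 8)] (.iso 481 [(9, 6), (20, 8)] (.iso 481 [(10, 6), (11, 8)] (.iso 481 [(10, 6), (12, 8)] (.iso 481 [(10, 6), (13, 8)] phAc27))))))))))))))))))))))))))))))))))))))))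
def phAc29 : Cert := (.iso 481 [(10, 7), (12, 8)] (.iso 481 [(10, 7), (13, 8)] (.iso 481 [(10, 7), (14, 8)] (.iso 481 [(10, 7), (15, 8)] (.iso 481 [(10, 7), (16, 8)] (.iso 481 [(10, 7), (17, 8)] (.iso 481 [(10, 7), (18, 8)] (.iso 481 [(10, 7), (19, 8)] (.iso 481 [(10, 7), (20, 8)] (.iso 481 [(11, 7), (12, 8)] (.iso 481 [(11, 7), (13, 8)] (.iso 481 [(11, 7), (14, 8)] (.iso 481 [(11, 7), (15, 8)] (.iso 481 [(11, 7), (16, 8)] (.iso 481 [(11, 7), (17, 8)] (.iso 481 [(11, 7), (18, 8)] (.iso 481 [(11, 7), (19, 8)] (.iso 481 [(11, 7), (20, 8)] (.iso 481 [(12, 7), (13, 8)] (.iso 481 [(12, 7), (14, 8)] (.iso 481 [(12, 7), (15, 8)] (.iso 481 [(12, 7), (16, 8)] (.iso 481 [(12, 7), (17, 8)] (.iso 481 [(12, 7), (18, 8)] (.iso 481 [(12, 7), (19, 8)] (.iso 481 [(12, 7), (20, 8)] (.iso 481 [(13, 7), (14, 8)] (.iso 481 [(13, 7), (15, 8)] (.iso 481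 [(13, 7), (16, 8)] (.iso 481 [(13, 7), (17, 8)] (.iso 481 [(13, 7), (18, 8)] (.iso 481 [(13, 7), (19, 8)] (.iso 481 [(13, 7), (20, 8)] (.iso 481 [(14, 7), (15, 8)] (.iso 481 [(14, 7), (16, 8)] (.iso 481 [(14, 7), (17, 8)] (.iso 481 [(14, 7), (18, 8)] (.iso 481 [(14, 7), (19, 8)] (.iso 481 [(14, 7), (20, 8)] (.iso 481 [(15, 7), (16, 8)] phAc28))))))))))))))))))))))))))))))))))))))))
def phAc30 : Cert := (.iso 31 [(16, 2), (17, 3), (18, 4)] (.iso 31 [(16, 2), (17, 3), (19, 4)] (.iso 31 [(16, 2), (17, 3), (20, 4)] (.iso 31 [(16, 2), (18, 3), (19, 4)] (.iso 31 [(16, 2), (18, 3), (20, 4)] (.iso 31 [(16, 2), (19, 3), (20, 4)] (.iso 31 [(17, 2), (18, 3), (19, 4)] (.iso 31 [(17, 2), (18, 3), (20, 4)] (.iso 31 [(17, 2), (19, 3), (20, 4)] (.iso 31 [(18, 2), (19, 3), (20, 4)] .nil))))))))))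
def phAc31 : Cert := (.iso 31 [(13, 2), (15, 3), (16, 4)] (.iso 31 [(13, 2), (15, 3), (17, 4)] (.iso 31 [(13, 2), (15, 3), (18, 4)] (.iso 31 [(13, 2), (15, 3), (19, 4)] (.iso 31 [(13, 2), (15, 3), (20, 4)] (.iso 31 [(13, 2), (16, 3), (17, 4)] (.iso 31 [(13, 2), (16, 3), (18, 4)] (.iso 31 [(13, 2), (16, 3), (19, 4)] (.iso 31 [(13, 2), (16, 3), (20, 4)] (.iso 31 [(13, 2), (17, 3), (18, 4)] (.iso 31 [(13, 2), (17, 3), (19, 4)] (.iso 31 [(13, 2), (17, 3), (20, 4)] (.iso 31 [(13, 2), (18, 3), (19, 4)] (.iso 31 [(13, 2), (18, 3), (20, 4)] (.iso 31 [(13, 2), (19, 3), (20, 4)] (.iso 31 [(14, 2), (15, 3), (16, 4)] (.iso 31 [(14, 2), (15, 3), (17, 4)] (.iso 31 [(14, 2), (15, 3), (18, 4)] (.iso 31 [(14, 2), (15, 3), (19, 4)] (.iso 31 [(14, 2), (15, 3), (20, 4)] (.iso 31 [(14, 2), (16, 3), (17, 4)] (.iso 31 [(14, 2), (16, 3), (18, 4)] (.iso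 31 [(14, 2), (16, 3), (19, 4)] (.iso 31 [(14, 2), (16, 3), (20, 4)] (.iso 31 [(14, 2), (17, 3), (18, 4)] (.iso 31 [(14, 2), (17, 3), (19, 4)] (.iso 31 [(14, 2), (17, 3), (20, 4)] (.iso 31 [(14, 2), (18, 3), (19, 4)] (.iso 31 [(14, 2), (18, 3), (20, 4)] (.iso 31 [(14, 2), (19, 3), (20, 4)] (.iso 31 [(15, 2), (16, 3), (17, 4)] (.iso 31 [(15, 2), (16, 3), (18, 4)] (.iso 31 [(15, 2), (16, 3), (19, 4)] (.iso 31 [(15, 2), (16, 3), (20, 4)] (.iso 31 [(15, 2), (17, 3), (18, 4)] (.iso 31 [(15, 2), (17, 3), (19, 4)] (.iso 31 [(15, 2), (17, 3), (20, 4)] (.iso 31 [(15, 2), (18, 3), (19, 4)] (.iso 31 [(15, 2), (18, 3), (20, 4)] (.iso 31 [(15, 2), (19, 3), (20, 4)] phAc30))))))))))))))))))))))))))))))))))))))))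
def phAc32 : Cert := (.iso 31 [(11, 2), (17, 3), (18, 4)] (.iso 31 [(11, 2), (17, 3), (19, 4)] (.iso 31 [(11, 2), (17, 3), (20, 4)] (.iso 31 [(11, 2), (18, 3), (19, 4)] (.iso 31 [(11, 2), (18, 3), (20, 4)] (.iso 31 [(11, 2), (19, 3), (20, 4)] (.iso 31 [(12, 2), (13, 3), (14, 4)] (.iso 31 [(12, 2), (13, 3), (15, 4)] (.iso 31 [(12, 2), (13, 3), (16, 4)] (.iso 31 [(12, 2), (13, 3), (17, 4)] (.iso 31 [(12, 2), (13, 3), (18, 4)] (.iso 31 [(12, 2), (13, 3), (19, 4)] (.iso 31 [(12, 2), (13, 3), (20, 4)] (.iso 31 [(12, 2), (14, 3), (15, 4)] (.iso 31 [(12, 2), (14, 3), (16, 4)] (.iso 31 [(12, 2), (14, 3), (17, 4)] (.iso 31 [(12, 2), (14, 3), (18, 4)] (.iso 31 [(12, 2), (14, 3), (19, 4)] (.iso 31 [(12, 2), (14, 3), (20, 4)] (.iso 31 [(12, 2), (15, 3), (16, 4)] (.iso 31 [(12, 2), (15, 3), (17, 4)] (.iso 31 [(12, 2), (15, 3), (18, 4)] (.iso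 31 [(12, 2), (15, 3), (19, 4)] (.iso 31 [(12, 2), (15, 3), (20, 4)] (.iso 31 [(12, 2), (16, 3), (17, 4)] (.iso 31 [(12, 2), (16, 3), (18, 4)] (.iso 31 [(12, 2), (16, 3), (19, 4)] (.iso 31 [(12, 2), (16, 3), (20, 4)] (.iso 31 [(12, 2), (17, 3), (18, 4)] (.iso 31 [(12, 2), (17, 3), (19, 4)] (.iso 31 [(12, 2), (17, 3), (20, 4)] (.iso 31 [(12, 2), (18, 3), (19, 4)] (.iso 31 [(12, 2), (18, 3), (20, 4)] (.iso 31 [(12, 2), (19, 3), (20, 4)] (.iso 31 [(13, 2), (14, 3), (15, 4)] (.iso 31 [(13, 2), (14, 3), (16, 4)] (.iso 31 [(13, 2), (14, 3), (17, 4)] (.iso 31 [(13, 2), (14, 3), (18, 4)] (.iso 31 [(13, 2), (14, 3), (19, 4)] (.iso 31 [(13, 2), (14, 3), (20, 4)] phAc31))))))))))))))))))))))))))))))))))))))))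
def phAc33 : Cert := (.iso 31 [(10, 2), (16, 3), (17, 4)] (.iso 31 [(10, 2), (16, 3), (18, 4)] (.iso 31 [(10, 2), (16, 3), (19, 4)] (.iso 31 [(10, 2), (16, 3), (20, 4)] (.iso 31 [(10, 2), (17, 3), (18, 4)] (.iso 31 [(10, 2), (17, 3), (19, 4)] (.iso 31 [(10, 2), (17, 3), (20, 4)] (.iso 31 [(10, 2), (18, 3), (19, 4)] (.iso 31 [(10, 2), (18, 3), (20, 4)] (.iso 31 [(10, 2), (19, 3), (20, 4)] (.iso 31 [(11, 2), (12, 3), (13, 4)] (.iso 31 [(11, 2), (12, 3), (14, 4)] (.iso 31 [(11, 2), (12, 3), (15, 4)] (.iso 31 [(11, 2), (12, 3), (16, 4)] (.iso 31 [(11, 2), (12, 3), (17, 4)] (.iso 31 [(11, 2), (12, 3), (18, 4)] (.iso 31 [(11, 2), (12, 3), (19, 4)] (.iso 31 [(11, 2), (12, 3), (20, 4)] (.iso 31 [(11, 2), (13, 3), (14, 4)] (.iso 31 [(11, 2), (13, 3), (15, 4)] (.iso 31 [(11, 2), (13, 3), (16, 4)] (.iso 31 [(11, 2), (13, 3), (17, 4)] (.iso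 31 [(11, 2), (13, 3), (18, 4)] (.iso 31 [(11, 2), (13, 3), (19, 4)] (.iso 31 [(11, 2), (13, 3), (20, 4)] (.iso 31 [(11, 2), (14, 3), (15, 4)] (.iso 31 [(11, 2), (14, 3), (16, 4)] (.iso 31 [(11, 2), (14, 3), (17, 4)] (.iso 31 [(11, 2), (14, 3), (18, 4)] (.iso 31 [(11, 2), (14, 3), (19, 4)] (.iso 31 [(11, 2), (14, 3), (20, 4)] (.iso 31 [(11, 2), (15, 3), (16, 4)] (.iso 31 [(11, 2), (15, 3), (17, 4)] (.iso 31 [(11, 2), (15, 3), (18, 4)] (.iso 31 [(11, 2), (15, 3), (19, 4)] (.iso 31 [(11, 2), (15, 3), (20, 4)] (.iso 31 [(11, 2), (16, 3), (17, 4)] (.iso 31 [(11, 2), (16, 3), (18, 4)] (.iso 31 [(11, 2), (16, 3), (19, 4)] (.iso 31 [(11, 2), (16, 3), (20, 4)] phAc32))))))))))))))))))))))))))))))))))))))))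
def phAc34 : Cert := (.iso 31 [(9, 2), (17, 3), (19, 4)] (.iso 31 [(9, 2), (17, 3), (20, 4)] (.iso 31 [(9, 2), (18, 3), (19, 4)] (.iso 31 [(9, 2), (18, 3), (20, 4)] (.iso 31 [(9, 2), (19, 3), (20, 4)] (.iso 31 [(10, 2), (11, 3), (12, 4)] (.iso 31 [(10, 2), (11, 3), (13, 4)] (.iso 31 [(10, 2), (11, 3), (14, 4)] (.iso 31 [(10, 2), (11, 3), (15, 4)] (.iso 31 [(10, 2), (11, 3), (16, 4)] (.iso 31 [(10, 2), (11, 3), (17, 4)] (.iso 31 [(10, 2), (11, 3), (18, 4)] (.iso 31 [(10, 2), (11, 3), (19, 4)] (.iso 31 [(10, 2), (11, 3), (20, 4)] (.iso 31 [(10, 2), (12, 3), (13, 4)] (.iso 31 [(10, 2), (12, 3), (14, 4)] (.iso 31 [(10, 2), (12, 3), (15, 4)] (.iso 31 [(10, 2), (12, 3), (16, 4)] (.iso 31 [(10, 2), (12, 3), (17, 4)] (.iso 31 [(10, 2), (12, 3), (18, 4)] (.iso 31 [(10, 2), (12, 3), (19, 4)] (.iso 31 [(10, 2), (12, 3), (20, 4)] (.iso 31 [(10,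 2), (13, 3), (14, 4)] (.iso 31 [(10, 2), (13, 3), (15, 4)] (.iso 31 [(10, 2), (13, 3), (16, 4)] (.iso 31 [(10, 2), (13, 3), (17, 4)] (.iso 31 [(10, 2), (13, 3), (18, 4)] (.iso 31 [(10, 2), (13, 3), (19, 4)] (.iso 31 [(10, 2), (13, 3), (20, 4)] (.iso 31 [(10, 2), (14, 3), (15, 4)] (.iso 31 [(10, 2), (14, 3), (16, 4)] (.iso 31 [(10, 2), (14, 3), (17, 4)] (.iso 31 [(10, 2), (14, 3), (18, 4)] (.iso 31 [(10, 2), (14, 3), (19, 4)] (.iso 31 [(10, 2), (14, 3), (20, 4)] (.iso 31 [(10, 2), (15, 3), (16, 4)] (.iso 31 [(10, 2), (15, 3), (17, 4)] (.iso 31 [(10, 2), (15, 3), (18, 4)] (.iso 31 [(10, 2), (15, 3), (19, 4)] (.iso 31 [(10, 2), (15, 3), (20, 4)] phAc33))))))))))))))))))))))))))))))))))))))))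
def phAc35 : Cert := (.iso 31 [(9, 2), (11, 3), (12, 4)] (.iso 31 [(9, 2), (11, 3), (13, 4)] (.iso 31 [(9, 2), (11, 3), (14, 4)] (.iso 31 [(9, 2), (11, 3), (15, 4)] (.iso 31 [(9, 2), (11, 3), (16, 4)] (.iso 31 [(9, 2), (11, 3), (17, 4)] (.iso 31 [(9, 2), (11, 3), (18, 4)] (.iso 31 [(9, 2), (11, 3), (19, 4)] (.iso 31 [(9, 2), (11, 3), (20, 4)] (.iso 31 [(9, 2), (12, 3), (13, 4)] (.iso 31 [(9, 2), (12, 3), (14, 4)] (.iso 31 [(9, 2), (12, 3), (15, 4)] (.iso 31 [(9, 2), (12, 3), (16, 4)] (.iso 31 [(9, 2), (12, 3), (17, 4)] (.iso 31 [(9, 2), (12, 3), (18, 4)] (.iso 31 [(9, 2), (12, 3), (19, 4)] (.iso 31 [(9, 2), (12, 3), (20, 4)] (.iso 31 [(9, 2), (13, 3), (14, 4)] (.iso 31 [(9, 2), (13, 3), (15, 4)] (.iso 31 [(9, 2), (13, 3), (16, 4)] (.iso 31 [(9, 2), (13, 3), (17, 4)] (.iso 31 [(9, 2), (13, 3), (18, 4)] (.iso 31 [(9, 2), (13, 3), (19,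 4)] (.iso 31 [(9, 2), (13, 3), (20, 4)] (.iso 31 [(9, 2), (14, 3), (15, 4)] (.iso 31 [(9, 2), (14, 3), (16, 4)] (.iso 31 [(9, 2), (14, 3), (17, 4)] (.iso 31 [(9, 2), (14, 3), (18, 4)] (.iso 31 [(9, 2), (14, 3), (19, 4)] (.iso 31 [(9, 2), (14, 3), (20, 4)] (.iso 31 [(9, 2), (15, 3), (16, 4)] (.iso 31 [(9, 2), (15, 3), (17, 4)] (.iso 31 [(9, 2), (15, 3), (18, 4)] (.iso 31 [(9, 2), (15, 3), (19, 4)] (.iso 31 [(9, 2), (15, 3), (20, 4)] (.iso 31 [(9, 2), (16, 3), (17, 4)] (.iso 31 [(9, 2), (16, 3), (18, 4)] (.iso 31 [(9, 2), (16, 3), (19, 4)] (.iso 31 [(9, 2), (16, 3), (20, 4)] (.iso 31 [(9, 2), (17, 3), (18, 4)] phAc34))))))))))))))))))))))))))))))))))))))))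
def phAc36 : Cert := (.iso 31 [(8, 2), (12, 3), (19, 4)] (.iso 31 [(8, 2), (12, 3), (20, 4)] (.iso 31 [(8, 2), (13, 3), (14, 4)] (.iso 31 [(8, 2), (13, 3), (15, 4)] (.iso 31 [(8, 2), (13, 3), (16, 4)] (.iso 31 [(8, 2), (13, 3), (17, 4)] (.iso 31 [(8, 2), (13, 3), (18, 4)] (.iso 31 [(8, 2), (13, 3), (19, 4)] (.iso 31 [(8, 2), (13, 3), (20, 4)] (.iso 31 [(8, 2), (14, 3), (15, 4)] (.iso 31 [(8, 2), (14, 3), (16, 4)] (.iso 31 [(8, 2), (14, 3), (17, 4)] (.iso 31 [(8, 2), (14, 3), (18, 4)] (.iso 31 [(8, 2), (14, 3), (19, 4)] (.iso 31 [(8, 2), (14, 3), (20, 4)] (.iso 31 [(8, 2), (15, 3), (16, 4)] (.iso 31 [(8, 2), (15, 3), (17, 4)] (.iso 31 [(8, 2), (15, 3), (18, 4)] (.iso 31 [(8, 2), (15, 3), (19, 4)] (.iso 31 [(8, 2), (15, 3), (20, 4)] (.iso 31 [(8, 2), (16, 3), (17, 4)] (.iso 31 [(8, 2), (16, 3), (18, 4)] (.iso 31 [(8, 2), (16, 3), (19,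 4)] (.iso 31 [(8, 2), (16, 3), (20, 4)] (.iso 31 [(8, 2), (17, 3), (18, 4)] (.iso 31 [(8, 2), (17, 3), (19, 4)] (.iso 31 [(8, 2), (17, 3), (20, 4)] (.iso 31 [(8, 2), (18, 3), (19, 4)] (.iso 31 [(8, 2), (18, 3), (20, 4)] (.iso 31 [(8, 2), (19, 3), (20, 4)] (.iso 31 [(9, 2), (10, 3), (11, 4)] (.iso 31 [(9, 2), (10, 3), (12, 4)] (.iso 31 [(9, 2), (10, 3), (13, 4)] (.iso 31 [(9, 2), (10, 3), (14, 4)] (.iso 31 [(9, 2), (10, 3), (15, 4)] (.iso 31 [(9, 2), (10, 3), (16, 4)] (.iso 31 [(9, 2), (10, 3), (17, 4)] (.iso 31 [(9, 2), (10, 3), (18, 4)] (.iso 31 [(9, 2), (10, 3), (19, 4)] (.iso 31 [(9, 2), (10, 3), (20, 4)] phAc35))))))))))))))))))))))))))))))))))))))))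
def phAc37 : Cert := (.iso 31 [(7, 2), (17, 3), (20, 4)] (.iso 31 [(7, 2), (18, 3), (19, 4)] (.iso 31 [(7, 2), (18, 3), (20, 4)] (.iso 31 [(7, 2), (19, 3), (20, 4)] (.iso 31 [(8, 2), (9, 3), (10, 4)] (.iso 31 [(8, 2), (9, 3), (11, 4)] (.iso 31 [(8, 2), (9, 3), (12, 4)] (.iso 31 [(8, 2), (9, 3), (13, 4)] (.iso 31 [(8, 2), (9, 3), (14, 4)] (.iso 31 [(8, 2), (9, 3), (15, 4)] (.iso 31 [(8, 2), (9, 3), (16, 4)] (.iso 31 [(8, 2), (9, 3), (17, 4)] (.iso 31 [(8, 2), (9, 3), (18, 4)] (.iso 31 [(8, 2), (9, 3), (19, 4)] (.iso 31 [(8, 2), (9, 3), (20, 4)] (.iso 31 [(8, 2), (10, 3), (11, 4)] (.iso 31 [(8, 2), (10, 3), (12, 4)] (.iso 31 [(8, 2), (10, 3), (13, 4)] (.iso 31 [(8, 2), (10, 3), (14, 4)] (.iso 31 [(8, 2), (10, 3), (15, 4)] (.iso 31 [(8, 2), (10, 3), (16, 4)] (.iso 31 [(8, 2), (10, 3), (17, 4)] (.iso 31 [(8, 2), (10, 3), (18, 4)] (.iso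 31 [(8, 2), (10, 3), (19, 4)] (.iso 31 [(8, 2), (10, 3), (20, 4)] (.iso 31 [(8, 2), (11, 3), (12, 4)] (.iso 31 [(8, 2), (11, 3), (13, 4)] (.iso 31 [(8, 2), (11, 3), (14, 4)] (.iso 31 [(8, 2), (11, 3), (15, 4)] (.iso 31 [(8, 2), (11, 3), (16, 4)] (.iso 31 [(8, 2), (11, 3), (17, 4)] (.iso 31 [(8, 2), (11, 3), (18, 4)] (.iso 31 [(8, 2), (11, 3), (19, 4)] (.iso 31 [(8, 2), (11, 3), (20, 4)] (.iso 31 [(8, 2), (12, 3), (13, 4)] (.iso 31 [(8, 2), (12, 3), (14, 4)] (.iso 31 [(8, 2), (12, 3), (15, 4)] (.iso 31 [(8, 2), (12, 3), (16, 4)] (.iso 31 [(8, 2), (12, 3), (17, 4)] (.iso 31 [(8, 2), (12, 3), (18, 4)] phAc36))))))))))))))))))))))))))))))))))))))))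
def phAc38 : Cert := (.iso 31 [(7, 2), (11, 3), (13, 4)] (.iso 31 [(7, 2), (11, 3), (14, 4)] (.iso 31 [(7, 2), (11, 3), (15, 4)] (.iso 31 [(7, 2), (11, 3), (16, 4)] (.iso 31 [(7, 2), (11, 3), (17, 4)] (.iso 31 [(7, 2), (11, 3), (18, 4)] (.iso 31 [(7, 2), (11, 3), (19, 4)] (.iso 31 [(7, 2), (11, 3), (20, 4)] (.iso 31 [(7, 2), (12, 3), (13, 4)] (.iso 31 [(7, 2), (12, 3), (14, 4)] (.iso 31 [(7, 2), (12, 3), (15, 4)] (.iso 31 [(7, 2), (12, 3), (16, 4)] (.iso 31 [(7, 2), (12, 3), (17, 4)] (.iso 31 [(7, 2), (12, 3), (18, 4)] (.iso 31 [(7, 2), (12, 3), (19, 4)] (.iso 31 [(7, 2), (12, 3), (20, 4)] (.iso 31 [(7, 2), (13, 3), (14, 4)] (.iso 31 [(7, 2), (13, 3), (15, 4)] (.iso 31 [(7, 2), (13, 3), (16, 4)] (.iso 31 [(7, 2), (13, 3), (17, 4)] (.iso 31 [(7, 2), (13, 3), (18, 4)] (.iso 31 [(7, 2), (13, 3), (19, 4)] (.iso 31 [(7, 2), (13, 3), (20,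 4)] (.iso 31 [(7, 2), (14, 3), (15, 4)] (.iso 31 [(7, 2), (14, 3), (16, 4)] (.iso 31 [(7, 2), (14, 3), (17, 4)] (.iso 31 [(7, 2), (14, 3), (18, 4)] (.iso 31 [(7, 2), (14, 3), (19, 4)] (.iso 31 [(7, 2), (14, 3), (20, 4)] (.iso 31 [(7, 2), (15, 3), (16, 4)] (.iso 31 [(7, 2), (15, 3), (17, 4)] (.iso 31 [(7, 2), (15, 3), (18, 4)] (.iso 31 [(7, 2), (15, 3), (19, 4)] (.iso 31 [(7, 2), (15, 3), (20, 4)] (.iso 31 [(7, 2), (16, 3), (17, 4)] (.iso 31 [(7, 2), (16, 3), (18, 4)] (.iso 31 [(7, 2), (16, 3), (19, 4)] (.iso 31 [(7, 2), (16, 3), (20, 4)] (.iso 31 [(7, 2), (17, 3), (18, 4)] (.iso 31 [(7, 2), (17, 3), (19, 4)] phAc37))))))))))))))))))))))))))))))))))))))))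
def phAc39 : Cert := (.iso 31 [(6, 2), (17, 3), (18, 4)] (.iso 31 [(6, 2), (17, 3), (19, 4)] (.iso 31 [(6, 2), (17, 3), (20, 4)] (.iso 31 [(6, 2), (18, 3), (19, 4)] (.iso 31 [(6, 2), (18, 3), (20, 4)] (.iso 31 [(6, 2), (19, 3), (20, 4)] (.iso 31 [(7, 2), (8, 3), (9, 4)] (.iso 31 [(7, 2), (8, 3), (10, 4)] (.iso 31 [(7, 2), (8, 3), (11, 4)] (.iso 31 [(7, 2), (8, 3), (12, 4)] (.iso 31 [(7, 2), (8, 3), (13, 4)] (.iso 31 [(7, 2), (8, 3), (14, 4)] (.iso 31 [(7, 2), (8, 3), (15, 4)] (.iso 31 [(7, 2), (8, 3), (16, 4)] (.iso 31 [(7, 2), (8, 3), (17, 4)] (.iso 31 [(7, 2), (8, 3), (18, 4)] (.iso 31 [(7, 2), (8, 3), (19, 4)] (.iso 31 [(7, 2), (8, 3), (20, 4)] (.iso 31 [(7, 2), (9, 3), (10, 4)] (.iso 31 [(7, 2), (9, 3), (11, 4)] (.iso 31 [(7, 2), (9, 3), (12, 4)] (.iso 31 [(7, 2), (9, 3), (13, 4)] (.iso 31 [(7, 2), (9, 3), (14, 4)] (.iso 31 [(7,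 2), (9, 3), (15, 4)] (.iso 31 [(7, 2), (9, 3), (16, 4)] (.iso 31 [(7, 2), (9, 3), (17, 4)] (.iso 31 [(7, 2), (9, 3), (18, 4)] (.iso 31 [(7, 2), (9, 3), (19, 4)] (.iso 31 [(7, 2), (9, 3), (20, 4)] (.iso 31 [(7, 2), (10, 3), (11, 4)] (.iso 31 [(7, 2), (10, 3), (12, 4)] (.iso 31 [(7, 2), (10, 3), (13, 4)] (.iso 31 [(7, 2), (10, 3), (14, 4)] (.iso 31 [(7, 2), (10, 3), (15, 4)] (.iso 31 [(7, 2), (10, 3), (16, 4)] (.iso 31 [(7, 2), (10, 3), (17, 4)] (.iso 31 [(7, 2), (10, 3), (18, 4)] (.iso 31 [(7, 2), (10, 3), (19, 4)] (.iso 31 [(7, 2), (10, 3), (20, 4)] (.iso 31 [(7, 2), (11, 3), (12, 4)] phAc38))))))))))))))))))))))))))))))))))))))))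
def phAc40 : Cert := (.iso 31 [(6, 2), (10, 3), (20, 4)] (.iso 31 [(6, 2), (11, 3), (12, 4)] (.iso 31 [(6, 2), (11, 3), (13, 4)] (.iso 31 [(6, 2), (11, 3), (14, 4)] (.iso 31 [(6, 2), (11, 3), (15, 4)] (.iso 31 [(6, 2), (11, 3), (16, 4)] (.iso 31 [(6, 2), (11, 3), (17, 4)] (.iso 31 [(6, 2), (11, 3), (18, 4)] (.iso 31 [(6, 2), (11, 3), (19, 4)] (.iso 31 [(6, 2), (11, 3), (20, 4)] (.iso 31 [(6, 2), (12, 3), (13, 4)] (.iso 31 [(6, 2), (12, 3), (14, 4)] (.iso 31 [(6, 2), (12, 3), (15, 4)] (.iso 31 [(6, 2), (12, 3), (16, 4)] (.iso 31 [(6, 2), (12, 3), (17, 4)] (.iso 31 [(6, 2), (12, 3), (18, 4)] (.iso 31 [(6, 2), (12, 3), (19, 4)] (.iso 31 [(6, 2), (12, 3), (20, 4)] (.iso 31 [(6, 2), (13, 3), (14, 4)] (.iso 31 [(6, 2), (13, 3), (15, 4)] (.iso 31 [(6, 2), (13, 3), (16, 4)] (.iso 31 [(6, 2), (13, 3), (17, 4)] (.iso 31 [(6, 2), (13, 3), (18,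 4)] (.iso 31 [(6, 2), (13, 3), (19, 4)] (.iso 31 [(6, 2), (13, 3), (20, 4)] (.iso 31 [(6, 2), (14, 3), (15, 4)] (.iso 31 [(6, 2), (14, 3), (16, 4)] (.iso 31 [(6, 2), (14, 3), (17, 4)] (.iso 31 [(6, 2), (14, 3), (18, 4)] (.iso 31 [(6, 2), (14, 3), (19, 4)] (.iso 31 [(6, 2), (14, 3), (20, 4)] (.iso 31 [(6, 2), (15, 3), (16, 4)] (.iso 31 [(6, 2), (15, 3), (17, 4)] (.iso 31 [(6, 2), (15, 3), (18, 4)] (.iso 31 [(6, 2), (15, 3), (19, 4)] (.iso 31 [(6, 2), (15, 3), (20, 4)] (.iso 31 [(6, 2), (16, 3), (17, 4)] (.iso 31 [(6, 2), (16, 3), (18, 4)] (.iso 31 [(6, 2), (16, 3), (19, 4)] (.iso 31 [(6, 2), (16, 3), (20, 4)] phAc39))))))))))))))))))))))))))))))))))))))))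
def phAc41 : Cert := (.iso 31 [(6, 2), (7, 3), (13, 4)] (.iso 31 [(6, 2), (7, 3), (14, 4)] (.iso 31 [(6, 2), (7, 3), (15, 4)] (.iso 31 [(6, 2), (7, 3), (16, 4)] (.iso 31 [(6, 2), (7, 3), (17, 4)] (.iso 31 [(6, 2), (7, 3), (18, 4)] (.iso 31 [(6, 2), (7, 3), (19, 4)] (.iso 31 [(6, 2), (7, 3), (20, 4)] (.iso 31 [(6, 2), (8, 3), (9, 4)] (.iso 31 [(6, 2), (8, 3), (10, 4)] (.iso 31 [(6, 2), (8, 3), (11, 4)] (.iso 31 [(6, 2), (8, 3), (12, 4)] (.iso 31 [(6, 2), (8, 3), (13, 4)] (.iso 31 [(6, 2), (8, 3), (14, 4)] (.iso 31 [(6, 2), (8, 3), (15, 4)] (.iso 31 [(6, 2), (8, 3), (16, 4)] (.iso 31 [(6, 2), (8, 3), (17, 4)] (.iso 31 [(6, 2), (8, 3), (18, 4)] (.iso 31 [(6, 2), (8, 3), (19, 4)] (.iso 31 [(6, 2), (8, 3), (20, 4)] (.iso 31 [(6, 2), (9, 3), (10, 4)] (.iso 31 [(6, 2), (9, 3), (11, 4)] (.iso 31 [(6, 2), (9, 3), (12, 4)] (.iso 31 [(6, 2),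 (9, 3), (13, 4)] (.iso 31 [(6, 2), (9, 3), (14, 4)] (.iso 31 [(6, 2), (9, 3), (15, 4)] (.iso 31 [(6, 2), (9, 3), (16, 4)] (.iso 31 [(6, 2), (9, 3), (17, 4)] (.iso 31 [(6, 2), (9, 3), (18, 4)] (.iso 31 [(6, 2), (9, 3), (19, 4)] (.iso 31 [(6, 2), (9, 3), (20, 4)] (.iso 31 [(6, 2), (10, 3), (11, 4)] (.iso 31 [(6, 2), (10, 3), (12, 4)] (.iso 31 [(6, 2), (10, 3), (13, 4)] (.iso 31 [(6, 2), (10, 3), (14, 4)] (.iso 31 [(6, 2), (10, 3), (15, 4)] (.iso 31 [(6, 2), (10, 3), (16, 4)] (.iso 31 [(6, 2), (10, 3), (17, 4)] (.iso 31 [(6, 2), (10, 3), (18, 4)] (.iso 31 [(6, 2), (10, 3), (19, 4)] phAc40))))))))))))))))))))))))))))))))))))))))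
def phAc42 : Cert := (.iso 31 [(5, 2), (12, 3), (14, 4)] (.iso 31 [(5, 2), (12, 3), (15, 4)] (.iso 31 [(5, 2), (12, 3), (16, 4)] (.iso 31 [(5, 2), (12, 3), (17, 4)] (.iso 31 [(5, 2), (12, 3), (18, 4)] (.iso 31 [(5, 2), (12, 3), (19, 4)] (.iso 31 [(5, 2), (12, 3), (20, 4)] (.iso 31 [(5, 2), (13, 3), (14, 4)] (.iso 31 [(5, 2), (13, 3), (15, 4)] (.iso 31 [(5, 2), (13, 3), (16, 4)] (.iso 31 [(5, 2), (13, 3), (17, 4)] (.iso 31 [(5, 2), (13, 3), (18, 4)] (.iso 31 [(5, 2), (13, 3), (19, 4)] (.iso 31 [(5, 2), (13, 3), (20, 4)] (.iso 31 [(5, 2), (14, 3), (15, 4)] (.iso 31 [(5, 2), (14, 3), (16, 4)] (.iso 31 [(5, 2), (14, 3), (17, 4)] (.iso 31 [(5, 2), (14, 3), (18, 4)] (.iso 31 [(5, 2), (14, 3), (19, 4)] (.iso 31 [(5, 2), (14, 3), (20, 4)] (.iso 31 [(5, 2), (15, 3), (16, 4)] (.iso 31 [(5, 2), (15, 3), (17, 4)] (.iso 31 [(5, 2), (15, 3), (18,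 4)] (.iso 31 [(5, 2), (15, 3), (19, 4)] (.iso 31 [(5, 2), (15, 3), (20, 4)] (.iso 31 [(5, 2), (16, 3), (17, 4)] (.iso 31 [(5, 2), (16, 3), (18, 4)] (.iso 31 [(5, 2), (16, 3), (19, 4)] (.iso 31 [(5, 2), (16, 3), (20, 4)] (.iso 31 [(5, 2), (17, 3), (18, 4)] (.iso 31 [(5, 2), (17, 3), (19, 4)] (.iso 31 [(5, 2), (17, 3), (20, 4)] (.iso 31 [(5, 2), (18, 3), (19, 4)] (.iso 31 [(5, 2), (18, 3), (20, 4)] (.iso 31 [(5, 2), (19, 3), (20, 4)] (.iso 31 [(6, 2), (7, 3), (8, 4)] (.iso 31 [(6, 2), (7, 3), (9, 4)] (.iso 31 [(6, 2), (7, 3), (10, 4)] (.iso 31 [(6, 2), (7, 3), (11, 4)] (.iso 31 [(6, 2), (7, 3), (12, 4)] phAc41))))))))))))))))))))))))))))))))))))))))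
def phAc43 : Cert := (.iso 31 [(5, 2), (8, 3), (12, 4)] (.iso 31 [(5, 2), (8, 3), (13, 4)] (.iso 31 [(5, 2), (8, 3), (14, 4)] (.iso 31 [(5, 2), (8, 3), (15, 4)] (.iso 31 [(5, 2), (8, 3), (16, 4)] (.iso 31 [(5, 2), (8, 3), (17, 4)] (.iso 31 [(5, 2), (8, 3), (18, 4)] (.iso 31 [(5, 2), (8, 3), (19, 4)] (.iso 31 [(5, 2), (8, 3), (20, 4)] (.iso 31 [(5, 2), (9, 3), (10, 4)] (.iso 31 [(5, 2), (9, 3), (11, 4)] (.iso 31 [(5, 2), (9, 3), (12, 4)] (.iso 31 [(5, 2), (9, 3), (13, 4)] (.iso 31 [(5, 2), (9, 3), (14, 4)] (.iso 31 [(5, 2), (9, 3), (15, 4)] (.iso 31 [(5, 2), (9, 3), (16, 4)] (.iso 31 [(5, 2), (9, 3), (17, 4)] (.iso 31 [(5, 2), (9, 3), (18, 4)] (.iso 31 [(5, 2), (9, 3), (19, 4)] (.iso 31 [(5, 2), (9, 3), (20, 4)] (.iso 31 [(5, 2), (10, 3), (11, 4)] (.iso 31 [(5, 2), (10, 3), (12, 4)] (.iso 31 [(5, 2), (10, 3), (13, 4)] (.iso 31 [(5,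 2), (10, 3), (14, 4)] (.iso 31 [(5, 2), (10, 3), (15, 4)] (.iso 31 [(5, 2), (10, 3), (16, 4)] (.iso 31 [(5, 2), (10, 3), (17, 4)] (.iso 31 [(5, 2), (10, 3), (18, 4)] (.iso 31 [(5, 2), (10, 3), (19, 4)] (.iso 31 [(5, 2), (10, 3), (20, 4)] (.iso 31 [(5, 2), (11, 3), (12, 4)] (.iso 31 [(5, 2), (11, 3), (13, 4)] (.iso 31 [(5, 2), (11, 3), (14, 4)] (.iso 31 [(5, 2), (11, 3), (15, 4)] (.iso 31 [(5, 2), (11, 3), (16, 4)] (.iso 31 [(5, 2), (11, 3), (17, 4)] (.iso 31 [(5, 2), (11, 3), (18, 4)] (.iso 31 [(5, 2), (11, 3), (19, 4)] (.iso 31 [(5, 2), (11, 3), (20, 4)] (.iso 31 [(5, 2), (12, 3), (13, 4)] phAc42))))))))))))))))))))))))))))))))))))))))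
def phAc44 : Cert := (.iso 31 [(16, 2), (17, 3)] (.iso 31 [(16, 2), (18, 3)] (.iso 31 [(16, 2), (19, 3)] (.iso 31 [(16, 2), (20, 3)] (.iso 31 [(17, 2), (18, 3)] (.iso 31 [(17, 2), (19, 3)] (.iso 31 [(17, 2), (20, 3)] (.iso 31 [(18, 2), (19, 3)] (.iso 31 [(18, 2), (20, 3)] (.iso 31 [(19, 2), (20, 3)] (.iso 31 [(5, 2), (6, 3), (7, 4)] (.iso 31 [(5, 2), (6, 3), (8, 4)] (.iso 31 [(5, 2), (6, 3), (9, 4)] (.iso 31 [(5, 2), (6, 3), (10, 4)] (.iso 31 [(5, 2), (6, 3), (11, 4)] (.iso 31 [(5, 2), (6, 3), (12, 4)] (.iso 31 [(5, 2), (6, 3), (13, 4)] (.iso 31 [(5, 2), (6, 3), (14, 4)] (.iso 31 [(5, 2), (6, 3), (15, 4)] (.iso 31 [(5, 2), (6, 3), (16, 4)] (.iso 31 [(5, 2), (6, 3), (17, 4)] (.iso 31 [(5, 2), (6, 3), (18, 4)] (.iso 31 [(5, 2), (6, 3), (19, 4)] (.iso 31 [(5, 2), (6, 3), (20, 4)] (.iso 31 [(5, 2), (7, 3), (8, 4)] (.iso 31 [(5, 2), (7,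 3), (9, 4)] (.iso 31 [(5, 2), (7, 3), (10, 4)] (.iso 31 [(5, 2), (7, 3), (11, 4)] (.iso 31 [(5, 2), (7, 3), (12, 4)] (.iso 31 [(5, 2), (7, 3), (13, 4)] (.iso 31 [(5, 2), (7, 3), (14, 4)] (.iso 31 [(5, 2), (7, 3), (15, 4)] (.iso 31 [(5, 2), (7, 3), (16, 4)] (.iso 31 [(5, 2), (7, 3), (17, 4)] (.iso 31 [(5, 2), (7, 3), (18, 4)] (.iso 31 [(5, 2), (7, 3), (19, 4)] (.iso 31 [(5, 2), (7, 3), (20, 4)] (.iso 31 [(5, 2), (8, 3), (9, 4)] (.iso 31 [(5, 2), (8, 3), (10, 4)] (.iso 31 [(5, 2), (8, 3), (11, 4)] phAc43))))))))))))))))))))))))))))))))))))))))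
def phAc45 : Cert := (.iso 31 [(10, 2), (16, 3)] (.iso 31 [(10, 2), (17, 3)] (.iso 31 [(10, 2), (18, 3)] (.iso 31 [(10, 2), (19, 3)] (.iso 31 [(10, 2), (20, 3)] (.iso 31 [(11, 2), (12, 3)] (.iso 31 [(11, 2), (13, 3)] (.iso 31 [(11, 2), (14, 3)] (.iso 31 [(11, 2), (15, 3)] (.iso 31 [(11, 2), (16, 3)] (.iso 31 [(11, 2), (17, 3)] (.iso 31 [(11, 2), (18, 3)] (.iso 31 [(11, 2), (19, 3)] (.iso 31 [(11, 2), (20, 3)] (.iso 31 [(12, 2), (13, 3)] (.iso 31 [(12, 2), (14, 3)] (.iso 31 [(12, 2), (15, 3)] (.iso 31 [(12, 2), (16, 3)] (.iso 31 [(12, 2), (17, 3)] (.iso 31 [(12, 2), (18, 3)] (.iso 31 [(12, 2), (19, 3)] (.iso 31 [(12, 2), (20, 3)] (.iso 31 [(13, 2), (14, 3)] (.iso 31 [(13, 2), (15, 3)] (.iso 31 [(13, 2), (16, 3)] (.iso 31 [(13, 2), (17, 3)] (.iso 31 [(13, 2), (18, 3)] (.iso 31 [(13, 2), (19, 3)] (.iso 31 [(13, 2), (20, 3)] (.iso 31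 [(14, 2), (15, 3)] (.iso 31 [(14, 2), (16, 3)] (.iso 31 [(14, 2), (17, 3)] (.iso 31 [(14, 2), (18, 3)] (.iso 31 [(14, 2), (19, 3)] (.iso 31 [(14, 2), (20, 3)] (.iso 31 [(15, 2), (16, 3)] (.iso 31 [(15, 2), (17, 3)] (.iso 31 [(15, 2), (18, 3)] (.iso 31 [(15, 2), (19, 3)] (.iso 31 [(15, 2), (20, 3)] phAc44))))))))))))))))))))))))))))))))))))))))
def phAc46 : Cert := (.iso 31 [(7, 2), (9, 3)] (.iso 31 [(7, 2), (10, 3)] (.iso 31 [(7, 2), (11, 3)] (.iso 31 [(7, 2), (12, 3)] (.iso 31 [(7, 2), (13, 3)] (.iso 31 [(7, 2), (14, 3)] (.iso 31 [(7, 2), (15, 3)] (.iso 31 [(7, 2), (16, 3)] (.iso 31 [(7, 2), (17, 3)] (.iso 31 [(7, 2), (18, 3)] (.iso 31 [(7, 2), (19, 3)] (.iso 31 [(7, 2), (20, 3)] (.iso 31 [(8, 2), (9, 3)] (.iso 31 [(8, 2), (10, 3)] (.iso 31 [(8, 2), (11, 3)] (.iso 31 [(8, 2), (12, 3)] (.iso 31 [(8, 2), (13, 3)] (.iso 31 [(8, 2),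 (14, 3)] (.iso 31 [(8, 2), (15, 3)] (.iso 31 [(8, 2), (16, 3)] (.iso 31 [(8, 2), (17, 3)] (.iso 31 [(8, 2), (18, 3)] (.iso 31 [(8, 2), (19, 3)] (.iso 31 [(8, 2), (20, 3)] (.iso 31 [(9, 2), (10, 3)] (.iso 31 [(9, 2), (11, 3)] (.iso 31 [(9, 2), (12, 3)] (.iso 31 [(9, 2), (13, 3)] (.iso 31 [(9, 2), (14, 3)] (.iso 31 [(9, 2), (15, 3)] (.iso 31 [(9, 2), (16, 3)] (.iso 31 [(9, 2), (17, 3)] (.iso 31 [(9, 2), (18, 3)] (.iso 31 [(9, 2), (19, 3)] (.iso 31 [(9, 2), (20, 3)] (.iso 31 [(10, 2), (11, 3)] (.iso 31 [(10, 2), (12, 3)] (.iso 31 [(10, 2), (13, 3)] (.iso 31 [(10, 2), (14, 3)] (.iso 31 [(10, 2), (15, 3)] phAc45))))))))))))))))))))))))))))))))))))))))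
def phAc47 : Cert := (.iso 31 [(16, 2), (17, 4)] (.iso 31 [(16, 2), (18, 4)] (.iso 31 [(16, 2), (19, 4)] (.iso 31 [(16, 2), (20, 4)] (.iso 31 [(17, 2), (18, 4)] (.iso 31 [(17, 2), (19, 4)] (.iso 31 [(17, 2), (20, 4)] (.iso 31 [(18, 2), (19, 4)] (.iso 31 [(18, 2), (20, 4)] (.iso 31 [(19, 2), (20, 4)] (.iso 31 [(5, 2), (6, 3)] (.iso 31 [(5, 2), (7, 3)] (.iso 31 [(5, 2), (8, 3)] (.iso 31 [(5, 2), (9, 3)] (.iso 31 [(5, 2), (10, 3)] (.iso 31 [(5, 2), (11, 3)] (.iso 31 [(5, 2), (12, 3)] (.iso 31 [(5, 2), (13, 3)] (.iso 31 [(5, 2), (14, 3)] (.iso 31 [(5, 2), (15, 3)] (.iso 31 [(5, 2), (16, 3)] (.iso 31 [(5, 2), (17, 3)] (.iso 31 [(5, 2), (18, 3)] (.iso 31 [(5, 2), (19, 3)] (.iso 31 [(5, 2), (20, 3)] (.iso 31 [(6, 2), (7, 3)] (.iso 31 [(6, 2), (8, 3)] (.iso 31 [(6, 2), (9, 3)] (.iso 31 [(6, 2), (10, 3)] (.iso 31 [(6, 2), (11, 3)] (.iso 31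 [(6, 2), (12, 3)] (.iso 31 [(6, 2), (13, 3)] (.iso 31 [(6, 2), (14, 3)] (.iso 31 [(6, 2), (15, 3)] (.iso 31 [(6, 2), (16, 3)] (.iso 31 [(6, 2), (17, 3)] (.iso 31 [(6, 2), (18, 3)] (.iso 31 [(6, 2), (19, 3)] (.iso 31 [(6, 2), (20, 3)] (.iso 31 [(7, 2), (8, 3)] phAc46))))))))))))))))))))))))))))))))))))))))
def phAc48 : Cert := (.iso 31 [(10, 2), (16, 4)] (.iso 31 [(10, 2), (17, 4)] (.iso 31 [(10, 2), (18, 4)] (.iso 31 [(10, 2), (19, 4)] (.iso 31 [(10, 2), (20, 4)] (.iso 31 [(11, 2), (12, 4)] (.iso 31 [(11, 2), (13, 4)] (.iso 31 [(11, 2), (14, 4)] (.iso 31 [(11, 2), (15, 4)] (.iso 31 [(11, 2), (16, 4)] (.iso 31 [(11, 2), (17, 4)] (.iso 31 [(11, 2), (18, 4)] (.iso 31 [(11, 2), (19, 4)] (.iso 31 [(11, 2), (20, 4)] (.iso 31 [(12, 2), (13, 4)] (.iso 31 [(12, 2), (14, 4)] (.iso 31 [(12, 2), (15, 4)] (.iso 31 [(12, 2), (16, 4)] (.iso 31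 [(12, 2), (17, 4)] (.iso 31 [(12, 2), (18, 4)] (.iso 31 [(12, 2), (19, 4)] (.iso 31 [(12, 2), (20, 4)] (.iso 31 [(13, 2), (14, 4)] (.iso 31 [(13, 2), (15, 4)] (.iso 31 [(13, 2), (16, 4)] (.iso 31 [(13, 2), (17, 4)] (.iso 31 [(13, 2), (18, 4)] (.iso 31 [(13, 2), (19, 4)] (.iso 31 [(13, 2), (20, 4)] (.iso 31 [(14, 2), (15, 4)] (.iso 31 [(14, 2), (16, 4)] (.iso 31 [(14, 2), (17, 4)] (.iso 31 [(14, 2), (18, 4)] (.iso 31 [(14, 2), (19, 4)] (.iso 31 [(14, 2), (20, 4)] (.iso 31 [(15, 2), (16, 4)] (.iso 31 [(15, 2), (17, 4)] (.iso 31 [(15, 2), (18, 4)] (.iso 31 [(15, 2), (19, 4)] (.iso 31 [(15, 2), (20, 4)] phAc47))))))))))))))))))))))))))))))))))))))))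
def phAc49 : Cert := (.iso 31 [(7, 2), (9, 4)] (.iso 31 [(7, 2), (10, 4)] (.iso 31 [(7, 2), (11, 4)] (.iso 31 [(7, 2), (12, 4)] (.iso 31 [(7, 2), (13, 4)] (.iso 31 [(7, 2), (14, 4)] (.iso 31 [(7, 2), (15, 4)] (.iso 31 [(7, 2), (16, 4)] (.iso 31 [(7, 2), (17, 4)] (.iso 31 [(7, 2), (18, 4)] (.iso 31 [(7, 2), (19, 4)] (.iso 31 [(7, 2), (20, 4)] (.iso 31 [(8, 2), (9, 4)] (.iso 31 [(8, 2), (10, 4)] (.iso 31 [(8, 2), (11, 4)] (.iso 31 [(8, 2), (12, 4)] (.iso 31 [(8, 2), (13, 4)] (.iso 31 [(8, 2), (14, 4)] (.iso 31 [(8, 2), (15, 4)] (.iso 31 [(8, 2), (16, 4)] (.iso 31 [(8, 2), (17, 4)] (.iso 31 [(8, 2), (18, 4)] (.iso 31 [(8, 2), (19, 4)] (.iso 31 [(8, 2), (20, 4)] (.iso 31 [(9, 2), (10, 4)] (.iso 31 [(9, 2), (11, 4)] (.iso 31 [(9, 2), (12, 4)] (.iso 31 [(9, 2), (13, 4)] (.iso 31 [(9, 2), (14, 4)] (.iso 31 [(9, 2), (15, 4)] (.iso 31 [(9,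 2), (16, 4)] (.iso 31 [(9, 2), (17, 4)] (.iso 31 [(9, 2), (18, 4)] (.iso 31 [(9, 2), (19, 4)] (.iso 31 [(9, 2), (20, 4)] (.iso 31 [(10, 2), (11, 4)] (.iso 31 [(10, 2), (12, 4)] (.iso 31 [(10, 2), (13, 4)] (.iso 31 [(10, 2), (14, 4)] (.iso 31 [(10, 2), (15, 4)] phAc48))))))))))))))))))))))))))))))))))))))))
def phAc50 : Cert := (.iso 31 [(11, 2)] (.iso 31 [(12, 2)] (.iso 31 [(13, 2)] (.iso 31 [(14, 2)] (.iso 31 [(15, 2)] (.iso 31 [(16, 2)] (.iso 31 [(17, 2)] (.iso 31 [(18, 2)] (.iso 31 [(19, 2)] (.iso 31 [(20, 2)] (.iso 31 [(5, 2), (6, 4)] (.iso 31 [(5, 2), (7, 4)] (.iso 31 [(5, 2), (8, 4)] (.iso 31 [(5, 2), (9, 4)] (.iso 31 [(5, 2), (10, 4)] (.iso 31 [(5, 2), (11, 4)] (.iso 31 [(5, 2), (12, 4)] (.iso 31 [(5, 2), (13, 4)] (.iso 31 [(5, 2), (14, 4)] (.iso 31 [(5, 2), (15, 4)] (.iso 31 [(5, 2), (16, 4)] (.iso 31 [(5, 2), (17, 4)] (.iso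 31 [(5, 2), (18, 4)] (.iso 31 [(5, 2), (19, 4)] (.iso 31 [(5, 2), (20, 4)] (.iso 31 [(6, 2), (7, 4)] (.iso 31 [(6, 2), (8, 4)] (.iso 31 [(6, 2), (9, 4)] (.iso 31 [(6, 2), (10, 4)] (.iso 31 [(6, 2), (11, 4)] (.iso 31 [(6, 2), (12, 4)] (.iso 31 [(6, 2), (13, 4)] (.iso 31 [(6, 2), (14, 4)] (.iso 31 [(6, 2), (15, 4)] (.iso 31 [(6, 2), (16, 4)] (.iso 31 [(6, 2), (17, 4)] (.iso 31 [(6, 2), (18, 4)] (.iso 31 [(6, 2), (19, 4)] (.iso 31 [(6, 2), (20, 4)] (.iso 31 [(7, 2), (8, 4)] phAc49))))))))))))))))))))))))))))))))))))))))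
def phAc51 : Cert := (.iso 31 [(12, 3), (15, 4)] (.iso 31 [(12, 3), (16, 4)] (.iso 31 [(12, 3), (17, 4)] (.iso 31 [(12, 3), (18, 4)] (.iso 31 [(12, 3), (19, 4)] (.iso 31 [(12, 3), (20, 4)] (.iso 31 [(13, 3), (14, 4)] (.iso 31 [(13, 3), (15, 4)] (.iso 31 [(13, 3), (16, 4)] (.iso 31 [(13, 3), (17, 4)] (.iso 31 [(13, 3), (18, 4)] (.iso 31 [(13, 3), (19, 4)] (.iso 31 [(13, 3), (20, 4)] (.iso 31 [(14, 3), (15, 4)] (.iso 31 [(14, 3), (16, 4)] (.iso 31 [(14, 3), (17, 4)] (.iso 31 [(14, 3), (18, 4)] (.iso 31 [(14, 3), (19, 4)] (.iso 31 [(14, 3), (20, 4)] (.iso 31 [(15, 3), (16, 4)] (.iso 31 [(15, 3), (17, 4)] (.iso 31 [(15, 3), (18, 4)] (.iso 31 [(15, 3), (19, 4)] (.iso 31 [(15, 3), (20, 4)] (.iso 31 [(16, 3), (17, 4)] (.iso 31 [(16, 3), (18, 4)] (.iso 31 [(16, 3), (19, 4)] (.iso 31 [(16, 3), (20, 4)] (.iso 31 [(17, 3), (18, 4)] (.iso 31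 [(17, 3), (19, 4)] (.iso 31 [(17, 3), (20, 4)] (.iso 31 [(18, 3), (19, 4)] (.iso 31 [(18, 3), (20, 4)] (.iso 31 [(19, 3), (20, 4)] (.iso 31 [(5, 2)] (.iso 31 [(6, 2)] (.iso 31 [(7, 2)] (.iso 31 [(8, 2)] (.iso 31 [(9, 2)] (.iso 31 [(10, 2)] phAc50))))))))))))))))))))))))))))))))))))))))
def phAc52 : Cert := (.iso 31 [(8, 3), (13, 4)] (.iso 31 [(8, 3), (14, 4)] (.iso 31 [(8, 3), (15, 4)] (.iso 31 [(8, 3), (16, 4)] (.iso 31 [(8, 3), (17, 4)] (.iso 31 [(8, 3), (18, 4)] (.iso 31 [(8, 3), (19, 4)] (.iso 31 [(8, 3), (20, 4)] (.iso 31 [(9, 3), (10, 4)] (.iso 31 [(9, 3), (11, 4)] (.iso 31 [(9, 3), (12, 4)] (.iso 31 [(9, 3), (13, 4)] (.iso 31 [(9, 3), (14, 4)] (.iso 31 [(9, 3), (15, 4)] (.iso 31 [(9, 3), (16, 4)] (.iso 31 [(9, 3), (17, 4)] (.iso 31 [(9, 3), (18, 4)] (.iso 31 [(9, 3), (19, 4)] (.iso 31 [(9, 3), (20, 4)] (.iso 31 [(10, 3), (11,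 4)] (.iso 31 [(10, 3), (12, 4)] (.iso 31 [(10, 3), (13, 4)] (.iso 31 [(10, 3), (14, 4)] (.iso 31 [(10, 3), (15, 4)] (.iso 31 [(10, 3), (16, 4)] (.iso 31 [(10, 3), (17, 4)] (.iso 31 [(10, 3), (18, 4)] (.iso 31 [(10, 3), (19, 4)] (.iso 31 [(10, 3), (20, 4)] (.iso 31 [(11, 3), (12, 4)] (.iso 31 [(11, 3), (13, 4)] (.iso 31 [(11, 3), (14, 4)] (.iso 31 [(11, 3), (15, 4)] (.iso 31 [(11, 3), (16, 4)] (.iso 31 [(11, 3), (17, 4)] (.iso 31 [(11, 3), (18, 4)] (.iso 31 [(11, 3), (19, 4)] (.iso 31 [(11, 3), (20, 4)] (.iso 31 [(12, 3), (13, 4)] (.iso 31 [(12, 3), (14, 4)] phAc51))))))))))))))))))))))))))))))))))))))))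
def phAc53 : Cert := (.iso 31 [(5, 3), (12, 4)] (.iso 31 [(5, 3), (13, 4)] (.iso 31 [(5, 3), (14, 4)] (.iso 31 [(5, 3), (15, 4)] (.iso 31 [(5, 3), (16, 4)] (.iso 31 [(5, 3), (17, 4)] (.iso 31 [(5, 3), (18, 4)] (.iso 31 [(5, 3), (19, 4)] (.iso 31 [(5, 3), (20, 4)] (.iso 31 [(6, 3), (7, 4)] (.iso 31 [(6, 3), (8, 4)] (.iso 31 [(6, 3), (9, 4)] (.iso 31 [(6, 3), (10, 4)] (.iso 31 [(6, 3), (11, 4)] (.iso 31 [(6, 3), (12, 4)] (.iso 31 [(6, 3), (13, 4)] (.iso 31 [(6, 3), (14, 4)] (.iso 31 [(6, 3), (15, 4)] (.iso 31 [(6, 3), (16, 4)] (.iso 31 [(6, 3), (17, 4)] (.iso 31 [(6, 3), (18, 4)] (.iso 31 [(6, 3), (19, 4)] (.iso 31 [(6, 3), (20, 4)] (.iso 31 [(7, 3), (8, 4)] (.iso 31 [(7, 3), (9, 4)] (.iso 31 [(7, 3), (10, 4)] (.iso 31 [(7, 3), (11, 4)] (.iso 31 [(7, 3), (12, 4)] (.iso 31 [(7, 3), (13, 4)] (.iso 31 [(7, 3), (14, 4)] (.iso 31 [(7, 3),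 (15, 4)] (.iso 31 [(7, 3), (16, 4)] (.iso 31 [(7, 3), (17, 4)] (.iso 31 [(7, 3), (18, 4)] (.iso 31 [(7, 3), (19, 4)] (.iso 31 [(7, 3), (20, 4)] (.iso 31 [(8, 3), (9, 4)] (.iso 31 [(8, 3), (10, 4)] (.iso 31 [(8, 3), (11, 4)] (.iso 31 [(8, 3), (12, 4)] phAc52))))))))))))))))))))))))))))))))))))))))
def phAcert : Cert := (.node 3 (.sub (.node 33 (.sub (.node 513 (.sub (.node 8193 (.sub (.node 131073 (.sub (.node 34 (.sub (.node 66 (.sub (.node 130 (.sub (.node 258 (.sub (.node 36 (.sub (.node 68 (.sub (.node 132 (.sub (.node 260 (.sub (.node 40 (.sub (.node 72 (.sub (.node 136 (.sub (.node 264 (.sub (.node 48 (.sub (.node 80 (.sub (.node 144 (.sub phAc1 .nil)) .nil)) .nil)) .nil)) .nil)) .nil)) (.sub (.node 72 (.sub (.node 136 (.sub (.node 264 (.sub (.node 48 (.sub (.node 80 (.sub (.node 144 phAc2) .nil)) .nil)) .nil)) .nil)) .nil))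 .nil))) .nil)) (.sub (.node 260 (.sub (.node 40 .nil) .nil)) .nil))) (.sub (.node 132 (.sub (.node 260 (.sub (.node 40 .nil) .nil)) .nil)) (.sub (.node 132 (.sub (.node 260 (.sub (.node 40 .nil) .nil)) .nil)) .nil)))) (.sub (.node 68 (.sub (.node 132 (.sub (.node 260 (.sub (.node 40 .nil) .nil)) (.sub (.node 260 (.sub (.node 40 (.sub (.node 72 (.sub (.node 136 (.sub (.node 264 (.sub (.node 48 (.sub (.node 80 (.sub phAc3 .nil)) .nil)) .nil)) .nil)) .nil)) (.sub (.node 72 (.sub (.node 136 (.sub (.node 264 (.sub (.node 48 (.sub (.node 80 phAc4) .nil)) .nil)) .nil)) .nil)) .nil))) .nil)) .nil))) (.sub (.node 132 (.sub (.node 260 (.sub (.node 40 .nil) .nil)) .nil)) (.sub (.node 132 (.sub (.node 260 (.sub (.node 40 .nil) .nil)) .nil)) .nil)))) (.sub (.node 68 (.sub (.node 132 (.sub (.node 260 (.sub (.node 40 .nil) .nil)) .nil)) (.sub (.node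 132 (.sub (.node 260 (.sub (.node 40 (.sub (.node 72 (.sub (.node 136 (.sub (.node 264 (.sub (.node 48 (.sub (.node 80 phAc5) .nil)) .nil)) .nil)) .nil)) (.sub (.node 72 (.sub (.node 136 (.sub (.node 264 (.sub (.node 48 (.sub phAc6 .nil)) .nil)) .nil)) .nil)) .nil))) .nil)) (.sub (.node 260 (.sub (.node 40 .nil) .nil)) .nil))) (.sub (.node 132 (.sub (.node 260 (.sub (.node 40 .nil) .nil)) .nil)) .nil)))) (.sub (.node 68 (.sub (.node 132 (.sub (.node 260 (.sub (.node 40 .nil) .nil)) .nil)) (.sub (.node 132 (.sub (.node 260 (.sub (.node 40 .nil) .nil)) .nil)) (.sub (.node 132 (.sub (.node 260 (.sub (.node 40 (.sub (.node 72 (.sub (.node 136 (.sub (.node 264 (.sub (.node 48 phAc7) .nil)) .nil)) .nil)) (.sub (.node 72 (.sub (.node 136 (.sub (.node 264 (.sub phAc8 .nil)) .nil)) .nil)) .nil))) .nil)) (.sub (.node 260 (.sub (.node 40 .nil)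 .nil)) .nil))) .nil)))) (.sub (.node 68 (.sub (.node 132 (.sub (.node 260 (.sub (.node 40 .nil) .nil)) .nil)) (.sub (.node 132 (.sub (.node 260 (.sub (.node 40 .nil) .nil)) (.sub (.node 260 (.sub (.node 40 (.sub (.node 72 (.sub (.node 136 (.sub (.node 264 (.sub phAc9 .nil)) .nil)) .nil)) (.sub (.node 72 (.sub (.node 136 (.sub (.node 264 phAc10) .nil)) .nil)) .nil))) .nil)) .nil))) (.sub (.node 132 (.sub (.node 260 (.sub (.node 40 .nil) .nil)) .nil)) .nil)))) (.sub (.node 68 (.sub (.node 132 (.sub (.node 260 (.sub (.node 40 .nil) .nil)) .nil)) (.sub (.node 132 (.sub (.node 260 (.sub (.node 40 .nil) .nil)) .nil)) (.sub (.node 132 (.sub (.node 260 (.sub (.node 40 .nil) .nil)) (.sub (.node 260 (.sub (.node 40 (.sub (.node 72 (.sub (.node 136 (.sub phAc11 .nil)) .nil)) (.sub (.node 72 (.sub (.node 136 phAc12) .nil)) .nil))) .nil)) .nil)))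 .nil)))) .nil))))))) .nil)) (.iso 559234 [(20, 19)] (.iso 559234 [(16, 15)] (.iso 559234 [(16, 15), (20, 19)] (.iso 559234 [(12, 11)] (.iso 559234 [(12, 11), (20, 19)] (.iso 559234 [(12, 11), (16, 15)] (.iso 559234 [(12, 11), (16, 15), (20, 19)] .nil))))))))) (.iso 279618 [(19, 18)] (.iso 279618 [(20, 18)] (.iso 279618 [(15, 14)] (.iso 279618 [(15, 14), (19, 18)] (.iso 279618 [(15, 14), (20, 18)] (.iso 279618 [(16, 14)] (.iso 279618 [(16, 14), (19, 18)] (.iso 279618 [(16, 14), (20, 18)] (.iso 279618 [(11, 10)] (.iso 279618 [(11, 10), (19, 18)] (.iso 279618 [(11, 10), (20, 18)] (.iso 279618 [(11, 10), (15, 14)] (.iso 279618 [(11, 10), (15, 14), (19, 18)] (.iso 279618 [(11, 10), (15, 14), (20, 18)] (.iso 279618 [(11, 10), (16, 14)] (.iso 279618 [(11, 10), (16, 14), (19, 18)] (.iso 279618 [(11, 10), (16, 14), (20, 18)] (.iso 279618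 [(12, 10)] (.iso 279618 [(12, 10), (19, 18)] (.iso 279618 [(12, 10), (20, 18)] (.iso 279618 [(12, 10), (15, 14)] (.iso 279618 [(12, 10), (15, 14), (19, 18)] (.iso 279618 [(12, 10), (15, 14), (20, 18)] (.iso 279618 [(12, 10), (16, 14)] (.iso 279618 [(12, 10), (16, 14), (19, 18)] (.iso 279618 [(12, 10), (16, 14), (20, 18)] .nil)))))))))))))))))))))))))))) (.iso 139810 [(18, 17)] (.iso 139810 [(19, 17)] (.iso 139810 [(20, 17)] (.iso 139810 [(14, 13)] (.iso 139810 [(14, 13), (18, 17)] (.iso 139810 [(14, 13), (19, 17)] (.iso 139810 [(14, 13), (20, 17)] (.iso 139810 [(15, 13)] (.iso 139810 [(15, 13), (18, 17)] (.iso 139810 [(15, 13), (19, 17)] (.iso 139810 [(15, 13), (20, 17)] (.iso 139810 [(16, 13)] (.iso 139810 [(16, 13), (18, 17)] (.iso 139810 [(16, 13), (19, 17)] (.iso 139810 [(16, 13), (20, 17)] (.iso 139810 [(10, 9)] (.iso 139810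 [(10, 9), (18, 17)] (.iso 139810 [(10, 9), (19, 17)] (.iso 139810 [(10, 9), (20, 17)] (.iso 139810 [(10, 9), (14, 13)] (.iso 139810 [(10, 9), (14, 13), (18, 17)] (.iso 139810 [(10, 9), (14, 13), (19, 17)] (.iso 139810 [(10, 9), (14, 13), (20, 17)] (.iso 139810 [(10, 9), (15, 13)] (.iso 139810 [(10, 9), (15, 13), (18, 17)] (.iso 139810 [(10, 9), (15, 13), (19, 17)] (.iso 139810 [(10, 9), (15, 13), (20, 17)] (.iso 139810 [(10, 9), (16, 13)] phAc13)))))))))))))))))))))))))))))) .nil)) (.iso 122881 [(17, 16)] (.iso 122881 [(18, 16)] (.iso 122881 [(19, 16)] (.iso 122881 [(20, 16)] (.iso 122881 [(17, 15)] (.iso 122881 [(18, 15)] (.iso 122881 [(19, 15)] (.iso 122881 [(20, 15)] (.iso 122881 [(17, 15), (18, 16)] (.iso 122881 [(17, 15), (19, 16)] (.iso 122881 [(17, 15), (20, 16)] (.iso 122881 [(18, 15), (19, 16)] (.iso 122881 [(18, 15), (20,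 16)] (.iso 122881 [(19, 15), (20, 16)] (.iso 122881 [(17, 14)] (.iso 122881 [(18, 14)] (.iso 122881 [(19, 14)] (.iso 122881 [(20, 14)] (.iso 122881 [(17, 14), (18, 16)] (.iso 122881 [(17, 14), (19, 16)] (.iso 122881 [(17, 14), (20, 16)] (.iso 122881 [(18, 14), (19, 16)] (.iso 122881 [(18, 14), (20, 16)] (.iso 122881 [(19, 14), (20, 16)] (.iso 122881 [(17, 14), (18, 15)] (.iso 122881 [(17, 14), (19, 15)] (.iso 122881 [(17, 14), (20, 15)] (.iso 122881 [(18, 14), (19, 15)] (.iso 122881 [(18, 14), (20, 15)] (.iso 122881 [(19, 14), (20, 15)] (.iso 122881 [(17, 14), (18, 15), (19, 16)] (.iso 122881 [(17, 14), (18, 15), (20, 16)] phAc14)))))))))))))))))))))))))))))))))) (.iso 7681 [(13, 12)] (.iso 7681 [(14, 12)] (.iso 7681 [(15, 12)] (.iso 7681 [(16, 12)] (.iso 7681 [(17, 12)] (.iso 7681 [(18, 12)] (.iso 7681 [(19, 12)] (.iso 7681 [(20,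 12)] (.iso 7681 [(13, 11)] (.iso 7681 [(14, 11)] (.iso 7681 [(15, 11)] (.iso 7681 [(16, 11)] (.iso 7681 [(17, 11)] (.iso 7681 [(18, 11)] (.iso 7681 [(19, 11)] (.iso 7681 [(20, 11)] (.iso 7681 [(13, 11), (14, 12)] (.iso 7681 [(13, 11), (15, 12)] (.iso 7681 [(13, 11), (16, 12)] (.iso 7681 [(13, 11), (17, 12)] (.iso 7681 [(13, 11), (18, 12)] (.iso 7681 [(13, 11), (19, 12)] (.iso 7681 [(13, 11), (20, 12)] (.iso 7681 [(14, 11), (15, 12)] (.iso 7681 [(14, 11), (16, 12)] (.iso 7681 [(14, 11), (17, 12)] (.iso 7681 [(14, 11), (18, 12)] (.iso 7681 [(14, 11), (19, 12)] (.iso 7681 [(14, 11), (20, 12)] (.iso 7681 [(15, 11), (16, 12)] (.iso 7681 [(15, 11), (17, 12)] (.iso 7681 [(15, 11), (18, 12)] (.iso 7681 [(15, 11), (19, 12)] (.iso 7681 [(15, 11), (20, 12)] phAc18)))))))))))))))))))))))))))))))))))) (.iso 481 [(9, 8)] (.iso 481 [(10, 8)] (.iso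 481 [(11, 8)] (.iso 481 [(12, 8)] (.iso 481 [(13, 8)] (.iso 481 [(14, 8)] (.iso 481 [(15, 8)] (.iso 481 [(16, 8)] (.iso 481 [(17, 8)] (.iso 481 [(18, 8)] (.iso 481 [(19, 8)] (.iso 481 [(20, 8)] (.iso 481 [(9, 7)] (.iso 481 [(10, 7)] (.iso 481 [(11, 7)] (.iso 481 [(12, 7)] (.iso 481 [(13, 7)] (.iso 481 [(14, 7)] (.iso 481 [(15, 7)] (.iso 481 [(16, 7)] (.iso 481 [(17, 7)] (.iso 481 [(18, 7)] (.iso 481 [(19, 7)] (.iso 481 [(20, 7)] (.iso 481 [(9, 7), (10, 8)] (.iso 481 [(9, 7), (11, 8)] (.iso 481 [(9, 7), (12, 8)] (.iso 481 [(9, 7), (13, 8)] (.iso 481 [(9, 7), (14, 8)] (.iso 481 [(9, 7), (15, 8)] (.iso 481 [(9, 7), (16, 8)] (.iso 481 [(9, 7), (17, 8)] (.iso 481 [(9, 7), (18, 8)] (.iso 481 [(9, 7), (19, 8)] (.iso 481 [(9, 7), (20, 8)] (.iso 481 [(10, 7), (11, 8)] phAc29)))))))))))))))))))))))))))))))))))))) (.iso 31 [(5, 4)] (.iso 31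 [(6, 4)] (.iso 31 [(7, 4)] (.iso 31 [(8, 4)] (.iso 31 [(9, 4)] (.iso 31 [(10, 4)] (.iso 31 [(11, 4)] (.iso 31 [(12, 4)] (.iso 31 [(13, 4)] (.iso 31 [(14, 4)] (.iso 31 [(15, 4)] (.iso 31 [(16, 4)] (.iso 31 [(17, 4)] (.iso 31 [(18, 4)] (.iso 31 [(19, 4)] (.iso 31 [(20, 4)] (.iso 31 [(5, 3)] (.iso 31 [(6, 3)] (.iso 31 [(7, 3)] (.iso 31 [(8, 3)] (.iso 31 [(9, 3)] (.iso 31 [(10, 3)] (.iso 31 [(11, 3)] (.iso 31 [(12, 3)] (.iso 31 [(13, 3)] (.iso 31 [(14, 3)] (.iso 31 [(15, 3)] (.iso 31 [(16, 3)] (.iso 31 [(17, 3)] (.iso 31 [(18, 3)] (.iso 31 [(19, 3)] (.iso 31 [(20, 3)] (.iso 31 [(5, 3), (6, 4)] (.iso 31 [(5, 3), (7, 4)] (.iso 31 [(5, 3), (8, 4)] (.iso 31 [(5, 3), (9, 4)] (.iso 31 [(5, 3), (10, 4)] (.iso 31 [(5, 3), (11, 4)] phAc53))))))))))))))))))))))))))))))))))))))))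

theorem phA (S0 : Set (Finset (Fin 21))) (h : P 21 2 5 S0 B0) : P 21 2 5 S0 [] :=
  sound (r := 3) (by norm_num) rfl h phAcert true [] [] [] (by decide +kernel)

end Cfsg.Agent.Lib.Helper3.Stq.D21
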