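import Cfsg.Agent.Lib.Helper3.StD23data

set_option autoImplicit false
set_option maxRecDepth 100000

namespace Cfsg.Agent.Lib.Helper3.Stq.D23

open Cfsg Cfsg.Agent.Lib.Helper3.Stq

def phAc1 : Cert := (.node 131169 (.sub (.node 33153 (.sub (.node 65921 (.sub (.node 2689 (.sub (.node 4737 (.sub (.node 3201 (.sub (.node 5249 (.sub (.node 2817 (.sub (.node 4865 (.sub (.node 3329 (.sub (.node 5377 (.sub (.node 34305 (.sub (.node 67073 (.sub (.node 38913 (.sub (.node 71681 (.sub (.node 57345 (.sub (.node 90113 (.sub (.goto []) .nil)) .nil)) .nil)) .nil)) .nil)) .nil)) .nil)) .nil)) .nil)) .nil)) .nil)) .nil)) .nil)) .nil)) .nil)) .nil)) .nil))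
def phAc2 : Cert := (.node 131097 (.sub (.node 169 (.sub (.node 297 (.sub (.node 2089 (.sub (.node 4137 (.sub (.node 201 (.sub (.node 329 (.sub (.node 2121 (.sub (.node 4169 (.sub (.node 177 (.sub (.node 305 (.sub (.node 2097 (.sub (.node 4145 (.sub (.node 209 (.sub (.node 337 (.sub (.node 2129 (.sub (.node 4177 (.sub (.node 225 (.sub (.node 609 (.sub (.node 32865 (.sub phAc1 .nil)) .nil)) .nil)) .nil)) .nil)) .nil)) .nil)) .nil)) .nil)) .nil)) .nil)) .nil)) .nil)) .nil)) .nil)) .nil)) .nil)) .nil)) .nil)) .nil))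
def phAc3 : Cert := (.sub (.node 4193 (.sub (.node 2433 (.sub (.node 4481 (.sub (.node 33409 (.sub (.node 66177 (.sub (.node 3201 (.sub (.node 9345 (.sub (.node 2817 (.sub (.node 8961 (.sub (.node 34049 (.sub (.node 66817 (.sub (.node 3585 (.sub (.node 5633 (.sub (.node 43009 (.sub (.node 141313 (.sub (.node 53249 (.sub (.node 151553 (.sub (.goto [(8, 9), (8, 10), (11, 15), (12, 17), (13, 18), (14, 16), (11, 19), (14, 21), (12, 22), (13, 20)]) .nil)) .nil)) .nil)) .nil)) .nil)) .nil)) .nil)) .nil)) .nil)) .nil)) .nil)) .nil)) .nil)) .nil)) .nil)) .nil)) .nil)) .nil)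
def phAc4 : Cert := (.sub (.node 4121 (.sub (.node 169 (.sub (.node 297 (.sub (.node 32809 (.sub (.node 65577 (.sub (.node 201 (.sub (.node 585 (.sub (.node 2121 (.sub (.node 8265 (.sub (.node 177 (.sub (.node 561 (.sub (.node 2097 (.sub (.node 8241 (.sub (.node 209 (.sub (.node 337 (.sub (.node 32849 (.sub (.node 65617 (.sub (.node 225 (.sub (.node 353 (.sub (.node 2145 phAc3) .nil)) .nil)) .nil)) .nil)) .nil)) .nil)) .nil)) .nil)) .nil)) .nil)) .nil)) .nil)) .nil)) .nil)) .nil)) .nil)) .nil)) .nil)) .nil)) .nil)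
def phAc5 : Cert := (.node 2145 (.sub (.node 4193 (.sub (.node 2433 (.sub (.node 4481 (.sub (.node 2689 (.sub (.node 8833 (.sub (.node 33921 (.sub (.node 132225 (.sub (.node 33537 (.sub (.node 131841 (.sub (.node 3329 (.sub (.node 9473 (.sub (.node 3585 (.sub (.node 5633 (.sub (.node 51201 (.sub (.node 83969 (.sub (.node 45057 (.sub (.node 77825 (.sub (.goto [(8, 10), (9, 8), (11, 19), (12, 22), (13, 20), (14, 21), (15, 11), (16, 14), (17, 12), (18, 13)]) .nil)) .nil)) .nil)) .nil)) .nil)) .nil)) .nil)) .nil)) .nil)) .nil)) .nil)) .nil)) .nil)) .nil)) .nil)) .nil)) .nil)) .nil))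
def phAc6 : Cert := (.node 2073 (.sub (.node 4121 (.sub (.node 169 (.sub (.node 553 (.sub (.node 2089 (.sub (.node 8233 (.sub (.node 201 (.sub (.node 329 (.sub (.node 32841 (.sub (.node 65609 (.sub (.node 177 (.sub (.node 305 (.sub (.node 32817 (.sub (.node 65585 (.sub (.node 209 (.sub (.node 593 (.sub (.node 2129 (.sub (.node 8273 (.sub (.node 225 (.sub (.node 353 (.sub phAc5 .nil)) .nil)) .nil)) .nil)) .nil)) .nil)) .nil)) .nil)) .nil)) .nil)) .nil)) .nil)) .nil)) .nil)) .nil)) .nil)) .nil)) .nil)) .nil)) .nil))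
def phAc7 : Cert := (.node 1091 (.sub (.node 141 (.sub (.node 269 (.sub (.node 525 (.sub (.node 1037 (.sub (.node 149 (.sub (.node 277 (.sub (.node 533 (.sub (.node 1045 (.sub (.node 165 (.sub (.node 293 (.sub (.node 549 (.sub (.node 1061 (.sub (.node 197 (.sub (.node 325 (.sub (.node 581 (.sub (.node 1093 (.sub (.node 153 (.sub (.node 537 (.sub (.node 32793 (.sub phAc2 .nil)) .nil)) .nil)) .nil)) .nil)) .nil)) .nil)) .nil)) .nil)) .nil)) .nil)) .nil)) .nil)) .nil)) .nil)) .nil)) .nil)) .nil)) (.sub (.node 269 (.sub (.node 525 (.sub (.node 1037 (.sub (.node 149 (.sub (.node 277 (.sub (.node 533 (.sub (.node 1045 (.sub (.node 165 (.sub (.node 293 (.sub (.node 549 (.sub (.node 1061 (.sub (.node 197 (.sub (.node 325 (.sub (.node 581 (.sub (.node 1093 (.sub (.node 153 (.sub (.node 281 (.sub (.node 2073 phAc4) .nil)) .nil)) .nil)) .nil)) .nil)) .nil)) .nil)) .nil)) .nil)) .nil)) .nil)) .nil)) .nil))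 .nil)) .nil)) .nil)) .nil)) (.sub (.node 269 (.sub (.node 525 (.sub (.node 1037 (.sub (.node 149 (.sub (.node 277 (.sub (.node 533 (.sub (.node 1045 (.sub (.node 165 (.sub (.node 293 (.sub (.node 549 (.sub (.node 1061 (.sub (.node 197 (.sub (.node 325 (.sub (.node 581 (.sub (.node 1093 (.sub (.node 153 (.sub (.node 281 (.sub phAc6 .nil)) .nil)) .nil)) .nil)) .nil)) .nil)) .nil)) .nil)) .nil)) .nil)) .nil)) .nil)) .nil)) .nil)) .nil)) .nil)) .nil)) .nil)))) .nil))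
def phAc8 : Cert := (.sub (.node 131169 (.sub (.node 33153 (.sub (.node 65921 (.sub (.node 2689 (.sub (.node 4737 (.sub (.node 3201 (.sub (.node 5249 (.sub (.node 2817 (.sub (.node 4865 (.sub (.node 3329 (.sub (.node 5377 (.sub (.node 34305 (.sub (.node 67073 (.sub (.node 38913 (.sub (.node 71681 (.sub (.node 57345 (.sub (.node 90113 (.sub (.goto [(9, 10), (13, 14), (15, 19), (16, 20), (17, 22), (18, 21)]) .nil)) .nil)) .nil)) .nil)) .nil)) .nil)) .nil)) .nil)) .nil)) .nil)) .nil)) .nil)) .nil)) .nil)) .nil)) .nil)) .nil)) .nil)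
def phAc9 : Cert := (.sub (.node 131097 (.sub (.node 169 (.sub (.node 297 (.sub (.node 2089 (.sub (.node 4137 (.sub (.node 201 (.sub (.node 329 (.sub (.node 2121 (.sub (.node 4169 (.sub (.node 177 (.sub (.node 305 (.sub (.node 2097 (.sub (.node 4145 (.sub (.node 209 (.sub (.node 337 (.sub (.node 2129 (.sub (.node 4177 (.sub (.node 225 (.sub (.node 609 (.sub (.node 32865 phAc8) .nil)) .nil)) .nil)) .nil)) .nil)) .nil)) .nil)) .nil)) .nil)) .nil)) .nil)) .nil)) .nil)) .nil)) .nil)) .nil)) .nil)) .nil)) .nil)) .nil)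
def phAc10 : Cert := (.node 2145 (.sub (.node 4193 (.sub (.node 2433 (.sub (.node 4481 (.sub (.node 33409 (.sub (.node 66177 (.sub (.node 3201 (.sub (.node 9345 (.sub (.node 2817 (.sub (.node 8961 (.sub (.node 34049 (.sub (.node 66817 (.sub (.node 3585 (.sub (.node 5633 (.sub (.node 43009 (.sub (.node 141313 (.sub (.node 53249 (.sub (.node 151553 (.sub (.goto [(8, 10), (11, 19), (12, 22), (13, 21), (14, 20), (16, 18)]) .nil)) .nil)) .nil)) .nil)) .nil)) .nil)) .nil)) .nil)) .nil)) .nil)) .nil)) .nil)) .nil)) .nil)) .nil)) .nil)) .nil)) .nil))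
def phAc11 : Cert := (.node 2073 (.sub (.node 4121 (.sub (.node 169 (.sub (.node 553 (.sub (.node 2089 (.sub (.node 8233 (.sub (.node 201 (.sub (.node 329 (.sub (.node 32841 (.sub (.node 65609 (.sub (.node 177 (.sub (.node 305 (.sub (.node 32817 (.sub (.node 65585 (.sub (.node 209 (.sub (.node 593 (.sub (.node 2129 (.sub (.node 8273 (.sub (.node 225 (.sub (.node 353 (.sub phAc10 .nil)) .nil)) .nil)) .nil)) .nil)) .nil)) .nil)) .nil)) .nil)) .nil)) .nil)) .nil)) .nil)) .nil)) .nil)) .nil)) .nil)) .nil)) .nil)) .nil))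
def phAc12 : Cert := (.sub (.node 2145 (.sub (.node 4193 (.sub (.node 2433 (.sub (.node 4481 (.sub (.node 2689 (.sub (.node 8833 (.sub (.node 33921 (.sub (.node 132225 (.sub (.node 33537 (.sub (.node 131841 (.sub (.node 3329 (.sub (.node 9473 (.sub (.node 3585 (.sub (.node 5633 (.sub (.node 51201 (.sub (.node 83969 (.sub (.node 45057 (.sub (.node 77825 (.sub (.goto [(8, 9), (11, 15), (12, 17), (13, 16), (14, 18), (20, 21)]) .nil)) .nil)) .nil)) .nil)) .nil)) .nil)) .nil)) .nil)) .nil)) .nil)) .nil)) .nil)) .nil)) .nil)) .nil)) .nil)) .nil)) .nil)) .nil)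
def phAc13 : Cert := (.sub (.node 2073 (.sub (.node 4121 (.sub (.node 169 (.sub (.node 297 (.sub (.node 32809 (.sub (.node 65577 (.sub (.node 201 (.sub (.node 585 (.sub (.node 2121 (.sub (.node 8265 (.sub (.node 177 (.sub (.node 561 (.sub (.node 2097 (.sub (.node 8241 (.sub (.node 209 (.sub (.node 337 (.sub (.node 32849 (.sub (.node 65617 (.sub (.node 225 (.sub (.node 353 phAc12) .nil)) .nil)) .nil)) .nil)) .nil)) .nil)) .nil)) .nil)) .nil)) .nil)) .nil)) .nil)) .nil)) .nil)) .nil)) .nil)) .nil)) .nil)) .nil)) .nil)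
def phAc14 : Cert := (.sub (.node 1091 (.sub (.node 141 (.sub (.node 269 (.sub (.node 525 (.sub (.node 1037 (.sub (.node 149 (.sub (.node 277 (.sub (.node 533 (.sub (.node 1045 (.sub (.node 165 (.sub (.node 293 (.sub (.node 549 (.sub (.node 1061 (.sub (.node 197 (.sub (.node 325 (.sub (.node 581 (.sub (.node 1093 (.sub (.node 153 (.sub (.node 537 (.sub (.node 32793 phAc9) .nil)) .nil)) .nil)) .nil)) .nil)) .nil)) .nil)) .nil)) .nil)) .nil)) .nil)) .nil)) .nil)) .nil)) .nil)) .nil)) .nil)) (.sub (.node 269 (.sub (.node 525 (.sub (.node 1037 (.sub (.node 149 (.sub (.node 277 (.sub (.node 533 (.sub (.node 1045 (.sub (.node 165 (.sub (.node 293 (.sub (.node 549 (.sub (.node 1061 (.sub (.node 197 (.sub (.node 325 (.sub (.node 581 (.sub (.node 1093 (.sub (.node 153 (.sub (.node 281 (.sub phAc11 .nil)) .nil)) .nil)) .nil)) .nil)) .nil)) .nil)) .nil)) .nil)) .nil)) .nil)) .nil)) .nil)) .nil)) .nil)) .nil))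 .nil)) (.sub (.node 269 (.sub (.node 525 (.sub (.node 1037 (.sub (.node 149 (.sub (.node 277 (.sub (.node 533 (.sub (.node 1045 (.sub (.node 165 (.sub (.node 293 (.sub (.node 549 (.sub (.node 1061 (.sub (.node 197 (.sub (.node 325 (.sub (.node 581 (.sub (.node 1093 (.sub (.node 153 (.sub (.node 281 phAc13) .nil)) .nil)) .nil)) .nil)) .nil)) .nil)) .nil)) .nil)) .nil)) .nil)) .nil)) .nil)) .nil)) .nil)) .nil)) .nil)) .nil)))) .nil)) .nil)
def phAc15 : Cert := (.node 32865 (.sub (.node 131169 (.sub (.node 33153 (.sub (.node 65921 (.sub (.node 2689 (.sub (.node 4737 (.sub (.node 3201 (.sub (.node 5249 (.sub (.node 2817 (.sub (.node 4865 (.sub (.node 3329 (.sub (.node 5377 (.sub (.node 34305 (.sub (.node 67073 (.sub (.node 38913 (.sub (.node 71681 (.sub (.node 57345 (.sub (.node 90113 (.sub (.goto [(15, 19), (16, 20), (17, 21), (18, 22)]) .nil)) .nil)) .nil)) .nil)) .nil)) .nil)) .nil)) .nil)) .nil))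 .nil)) .nil)) .nil)) .nil)) .nil)) .nil)) .nil)) .nil)) .nil))
def phAc16 : Cert := (.node 32793 (.sub (.node 131097 (.sub (.node 169 (.sub (.node 297 (.sub (.node 2089 (.sub (.node 4137 (.sub (.node 201 (.sub (.node 329 (.sub (.node 2121 (.sub (.node 4169 (.sub (.node 177 (.sub (.node 305 (.sub (.node 2097 (.sub (.node 4145 (.sub (.node 209 (.sub (.node 337 (.sub (.node 2129 (.sub (.node 4177 (.sub (.node 225 (.sub (.node 609 (.sub phAc15 .nil)) .nil)) .nil)) .nil)) .nil)) .nil)) .nil)) .nil)) .nil)) .nil)) .nil)) .nil)) .nil)) .nil)) .nil)) .nil)) .nil)) .nil)) .nil)) .nil))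
def phAc17 : Cert := (.sub (.node 2145 (.sub (.node 4193 (.sub (.node 2433 (.sub (.node 4481 (.sub (.node 33409 (.sub (.node 131713 (.sub (.node 3201 (.sub (.node 9345 (.sub (.node 2817 (.sub (.node 8961 (.sub (.node 34049 (.sub (.node 132353 (.sub (.node 3585 (.sub (.node 5633 (.sub (.node 43009 (.sub (.node 75777 (.sub (.node 53249 (.sub (.node 86017 (.sub (.goto [(8, 9), (8, 10), (11, 15), (12, 17), (13, 18), (14, 16), (14, 13), (12, 14), (20, 21), (20, 22)]) .nil)) .nil)) .nil)) .nil)) .nil)) .nil)) .nil)) .nil)) .nil)) .nil)) .nil)) .nil)) .nil)) .nil)) .nil)) .nil)) .nil)) .nil)) .nil)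
def phAc18 : Cert := (.sub (.node 2073 (.sub (.node 4121 (.sub (.node 169 (.sub (.node 297 (.sub (.node 32809 (.sub (.node 65577 (.sub (.node 201 (.sub (.node 585 (.sub (.node 2121 (.sub (.node 8265 (.sub (.node 177 (.sub (.node 561 (.sub (.node 2097 (.sub (.node 8241 (.sub (.node 209 (.sub (.node 337 (.sub (.node 32849 (.sub (.node 65617 (.sub (.node 225 (.sub (.node 353 phAc17) .nil)) .nil)) .nil)) .nil)) .nil)) .nil)) .nil)) .nil)) .nil)) .nil)) .nil)) .nil)) .nil)) .nil)) .nil)) .nil)) .nil)) .nil)) .nil)) .nil)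
def phAc19 : Cert := (.node 353 (.sub (.node 2145 (.sub (.node 4193 (.sub (.node 2433 (.sub (.node 4481 (.sub (.node 2689 (.sub (.node 8833 (.sub (.node 33921 (.sub (.node 66689 (.sub (.node 33537 (.sub (.node 66305 (.sub (.node 3329 (.sub (.node 9473 (.sub (.node 3585 (.sub (.node 5633 (.sub (.node 51201 (.sub (.node 149505 (.sub (.node 45057 (.sub (.node 143361 (.sub (.goto [(8, 10), (9, 8), (11, 19), (12, 22), (13, 20), (14, 21), (16, 18), (17, 16), (13, 14), (13, 12)]) .nil)) .nil)) .nil)) .nil)) .nil)) .nil)) .nil)) .nil)) .nil)) .nil)) .nil)) .nil)) .nil)) .nil)) .nil)) .nil)) .nil)) .nil)) .nil))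
def phAc20 : Cert := (.node 281 (.sub (.node 2073 (.sub (.node 4121 (.sub (.node 169 (.sub (.node 553 (.sub (.node 2089 (.sub (.node 8233 (.sub (.node 201 (.sub (.node 329 (.sub (.node 32841 (.sub (.node 65609 (.sub (.node 177 (.sub (.node 305 (.sub (.node 32817 (.sub (.node 65585 (.sub (.node 209 (.sub (.node 593 (.sub (.node 2129 (.sub (.node 8273 (.sub (.node 225 (.sub phAc19 .nil)) .nil)) .nil)) .nil)) .nil)) .nil)) .nil)) .nil)) .nil)) .nil)) .nil)) .nil)) .nil)) .nil)) .nil)) .nil)) .nil)) .nil)) .nil)) .nil))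
def phAc21 : Cert := (.node 579 (.sub (.node 1091 (.sub (.node 141 (.sub (.node 269 (.sub (.node 525 (.sub (.node 1037 (.sub (.node 149 (.sub (.node 277 (.sub (.node 533 (.sub (.node 1045 (.sub (.node 165 (.sub (.node 293 (.sub (.node 549 (.sub (.node 1061 (.sub (.node 197 (.sub (.node 325 (.sub (.node 581 (.sub (.node 1093 (.sub (.node 153 (.sub (.node 537 (.sub phAc16 .nil)) .nil)) .nil)) .nil)) .nil)) .nil)) .nil)) .nil)) .nil)) .nil)) .nil)) .nil)) .nil)) .nil)) .nil)) .nil)) .nil)) (.sub (.node 269 (.sub (.node 525 (.sub (.node 1037 (.sub (.node 149 (.sub (.node 277 (.sub (.node 533 (.sub (.node 1045 (.sub (.node 165 (.sub (.node 293 (.sub (.node 549 (.sub (.node 1061 (.sub (.node 197 (.sub (.node 325 (.sub (.node 581 (.sub (.node 1093 (.sub (.node 153 (.sub (.node 281 phAc18) .nil)) .nil)) .nil)) .nil)) .nil)) .nil)) .nil)) .nil)) .nil)) .nil)) .nil)) .nil)) .nil)) .nil)) .nil)) .nil)) (.sub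 (.node 269 (.sub (.node 525 (.sub (.node 1037 (.sub (.node 149 (.sub (.node 277 (.sub (.node 533 (.sub (.node 1045 (.sub (.node 165 (.sub (.node 293 (.sub (.node 549 (.sub (.node 1061 (.sub (.node 197 (.sub (.node 325 (.sub (.node 581 (.sub (.node 1093 (.sub (.node 153 (.sub phAc20 .nil)) .nil)) .nil)) .nil)) .nil)) .nil)) .nil)) .nil)) .nil)) .nil)) .nil)) .nil)) .nil)) .nil)) .nil)) .nil)) .nil)))) .nil)) .nil))
def phAc22 : Cert := (.sub (.node 32865 (.sub (.node 131169 (.sub (.node 33153 (.sub (.node 65921 (.sub (.node 2689 (.sub (.node 4737 (.sub (.node 3201 (.sub (.node 5249 (.sub (.node 2817 (.sub (.node 4865 (.sub (.node 3329 (.sub (.node 5377 (.sub (.node 34305 (.sub (.node 67073 (.sub (.node 38913 (.sub (.node 71681 (.sub (.node 57345 (.sub (.node 90113 (.sub (.goto [(9, 10), (13, 14), (17, 18), (21, 22)]) .nil)) .nil)) .nil)) .nil)) .nil)) .nil)) .nil)) .nil)) .nil)) .nil)) .nil)) .nil))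 .nil)) .nil)) .nil)) .nil)) .nil)) .nil)) .nil)
def phAc23 : Cert := (.sub (.node 32793 (.sub (.node 131097 (.sub (.node 169 (.sub (.node 297 (.sub (.node 2089 (.sub (.node 4137 (.sub (.node 201 (.sub (.node 329 (.sub (.node 2121 (.sub (.node 4169 (.sub (.node 177 (.sub (.node 305 (.sub (.node 2097 (.sub (.node 4145 (.sub (.node 209 (.sub (.node 337 (.sub (.node 2129 (.sub (.node 4177 (.sub (.node 225 (.sub (.node 609 phAc22) .nil)) .nil)) .nil)) .nil)) .nil)) .nil)) .nil)) .nil)) .nil)) .nil)) .nil)) .nil)) .nil)) .nil)) .nil)) .nil)) .nil)) .nil)) .nil)) .nil)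
def phAc24 : Cert := (.node 353 (.sub (.node 2145 (.sub (.node 4193 (.sub (.node 2433 (.sub (.node 4481 (.sub (.node 33409 (.sub (.node 131713 (.sub (.node 3201 (.sub (.node 9345 (.sub (.node 2817 (.sub (.node 8961 (.sub (.node 34049 (.sub (.node 132353 (.sub (.node 3585 (.sub (.node 5633 (.sub (.node 43009 (.sub (.node 75777 (.sub (.node 53249 (.sub (.node 86017 (.sub (.goto [(8, 10), (11, 19), (12, 22), (13, 21), (14, 20), (15, 11), (16, 14), (17, 13), (18, 12), (16, 18)]) .nil)) .nil)) .nil)) .nil)) .nil)) .nil)) .nil)) .nil)) .nil)) .nil)) .nil)) .nil)) .nil)) .nil)) .nil)) .nil)) .nil)) .nil)) .nil))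
def phAc25 : Cert := (.node 281 (.sub (.node 2073 (.sub (.node 4121 (.sub (.node 169 (.sub (.node 553 (.sub (.node 2089 (.sub (.node 8233 (.sub (.node 201 (.sub (.node 329 (.sub (.node 32841 (.sub (.node 65609 (.sub (.node 177 (.sub (.node 305 (.sub (.node 32817 (.sub (.node 65585 (.sub (.node 209 (.sub (.node 593 (.sub (.node 2129 (.sub (.node 8273 (.sub (.node 225 (.sub phAc24 .nil)) .nil)) .nil)) .nil)) .nil)) .nil)) .nil)) .nil)) .nil)) .nil)) .nil)) .nil)) .nil)) .nil)) .nil)) .nil)) .nil)) .nil)) .nil)) .nil))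
def phAc26 : Cert := (.sub (.node 353 (.sub (.node 2145 (.sub (.node 4193 (.sub (.node 2433 (.sub (.node 4481 (.sub (.node 2689 (.sub (.node 8833 (.sub (.node 33921 (.sub (.node 66689 (.sub (.node 33537 (.sub (.node 66305 (.sub (.node 3329 (.sub (.node 9473 (.sub (.node 3585 (.sub (.node 5633 (.sub (.node 51201 (.sub (.node 149505 (.sub (.node 45057 (.sub (.node 143361 (.sub (.goto [(8, 9), (11, 15), (12, 17), (13, 16), (14, 18), (11, 19), (13, 21), (12, 20), (14, 22), (12, 13)]) .nil)) .nil)) .nil)) .nil)) .nil)) .nil)) .nil)) .nil)) .nil)) .nil)) .nil)) .nil)) .nil)) .nil)) .nil)) .nil)) .nil)) .nil)) .nil)) .nil)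
def phAc27 : Cert := (.sub (.node 281 (.sub (.node 2073 (.sub (.node 4121 (.sub (.node 169 (.sub (.node 297 (.sub (.node 32809 (.sub (.node 65577 (.sub (.node 201 (.sub (.node 585 (.sub (.node 2121 (.sub (.node 8265 (.sub (.node 177 (.sub (.node 561 (.sub (.node 2097 (.sub (.node 8241 (.sub (.node 209 (.sub (.node 337 (.sub (.node 32849 (.sub (.node 65617 (.sub (.node 225 phAc26) .nil)) .nil)) .nil)) .nil)) .nil)) .nil)) .nil)) .nil)) .nil)) .nil)) .nil)) .nil)) .nil)) .nil)) .nil)) .nil)) .nil)) .nil)) .nil)) .nil)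
def phAc28 : Cert := (.sub (.node 579 (.sub (.node 1091 (.sub (.node 141 (.sub (.node 269 (.sub (.node 525 (.sub (.node 1037 (.sub (.node 149 (.sub (.node 277 (.sub (.node 533 (.sub (.node 1045 (.sub (.node 165 (.sub (.node 293 (.sub (.node 549 (.sub (.node 1061 (.sub (.node 197 (.sub (.node 325 (.sub (.node 581 (.sub (.node 1093 (.sub (.node 153 (.sub (.node 537 phAc23) .nil)) .nil)) .nil)) .nil)) .nil)) .nil)) .nil)) .nil)) .nil)) .nil)) .nil)) .nil)) .nil)) .nil)) .nil)) .nil)) (.sub (.node 269 (.sub (.node 525 (.sub (.node 1037 (.sub (.node 149 (.sub (.node 277 (.sub (.node 533 (.sub (.node 1045 (.sub (.node 165 (.sub (.node 293 (.sub (.node 549 (.sub (.node 1061 (.sub (.node 197 (.sub (.node 325 (.sub (.node 581 (.sub (.node 1093 (.sub (.node 153 (.sub phAc25 .nil)) .nil)) .nil)) .nil)) .nil)) .nil)) .nil)) .nil)) .nil)) .nil)) .nil)) .nil)) .nil)) .nil)) .nil)) .nil)) (.sub (.node 269 (.sub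 (.node 525 (.sub (.node 1037 (.sub (.node 149 (.sub (.node 277 (.sub (.node 533 (.sub (.node 1045 (.sub (.node 165 (.sub (.node 293 (.sub (.node 549 (.sub (.node 1061 (.sub (.node 197 (.sub (.node 325 (.sub (.node 581 (.sub (.node 1093 (.sub (.node 153 phAc27) .nil)) .nil)) .nil)) .nil)) .nil)) .nil)) .nil)) .nil)) .nil)) .nil)) .nil)) .nil)) .nil)) .nil)) .nil)) .nil)))) .nil)) .nil)) .nil)
def phAc29 : Cert := (.sub (.node 2145 (.sub (.node 4193 (.sub (.node 33153 (.sub (.node 65921 (.sub (.node 2689 (.sub (.node 4737 (.sub (.node 3201 (.sub (.node 5249 (.sub (.node 2817 (.sub (.node 4865 (.sub (.node 3329 (.sub (.node 5377 (.sub (.node 34305 (.sub (.node 67073 (.sub (.node 38913 (.sub (.node 71681 (.sub (.node 57345 (.sub (.node 90113 (.sub (.goto [(8, 10), (11, 15), (12, 18), (13, 17), (14, 16), (11, 19), (14, 22), (13, 21), (12, 20), (12, 14)]) .nil)) .nil)) .nil)) .nil)) .nil)) .nil)) .nil))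 .nil)) .nil)) .nil)) .nil)) .nil)) .nil)) .nil)) .nil)) .nil)) .nil)) .nil)) .nil)
def phAc30 : Cert := (.sub (.node 2073 (.sub (.node 4121 (.sub (.node 169 (.sub (.node 553 (.sub (.node 32809 (.sub (.node 131113 (.sub (.node 201 (.sub (.node 329 (.sub (.node 2121 (.sub (.node 4169 (.sub (.node 177 (.sub (.node 305 (.sub (.node 2097 (.sub (.node 4145 (.sub (.node 209 (.sub (.node 593 (.sub (.node 32849 (.sub (.node 131153 (.sub (.node 225 (.sub (.node 353 phAc29) .nil)) .nil)) .nil)) .nil)) .nil)) .nil)) .nil)) .nil)) .nil)) .nil)) .nil)) .nil)) .nil)) .nil)) .nil)) .nil)) .nil)) .nil)) .nil)) .nil)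
def phAc31 : Cert := (.node 353 (.sub (.node 32865 (.sub (.node 65633 (.sub (.node 2433 (.sub (.node 4481 (.sub (.node 33409 (.sub (.node 131713 (.sub (.node 3201 (.sub (.node 9345 (.sub (.node 2817 (.sub (.node 8961 (.sub (.node 34049 (.sub (.node 132353 (.sub (.node 3585 (.sub (.node 5633 (.sub (.node 43009 (.sub (.node 75777 (.sub (.node 53249 (.sub (.node 86017 (.sub (.goto [(8, 9), (12, 13), (16, 17), (20, 21)]) .nil)) .nil)) .nil)) .nil)) .nil)) .nil)) .nil)) .nil)) .nil)) .nil)) .nil)) .nil)) .nil)) .nil)) .nil)) .nil)) .nil)) .nil)) .nil))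
def phAc32 : Cert := (.node 281 (.sub (.node 32793 (.sub (.node 65561 (.sub (.node 169 (.sub (.node 297 (.sub (.node 2089 (.sub (.node 4137 (.sub (.node 201 (.sub (.node 585 (.sub (.node 2121 (.sub (.node 8265 (.sub (.node 177 (.sub (.node 561 (.sub (.node 2097 (.sub (.node 8241 (.sub (.node 209 (.sub (.node 337 (.sub (.node 2129 (.sub (.node 4177 (.sub (.node 225 (.sub phAc31 .nil)) .nil)) .nil)) .nil)) .nil)) .nil)) .nil)) .nil)) .nil)) .nil)) .nil)) .nil)) .nil)) .nil)) .nil)) .nil)) .nil)) .nil)) .nil)) .nil))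
def phAc33 : Cert := (.sub (.node 609 (.sub (.node 2145 (.sub (.node 8289 (.sub (.node 2433 (.sub (.node 4481 (.sub (.node 2689 (.sub (.node 8833 (.sub (.node 33921 (.sub (.node 66689 (.sub (.node 33537 (.sub (.node 66305 (.sub (.node 3329 (.sub (.node 9473 (.sub (.node 3585 (.sub (.node 5633 (.sub (.node 51201 (.sub (.node 149505 (.sub (.node 45057 (.sub (.node 143361 (.sub (.goto [(9, 10), (11, 19), (12, 20), (13, 22), (14, 21), (15, 11), (16, 12), (17, 14), (18, 13), (17, 18)]) .nil)) .nil)) .nil)) .nil)) .nil)) .nil)) .nil)) .nil)) .nil)) .nil)) .nil)) .nil)) .nil)) .nil)) .nil)) .nil)) .nil)) .nil)) .nil)) .nil)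
def phAc34 : Cert := (.sub (.node 537 (.sub (.node 2073 (.sub (.node 8217 (.sub (.node 169 (.sub (.node 297 (.sub (.node 2089 (.sub (.node 4137 (.sub (.node 201 (.sub (.node 329 (.sub (.node 32841 (.sub (.node 65609 (.sub (.node 177 (.sub (.node 305 (.sub (.node 32817 (.sub (.node 65585 (.sub (.node 209 (.sub (.node 337 (.sub (.node 2129 (.sub (.node 4177 (.sub (.node 225 phAc33) .nil)) .nil)) .nil)) .nil)) .nil)) .nil)) .nil)) .nil)) .nil)) .nil)) .nil)) .nil)) .nil)) .nil)) .nil)) .nil)) .nil)) .nil)) .nil)) .nil)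
def phAc35 : Cert := (.sub (.node 579 (.sub (.node 1091 (.sub (.node 141 (.sub (.node 269 (.sub (.node 525 (.sub (.node 1037 (.sub (.node 149 (.sub (.node 277 (.sub (.node 533 (.sub (.node 1045 (.sub (.node 165 (.sub (.node 293 (.sub (.node 549 (.sub (.node 1061 (.sub (.node 197 (.sub (.node 325 (.sub (.node 581 (.sub (.node 1093 (.sub (.node 153 (.sub (.node 281 phAc30) .nil)) .nil)) .nil)) .nil)) .nil)) .nil)) .nil)) .nil)) .nil)) .nil)) .nil)) .nil)) .nil)) .nil)) .nil)) .nil)) (.sub (.node 269 (.sub (.node 525 (.sub (.node 1037 (.sub (.node 149 (.sub (.node 277 (.sub (.node 533 (.sub (.node 1045 (.sub (.node 165 (.sub (.node 293 (.sub (.node 549 (.sub (.node 1061 (.sub (.node 197 (.sub (.node 325 (.sub (.node 581 (.sub (.node 1093 (.sub (.node 153 (.sub phAc32 .nil)) .nil)) .nil)) .nil)) .nil)) .nil)) .nil)) .nil)) .nil)) .nil)) .nil)) .nil)) .nil)) .nil)) .nil)) .nil)) (.sub (.node 269 (.sub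 (.node 525 (.sub (.node 1037 (.sub (.node 149 (.sub (.node 277 (.sub (.node 533 (.sub (.node 1045 (.sub (.node 165 (.sub (.node 293 (.sub (.node 549 (.sub (.node 1061 (.sub (.node 197 (.sub (.node 325 (.sub (.node 581 (.sub (.node 1093 (.sub (.node 153 phAc34) .nil)) .nil)) .nil)) .nil)) .nil)) .nil)) .nil)) .nil)) .nil)) .nil)) .nil)) .nil)) .nil)) .nil)) .nil)) .nil)))) .nil)) .nil)) .nil)
def phAc36 : Cert := (.node 353 (.sub (.node 2145 (.sub (.node 4193 (.sub (.node 33153 (.sub (.node 65921 (.sub (.node 2689 (.sub (.node 4737 (.sub (.node 3201 (.sub (.node 5249 (.sub (.node 2817 (.sub (.node 4865 (.sub (.node 3329 (.sub (.node 5377 (.sub (.node 34305 (.sub (.node 67073 (.sub (.node 38913 (.sub (.node 71681 (.sub (.node 57345 (.sub (.node 90113 (.sub (.goto [(8, 9), (8, 10), (11, 19), (12, 21), (13, 22), (14, 20), (16, 17), (16, 18), (14, 13), (12, 14)]) .nil)) .nil)) .nil)) .nil)) .nil))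 .nil)) .nil)) .nil)) .nil)) .nil)) .nil)) .nil)) .nil)) .nil)) .nil)) .nil)) .nil)) .nil)) .nil))
def phAc37 : Cert := (.node 281 (.sub (.node 2073 (.sub (.node 4121 (.sub (.node 169 (.sub (.node 297 (.sub (.node 2089 (.sub (.node 4137 (.sub (.node 201 (.sub (.node 585 (.sub (.node 32841 (.sub (.node 131145 (.sub (.node 177 (.sub (.node 561 (.sub (.node 32817 (.sub (.node 131121 (.sub (.node 209 (.sub (.node 337 (.sub (.node 2129 (.sub (.node 4177 (.sub (.node 225 (.sub phAc36 .nil)) .nil)) .nil)) .nil)) .nil)) .nil)) .nil)) .nil)) .nil)) .nil)) .nil)) .nil)) .nil)) .nil)) .nil)) .nil)) .nil)) .nil)) .nil)) .nil))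
def phAc38 : Cert := (.sub (.node 353 (.sub (.node 32865 (.sub (.node 65633 (.sub (.node 2433 (.sub (.node 4481 (.sub (.node 33409 (.sub (.node 131713 (.sub (.node 3201 (.sub (.node 9345 (.sub (.node 2817 (.sub (.node 8961 (.sub (.node 34049 (.sub (.node 132353 (.sub (.node 3585 (.sub (.node 5633 (.sub (.node 43009 (.sub (.node 75777 (.sub (.node 53249 (.sub (.node 86017 (.sub (.goto [(8, 10), (9, 8), (12, 14), (13, 12), (15, 19), (16, 22), (17, 20), (18, 21), (17, 18), (17, 16)]) .nil)) .nil)) .nil)) .nil)) .nil)) .nil)) .nil)) .nil)) .nil)) .nil)) .nil)) .nil)) .nil)) .nil)) .nil)) .nil)) .nil)) .nil)) .nil)) .nil)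
def phAc39 : Cert := (.sub (.node 281 (.sub (.node 32793 (.sub (.node 65561 (.sub (.node 169 (.sub (.node 553 (.sub (.node 2089 (.sub (.node 8233 (.sub (.node 201 (.sub (.node 329 (.sub (.node 2121 (.sub (.node 4169 (.sub (.node 177 (.sub (.node 305 (.sub (.node 2097 (.sub (.node 4145 (.sub (.node 209 (.sub (.node 593 (.sub (.node 2129 (.sub (.node 8273 (.sub (.node 225 phAc38) .nil)) .nil)) .nil)) .nil)) .nil)) .nil)) .nil)) .nil)) .nil)) .nil)) .nil)) .nil)) .nil)) .nil)) .nil)) .nil)) .nil)) .nil)) .nil)) .nil)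
def phAc40 : Cert := (.goto [(11, 15), (12, 16), (13, 17), (14, 18)])
def phAc41 : Cert := (.node 225 (.sub (.node 609 (.sub (.node 2145 (.sub (.node 8289 (.sub (.node 2433 (.sub (.node 4481 (.sub (.node 2689 (.sub (.node 8833 (.sub (.node 33921 (.sub (.node 66689 (.sub (.node 33537 (.sub (.node 66305 (.sub (.node 3329 (.sub (.node 9473 (.sub (.node 3585 (.sub (.node 5633 (.sub (.node 51201 (.sub (.node 149505 (.sub (.node 45057 (.sub (.node 143361 (.sub phAc40 .nil)) .nil)) .nil)) .nil)) .nil)) .nil)) .nil)) .nil)) .nil)) .nil)) .nil)) .nil)) .nil)) .nil)) .nil)) .nil)) .nil)) .nil)) .nil)) .nil))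
def phAc42 : Cert := (.node 153 (.sub (.node 537 (.sub (.node 2073 (.sub (.node 8217 (.sub (.node 169 (.sub (.node 297 (.sub (.node 32809 (.sub (.node 65577 (.sub (.node 201 (.sub (.node 329 (.sub (.node 2121 (.sub (.node 4169 (.sub (.node 177 (.sub (.node 305 (.sub (.node 2097 (.sub (.node 4145 (.sub (.node 209 (.sub (.node 337 (.sub (.node 32849 (.sub (.node 65617 (.sub phAc41 .nil)) .nil)) .nil)) .nil)) .nil)) .nil)) .nil)) .nil)) .nil)) .nil)) .nil)) .nil)) .nil)) .nil)) .nil)) .nil)) .nil)) .nil)) .nil)) .nil))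
def phAc43 : Cert := (.node 323 (.sub (.node 579 (.sub (.node 1091 (.sub (.node 141 (.sub (.node 269 (.sub (.node 525 (.sub (.node 1037 (.sub (.node 149 (.sub (.node 277 (.sub (.node 533 (.sub (.node 1045 (.sub (.node 165 (.sub (.node 293 (.sub (.node 549 (.sub (.node 1061 (.sub (.node 197 (.sub (.node 325 (.sub (.node 581 (.sub (.node 1093 (.sub (.node 153 (.sub phAc37 .nil)) .nil)) .nil)) .nil)) .nil)) .nil)) .nil)) .nil)) .nil)) .nil)) .nil)) .nil)) .nil)) .nil)) .nil)) .nil)) (.sub (.node 269 (.sub (.node 525 (.sub (.node 1037 (.sub (.node 149 (.sub (.node 277 (.sub (.node 533 (.sub (.node 1045 (.sub (.node 165 (.sub (.node 293 (.sub (.node 549 (.sub (.node 1061 (.sub (.node 197 (.sub (.node 325 (.sub (.node 581 (.sub (.node 1093 (.sub (.node 153 phAc39) .nil)) .nil)) .nil)) .nil)) .nil)) .nil)) .nil)) .nil)) .nil)) .nil)) .nil)) .nil)) .nil)) .nil)) .nil)) (.sub (.node 269 (.sub (.node 525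 (.sub (.node 1037 (.sub (.node 149 (.sub (.node 277 (.sub (.node 533 (.sub (.node 1045 (.sub (.node 165 (.sub (.node 293 (.sub (.node 549 (.sub (.node 1061 (.sub (.node 197 (.sub (.node 325 (.sub (.node 581 (.sub (.node 1093 (.sub phAc42 .nil)) .nil)) .nil)) .nil)) .nil)) .nil)) .nil)) .nil)) .nil)) .nil)) .nil)) .nil)) .nil)) .nil)) .nil)) .nil)))) .nil)) .nil)) .nil))
def phAc44 : Cert := (.sub (.node 353 (.sub (.node 2145 (.sub (.node 4193 (.sub (.node 33153 (.sub (.node 65921 (.sub (.node 2689 (.sub (.node 4737 (.sub (.node 3201 (.sub (.node 5249 (.sub (.node 2817 (.sub (.node 4865 (.sub (.node 3329 (.sub (.node 5377 (.sub (.node 34305 (.sub (.node 67073 (.sub (.node 38913 (.sub (.node 71681 (.sub (.node 57345 (.sub (.node 90113 (.sub (.goto [(8, 10), (11, 15), (12, 18), (13, 17), (14, 16), (20, 22)]) .nil)) .nil)) .nil)) .nil)) .nil)) .nil)) .nil)) .nil)) .nil)) .nil)) .nil)) .nil)) .nil))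 .nil)) .nil)) .nil)) .nil)) .nil)) .nil)) .nil)
def phAc45 : Cert := (.sub (.node 281 (.sub (.node 2073 (.sub (.node 4121 (.sub (.node 169 (.sub (.node 553 (.sub (.node 32809 (.sub (.node 131113 (.sub (.node 201 (.sub (.node 329 (.sub (.node 2121 (.sub (.node 4169 (.sub (.node 177 (.sub (.node 305 (.sub (.node 2097 (.sub (.node 4145 (.sub (.node 209 (.sub (.node 593 (.sub (.node 32849 (.sub (.node 131153 (.sub (.node 225 phAc44) .nil)) .nil)) .nil)) .nil)) .nil)) .nil)) .nil)) .nil)) .nil)) .nil)) .nil)) .nil)) .nil)) .nil)) .nil)) .nil)) .nil)) .nil)) .nil)) .nil)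
def phAc46 : Cert := (.goto [(8, 9), (12, 13), (15, 19), (16, 21), (17, 20), (18, 22)])
def phAc47 : Cert := (.node 225 (.sub (.node 353 (.sub (.node 32865 (.sub (.node 65633 (.sub (.node 2433 (.sub (.node 4481 (.sub (.node 33409 (.sub (.node 66177 (.sub (.node 3201 (.sub (.node 9345 (.sub (.node 2817 (.sub (.node 8961 (.sub (.node 34049 (.sub (.node 66817 (.sub (.node 3585 (.sub (.node 5633 (.sub (.node 43009 (.sub (.node 141313 (.sub (.node 53249 (.sub (.node 151553 (.sub phAc46 .nil)) .nil)) .nil)) .nil)) .nil)) .nil)) .nil)) .nil)) .nil)) .nil)) .nil)) .nil)) .nil)) .nil)) .nil)) .nil)) .nil)) .nil)) .nil)) .nil))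
def phAc48 : Cert := (.node 153 (.sub (.node 281 (.sub (.node 32793 (.sub (.node 65561 (.sub (.node 169 (.sub (.node 297 (.sub (.node 2089 (.sub (.node 4137 (.sub (.node 201 (.sub (.node 585 (.sub (.node 2121 (.sub (.node 8265 (.sub (.node 177 (.sub (.node 561 (.sub (.node 2097 (.sub (.node 8241 (.sub (.node 209 (.sub (.node 337 (.sub (.node 2129 (.sub (.node 4177 (.sub phAc47 .nil)) .nil)) .nil)) .nil)) .nil)) .nil)) .nil)) .nil)) .nil)) .nil)) .nil)) .nil)) .nil)) .nil)) .nil)) .nil)) .nil)) .nil)) .nil)) .nil))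
def phAc49 : Cert := (.sub (.goto [(9, 10), (11, 19), (12, 20), (13, 22), (14, 21), (17, 18)]) .nil)
def phAc50 : Cert := (.sub (.node 225 (.sub (.node 609 (.sub (.node 2145 (.sub (.node 8289 (.sub (.node 2433 (.sub (.node 4481 (.sub (.node 2689 (.sub (.node 8833 (.sub (.node 33921 (.sub (.node 132225 (.sub (.node 33537 (.sub (.node 131841 (.sub (.node 3329 (.sub (.node 9473 (.sub (.node 3585 (.sub (.node 5633 (.sub (.node 51201 (.sub (.node 83969 (.sub (.node 45057 (.sub (.node 77825 phAc49) .nil)) .nil)) .nil)) .nil)) .nil)) .nil)) .nil)) .nil)) .nil)) .nil)) .nil)) .nil)) .nil)) .nil)) .nil)) .nil)) .nil)) .nil)) .nil)) .nil)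
def phAc51 : Cert := (.sub (.node 153 (.sub (.node 537 (.sub (.node 2073 (.sub (.node 8217 (.sub (.node 169 (.sub (.node 297 (.sub (.node 2089 (.sub (.node 4137 (.sub (.node 201 (.sub (.node 329 (.sub (.node 32841 (.sub (.node 65609 (.sub (.node 177 (.sub (.node 305 (.sub (.node 32817 (.sub (.node 65585 (.sub (.node 209 (.sub (.node 337 (.sub (.node 2129 (.sub (.node 4177 phAc50) .nil)) .nil)) .nil)) .nil)) .nil)) .nil)) .nil)) .nil)) .nil)) .nil)) .nil)) .nil)) .nil)) .nil)) .nil)) .nil)) .nil)) .nil)) .nil)) .nil)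
def phAc52 : Cert := (.sub (.node 323 (.sub (.node 579 (.sub (.node 1091 (.sub (.node 141 (.sub (.node 269 (.sub (.node 525 (.sub (.node 1037 (.sub (.node 149 (.sub (.node 277 (.sub (.node 533 (.sub (.node 1045 (.sub (.node 165 (.sub (.node 293 (.sub (.node 549 (.sub (.node 1061 (.sub (.node 197 (.sub (.node 325 (.sub (.node 581 (.sub (.node 1093 (.sub (.node 153 phAc45) .nil)) .nil)) .nil)) .nil)) .nil)) .nil)) .nil)) .nil)) .nil)) .nil)) .nil)) .nil)) .nil)) .nil)) .nil)) (.sub (.node 269 (.sub (.node 525 (.sub (.node 1037 (.sub (.node 149 (.sub (.node 277 (.sub (.node 533 (.sub (.node 1045 (.sub (.node 165 (.sub (.node 293 (.sub (.node 549 (.sub (.node 1061 (.sub (.node 197 (.sub (.node 325 (.sub (.node 581 (.sub (.node 1093 (.sub phAc48 .nil)) .nil)) .nil)) .nil)) .nil)) .nil)) .nil)) .nil)) .nil)) .nil)) .nil)) .nil)) .nil)) .nil)) .nil)) (.sub (.node 269 (.sub (.node 525 (.sub (.node 1037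 (.sub (.node 149 (.sub (.node 277 (.sub (.node 533 (.sub (.node 1045 (.sub (.node 165 (.sub (.node 293 (.sub (.node 549 (.sub (.node 1061 (.sub (.node 197 (.sub (.node 325 (.sub (.node 581 (.sub (.node 1093 phAc51) .nil)) .nil)) .nil)) .nil)) .nil)) .nil)) .nil)) .nil)) .nil)) .nil)) .nil)) .nil)) .nil)) .nil)) .nil)))) .nil)) .nil)) .nil)) .nil)
def phAc53 : Cert := (.goto [(8, 9), (8, 10), (11, 19), (12, 21), (13, 22), (14, 20), (15, 11), (16, 13), (17, 14), (18, 12)])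
def phAc54 : Cert := (.node 225 (.sub (.node 353 (.sub (.node 2145 (.sub (.node 4193 (.sub (.node 33153 (.sub (.node 65921 (.sub (.node 2689 (.sub (.node 4737 (.sub (.node 3201 (.sub (.node 5249 (.sub (.node 2817 (.sub (.node 4865 (.sub (.node 3329 (.sub (.node 5377 (.sub (.node 34305 (.sub (.node 67073 (.sub (.node 38913 (.sub (.node 71681 (.sub (.node 57345 (.sub (.node 90113 (.sub phAc53 .nil)) .nil)) .nil)) .nil)) .nil)) .nil)) .nil)) .nil)) .nil)) .nil)) .nil)) .nil)) .nil)) .nil)) .nil)) .nil)) .nil)) .nil)) .nil)) .nil))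
def phAc55 : Cert := (.node 153 (.sub (.node 281 (.sub (.node 2073 (.sub (.node 4121 (.sub (.node 169 (.sub (.node 297 (.sub (.node 2089 (.sub (.node 4137 (.sub (.node 201 (.sub (.node 585 (.sub (.node 32841 (.sub (.node 131145 (.sub (.node 177 (.sub (.node 561 (.sub (.node 32817 (.sub (.node 131121 (.sub (.node 209 (.sub (.node 337 (.sub (.node 2129 (.sub (.node 4177 (.sub phAc54 .nil)) .nil)) .nil)) .nil)) .nil)) .nil)) .nil)) .nil)) .nil)) .nil)) .nil)) .nil)) .nil)) .nil)) .nil)) .nil)) .nil)) .nil)) .nil)) .nil))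
def phAc56 : Cert := (.sub (.goto [(8, 10), (9, 8), (12, 14), (13, 12), (16, 18), (17, 16), (20, 22), (21, 20)]) .nil)
def phAc57 : Cert := (.sub (.node 225 (.sub (.node 353 (.sub (.node 32865 (.sub (.node 65633 (.sub (.node 2433 (.sub (.node 4481 (.sub (.node 33409 (.sub (.node 66177 (.sub (.node 3201 (.sub (.node 9345 (.sub (.node 2817 (.sub (.node 8961 (.sub (.node 34049 (.sub (.node 66817 (.sub (.node 3585 (.sub (.node 5633 (.sub (.node 43009 (.sub (.node 141313 (.sub (.node 53249 (.sub (.node 151553 phAc56) .nil)) .nil)) .nil)) .nil)) .nil)) .nil)) .nil)) .nil)) .nil)) .nil)) .nil)) .nil)) .nil)) .nil)) .nil)) .nil)) .nil)) .nil)) .nil)) .nil)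
def phAc58 : Cert := (.sub (.node 153 (.sub (.node 281 (.sub (.node 32793 (.sub (.node 65561 (.sub (.node 169 (.sub (.node 553 (.sub (.node 2089 (.sub (.node 8233 (.sub (.node 201 (.sub (.node 329 (.sub (.node 2121 (.sub (.node 4169 (.sub (.node 177 (.sub (.node 305 (.sub (.node 2097 (.sub (.node 4145 (.sub (.node 209 (.sub (.node 593 (.sub (.node 2129 (.sub (.node 8273 phAc57) .nil)) .nil)) .nil)) .nil)) .nil)) .nil)) .nil)) .nil)) .nil)) .nil)) .nil)) .nil)) .nil)) .nil)) .nil)) .nil)) .nil)) .nil)) .nil)) .nil)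
def phAc59 : Cert := (.node 77825 (.sub (.goto [(11, 15), (12, 16), (13, 17), (14, 18), (11, 19), (12, 20), (13, 21), (14, 22)]) .nil))
def phAc60 : Cert := (.node 65617 (.sub (.node 225 (.sub (.node 609 (.sub (.node 2145 (.sub (.node 8289 (.sub (.node 2433 (.sub (.node 4481 (.sub (.node 2689 (.sub (.node 8833 (.sub (.node 33921 (.sub (.node 132225 (.sub (.node 33537 (.sub (.node 131841 (.sub (.node 3329 (.sub (.node 9473 (.sub (.node 3585 (.sub (.node 5633 (.sub (.node 51201 (.sub (.node 83969 (.sub (.node 45057 (.sub phAc59 .nil)) .nil)) .nil)) .nil)) .nil)) .nil)) .nil)) .nil)) .nil)) .nil)) .nil)) .nil)) .nil)) .nil)) .nil)) .nil)) .nil)) .nil)) .nil)) .nil))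
def phAc61 : Cert := (.node 1093 (.sub (.node 153 (.sub (.node 537 (.sub (.node 2073 (.sub (.node 8217 (.sub (.node 169 (.sub (.node 297 (.sub (.node 32809 (.sub (.node 65577 (.sub (.node 201 (.sub (.node 329 (.sub (.node 2121 (.sub (.node 4169 (.sub (.node 177 (.sub (.node 305 (.sub (.node 2097 (.sub (.node 4145 (.sub (.node 209 (.sub (.node 337 (.sub (.node 32849 (.sub phAc60 .nil)) .nil)) .nil)) .nil)) .nil)) .nil)) .nil)) .nil)) .nil)) .nil)) .nil)) .nil)) .nil)) .nil)) .nil)) .nil)) .nil)) .nil)) .nil)) .nil))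
def phAc62 : Cert := (.node 195 (.sub (.node 323 (.sub (.node 579 (.sub (.node 1091 (.sub (.node 141 (.sub (.node 269 (.sub (.node 525 (.sub (.node 1037 (.sub (.node 149 (.sub (.node 277 (.sub (.node 533 (.sub (.node 1045 (.sub (.node 165 (.sub (.node 293 (.sub (.node 549 (.sub (.node 1061 (.sub (.node 197 (.sub (.node 325 (.sub (.node 581 (.sub (.node 1093 (.sub phAc55 .nil)) .nil)) .nil)) .nil)) .nil)) .nil)) .nil)) .nil)) .nil)) .nil)) .nil)) .nil)) .nil)) .nil)) .nil)) (.sub (.node 269 (.sub (.node 525 (.sub (.node 1037 (.sub (.node 149 (.sub (.node 277 (.sub (.node 533 (.sub (.node 1045 (.sub (.node 165 (.sub (.node 293 (.sub (.node 549 (.sub (.node 1061 (.sub (.node 197 (.sub (.node 325 (.sub (.node 581 (.sub (.node 1093 phAc58) .nil)) .nil)) .nil)) .nil)) .nil)) .nil)) .nil)) .nil)) .nil)) .nil)) .nil)) .nil)) .nil)) .nil)) (.sub (.node 269 (.sub (.node 525 (.sub (.node 1037 (.sub (.node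 149 (.sub (.node 277 (.sub (.node 533 (.sub (.node 1045 (.sub (.node 165 (.sub (.node 293 (.sub (.node 549 (.sub (.node 1061 (.sub (.node 197 (.sub (.node 325 (.sub (.node 581 (.sub phAc61 .nil)) .nil)) .nil)) .nil)) .nil)) .nil)) .nil)) .nil)) .nil)) .nil)) .nil)) .nil)) .nil)) .nil)) .nil)))) .nil)) .nil)) .nil)) .nil))
def phAc63 : Cert := (.goto [(8, 10), (9, 8), (11, 15), (12, 18), (13, 16), (14, 17), (11, 19), (13, 22), (14, 20), (12, 21)])
def phAc64 : Cert := (.node 225 (.sub (.node 353 (.sub (.node 2145 (.sub (.node 4193 (.sub (.node 33153 (.sub (.node 65921 (.sub (.node 2689 (.sub (.node 4737 (.sub (.node 3201 (.sub (.node 5249 (.sub (.node 2817 (.sub (.node 4865 (.sub (.node 3329 (.sub (.node 5377 (.sub (.node 34305 (.sub (.node 67073 (.sub (.node 38913 (.sub (.node 71681 (.sub (.node 57345 (.sub (.node 90113 (.sub phAc63 .nil)) .nil)) .nil)) .nil)) .nil)) .nil)) .nil)) .nil)) .nil))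 .nil)) .nil)) .nil)) .nil)) .nil)) .nil)) .nil)) .nil)) .nil)) .nil)) .nil))
def phAc65 : Cert := (.node 153 (.sub (.node 281 (.sub (.node 2073 (.sub (.node 4121 (.sub (.node 169 (.sub (.node 553 (.sub (.node 32809 (.sub (.node 131113 (.sub (.node 201 (.sub (.node 329 (.sub (.node 2121 (.sub (.node 4169 (.sub (.node 177 (.sub (.node 305 (.sub (.node 2097 (.sub (.node 4145 (.sub (.node 209 (.sub (.node 593 (.sub (.node 32849 (.sub (.node 131153 (.sub phAc64 .nil)) .nil)) .nil)) .nil)) .nil)) .nil)) .nil)) .nil)) .nil)) .nil)) .nil)) .nil)) .nil)) .nil)) .nil)) .nil)) .nil)) .nil)) .nil)) .nil))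
def phAc66 : Cert := (.sub (.goto [(11, 19), (12, 20), (13, 21), (14, 22), (15, 11), (16, 12), (17, 13), (18, 14)]) .nil)
def phAc67 : Cert := (.sub (.node 225 (.sub (.node 609 (.sub (.node 2145 (.sub (.node 8289 (.sub (.node 2433 (.sub (.node 4481 (.sub (.node 33409 (.sub (.node 66177 (.sub (.node 3201 (.sub (.node 9345 (.sub (.node 2817 (.sub (.node 8961 (.sub (.node 34049 (.sub (.node 66817 (.sub (.node 3585 (.sub (.node 5633 (.sub (.node 43009 (.sub (.node 141313 (.sub (.node 53249 (.sub (.node 151553 phAc66) .nil)) .nil)) .nil)) .nil)) .nil)) .nil)) .nil)) .nil)) .nil)) .nil)) .nil)) .nil)) .nil)) .nil)) .nil)) .nil)) .nil)) .nil)) .nil)) .nil)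
def phAc68 : Cert := (.sub (.node 153 (.sub (.node 537 (.sub (.node 2073 (.sub (.node 8217 (.sub (.node 169 (.sub (.node 297 (.sub (.node 2089 (.sub (.node 4137 (.sub (.node 201 (.sub (.node 329 (.sub (.node 32841 (.sub (.node 65609 (.sub (.node 177 (.sub (.node 305 (.sub (.node 32817 (.sub (.node 65585 (.sub (.node 209 (.sub (.node 337 (.sub (.node 2129 (.sub (.node 4177 phAc67) .nil)) .nil)) .nil)) .nil)) .nil)) .nil)) .nil)) .nil)) .nil)) .nil)) .nil)) .nil)) .nil)) .nil)) .nil)) .nil)) .nil)) .nil)) .nil)) .nil)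
def phAc69 : Cert := (.node 77825 (.sub (.goto [(8, 9), (8, 10), (12, 13), (12, 14), (16, 17), (16, 18), (20, 21), (20, 22)]) .nil))
def phAc70 : Cert := (.node 4177 (.sub (.node 225 (.sub (.node 353 (.sub (.node 32865 (.sub (.node 65633 (.sub (.node 2433 (.sub (.node 4481 (.sub (.node 2689 (.sub (.node 8833 (.sub (.node 33921 (.sub (.node 132225 (.sub (.node 33537 (.sub (.node 131841 (.sub (.node 3329 (.sub (.node 9473 (.sub (.node 3585 (.sub (.node 5633 (.sub (.node 51201 (.sub (.node 83969 (.sub (.node 45057 (.sub phAc69 .nil)) .nil)) .nil)) .nil)) .nil)) .nil)) .nil)) .nil)) .nil)) .nil)) .nil)) .nil)) .nil)) .nil)) .nil)) .nil)) .nil)) .nil)) .nil)) .nil))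
def phAc71 : Cert := (.node 1093 (.sub (.node 153 (.sub (.node 281 (.sub (.node 32793 (.sub (.node 65561 (.sub (.node 169 (.sub (.node 297 (.sub (.node 2089 (.sub (.node 4137 (.sub (.node 201 (.sub (.node 585 (.sub (.node 2121 (.sub (.node 8265 (.sub (.node 177 (.sub (.node 561 (.sub (.node 2097 (.sub (.node 8241 (.sub (.node 209 (.sub (.node 337 (.sub (.node 2129 (.sub phAc70 .nil)) .nil)) .nil)) .nil)) .nil)) .nil)) .nil)) .nil)) .nil)) .nil)) .nil)) .nil)) .nil)) .nil)) .nil)) .nil)) .nil)) .nil)) .nil)) .nil))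
def phAc72 : Cert := (.node 195 (.sub (.node 323 (.sub (.node 579 (.sub (.node 1091 (.sub (.node 141 (.sub (.node 269 (.sub (.node 525 (.sub (.node 1037 (.sub (.node 149 (.sub (.node 277 (.sub (.node 533 (.sub (.node 1045 (.sub (.node 165 (.sub (.node 293 (.sub (.node 549 (.sub (.node 1061 (.sub (.node 197 (.sub (.node 325 (.sub (.node 581 (.sub (.node 1093 (.sub phAc65 .nil)) .nil)) .nil)) .nil)) .nil)) .nil)) .nil)) .nil)) .nil)) .nil)) .nil)) .nil)) .nil)) .nil)) .nil)) (.sub (.node 269 (.sub (.node 525 (.sub (.node 1037 (.sub (.node 149 (.sub (.node 277 (.sub (.node 533 (.sub (.node 1045 (.sub (.node 165 (.sub (.node 293 (.sub (.node 549 (.sub (.node 1061 (.sub (.node 197 (.sub (.node 325 (.sub (.node 581 (.sub (.node 1093 phAc68) .nil)) .nil)) .nil)) .nil)) .nil)) .nil)) .nil)) .nil)) .nil)) .nil)) .nil)) .nil)) .nil)) .nil)) (.sub (.node 269 (.sub (.node 525 (.sub (.node 1037 (.sub (.node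 149 (.sub (.node 277 (.sub (.node 533 (.sub (.node 1045 (.sub (.node 165 (.sub (.node 293 (.sub (.node 549 (.sub (.node 1061 (.sub (.node 197 (.sub (.node 325 (.sub (.node 581 (.sub phAc71 .nil)) .nil)) .nil)) .nil)) .nil)) .nil)) .nil)) .nil)) .nil)) .nil)) .nil)) .nil)) .nil)) .nil)) .nil)))) .nil)) .nil)) .nil)) .nil))
def phAc73 : Cert := (.sub (.goto [(8, 9), (11, 19), (12, 21), (13, 20), (14, 22), (16, 17)]) .nil)
def phAc74 : Cert := (.sub (.node 225 (.sub (.node 353 (.sub (.node 2145 (.sub (.node 4193 (.sub (.node 33153 (.sub (.node 65921 (.sub (.node 2689 (.sub (.node 4737 (.sub (.node 3201 (.sub (.node 5249 (.sub (.node 2817 (.sub (.node 4865 (.sub (.node 3329 (.sub (.node 5377 (.sub (.node 34305 (.sub (.node 67073 (.sub (.node 38913 (.sub (.node 71681 (.sub (.node 57345 (.sub (.node 90113 phAc73) .nil)) .nil)) .nil)) .nil)) .nil)) .nil)) .nil)) .nil)) .nil)) .nil)) .nil)) .nil)) .nil))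 .nil)) .nil)) .nil)) .nil)) .nil)) .nil)) .nil)
def phAc75 : Cert := (.sub (.node 153 (.sub (.node 281 (.sub (.node 2073 (.sub (.node 4121 (.sub (.node 169 (.sub (.node 297 (.sub (.node 2089 (.sub (.node 4137 (.sub (.node 201 (.sub (.node 585 (.sub (.node 32841 (.sub (.node 131145 (.sub (.node 177 (.sub (.node 561 (.sub (.node 32817 (.sub (.node 131121 (.sub (.node 209 (.sub (.node 337 (.sub (.node 2129 (.sub (.node 4177 phAc74) .nil)) .nil)) .nil)) .nil)) .nil)) .nil)) .nil)) .nil)) .nil)) .nil)) .nil)) .nil)) .nil)) .nil)) .nil)) .nil)) .nil)) .nil)) .nil)) .nil)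
def phAc76 : Cert := (.node 151553 (.sub (.goto [(9, 10), (11, 15), (12, 16), (13, 18), (14, 17), (21, 22)]) .nil))
def phAc77 : Cert := (.node 65617 (.sub (.node 225 (.sub (.node 609 (.sub (.node 2145 (.sub (.node 8289 (.sub (.node 2433 (.sub (.node 4481 (.sub (.node 33409 (.sub (.node 66177 (.sub (.node 3201 (.sub (.node 9345 (.sub (.node 2817 (.sub (.node 8961 (.sub (.node 34049 (.sub (.node 66817 (.sub (.node 3585 (.sub (.node 5633 (.sub (.node 43009 (.sub (.node 141313 (.sub (.node 53249 (.sub phAc76 .nil)) .nil)) .nil)) .nil)) .nil)) .nil)) .nil)) .nil)) .nil)) .nil)) .nil)) .nil)) .nil)) .nil)) .nil)) .nil)) .nil)) .nil)) .nil)) .nil))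
def phAc78 : Cert := (.node 1093 (.sub (.node 153 (.sub (.node 537 (.sub (.node 2073 (.sub (.node 8217 (.sub (.node 169 (.sub (.node 297 (.sub (.node 32809 (.sub (.node 65577 (.sub (.node 201 (.sub (.node 329 (.sub (.node 2121 (.sub (.node 4169 (.sub (.node 177 (.sub (.node 305 (.sub (.node 2097 (.sub (.node 4145 (.sub (.node 209 (.sub (.node 337 (.sub (.node 32849 (.sub phAc77 .nil)) .nil)) .nil)) .nil)) .nil)) .nil)) .nil)) .nil)) .nil)) .nil)) .nil)) .nil)) .nil)) .nil)) .nil)) .nil)) .nil)) .nil)) .nil)) .nil))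
def phAc79 : Cert := (.sub (.node 77825 (.sub (.goto [(8, 10), (12, 14), (15, 19), (16, 22), (17, 21), (18, 20)]) .nil)) .nil)
def phAc80 : Cert := (.sub (.node 8273 (.sub (.node 225 (.sub (.node 353 (.sub (.node 32865 (.sub (.node 65633 (.sub (.node 2433 (.sub (.node 4481 (.sub (.node 2689 (.sub (.node 8833 (.sub (.node 33921 (.sub (.node 132225 (.sub (.node 33537 (.sub (.node 131841 (.sub (.node 3329 (.sub (.node 9473 (.sub (.node 3585 (.sub (.node 5633 (.sub (.node 51201 (.sub (.node 83969 (.sub (.node 45057 phAc79) .nil)) .nil)) .nil)) .nil)) .nil)) .nil)) .nil)) .nil)) .nil)) .nil)) .nil)) .nil)) .nil)) .nil)) .nil)) .nil)) .nil)) .nil)) .nil)) .nil)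
def phAc81 : Cert := (.sub (.node 1093 (.sub (.node 153 (.sub (.node 281 (.sub (.node 32793 (.sub (.node 65561 (.sub (.node 169 (.sub (.node 553 (.sub (.node 2089 (.sub (.node 8233 (.sub (.node 201 (.sub (.node 329 (.sub (.node 2121 (.sub (.node 4169 (.sub (.node 177 (.sub (.node 305 (.sub (.node 2097 (.sub (.node 4145 (.sub (.node 209 (.sub (.node 593 (.sub (.node 2129 phAc80) .nil)) .nil)) .nil)) .nil)) .nil)) .nil)) .nil)) .nil)) .nil)) .nil)) .nil)) .nil)) .nil)) .nil)) .nil)) .nil)) .nil)) .nil)) .nil)) .nil)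
def phAc82 : Cert := (.sub (.node 195 (.sub (.node 323 (.sub (.node 579 (.sub (.node 1091 (.sub (.node 141 (.sub (.node 269 (.sub (.node 525 (.sub (.node 1037 (.sub (.node 149 (.sub (.node 277 (.sub (.node 533 (.sub (.node 1045 (.sub (.node 165 (.sub (.node 293 (.sub (.node 549 (.sub (.node 1061 (.sub (.node 197 (.sub (.node 325 (.sub (.node 581 (.sub (.node 1093 phAc75) .nil)) .nil)) .nil)) .nil)) .nil)) .nil)) .nil)) .nil)) .nil)) .nil)) .nil)) .nil)) .nil)) .nil)) (.sub (.node 269 (.sub (.node 525 (.sub (.node 1037 (.sub (.node 149 (.sub (.node 277 (.sub (.node 533 (.sub (.node 1045 (.sub (.node 165 (.sub (.node 293 (.sub (.node 549 (.sub (.node 1061 (.sub (.node 197 (.sub (.node 325 (.sub (.node 581 (.sub phAc78 .nil)) .nil)) .nil)) .nil)) .nil)) .nil)) .nil)) .nil)) .nil)) .nil)) .nil)) .nil)) .nil)) .nil)) (.sub (.node 269 (.sub (.node 525 (.sub (.node 1037 (.sub (.node 149 (.sub (.node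 277 (.sub (.node 533 (.sub (.node 1045 (.sub (.node 165 (.sub (.node 293 (.sub (.node 549 (.sub (.node 1061 (.sub (.node 197 (.sub (.node 325 (.sub (.node 581 phAc81) .nil)) .nil)) .nil)) .nil)) .nil)) .nil)) .nil)) .nil)) .nil)) .nil)) .nil)) .nil)) .nil)) .nil)))) .nil)) .nil)) .nil)) .nil)) .nil)
def phAc83 : Cert := (.node 90113 (.sub (.goto [(8, 10), (9, 8), (11, 15), (12, 18), (13, 16), (14, 17), (13, 14), (13, 12), (20, 22), (21, 20)]) .nil))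
def phAc84 : Cert := (.node 131153 (.sub (.node 225 (.sub (.node 353 (.sub (.node 2145 (.sub (.node 4193 (.sub (.node 33153 (.sub (.node 65921 (.sub (.node 2689 (.sub (.node 4737 (.sub (.node 3201 (.sub (.node 5249 (.sub (.node 2817 (.sub (.node 4865 (.sub (.node 3329 (.sub (.node 5377 (.sub (.node 34305 (.sub (.node 67073 (.sub (.node 38913 (.sub (.node 71681 (.sub (.node 57345 (.sub phAc83 .nil)) .nil)) .nil)) .nil)) .nil)) .nil)) .nil)) .nil)) .nil)) .nil)) .nil)) .nil)) .nil)) .nil)) .nil)) .nil)) .nil)) .nil)) .nil)) .nil))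
def phAc85 : Cert := (.node 1093 (.sub (.node 153 (.sub (.node 281 (.sub (.node 2073 (.sub (.node 4121 (.sub (.node 169 (.sub (.node 553 (.sub (.node 32809 (.sub (.node 131113 (.sub (.node 201 (.sub (.node 329 (.sub (.node 2121 (.sub (.node 4169 (.sub (.node 177 (.sub (.node 305 (.sub (.node 2097 (.sub (.node 4145 (.sub (.node 209 (.sub (.node 593 (.sub (.node 32849 (.sub phAc84 .nil)) .nil)) .nil)) .nil)) .nil)) .nil)) .nil)) .nil)) .nil)) .nil)) .nil)) .nil)) .nil)) .nil)) .nil)) .nil)) .nil)) .nil)) .nil)) .nil))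
def phAc86 : Cert := (.sub (.node 86017 (.sub (.goto [(11, 19), (12, 20), (13, 21), (14, 22)]) .nil)) .nil)
def phAc87 : Cert := (.sub (.node 4177 (.sub (.node 225 (.sub (.node 609 (.sub (.node 2145 (.sub (.node 8289 (.sub (.node 2433 (.sub (.node 4481 (.sub (.node 33409 (.sub (.node 131713 (.sub (.node 3201 (.sub (.node 9345 (.sub (.node 2817 (.sub (.node 8961 (.sub (.node 34049 (.sub (.node 132353 (.sub (.node 3585 (.sub (.node 5633 (.sub (.node 43009 (.sub (.node 75777 (.sub (.node 53249 phAc86) .nil)) .nil)) .nil)) .nil)) .nil)) .nil)) .nil)) .nil)) .nil)) .nil)) .nil)) .nil)) .nil)) .nil)) .nil)) .nil)) .nil)) .nil)) .nil)) .nil)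
def phAc88 : Cert := (.sub (.node 1093 (.sub (.node 153 (.sub (.node 537 (.sub (.node 2073 (.sub (.node 8217 (.sub (.node 169 (.sub (.node 297 (.sub (.node 2089 (.sub (.node 4137 (.sub (.node 201 (.sub (.node 329 (.sub (.node 32841 (.sub (.node 65609 (.sub (.node 177 (.sub (.node 305 (.sub (.node 32817 (.sub (.node 65585 (.sub (.node 209 (.sub (.node 337 (.sub (.node 2129 phAc87) .nil)) .nil)) .nil)) .nil)) .nil)) .nil)) .nil)) .nil)) .nil)) .nil)) .nil)) .nil)) .nil)) .nil)) .nil)) .nil)) .nil)) .nil)) .nil)) .nil)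
def phAc89 : Cert := (.node 45057 (.sub (.node 143361 (.sub (.goto [(8, 9), (8, 10), (12, 13), (12, 14), (15, 19), (16, 21), (17, 22), (18, 20), (18, 17), (16, 18)]) .nil)) .nil))
def phAc90 : Cert := (.node 2129 (.sub (.node 4177 (.sub (.node 225 (.sub (.node 353 (.sub (.node 32865 (.sub (.node 65633 (.sub (.node 2433 (.sub (.node 4481 (.sub (.node 2689 (.sub (.node 8833 (.sub (.node 33921 (.sub (.node 66689 (.sub (.node 33537 (.sub (.node 66305 (.sub (.node 3329 (.sub (.node 9473 (.sub (.node 3585 (.sub (.node 5633 (.sub (.node 51201 (.sub (.node 149505 (.sub phAc89 .nil)) .nil)) .nil)) .nil)) .nil)) .nil)) .nil)) .nil)) .nil)) .nil)) .nil)) .nil)) .nil)) .nil)) .nil)) .nil)) .nil)) .nil)) .nil)) .nil))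
def phAc91 : Cert := (.node 581 (.sub (.node 1093 (.sub (.node 153 (.sub (.node 281 (.sub (.node 32793 (.sub (.node 65561 (.sub (.node 169 (.sub (.node 297 (.sub (.node 2089 (.sub (.node 4137 (.sub (.node 201 (.sub (.node 585 (.sub (.node 2121 (.sub (.node 8265 (.sub (.node 177 (.sub (.node 561 (.sub (.node 2097 (.sub (.node 8241 (.sub (.node 209 (.sub (.node 337 (.sub phAc90 .nil)) .nil)) .nil)) .nil)) .nil)) .nil)) .nil)) .nil)) .nil)) .nil)) .nil)) .nil)) .nil)) .nil)) .nil)) .nil)) .nil)) .nil)) .nil)) .nil))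
def phAc92 : Cert := (.node 1059 (.sub (.node 195 (.sub (.node 323 (.sub (.node 579 (.sub (.node 1091 (.sub (.node 141 (.sub (.node 269 (.sub (.node 525 (.sub (.node 1037 (.sub (.node 149 (.sub (.node 277 (.sub (.node 533 (.sub (.node 1045 (.sub (.node 165 (.sub (.node 293 (.sub (.node 549 (.sub (.node 1061 (.sub (.node 197 (.sub (.node 325 (.sub (.node 581 (.sub phAc85 .nil)) .nil)) .nil)) .nil)) .nil)) .nil)) .nil)) .nil)) .nil)) .nil)) .nil)) .nil)) .nil)) .nil)) (.sub (.node 269 (.sub (.node 525 (.sub (.node 1037 (.sub (.node 149 (.sub (.node 277 (.sub (.node 533 (.sub (.node 1045 (.sub (.node 165 (.sub (.node 293 (.sub (.node 549 (.sub (.node 1061 (.sub (.node 197 (.sub (.node 325 (.sub (.node 581 phAc88) .nil)) .nil)) .nil)) .nil)) .nil)) .nil)) .nil)) .nil)) .nil)) .nil)) .nil)) .nil)) .nil)) (.sub (.node 269 (.sub (.node 525 (.sub (.node 1037 (.sub (.node 149 (.sub (.node 277 (.sub (.node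 533 (.sub (.node 1045 (.sub (.node 165 (.sub (.node 293 (.sub (.node 549 (.sub (.node 1061 (.sub (.node 197 (.sub (.node 325 (.sub phAc91 .nil)) .nil)) .nil)) .nil)) .nil)) .nil)) .nil)) .nil)) .nil)) .nil)) .nil)) .nil)) .nil)) .nil)))) .nil)) .nil)) .nil)) .nil)) .nil))
def phAc93 : Cert := (.sub (.node 90113 (.sub (.goto [(8, 9), (11, 19), (12, 21), (13, 20), (14, 22), (15, 11), (16, 13), (17, 12), (18, 14), (16, 17)]) .nil)) .nil)
def phAc94 : Cert := (.sub (.node 4177 (.sub (.node 225 (.sub (.node 353 (.sub (.node 2145 (.sub (.node 4193 (.sub (.node 33153 (.sub (.node 65921 (.sub (.node 2689 (.sub (.node 4737 (.sub (.node 3201 (.sub (.node 5249 (.sub (.node 2817 (.sub (.node 4865 (.sub (.node 3329 (.sub (.node 5377 (.sub (.node 34305 (.sub (.node 67073 (.sub (.node 38913 (.sub (.node 71681 (.sub (.node 57345 phAc93) .nil)) .nil)) .nil)) .nil)) .nil)) .nil)) .nil)) .nil)) .nil)) .nil)) .nil))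 .nil)) .nil)) .nil)) .nil)) .nil)) .nil)) .nil)) .nil)) .nil)
def phAc95 : Cert := (.sub (.node 1093 (.sub (.node 153 (.sub (.node 281 (.sub (.node 2073 (.sub (.node 4121 (.sub (.node 169 (.sub (.node 297 (.sub (.node 2089 (.sub (.node 4137 (.sub (.node 201 (.sub (.node 585 (.sub (.node 32841 (.sub (.node 131145 (.sub (.node 177 (.sub (.node 561 (.sub (.node 32817 (.sub (.node 131121 (.sub (.node 209 (.sub (.node 337 (.sub (.node 2129 phAc94) .nil)) .nil)) .nil)) .nil)) .nil)) .nil)) .nil)) .nil)) .nil)) .nil)) .nil)) .nil)) .nil)) .nil)) .nil)) .nil)) .nil)) .nil)) .nil)) .nil)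
def phAc96 : Cert := (.node 53249 (.sub (.node 86017 (.sub (.goto [(9, 10), (11, 15), (12, 16), (13, 18), (14, 17), (11, 19), (12, 20), (14, 22), (13, 21), (13, 14)]) .nil)) .nil))
def phAc97 : Cert := (.node 32849 (.sub (.node 65617 (.sub (.node 225 (.sub (.node 609 (.sub (.node 2145 (.sub (.node 8289 (.sub (.node 2433 (.sub (.node 4481 (.sub (.node 33409 (.sub (.node 131713 (.sub (.node 3201 (.sub (.node 9345 (.sub (.node 2817 (.sub (.node 8961 (.sub (.node 34049 (.sub (.node 132353 (.sub (.node 3585 (.sub (.node 5633 (.sub (.node 43009 (.sub (.node 75777 (.sub phAc96 .nil)) .nil)) .nil)) .nil)) .nil)) .nil)) .nil)) .nil)) .nil)) .nil)) .nil)) .nil)) .nil)) .nil)) .nil)) .nil)) .nil)) .nil)) .nil)) .nil))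
def phAc98 : Cert := (.node 581 (.sub (.node 1093 (.sub (.node 153 (.sub (.node 537 (.sub (.node 2073 (.sub (.node 8217 (.sub (.node 169 (.sub (.node 297 (.sub (.node 32809 (.sub (.node 65577 (.sub (.node 201 (.sub (.node 329 (.sub (.node 2121 (.sub (.node 4169 (.sub (.node 177 (.sub (.node 305 (.sub (.node 2097 (.sub (.node 4145 (.sub (.node 209 (.sub (.node 337 (.sub phAc97 .nil)) .nil)) .nil)) .nil)) .nil)) .nil)) .nil)) .nil)) .nil)) .nil)) .nil)) .nil)) .nil)) .nil)) .nil)) .nil)) .nil)) .nil)) .nil)) .nil))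
def phAc99 : Cert := (.sub (.node 45057 (.sub (.node 143361 (.sub (.goto [(8, 10), (12, 14), (16, 18), (20, 22)]) .nil)) .nil)) .nil)
def phAc100 : Cert := (.sub (.node 2129 (.sub (.node 8273 (.sub (.node 225 (.sub (.node 353 (.sub (.node 32865 (.sub (.node 65633 (.sub (.node 2433 (.sub (.node 4481 (.sub (.node 2689 (.sub (.node 8833 (.sub (.node 33921 (.sub (.node 66689 (.sub (.node 33537 (.sub (.node 66305 (.sub (.node 3329 (.sub (.node 9473 (.sub (.node 3585 (.sub (.node 5633 (.sub (.node 51201 (.sub (.node 149505 phAc99) .nil)) .nil)) .nil)) .nil)) .nil)) .nil)) .nil)) .nil)) .nil)) .nil)) .nil)) .nil)) .nil)) .nil)) .nil)) .nil)) .nil)) .nil)) .nil)) .nil)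
def phAc101 : Cert := (.sub (.node 581 (.sub (.node 1093 (.sub (.node 153 (.sub (.node 281 (.sub (.node 32793 (.sub (.node 65561 (.sub (.node 169 (.sub (.node 553 (.sub (.node 2089 (.sub (.node 8233 (.sub (.node 201 (.sub (.node 329 (.sub (.node 2121 (.sub (.node 4169 (.sub (.node 177 (.sub (.node 305 (.sub (.node 2097 (.sub (.node 4145 (.sub (.node 209 (.sub (.node 593 phAc100) .nil)) .nil)) .nil)) .nil)) .nil)) .nil)) .nil)) .nil)) .nil)) .nil)) .nil)) .nil)) .nil)) .nil)) .nil)) .nil)) .nil)) .nil)) .nil)) .nil)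
def phAc102 : Cert := (.sub (.node 1059 (.sub (.node 195 (.sub (.node 323 (.sub (.node 579 (.sub (.node 1091 (.sub (.node 141 (.sub (.node 269 (.sub (.node 525 (.sub (.node 1037 (.sub (.node 149 (.sub (.node 277 (.sub (.node 533 (.sub (.node 1045 (.sub (.node 165 (.sub (.node 293 (.sub (.node 549 (.sub (.node 1061 (.sub (.node 197 (.sub (.node 325 (.sub (.node 581 phAc95) .nil)) .nil)) .nil)) .nil)) .nil)) .nil)) .nil)) .nil)) .nil)) .nil)) .nil)) .nil)) .nil)) (.sub (.node 269 (.sub (.node 525 (.sub (.node 1037 (.sub (.node 149 (.sub (.node 277 (.sub (.node 533 (.sub (.node 1045 (.sub (.node 165 (.sub (.node 293 (.sub (.node 549 (.sub (.node 1061 (.sub (.node 197 (.sub (.node 325 (.sub phAc98 .nil)) .nil)) .nil)) .nil)) .nil)) .nil)) .nil)) .nil)) .nil)) .nil)) .nil)) .nil)) .nil)) (.sub (.node 269 (.sub (.node 525 (.sub (.node 1037 (.sub (.node 149 (.sub (.node 277 (.sub (.node 533 (.sub (.node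 1045 (.sub (.node 165 (.sub (.node 293 (.sub (.node 549 (.sub (.node 1061 (.sub (.node 197 (.sub (.node 325 phAc101) .nil)) .nil)) .nil)) .nil)) .nil)) .nil)) .nil)) .nil)) .nil)) .nil)) .nil)) .nil)) .nil)))) .nil)) .nil)) .nil)) .nil)) .nil)) .nil)
def phAc103 : Cert := (.iso 559243 [(12, 11), (18, 15), (20, 19)] (.iso 559243 [(12, 11), (18, 15), (21, 19)] (.iso 559243 [(12, 11), (18, 15), (22, 19)] (.iso 559243 [(13, 11)] (.iso 559243 [(13, 11), (20, 19)] (.iso 559243 [(13, 11), (21, 19)] (.iso 559243 [(13, 11), (22, 19)] (.iso 559243 [(13, 11), (16, 15)] (.iso 559243 [(13, 11), (16, 15), (20, 19)] (.iso 559243 [(13, 11), (16, 15), (21, 19)] (.iso 559243 [(13, 11), (16, 15), (22, 19)] (.iso 559243 [(13, 11), (17, 15)] (.iso 559243 [(13, 11), (17, 15), (20, 19)] (.iso 559243 [(13, 11), (17, 15), (21, 19)] (.iso 559243 [(13, 11), (17, 15), (22, 19)] (.iso 559243 [(13, 11), (18, 15)] (.iso 559243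 [(13, 11), (18, 15), (20, 19)] (.iso 559243 [(13, 11), (18, 15), (21, 19)] (.iso 559243 [(13, 11), (18, 15), (22, 19)] (.iso 559243 [(14, 11)] (.iso 559243 [(14, 11), (20, 19)] (.iso 559243 [(14, 11), (21, 19)] (.iso 559243 [(14, 11), (22, 19)] (.iso 559243 [(14, 11), (16, 15)] (.iso 559243 [(14, 11), (16, 15), (20, 19)] (.iso 559243 [(14, 11), (16, 15), (21, 19)] (.iso 559243 [(14, 11), (16, 15), (22, 19)] (.iso 559243 [(14, 11), (17, 15)] (.iso 559243 [(14, 11), (17, 15), (20, 19)] (.iso 559243 [(14, 11), (17, 15), (21, 19)] (.iso 559243 [(14, 11), (17, 15), (22, 19)] (.iso 559243 [(14, 11), (18, 15)] (.iso 559243 [(14, 11), (18, 15), (20, 19)] (.iso 559243 [(14, 11), (18, 15), (21, 19)] (.iso 559243 [(14, 11), (18, 15), (22, 19)] .nil)))))))))))))))))))))))))))))))))))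
def phAc104 : Cert := (.iso 491527 [(19, 16), (21, 17), (22, 18)] (.iso 491527 [(20, 16), (21, 17), (22, 18)] .nil))
def phAc105 : Cert := (.iso 30727 [(18, 12), (19, 13), (20, 14)] (.iso 30727 [(18, 12), (19, 13), (21, 14)] (.iso 30727 [(18, 12), (19, 13), (22, 14)] (.iso 30727 [(18, 12), (20, 13), (21, 14)] (.iso 30727 [(18, 12), (20, 13), (22, 14)] (.iso 30727 [(18, 12), (21, 13), (22, 14)] (.iso 30727 [(19, 12), (20, 13), (21, 14)] (.iso 30727 [(19, 12), (20, 13), (22, 14)] (.iso 30727 [(19, 12), (21, 13), (22, 14)] (.iso 30727 [(20, 12), (21, 13), (22, 14)] .nil))))))))))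
def phAc106 : Cert := (.iso 30727 [(15, 12), (17, 13), (18, 14)] (.iso 30727 [(15, 12), (17, 13), (19, 14)] (.iso 30727 [(15, 12), (17, 13), (20, 14)] (.iso 30727 [(15, 12), (17, 13), (21, 14)] (.iso 30727 [(15, 12), (17, 13), (22, 14)] (.iso 30727 [(15, 12), (18, 13), (19, 14)] (.iso 30727 [(15, 12), (18, 13), (20, 14)] (.iso 30727 [(15, 12), (18, 13), (21, 14)] (.iso 30727 [(15, 12), (18, 13), (22, 14)] (.iso 30727 [(15, 12), (19, 13), (20, 14)] (.iso 30727 [(15, 12), (19, 13), (21, 14)] (.iso 30727 [(15, 12), (19, 13), (22, 14)] (.iso 30727 [(15, 12), (20, 13), (21, 14)] (.iso 30727 [(15, 12), (20, 13), (22, 14)] (.iso 30727 [(15, 12), (21, 13), (22, 14)] (.iso 30727 [(16, 12), (17, 13), (18, 14)] (.iso 30727 [(16, 12), (17, 13), (19, 14)] (.iso 30727 [(16, 12), (17, 13), (20, 14)] (.iso 30727 [(16, 12), (17, 13), (21, 14)] (.iso 30727 [(16, 12), (17, 13), (22, 14)] (.iso 30727 [(16, 12), (18,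 13), (19, 14)] (.iso 30727 [(16, 12), (18, 13), (20, 14)] (.iso 30727 [(16, 12), (18, 13), (21, 14)] (.iso 30727 [(16, 12), (18, 13), (22, 14)] (.iso 30727 [(16, 12), (19, 13), (20, 14)] (.iso 30727 [(16, 12), (19, 13), (21, 14)] (.iso 30727 [(16, 12), (19, 13), (22, 14)] (.iso 30727 [(16, 12), (20, 13), (21, 14)] (.iso 30727 [(16, 12), (20, 13), (22, 14)] (.iso 30727 [(16, 12), (21, 13), (22, 14)] (.iso 30727 [(17, 12), (18, 13), (19, 14)] (.iso 30727 [(17, 12), (18, 13), (20, 14)] (.iso 30727 [(17, 12), (18, 13), (21, 14)] (.iso 30727 [(17, 12), (18, 13), (22, 14)] (.iso 30727 [(17, 12), (19, 13), (20, 14)] (.iso 30727 [(17, 12), (19, 13), (21, 14)] (.iso 30727 [(17, 12), (19, 13), (22, 14)] (.iso 30727 [(17, 12), (20, 13), (21, 14)] (.iso 30727 [(17, 12), (20, 13), (22, 14)] (.iso 30727 [(17, 12), (21, 13), (22, 14)] phAc105))))))))))))))))))))))))))))))))))))))))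
def phAc107 : Cert := (.iso 30727 [(19, 12), (20, 14)] (.iso 30727 [(19, 12), (21, 14)] (.iso 30727 [(19, 12), (22, 14)] (.iso 30727 [(20, 12), (21, 14)] (.iso 30727 [(20, 12), (22, 14)] (.iso 30727 [(21, 12), (22, 14)] (.iso 30727 [(15, 12), (16, 13)] (.iso 30727 [(15, 12), (17, 13)] (.iso 30727 [(15, 12), (18, 13)] (.iso 30727 [(15, 12), (19, 13)] (.iso 30727 [(15, 12), (20, 13)] (.iso 30727 [(15, 12), (21, 13)] (.iso 30727 [(15, 12), (22, 13)] (.iso 30727 [(16, 12), (17, 13)] (.iso 30727 [(16, 12), (18, 13)] (.iso 30727 [(16, 12), (19, 13)] (.iso 30727 [(16, 12), (20, 13)] (.iso 30727 [(16, 12), (21, 13)] (.iso 30727 [(16, 12), (22, 13)] (.iso 30727 [(17, 12), (18, 13)] (.iso 30727 [(17, 12), (19, 13)] (.iso 30727 [(17, 12), (20, 13)] (.iso 30727 [(17, 12), (21, 13)] (.iso 30727 [(17, 12), (22, 13)] (.iso 30727 [(18, 12), (19, 13)] (.iso 30727 [(18, 12), (20, 13)] (.iso 30727 [(18, 12), (21,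 13)] (.iso 30727 [(18, 12), (22, 13)] (.iso 30727 [(19, 12), (20, 13)] (.iso 30727 [(19, 12), (21, 13)] (.iso 30727 [(19, 12), (22, 13)] (.iso 30727 [(20, 12), (21, 13)] (.iso 30727 [(20, 12), (22, 13)] (.iso 30727 [(21, 12), (22, 13)] (.iso 30727 [(15, 12), (16, 13), (17, 14)] (.iso 30727 [(15, 12), (16, 13), (18, 14)] (.iso 30727 [(15, 12), (16, 13), (19, 14)] (.iso 30727 [(15, 12), (16, 13), (20, 14)] (.iso 30727 [(15, 12), (16, 13), (21, 14)] (.iso 30727 [(15, 12), (16, 13), (22, 14)] phAc106))))))))))))))))))))))))))))))))))))))))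
def phAc108 : Cert := (.iso 30727 [(18, 13), (19, 14)] (.iso 30727 [(18, 13), (20, 14)] (.iso 30727 [(18, 13), (21, 14)] (.iso 30727 [(18, 13), (22, 14)] (.iso 30727 [(19, 13), (20, 14)] (.iso 30727 [(19, 13), (21, 14)] (.iso 30727 [(19, 13), (22, 14)] (.iso 30727 [(20, 13), (21, 14)] (.iso 30727 [(20, 13), (22, 14)] (.iso 30727 [(21, 13), (22, 14)] (.iso 30727 [(15, 12)] (.iso 30727 [(16, 12)] (.iso 30727 [(17, 12)] (.iso 30727 [(18, 12)] (.iso 30727 [(19, 12)] (.iso 30727 [(20, 12)] (.iso 30727 [(21, 12)] (.iso 30727 [(22, 12)] (.iso 30727 [(15, 12), (16, 14)] (.iso 30727 [(15, 12), (17, 14)] (.iso 30727 [(15, 12), (18, 14)] (.iso 30727 [(15, 12), (19, 14)] (.iso 30727 [(15, 12), (20, 14)] (.iso 30727 [(15, 12), (21, 14)] (.iso 30727 [(15, 12), (22, 14)] (.iso 30727 [(16, 12), (17, 14)] (.iso 30727 [(16, 12), (18, 14)] (.iso 30727 [(16, 12), (19, 14)] (.iso 30727 [(16, 12), (20, 14)] (.iso 30727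 [(16, 12), (21, 14)] (.iso 30727 [(16, 12), (22, 14)] (.iso 30727 [(17, 12), (18, 14)] (.iso 30727 [(17, 12), (19, 14)] (.iso 30727 [(17, 12), (20, 14)] (.iso 30727 [(17, 12), (21, 14)] (.iso 30727 [(17, 12), (22, 14)] (.iso 30727 [(18, 12), (19, 14)] (.iso 30727 [(18, 12), (20, 14)] (.iso 30727 [(18, 12), (21, 14)] (.iso 30727 [(18, 12), (22, 14)] phAc107))))))))))))))))))))))))))))))))))))))))
def phAc109 : Cert := (.iso 1927 [(17, 8), (18, 9), (21, 10)] (.iso 1927 [(17, 8), (18, 9), (22, 10)] (.iso 1927 [(17, 8), (19, 9), (20, 10)] (.iso 1927 [(17, 8), (19, 9), (21, 10)] (.iso 1927 [(17, 8), (19, 9), (22, 10)] (.iso 1927 [(17, 8), (20, 9), (21, 10)] (.iso 1927 [(17, 8), (20, 9), (22, 10)] (.iso 1927 [(17, 8), (21, 9), (22, 10)] (.iso 1927 [(18, 8), (19, 9), (20, 10)] (.iso 1927 [(18, 8), (19, 9), (21, 10)] (.iso 1927 [(18, 8), (19, 9), (22, 10)] (.iso 1927 [(18, 8), (20, 9), (21, 10)] (.iso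 1927 [(18, 8), (20, 9), (22, 10)] (.iso 1927 [(18, 8), (21, 9), (22, 10)] (.iso 1927 [(19, 8), (20, 9), (21, 10)] (.iso 1927 [(19, 8), (20, 9), (22, 10)] (.iso 1927 [(19, 8), (21, 9), (22, 10)] (.iso 1927 [(20, 8), (21, 9), (22, 10)] .nil))))))))))))))))))
def phAc110 : Cert := (.iso 1927 [(14, 8), (20, 9), (22, 10)] (.iso 1927 [(14, 8), (21, 9), (22, 10)] (.iso 1927 [(15, 8), (16, 9), (17, 10)] (.iso 1927 [(15, 8), (16, 9), (18, 10)] (.iso 1927 [(15, 8), (16, 9), (19, 10)] (.iso 1927 [(15, 8), (16, 9), (20, 10)] (.iso 1927 [(15, 8), (16, 9), (21, 10)] (.iso 1927 [(15, 8), (16, 9), (22, 10)] (.iso 1927 [(15, 8), (17, 9), (18, 10)] (.iso 1927 [(15, 8), (17, 9), (19, 10)] (.iso 1927 [(15, 8), (17, 9), (20, 10)] (.iso 1927 [(15, 8), (17, 9), (21, 10)] (.iso 1927 [(15, 8), (17, 9), (22, 10)] (.iso 1927 [(15, 8), (18, 9), (19, 10)] (.iso 1927 [(15, 8), (18, 9), (20, 10)] (.iso 1927 [(15, 8), (18, 9),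 (21, 10)] (.iso 1927 [(15, 8), (18, 9), (22, 10)] (.iso 1927 [(15, 8), (19, 9), (20, 10)] (.iso 1927 [(15, 8), (19, 9), (21, 10)] (.iso 1927 [(15, 8), (19, 9), (22, 10)] (.iso 1927 [(15, 8), (20, 9), (21, 10)] (.iso 1927 [(15, 8), (20, 9), (22, 10)] (.iso 1927 [(15, 8), (21, 9), (22, 10)] (.iso 1927 [(16, 8), (17, 9), (18, 10)] (.iso 1927 [(16, 8), (17, 9), (19, 10)] (.iso 1927 [(16, 8), (17, 9), (20, 10)] (.iso 1927 [(16, 8), (17, 9), (21, 10)] (.iso 1927 [(16, 8), (17, 9), (22, 10)] (.iso 1927 [(16, 8), (18, 9), (19, 10)] (.iso 1927 [(16, 8), (18, 9), (20, 10)] (.iso 1927 [(16, 8), (18, 9), (21, 10)] (.iso 1927 [(16, 8), (18, 9), (22, 10)] (.iso 1927 [(16, 8), (19, 9), (20, 10)] (.iso 1927 [(16, 8), (19, 9), (21, 10)] (.iso 1927 [(16, 8), (19, 9), (22, 10)] (.iso 1927 [(16, 8), (20, 9), (21, 10)] (.iso 1927 [(16, 8), (20, 9), (22, 10)] (.iso 1927 [(16, 8), (21, 9), (22, 10)] (.iso 1927 [(17,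 8), (18, 9), (19, 10)] (.iso 1927 [(17, 8), (18, 9), (20, 10)] phAc109))))))))))))))))))))))))))))))))))))))))
def phAc111 : Cert := (.iso 1927 [(13, 8), (17, 9), (19, 10)] (.iso 1927 [(13, 8), (17, 9), (20, 10)] (.iso 1927 [(13, 8), (17, 9), (21, 10)] (.iso 1927 [(13, 8), (17, 9), (22, 10)] (.iso 1927 [(13, 8), (18, 9), (19, 10)] (.iso 1927 [(13, 8), (18, 9), (20, 10)] (.iso 1927 [(13, 8), (18, 9), (21, 10)] (.iso 1927 [(13, 8), (18, 9), (22, 10)] (.iso 1927 [(13, 8), (19, 9), (20, 10)] (.iso 1927 [(13, 8), (19, 9), (21, 10)] (.iso 1927 [(13, 8), (19, 9), (22, 10)] (.iso 1927 [(13, 8), (20, 9), (21, 10)] (.iso 1927 [(13, 8), (20, 9), (22, 10)] (.iso 1927 [(13, 8), (21, 9), (22, 10)] (.iso 1927 [(14, 8), (15, 9), (16, 10)] (.iso 1927 [(14, 8), (15, 9), (17, 10)] (.iso 1927 [(14, 8), (15, 9), (18, 10)] (.iso 1927 [(14, 8), (15, 9), (19, 10)] (.iso 1927 [(14, 8), (15, 9), (20, 10)] (.iso 1927 [(14,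 8), (15, 9), (21, 10)] (.iso 1927 [(14, 8), (15, 9), (22, 10)] (.iso 1927 [(14, 8), (16, 9), (17, 10)] (.iso 1927 [(14, 8), (16, 9), (18, 10)] (.iso 1927 [(14, 8), (16, 9), (19, 10)] (.iso 1927 [(14, 8), (16, 9), (20, 10)] (.iso 1927 [(14, 8), (16, 9), (21, 10)] (.iso 1927 [(14, 8), (16, 9), (22, 10)] (.iso 1927 [(14, 8), (17, 9), (18, 10)] (.iso 1927 [(14, 8), (17, 9), (19, 10)] (.iso 1927 [(14, 8), (17, 9), (20, 10)] (.iso 1927 [(14, 8), (17, 9), (21, 10)] (.iso 1927 [(14, 8), (17, 9), (22, 10)] (.iso 1927 [(14, 8), (18, 9), (19, 10)] (.iso 1927 [(14, 8), (18, 9), (20, 10)] (.iso 1927 [(14, 8), (18, 9), (21, 10)] (.iso 1927 [(14, 8), (18, 9), (22, 10)] (.iso 1927 [(14, 8), (19, 9), (20, 10)] (.iso 1927 [(14, 8), (19, 9), (21, 10)] (.iso 1927 [(14, 8), (19, 9), (22, 10)] (.iso 1927 [(14, 8), (20, 9), (21, 10)] phAc110))))))))))))))))))))))))))))))))))))))))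
def phAc112 : Cert := (.iso 1927 [(12, 8), (16, 9), (20, 10)] (.iso 1927 [(12, 8), (16, 9), (21, 10)] (.iso 1927 [(12, 8), (16, 9), (22, 10)] (.iso 1927 [(12, 8), (17, 9), (18, 10)] (.iso 1927 [(12, 8), (17, 9), (19, 10)] (.iso 1927 [(12, 8), (17, 9), (20, 10)] (.iso 1927 [(12, 8), (17, 9), (21, 10)] (.iso 1927 [(12, 8), (17, 9), (22, 10)] (.iso 1927 [(12, 8), (18, 9), (19, 10)] (.iso 1927 [(12, 8), (18, 9), (20, 10)] (.iso 1927 [(12, 8), (18, 9), (21, 10)] (.iso 1927 [(12, 8), (18, 9), (22, 10)] (.iso 1927 [(12, 8), (19, 9), (20, 10)] (.iso 1927 [(12, 8), (19, 9), (21, 10)] (.iso 1927 [(12, 8), (19, 9), (22, 10)] (.iso 1927 [(12, 8), (20, 9), (21, 10)] (.iso 1927 [(12, 8), (20, 9), (22, 10)] (.iso 1927 [(12, 8), (21, 9), (22, 10)] (.iso 1927 [(13, 8), (14, 9), (15, 10)] (.iso 1927 [(13, 8), (14, 9), (16, 10)] (.iso 1927 [(13, 8), (14, 9), (17, 10)] (.iso 1927 [(13, 8), (14, 9), (18, 10)] (.iso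 1927 [(13, 8), (14, 9), (19, 10)] (.iso 1927 [(13, 8), (14, 9), (20, 10)] (.iso 1927 [(13, 8), (14, 9), (21, 10)] (.iso 1927 [(13, 8), (14, 9), (22, 10)] (.iso 1927 [(13, 8), (15, 9), (16, 10)] (.iso 1927 [(13, 8), (15, 9), (17, 10)] (.iso 1927 [(13, 8), (15, 9), (18, 10)] (.iso 1927 [(13, 8), (15, 9), (19, 10)] (.iso 1927 [(13, 8), (15, 9), (20, 10)] (.iso 1927 [(13, 8), (15, 9), (21, 10)] (.iso 1927 [(13, 8), (15, 9), (22, 10)] (.iso 1927 [(13, 8), (16, 9), (17, 10)] (.iso 1927 [(13, 8), (16, 9), (18, 10)] (.iso 1927 [(13, 8), (16, 9), (19, 10)] (.iso 1927 [(13, 8), (16, 9), (20, 10)] (.iso 1927 [(13, 8), (16, 9), (21, 10)] (.iso 1927 [(13, 8), (16, 9), (22, 10)] (.iso 1927 [(13, 8), (17, 9), (18, 10)] phAc111))))))))))))))))))))))))))))))))))))))))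
def phAc113 : Cert := (.iso 1927 [(11, 8), (17, 9), (20, 10)] (.iso 1927 [(11, 8), (17, 9), (21, 10)] (.iso 1927 [(11, 8), (17, 9), (22, 10)] (.iso 1927 [(11, 8), (18, 9), (19, 10)] (.iso 1927 [(11, 8), (18, 9), (20, 10)] (.iso 1927 [(11, 8), (18, 9), (21, 10)] (.iso 1927 [(11, 8), (18, 9), (22, 10)] (.iso 1927 [(11, 8), (19, 9), (20, 10)] (.iso 1927 [(11, 8), (19, 9), (21, 10)] (.iso 1927 [(11, 8), (19, 9), (22, 10)] (.iso 1927 [(11, 8), (20, 9), (21, 10)] (.iso 1927 [(11, 8), (20, 9), (22, 10)] (.iso 1927 [(11, 8), (21, 9), (22, 10)] (.iso 1927 [(12, 8), (13, 9), (14, 10)] (.iso 1927 [(12, 8), (13, 9), (15, 10)] (.iso 1927 [(12, 8), (13, 9), (16, 10)] (.iso 1927 [(12, 8), (13, 9), (17, 10)] (.iso 1927 [(12, 8), (13, 9), (18, 10)] (.iso 1927 [(12, 8), (13, 9), (19, 10)] (.iso 1927 [(12, 8), (13, 9), (20, 10)] (.iso 1927 [(12, 8), (13, 9), (21, 10)] (.iso 1927 [(12, 8), (13, 9), (22, 10)] (.iso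 1927 [(12, 8), (14, 9), (15, 10)] (.iso 1927 [(12, 8), (14, 9), (16, 10)] (.iso 1927 [(12, 8), (14, 9), (17, 10)] (.iso 1927 [(12, 8), (14, 9), (18, 10)] (.iso 1927 [(12, 8), (14, 9), (19, 10)] (.iso 1927 [(12, 8), (14, 9), (20, 10)] (.iso 1927 [(12, 8), (14, 9), (21, 10)] (.iso 1927 [(12, 8), (14, 9), (22, 10)] (.iso 1927 [(12, 8), (15, 9), (16, 10)] (.iso 1927 [(12, 8), (15, 9), (17, 10)] (.iso 1927 [(12, 8), (15, 9), (18, 10)] (.iso 1927 [(12, 8), (15, 9), (19, 10)] (.iso 1927 [(12, 8), (15, 9), (20, 10)] (.iso 1927 [(12, 8), (15, 9), (21, 10)] (.iso 1927 [(12, 8), (15, 9), (22, 10)] (.iso 1927 [(12, 8), (16, 9), (17, 10)] (.iso 1927 [(12, 8), (16, 9), (18, 10)] (.iso 1927 [(12, 8), (16, 9), (19, 10)] phAc112))))))))))))))))))))))))))))))))))))))))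
def phAc114 : Cert := (.iso 1927 [(11, 8), (12, 9), (15, 10)] (.iso 1927 [(11, 8), (12, 9), (16, 10)] (.iso 1927 [(11, 8), (12, 9), (17, 10)] (.iso 1927 [(11, 8), (12, 9), (18, 10)] (.iso 1927 [(11, 8), (12, 9), (19, 10)] (.iso 1927 [(11, 8), (12, 9), (20, 10)] (.iso 1927 [(11, 8), (12, 9), (21, 10)] (.iso 1927 [(11, 8), (12, 9), (22, 10)] (.iso 1927 [(11, 8), (13, 9), (14, 10)] (.iso 1927 [(11, 8), (13, 9), (15, 10)] (.iso 1927 [(11, 8), (13, 9), (16, 10)] (.iso 1927 [(11, 8), (13, 9), (17, 10)] (.iso 1927 [(11, 8), (13, 9), (18, 10)] (.iso 1927 [(11, 8), (13, 9), (19, 10)] (.iso 1927 [(11, 8), (13, 9), (20, 10)] (.iso 1927 [(11, 8), (13, 9), (21, 10)] (.iso 1927 [(11, 8), (13, 9), (22, 10)] (.iso 1927 [(11, 8), (14, 9), (15, 10)] (.iso 1927 [(11, 8), (14, 9), (16, 10)] (.iso 1927 [(11, 8), (14, 9), (17, 10)] (.iso 1927 [(11, 8), (14, 9), (18, 10)] (.iso 1927 [(11, 8), (14, 9), (19, 10)] (.iso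 1927 [(11, 8), (14, 9), (20, 10)] (.iso 1927 [(11, 8), (14, 9), (21, 10)] (.iso 1927 [(11, 8), (14, 9), (22, 10)] (.iso 1927 [(11, 8), (15, 9), (16, 10)] (.iso 1927 [(11, 8), (15, 9), (17, 10)] (.iso 1927 [(11, 8), (15, 9), (18, 10)] (.iso 1927 [(11, 8), (15, 9), (19, 10)] (.iso 1927 [(11, 8), (15, 9), (20, 10)] (.iso 1927 [(11, 8), (15, 9), (21, 10)] (.iso 1927 [(11, 8), (15, 9), (22, 10)] (.iso 1927 [(11, 8), (16, 9), (17, 10)] (.iso 1927 [(11, 8), (16, 9), (18, 10)] (.iso 1927 [(11, 8), (16, 9), (19, 10)] (.iso 1927 [(11, 8), (16, 9), (20, 10)] (.iso 1927 [(11, 8), (16, 9), (21, 10)] (.iso 1927 [(11, 8), (16, 9), (22, 10)] (.iso 1927 [(11, 8), (17, 9), (18, 10)] (.iso 1927 [(11, 8), (17, 9), (19, 10)] phAc113))))))))))))))))))))))))))))))))))))))))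
def phAc115 : Cert := (.iso 1927 [(13, 8), (21, 9)] (.iso 1927 [(13, 8), (22, 9)] (.iso 1927 [(14, 8), (15, 9)] (.iso 1927 [(14, 8), (16, 9)] (.iso 1927 [(14, 8), (17, 9)] (.iso 1927 [(14, 8), (18, 9)] (.iso 1927 [(14, 8), (19, 9)] (.iso 1927 [(14, 8), (20, 9)] (.iso 1927 [(14, 8), (21, 9)] (.iso 1927 [(14, 8), (22, 9)] (.iso 1927 [(15, 8), (16, 9)] (.iso 1927 [(15, 8), (17, 9)] (.iso 1927 [(15, 8), (18, 9)] (.iso 1927 [(15, 8), (19, 9)] (.iso 1927 [(15, 8), (20, 9)] (.iso 1927 [(15, 8), (21, 9)] (.iso 1927 [(15, 8), (22, 9)] (.iso 1927 [(16, 8), (17, 9)] (.iso 1927 [(16, 8), (18, 9)] (.iso 1927 [(16, 8), (19, 9)] (.iso 1927 [(16, 8), (20, 9)] (.iso 1927 [(16, 8), (21, 9)] (.iso 1927 [(16, 8), (22, 9)] (.iso 1927 [(17, 8), (18, 9)] (.iso 1927 [(17, 8), (19, 9)] (.iso 1927 [(17, 8), (20, 9)] (.iso 1927 [(17, 8), (21, 9)] (.iso 1927 [(17, 8), (22, 9)] (.iso 1927 [(18, 8), (19, 9)] (.iso 1927 [(18,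 8), (20, 9)] (.iso 1927 [(18, 8), (21, 9)] (.iso 1927 [(18, 8), (22, 9)] (.iso 1927 [(19, 8), (20, 9)] (.iso 1927 [(19, 8), (21, 9)] (.iso 1927 [(19, 8), (22, 9)] (.iso 1927 [(20, 8), (21, 9)] (.iso 1927 [(20, 8), (22, 9)] (.iso 1927 [(21, 8), (22, 9)] (.iso 1927 [(11, 8), (12, 9), (13, 10)] (.iso 1927 [(11, 8), (12, 9), (14, 10)] phAc114))))))))))))))))))))))))))))))))))))))))
def phAc116 : Cert := (.iso 1927 [(17, 8), (21, 10)] (.iso 1927 [(17, 8), (22, 10)] (.iso 1927 [(18, 8), (19, 10)] (.iso 1927 [(18, 8), (20, 10)] (.iso 1927 [(18, 8), (21, 10)] (.iso 1927 [(18, 8), (22, 10)] (.iso 1927 [(19, 8), (20, 10)] (.iso 1927 [(19, 8), (21, 10)] (.iso 1927 [(19, 8), (22, 10)] (.iso 1927 [(20, 8), (21, 10)] (.iso 1927 [(20, 8), (22, 10)] (.iso 1927 [(21, 8), (22, 10)] (.iso 1927 [(11, 8), (12, 9)] (.iso 1927 [(11, 8), (13, 9)] (.iso 1927 [(11, 8), (14, 9)] (.iso 1927 [(11, 8), (15, 9)] (.iso 1927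 [(11, 8), (16, 9)] (.iso 1927 [(11, 8), (17, 9)] (.iso 1927 [(11, 8), (18, 9)] (.iso 1927 [(11, 8), (19, 9)] (.iso 1927 [(11, 8), (20, 9)] (.iso 1927 [(11, 8), (21, 9)] (.iso 1927 [(11, 8), (22, 9)] (.iso 1927 [(12, 8), (13, 9)] (.iso 1927 [(12, 8), (14, 9)] (.iso 1927 [(12, 8), (15, 9)] (.iso 1927 [(12, 8), (16, 9)] (.iso 1927 [(12, 8), (17, 9)] (.iso 1927 [(12, 8), (18, 9)] (.iso 1927 [(12, 8), (19, 9)] (.iso 1927 [(12, 8), (20, 9)] (.iso 1927 [(12, 8), (21, 9)] (.iso 1927 [(12, 8), (22, 9)] (.iso 1927 [(13, 8), (14, 9)] (.iso 1927 [(13, 8), (15, 9)] (.iso 1927 [(13, 8), (16, 9)] (.iso 1927 [(13, 8), (17, 9)] (.iso 1927 [(13, 8), (18, 9)] (.iso 1927 [(13, 8), (19, 9)] (.iso 1927 [(13, 8), (20, 9)] phAc115))))))))))))))))))))))))))))))))))))))))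
def phAc117 : Cert := (.iso 1927 [(12, 8), (16, 10)] (.iso 1927 [(12, 8), (17, 10)] (.iso 1927 [(12, 8), (18, 10)] (.iso 1927 [(12, 8), (19, 10)] (.iso 1927 [(12, 8), (20, 10)] (.iso 1927 [(12, 8), (21, 10)] (.iso 1927 [(12, 8), (22, 10)] (.iso 1927 [(13, 8), (14, 10)] (.iso 1927 [(13, 8), (15, 10)] (.iso 1927 [(13, 8), (16, 10)] (.iso 1927 [(13, 8), (17, 10)] (.iso 1927 [(13, 8), (18, 10)] (.iso 1927 [(13, 8), (19, 10)] (.iso 1927 [(13, 8), (20, 10)] (.iso 1927 [(13, 8), (21, 10)] (.iso 1927 [(13, 8), (22, 10)] (.iso 1927 [(14, 8), (15, 10)] (.iso 1927 [(14, 8), (16, 10)] (.iso 1927 [(14, 8), (17, 10)] (.iso 1927 [(14, 8), (18, 10)] (.iso 1927 [(14, 8), (19, 10)] (.iso 1927 [(14, 8), (20, 10)] (.iso 1927 [(14, 8), (21, 10)] (.iso 1927 [(14, 8), (22, 10)] (.iso 1927 [(15, 8), (16, 10)] (.iso 1927 [(15, 8), (17, 10)] (.iso 1927 [(15, 8), (18, 10)] (.iso 1927 [(15, 8), (19, 10)] (.iso 1927 [(15,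 8), (20, 10)] (.iso 1927 [(15, 8), (21, 10)] (.iso 1927 [(15, 8), (22, 10)] (.iso 1927 [(16, 8), (17, 10)] (.iso 1927 [(16, 8), (18, 10)] (.iso 1927 [(16, 8), (19, 10)] (.iso 1927 [(16, 8), (20, 10)] (.iso 1927 [(16, 8), (21, 10)] (.iso 1927 [(16, 8), (22, 10)] (.iso 1927 [(17, 8), (18, 10)] (.iso 1927 [(17, 8), (19, 10)] (.iso 1927 [(17, 8), (20, 10)] phAc116))))))))))))))))))))))))))))))))))))))))
def phAc118 : Cert := (.iso 1927 [(17, 9), (19, 10)] (.iso 1927 [(17, 9), (20, 10)] (.iso 1927 [(17, 9), (21, 10)] (.iso 1927 [(17, 9), (22, 10)] (.iso 1927 [(18, 9), (19, 10)] (.iso 1927 [(18, 9), (20, 10)] (.iso 1927 [(18, 9), (21, 10)] (.iso 1927 [(18, 9), (22, 10)] (.iso 1927 [(19, 9), (20, 10)] (.iso 1927 [(19, 9), (21, 10)] (.iso 1927 [(19, 9), (22, 10)] (.iso 1927 [(20, 9), (21, 10)] (.iso 1927 [(20, 9), (22, 10)] (.iso 1927 [(21, 9), (22, 10)] (.iso 1927 [(11, 8)] (.iso 1927 [(12, 8)] (.iso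 1927 [(13, 8)] (.iso 1927 [(14, 8)] (.iso 1927 [(15, 8)] (.iso 1927 [(16, 8)] (.iso 1927 [(17, 8)] (.iso 1927 [(18, 8)] (.iso 1927 [(19, 8)] (.iso 1927 [(20, 8)] (.iso 1927 [(21, 8)] (.iso 1927 [(22, 8)] (.iso 1927 [(11, 8), (12, 10)] (.iso 1927 [(11, 8), (13, 10)] (.iso 1927 [(11, 8), (14, 10)] (.iso 1927 [(11, 8), (15, 10)] (.iso 1927 [(11, 8), (16, 10)] (.iso 1927 [(11, 8), (17, 10)] (.iso 1927 [(11, 8), (18, 10)] (.iso 1927 [(11, 8), (19, 10)] (.iso 1927 [(11, 8), (20, 10)] (.iso 1927 [(11, 8), (21, 10)] (.iso 1927 [(11, 8), (22, 10)] (.iso 1927 [(12, 8), (13, 10)] (.iso 1927 [(12, 8), (14, 10)] (.iso 1927 [(12, 8), (15, 10)] phAc117))))))))))))))))))))))))))))))))))))))))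
def phAc119 : Cert := (.iso 1927 [(12, 9), (14, 10)] (.iso 1927 [(12, 9), (15, 10)] (.iso 1927 [(12, 9), (16, 10)] (.iso 1927 [(12, 9), (17, 10)] (.iso 1927 [(12, 9), (18, 10)] (.iso 1927 [(12, 9), (19, 10)] (.iso 1927 [(12, 9), (20, 10)] (.iso 1927 [(12, 9), (21, 10)] (.iso 1927 [(12, 9), (22, 10)] (.iso 1927 [(13, 9), (14, 10)] (.iso 1927 [(13, 9), (15, 10)] (.iso 1927 [(13, 9), (16, 10)] (.iso 1927 [(13, 9), (17, 10)] (.iso 1927 [(13, 9), (18, 10)] (.iso 1927 [(13, 9), (19, 10)] (.iso 1927 [(13, 9), (20, 10)] (.iso 1927 [(13, 9), (21, 10)] (.iso 1927 [(13, 9), (22, 10)] (.iso 1927 [(14, 9), (15, 10)] (.iso 1927 [(14, 9), (16, 10)] (.iso 1927 [(14, 9), (17, 10)] (.iso 1927 [(14, 9), (18, 10)] (.iso 1927 [(14, 9), (19, 10)] (.iso 1927 [(14, 9), (20, 10)] (.iso 1927 [(14, 9), (21, 10)] (.iso 1927 [(14, 9), (22, 10)] (.iso 1927 [(15, 9), (16, 10)] (.iso 1927 [(15, 9), (17, 10)] (.iso 1927 [(15,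 9), (18, 10)] (.iso 1927 [(15, 9), (19, 10)] (.iso 1927 [(15, 9), (20, 10)] (.iso 1927 [(15, 9), (21, 10)] (.iso 1927 [(15, 9), (22, 10)] (.iso 1927 [(16, 9), (17, 10)] (.iso 1927 [(16, 9), (18, 10)] (.iso 1927 [(16, 9), (19, 10)] (.iso 1927 [(16, 9), (20, 10)] (.iso 1927 [(16, 9), (21, 10)] (.iso 1927 [(16, 9), (22, 10)] (.iso 1927 [(17, 9), (18, 10)] phAc118))))))))))))))))))))))))))))))))))))))))
def phAc120 : Cert := (.iso 127 [(18, 4), (19, 5), (20, 6)] (.iso 127 [(18, 4), (19, 5), (21, 6)] (.iso 127 [(18, 4), (19, 5), (22, 6)] (.iso 127 [(18, 4), (20, 5), (21, 6)] (.iso 127 [(18, 4), (20, 5), (22, 6)] (.iso 127 [(18, 4), (21, 5), (22, 6)] (.iso 127 [(19, 4), (20, 5), (21, 6)] (.iso 127 [(19, 4), (20, 5), (22, 6)] (.iso 127 [(19, 4), (21, 5), (22, 6)] (.iso 127 [(20, 4), (21, 5), (22, 6)] .nil))))))))))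
def phAc121 : Cert := (.iso 127 [(15, 4), (17, 5), (18, 6)] (.iso 127 [(15, 4), (17, 5), (19, 6)] (.iso 127 [(15, 4), (17, 5), (20, 6)] (.iso 127 [(15, 4), (17, 5), (21, 6)] (.iso 127 [(15, 4), (17, 5), (22, 6)] (.iso 127 [(15, 4), (18, 5), (19, 6)] (.iso 127 [(15, 4), (18, 5), (20, 6)] (.iso 127 [(15, 4), (18, 5), (21, 6)] (.iso 127 [(15, 4), (18, 5), (22, 6)] (.iso 127 [(15, 4), (19, 5), (20, 6)] (.iso 127 [(15, 4), (19, 5), (21, 6)] (.iso 127 [(15, 4), (19, 5), (22, 6)] (.iso 127 [(15, 4), (20, 5), (21, 6)] (.iso 127 [(15, 4), (20, 5), (22, 6)] (.iso 127 [(15, 4), (21, 5), (22, 6)] (.iso 127 [(16, 4), (17, 5), (18, 6)] (.iso 127 [(16, 4), (17, 5), (19, 6)] (.iso 127 [(16, 4), (17, 5), (20, 6)] (.iso 127 [(16, 4), (17, 5), (21, 6)] (.iso 127 [(16, 4), (17, 5), (22, 6)] (.iso 127 [(16, 4), (18, 5), (19, 6)] (.iso 127 [(16, 4), (18, 5), (20, 6)] (.iso 127 [(16, 4), (18, 5), (21, 6)] (.iso 127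 [(16, 4), (18, 5), (22, 6)] (.iso 127 [(16, 4), (19, 5), (20, 6)] (.iso 127 [(16, 4), (19, 5), (21, 6)] (.iso 127 [(16, 4), (19, 5), (22, 6)] (.iso 127 [(16, 4), (20, 5), (21, 6)] (.iso 127 [(16, 4), (20, 5), (22, 6)] (.iso 127 [(16, 4), (21, 5), (22, 6)] (.iso 127 [(17, 4), (18, 5), (19, 6)] (.iso 127 [(17, 4), (18, 5), (20, 6)] (.iso 127 [(17, 4), (18, 5), (21, 6)] (.iso 127 [(17, 4), (18, 5), (22, 6)] (.iso 127 [(17, 4), (19, 5), (20, 6)] (.iso 127 [(17, 4), (19, 5), (21, 6)] (.iso 127 [(17, 4), (19, 5), (22, 6)] (.iso 127 [(17, 4), (20, 5), (21, 6)] (.iso 127 [(17, 4), (20, 5), (22, 6)] (.iso 127 [(17, 4), (21, 5), (22, 6)] phAc120))))))))))))))))))))))))))))))))))))))))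
def phAc122 : Cert := (.iso 127 [(13, 4), (19, 5), (20, 6)] (.iso 127 [(13, 4), (19, 5), (21, 6)] (.iso 127 [(13, 4), (19, 5), (22, 6)] (.iso 127 [(13, 4), (20, 5), (21, 6)] (.iso 127 [(13, 4), (20, 5), (22, 6)] (.iso 127 [(13, 4), (21, 5), (22, 6)] (.iso 127 [(14, 4), (15, 5), (16, 6)] (.iso 127 [(14, 4), (15, 5), (17, 6)] (.iso 127 [(14, 4), (15, 5), (18, 6)] (.iso 127 [(14, 4), (15, 5), (19, 6)] (.iso 127 [(14, 4), (15, 5), (20, 6)] (.iso 127 [(14, 4), (15, 5), (21, 6)] (.iso 127 [(14, 4), (15, 5), (22, 6)] (.iso 127 [(14, 4), (16, 5), (17, 6)] (.iso 127 [(14, 4), (16, 5), (18, 6)] (.iso 127 [(14, 4), (16, 5), (19, 6)] (.iso 127 [(14, 4), (16, 5), (20, 6)] (.iso 127 [(14, 4), (16, 5), (21, 6)] (.iso 127 [(14, 4), (16, 5), (22, 6)] (.iso 127 [(14, 4), (17, 5), (18, 6)] (.iso 127 [(14, 4), (17, 5), (19, 6)] (.iso 127 [(14, 4), (17, 5), (20, 6)] (.iso 127 [(14, 4), (17, 5), (21, 6)] (.iso 127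 [(14, 4), (17, 5), (22, 6)] (.iso 127 [(14, 4), (18, 5), (19, 6)] (.iso 127 [(14, 4), (18, 5), (20, 6)] (.iso 127 [(14, 4), (18, 5), (21, 6)] (.iso 127 [(14, 4), (18, 5), (22, 6)] (.iso 127 [(14, 4), (19, 5), (20, 6)] (.iso 127 [(14, 4), (19, 5), (21, 6)] (.iso 127 [(14, 4), (19, 5), (22, 6)] (.iso 127 [(14, 4), (20, 5), (21, 6)] (.iso 127 [(14, 4), (20, 5), (22, 6)] (.iso 127 [(14, 4), (21, 5), (22, 6)] (.iso 127 [(15, 4), (16, 5), (17, 6)] (.iso 127 [(15, 4), (16, 5), (18, 6)] (.iso 127 [(15, 4), (16, 5), (19, 6)] (.iso 127 [(15, 4), (16, 5), (20, 6)] (.iso 127 [(15, 4), (16, 5), (21, 6)] (.iso 127 [(15, 4), (16, 5), (22, 6)] phAc121))))))))))))))))))))))))))))))))))))))))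
def phAc123 : Cert := (.iso 127 [(12, 4), (18, 5), (19, 6)] (.iso 127 [(12, 4), (18, 5), (20, 6)] (.iso 127 [(12, 4), (18, 5), (21, 6)] (.iso 127 [(12, 4), (18, 5), (22, 6)] (.iso 127 [(12, 4), (19, 5), (20, 6)] (.iso 127 [(12, 4), (19, 5), (21, 6)] (.iso 127 [(12, 4), (19, 5), (22, 6)] (.iso 127 [(12, 4), (20, 5), (21, 6)] (.iso 127 [(12, 4), (20, 5), (22, 6)] (.iso 127 [(12, 4), (21, 5), (22, 6)] (.iso 127 [(13, 4), (14, 5), (15, 6)] (.iso 127 [(13, 4), (14, 5), (16, 6)] (.iso 127 [(13, 4), (14, 5), (17, 6)] (.iso 127 [(13, 4), (14, 5), (18, 6)] (.iso 127 [(13, 4), (14, 5), (19, 6)] (.iso 127 [(13, 4), (14, 5), (20, 6)] (.iso 127 [(13, 4), (14, 5), (21, 6)] (.iso 127 [(13, 4), (14, 5), (22, 6)] (.iso 127 [(13, 4), (15, 5), (16, 6)] (.iso 127 [(13, 4), (15, 5), (17, 6)] (.iso 127 [(13, 4), (15, 5), (18, 6)] (.iso 127 [(13, 4), (15, 5), (19, 6)] (.iso 127 [(13, 4), (15, 5), (20, 6)] (.iso 127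 [(13, 4), (15, 5), (21, 6)] (.iso 127 [(13, 4), (15, 5), (22, 6)] (.iso 127 [(13, 4), (16, 5), (17, 6)] (.iso 127 [(13, 4), (16, 5), (18, 6)] (.iso 127 [(13, 4), (16, 5), (19, 6)] (.iso 127 [(13, 4), (16, 5), (20, 6)] (.iso 127 [(13, 4), (16, 5), (21, 6)] (.iso 127 [(13, 4), (16, 5), (22, 6)] (.iso 127 [(13, 4), (17, 5), (18, 6)] (.iso 127 [(13, 4), (17, 5), (19, 6)] (.iso 127 [(13, 4), (17, 5), (20, 6)] (.iso 127 [(13, 4), (17, 5), (21, 6)] (.iso 127 [(13, 4), (17, 5), (22, 6)] (.iso 127 [(13, 4), (18, 5), (19, 6)] (.iso 127 [(13, 4), (18, 5), (20, 6)] (.iso 127 [(13, 4), (18, 5), (21, 6)] (.iso 127 [(13, 4), (18, 5), (22, 6)] phAc122))))))))))))))))))))))))))))))))))))))))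
def phAc124 : Cert := (.iso 127 [(11, 4), (19, 5), (21, 6)] (.iso 127 [(11, 4), (19, 5), (22, 6)] (.iso 127 [(11, 4), (20, 5), (21, 6)] (.iso 127 [(11, 4), (20, 5), (22, 6)] (.iso 127 [(11, 4), (21, 5), (22, 6)] (.iso 127 [(12, 4), (13, 5), (14, 6)] (.iso 127 [(12, 4), (13, 5), (15, 6)] (.iso 127 [(12, 4), (13, 5), (16, 6)] (.iso 127 [(12, 4), (13, 5), (17, 6)] (.iso 127 [(12, 4), (13, 5), (18, 6)] (.iso 127 [(12, 4), (13, 5), (19, 6)] (.iso 127 [(12, 4), (13, 5), (20, 6)] (.iso 127 [(12, 4), (13, 5), (21, 6)] (.iso 127 [(12, 4), (13, 5), (22, 6)] (.iso 127 [(12, 4), (14, 5), (15, 6)] (.iso 127 [(12, 4), (14, 5), (16, 6)] (.iso 127 [(12, 4), (14, 5), (17, 6)] (.iso 127 [(12, 4), (14, 5), (18, 6)] (.iso 127 [(12, 4), (14, 5), (19, 6)] (.iso 127 [(12, 4), (14, 5), (20, 6)] (.iso 127 [(12, 4), (14, 5), (21, 6)] (.iso 127 [(12, 4), (14, 5), (22, 6)] (.iso 127 [(12, 4), (15, 5), (16, 6)] (.iso 127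 [(12, 4), (15, 5), (17, 6)] (.iso 127 [(12, 4), (15, 5), (18, 6)] (.iso 127 [(12, 4), (15, 5), (19, 6)] (.iso 127 [(12, 4), (15, 5), (20, 6)] (.iso 127 [(12, 4), (15, 5), (21, 6)] (.iso 127 [(12, 4), (15, 5), (22, 6)] (.iso 127 [(12, 4), (16, 5), (17, 6)] (.iso 127 [(12, 4), (16, 5), (18, 6)] (.iso 127 [(12, 4), (16, 5), (19, 6)] (.iso 127 [(12, 4), (16, 5), (20, 6)] (.iso 127 [(12, 4), (16, 5), (21, 6)] (.iso 127 [(12, 4), (16, 5), (22, 6)] (.iso 127 [(12, 4), (17, 5), (18, 6)] (.iso 127 [(12, 4), (17, 5), (19, 6)] (.iso 127 [(12, 4), (17, 5), (20, 6)] (.iso 127 [(12, 4), (17, 5), (21, 6)] (.iso 127 [(12, 4), (17, 5), (22, 6)] phAc123))))))))))))))))))))))))))))))))))))))))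
def phAc125 : Cert := (.iso 127 [(11, 4), (13, 5), (14, 6)] (.iso 127 [(11, 4), (13, 5), (15, 6)] (.iso 127 [(11, 4), (13, 5), (16, 6)] (.iso 127 [(11, 4), (13, 5), (17, 6)] (.iso 127 [(11, 4), (13, 5), (18, 6)] (.iso 127 [(11, 4), (13, 5), (19, 6)] (.iso 127 [(11, 4), (13, 5), (20, 6)] (.iso 127 [(11, 4), (13, 5), (21, 6)] (.iso 127 [(11, 4), (13, 5), (22, 6)] (.iso 127 [(11, 4), (14, 5), (15, 6)] (.iso 127 [(11, 4), (14, 5), (16, 6)] (.iso 127 [(11, 4), (14, 5), (17, 6)] (.iso 127 [(11, 4), (14, 5), (18, 6)] (.iso 127 [(11, 4), (14, 5), (19, 6)] (.iso 127 [(11, 4), (14, 5), (20, 6)] (.iso 127 [(11, 4), (14, 5), (21, 6)] (.iso 127 [(11, 4), (14, 5), (22, 6)] (.iso 127 [(11, 4), (15, 5), (16, 6)] (.iso 127 [(11, 4), (15, 5), (17, 6)] (.iso 127 [(11, 4), (15, 5), (18, 6)] (.iso 127 [(11, 4), (15, 5), (19, 6)] (.iso 127 [(11, 4), (15, 5), (20, 6)] (.iso 127 [(11, 4), (15, 5), (21, 6)] (.iso 127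 [(11, 4), (15, 5), (22, 6)] (.iso 127 [(11, 4), (16, 5), (17, 6)] (.iso 127 [(11, 4), (16, 5), (18, 6)] (.iso 127 [(11, 4), (16, 5), (19, 6)] (.iso 127 [(11, 4), (16, 5), (20, 6)] (.iso 127 [(11, 4), (16, 5), (21, 6)] (.iso 127 [(11, 4), (16, 5), (22, 6)] (.iso 127 [(11, 4), (17, 5), (18, 6)] (.iso 127 [(11, 4), (17, 5), (19, 6)] (.iso 127 [(11, 4), (17, 5), (20, 6)] (.iso 127 [(11, 4), (17, 5), (21, 6)] (.iso 127 [(11, 4), (17, 5), (22, 6)] (.iso 127 [(11, 4), (18, 5), (19, 6)] (.iso 127 [(11, 4), (18, 5), (20, 6)] (.iso 127 [(11, 4), (18, 5), (21, 6)] (.iso 127 [(11, 4), (18, 5), (22, 6)] (.iso 127 [(11, 4), (19, 5), (20, 6)] phAc124))))))))))))))))))))))))))))))))))))))))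
def phAc126 : Cert := (.iso 127 [(10, 4), (14, 5), (21, 6)] (.iso 127 [(10, 4), (14, 5), (22, 6)] (.iso 127 [(10, 4), (15, 5), (16, 6)] (.iso 127 [(10, 4), (15, 5), (17, 6)] (.iso 127 [(10, 4), (15, 5), (18, 6)] (.iso 127 [(10, 4), (15, 5), (19, 6)] (.iso 127 [(10, 4), (15, 5), (20, 6)] (.iso 127 [(10, 4), (15, 5), (21, 6)] (.iso 127 [(10, 4), (15, 5), (22, 6)] (.iso 127 [(10, 4), (16, 5), (17, 6)] (.iso 127 [(10, 4), (16, 5), (18, 6)] (.iso 127 [(10, 4), (16, 5), (19, 6)] (.iso 127 [(10, 4), (16, 5), (20, 6)] (.iso 127 [(10, 4), (16, 5), (21, 6)] (.iso 127 [(10, 4), (16, 5), (22, 6)] (.iso 127 [(10, 4), (17, 5), (18, 6)] (.iso 127 [(10, 4), (17, 5), (19, 6)] (.iso 127 [(10, 4), (17, 5), (20, 6)] (.iso 127 [(10, 4), (17, 5), (21, 6)] (.iso 127 [(10, 4), (17, 5), (22, 6)] (.iso 127 [(10, 4), (18, 5), (19, 6)] (.iso 127 [(10, 4), (18, 5), (20, 6)] (.iso 127 [(10, 4), (18, 5), (21, 6)] (.iso 127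 [(10, 4), (18, 5), (22, 6)] (.iso 127 [(10, 4), (19, 5), (20, 6)] (.iso 127 [(10, 4), (19, 5), (21, 6)] (.iso 127 [(10, 4), (19, 5), (22, 6)] (.iso 127 [(10, 4), (20, 5), (21, 6)] (.iso 127 [(10, 4), (20, 5), (22, 6)] (.iso 127 [(10, 4), (21, 5), (22, 6)] (.iso 127 [(11, 4), (12, 5), (13, 6)] (.iso 127 [(11, 4), (12, 5), (14, 6)] (.iso 127 [(11, 4), (12, 5), (15, 6)] (.iso 127 [(11, 4), (12, 5), (16, 6)] (.iso 127 [(11, 4), (12, 5), (17, 6)] (.iso 127 [(11, 4), (12, 5), (18, 6)] (.iso 127 [(11, 4), (12, 5), (19, 6)] (.iso 127 [(11, 4), (12, 5), (20, 6)] (.iso 127 [(11, 4), (12, 5), (21, 6)] (.iso 127 [(11, 4), (12, 5), (22, 6)] phAc125))))))))))))))))))))))))))))))))))))))))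
def phAc127 : Cert := (.iso 127 [(9, 4), (19, 5), (22, 6)] (.iso 127 [(9, 4), (20, 5), (21, 6)] (.iso 127 [(9, 4), (20, 5), (22, 6)] (.iso 127 [(9, 4), (21, 5), (22, 6)] (.iso 127 [(10, 4), (11, 5), (12, 6)] (.iso 127 [(10, 4), (11, 5), (13, 6)] (.iso 127 [(10, 4), (11, 5), (14, 6)] (.iso 127 [(10, 4), (11, 5), (15, 6)] (.iso 127 [(10, 4), (11, 5), (16, 6)] (.iso 127 [(10, 4), (11, 5), (17, 6)] (.iso 127 [(10, 4), (11, 5), (18, 6)] (.iso 127 [(10, 4), (11, 5), (19, 6)] (.iso 127 [(10, 4), (11, 5), (20, 6)] (.iso 127 [(10, 4), (11, 5), (21, 6)] (.iso 127 [(10, 4), (11, 5), (22, 6)] (.iso 127 [(10, 4), (12, 5), (13, 6)] (.iso 127 [(10, 4), (12, 5), (14, 6)] (.iso 127 [(10, 4), (12, 5), (15, 6)] (.iso 127 [(10, 4), (12, 5), (16, 6)] (.iso 127 [(10, 4), (12, 5), (17, 6)] (.iso 127 [(10, 4), (12, 5), (18, 6)] (.iso 127 [(10, 4), (12, 5), (19, 6)] (.iso 127 [(10, 4), (12, 5), (20, 6)] (.iso 127 [(10,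 4), (12, 5), (21, 6)] (.iso 127 [(10, 4), (12, 5), (22, 6)] (.iso 127 [(10, 4), (13, 5), (14, 6)] (.iso 127 [(10, 4), (13, 5), (15, 6)] (.iso 127 [(10, 4), (13, 5), (16, 6)] (.iso 127 [(10, 4), (13, 5), (17, 6)] (.iso 127 [(10, 4), (13, 5), (18, 6)] (.iso 127 [(10, 4), (13, 5), (19, 6)] (.iso 127 [(10, 4), (13, 5), (20, 6)] (.iso 127 [(10, 4), (13, 5), (21, 6)] (.iso 127 [(10, 4), (13, 5), (22, 6)] (.iso 127 [(10, 4), (14, 5), (15, 6)] (.iso 127 [(10, 4), (14, 5), (16, 6)] (.iso 127 [(10, 4), (14, 5), (17, 6)] (.iso 127 [(10, 4), (14, 5), (18, 6)] (.iso 127 [(10, 4), (14, 5), (19, 6)] (.iso 127 [(10, 4), (14, 5), (20, 6)] phAc126))))))))))))))))))))))))))))))))))))))))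
def phAc128 : Cert := (.iso 127 [(9, 4), (13, 5), (15, 6)] (.iso 127 [(9, 4), (13, 5), (16, 6)] (.iso 127 [(9, 4), (13, 5), (17, 6)] (.iso 127 [(9, 4), (13, 5), (18, 6)] (.iso 127 [(9, 4), (13, 5), (19, 6)] (.iso 127 [(9, 4), (13, 5), (20, 6)] (.iso 127 [(9, 4), (13, 5), (21, 6)] (.iso 127 [(9, 4), (13, 5), (22, 6)] (.iso 127 [(9, 4), (14, 5), (15, 6)] (.iso 127 [(9, 4), (14, 5), (16, 6)] (.iso 127 [(9, 4), (14, 5), (17, 6)] (.iso 127 [(9, 4), (14, 5), (18, 6)] (.iso 127 [(9, 4), (14, 5), (19, 6)] (.iso 127 [(9, 4), (14, 5), (20, 6)] (.iso 127 [(9, 4), (14, 5), (21, 6)] (.iso 127 [(9, 4), (14, 5), (22, 6)] (.iso 127 [(9, 4), (15, 5), (16, 6)] (.iso 127 [(9, 4), (15, 5), (17, 6)] (.iso 127 [(9, 4), (15, 5), (18, 6)] (.iso 127 [(9, 4), (15, 5), (19, 6)] (.iso 127 [(9, 4), (15, 5), (20, 6)] (.iso 127 [(9, 4), (15, 5), (21, 6)] (.iso 127 [(9, 4), (15, 5), (22, 6)] (.iso 127 [(9, 4), (16, 5), (17,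 6)] (.iso 127 [(9, 4), (16, 5), (18, 6)] (.iso 127 [(9, 4), (16, 5), (19, 6)] (.iso 127 [(9, 4), (16, 5), (20, 6)] (.iso 127 [(9, 4), (16, 5), (21, 6)] (.iso 127 [(9, 4), (16, 5), (22, 6)] (.iso 127 [(9, 4), (17, 5), (18, 6)] (.iso 127 [(9, 4), (17, 5), (19, 6)] (.iso 127 [(9, 4), (17, 5), (20, 6)] (.iso 127 [(9, 4), (17, 5), (21, 6)] (.iso 127 [(9, 4), (17, 5), (22, 6)] (.iso 127 [(9, 4), (18, 5), (19, 6)] (.iso 127 [(9, 4), (18, 5), (20, 6)] (.iso 127 [(9, 4), (18, 5), (21, 6)] (.iso 127 [(9, 4), (18, 5), (22, 6)] (.iso 127 [(9, 4), (19, 5), (20, 6)] (.iso 127 [(9, 4), (19, 5), (21, 6)] phAc127))))))))))))))))))))))))))))))))))))))))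
def phAc129 : Cert := (.iso 127 [(8, 4), (19, 5), (20, 6)] (.iso 127 [(8, 4), (19, 5), (21, 6)] (.iso 127 [(8, 4), (19, 5), (22, 6)] (.iso 127 [(8, 4), (20, 5), (21, 6)] (.iso 127 [(8, 4), (20, 5), (22, 6)] (.iso 127 [(8, 4), (21, 5), (22, 6)] (.iso 127 [(9, 4), (10, 5), (11, 6)] (.iso 127 [(9, 4), (10, 5), (12, 6)] (.iso 127 [(9, 4), (10, 5), (13, 6)] (.iso 127 [(9, 4), (10, 5), (14, 6)] (.iso 127 [(9, 4), (10, 5), (15, 6)] (.iso 127 [(9, 4), (10, 5), (16, 6)] (.iso 127 [(9, 4), (10, 5), (17, 6)] (.iso 127 [(9, 4), (10, 5), (18, 6)] (.iso 127 [(9, 4), (10, 5), (19, 6)] (.iso 127 [(9, 4), (10, 5), (20, 6)] (.iso 127 [(9, 4), (10, 5), (21, 6)] (.iso 127 [(9, 4), (10, 5), (22, 6)] (.iso 127 [(9, 4), (11, 5), (12, 6)] (.iso 127 [(9, 4), (11, 5), (13, 6)] (.iso 127 [(9, 4), (11, 5), (14, 6)] (.iso 127 [(9, 4), (11, 5), (15, 6)] (.iso 127 [(9, 4), (11, 5), (16, 6)] (.iso 127 [(9, 4), (11, 5), (17,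 6)] (.iso 127 [(9, 4), (11, 5), (18, 6)] (.iso 127 [(9, 4), (11, 5), (19, 6)] (.iso 127 [(9, 4), (11, 5), (20, 6)] (.iso 127 [(9, 4), (11, 5), (21, 6)] (.iso 127 [(9, 4), (11, 5), (22, 6)] (.iso 127 [(9, 4), (12, 5), (13, 6)] (.iso 127 [(9, 4), (12, 5), (14, 6)] (.iso 127 [(9, 4), (12, 5), (15, 6)] (.iso 127 [(9, 4), (12, 5), (16, 6)] (.iso 127 [(9, 4), (12, 5), (17, 6)] (.iso 127 [(9, 4), (12, 5), (18, 6)] (.iso 127 [(9, 4), (12, 5), (19, 6)] (.iso 127 [(9, 4), (12, 5), (20, 6)] (.iso 127 [(9, 4), (12, 5), (21, 6)] (.iso 127 [(9, 4), (12, 5), (22, 6)] (.iso 127 [(9, 4), (13, 5), (14, 6)] phAc128))))))))))))))))))))))))))))))))))))))))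
def phAc130 : Cert := (.iso 127 [(8, 4), (12, 5), (22, 6)] (.iso 127 [(8, 4), (13, 5), (14, 6)] (.iso 127 [(8, 4), (13, 5), (15, 6)] (.iso 127 [(8, 4), (13, 5), (16, 6)] (.iso 127 [(8, 4), (13, 5), (17, 6)] (.iso 127 [(8, 4), (13, 5), (18, 6)] (.iso 127 [(8, 4), (13, 5), (19, 6)] (.iso 127 [(8, 4), (13, 5), (20, 6)] (.iso 127 [(8, 4), (13, 5), (21, 6)] (.iso 127 [(8, 4), (13, 5), (22, 6)] (.iso 127 [(8, 4), (14, 5), (15, 6)] (.iso 127 [(8, 4), (14, 5), (16, 6)] (.iso 127 [(8, 4), (14, 5), (17, 6)] (.iso 127 [(8, 4), (14, 5), (18, 6)] (.iso 127 [(8, 4), (14, 5), (19, 6)] (.iso 127 [(8, 4), (14, 5), (20, 6)] (.iso 127 [(8, 4), (14, 5), (21, 6)] (.iso 127 [(8, 4), (14, 5), (22, 6)] (.iso 127 [(8, 4), (15, 5), (16, 6)] (.iso 127 [(8, 4), (15, 5), (17, 6)] (.iso 127 [(8, 4), (15, 5), (18, 6)] (.iso 127 [(8, 4), (15, 5), (19, 6)] (.iso 127 [(8, 4), (15, 5), (20, 6)] (.iso 127 [(8, 4), (15, 5), (21,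 6)] (.iso 127 [(8, 4), (15, 5), (22, 6)] (.iso 127 [(8, 4), (16, 5), (17, 6)] (.iso 127 [(8, 4), (16, 5), (18, 6)] (.iso 127 [(8, 4), (16, 5), (19, 6)] (.iso 127 [(8, 4), (16, 5), (20, 6)] (.iso 127 [(8, 4), (16, 5), (21, 6)] (.iso 127 [(8, 4), (16, 5), (22, 6)] (.iso 127 [(8, 4), (17, 5), (18, 6)] (.iso 127 [(8, 4), (17, 5), (19, 6)] (.iso 127 [(8, 4), (17, 5), (20, 6)] (.iso 127 [(8, 4), (17, 5), (21, 6)] (.iso 127 [(8, 4), (17, 5), (22, 6)] (.iso 127 [(8, 4), (18, 5), (19, 6)] (.iso 127 [(8, 4), (18, 5), (20, 6)] (.iso 127 [(8, 4), (18, 5), (21, 6)] (.iso 127 [(8, 4), (18, 5), (22, 6)] phAc129))))))))))))))))))))))))))))))))))))))))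
def phAc131 : Cert := (.iso 127 [(8, 4), (9, 5), (15, 6)] (.iso 127 [(8, 4), (9, 5), (16, 6)] (.iso 127 [(8, 4), (9, 5), (17, 6)] (.iso 127 [(8, 4), (9, 5), (18, 6)] (.iso 127 [(8, 4), (9, 5), (19, 6)] (.iso 127 [(8, 4), (9, 5), (20, 6)] (.iso 127 [(8, 4), (9, 5), (21, 6)] (.iso 127 [(8, 4), (9, 5), (22, 6)] (.iso 127 [(8, 4), (10, 5), (11, 6)] (.iso 127 [(8, 4), (10, 5), (12, 6)] (.iso 127 [(8, 4), (10, 5), (13, 6)] (.iso 127 [(8, 4), (10, 5), (14, 6)] (.iso 127 [(8, 4), (10, 5), (15, 6)] (.iso 127 [(8, 4), (10, 5), (16, 6)] (.iso 127 [(8, 4), (10, 5), (17, 6)] (.iso 127 [(8, 4), (10, 5), (18, 6)] (.iso 127 [(8, 4), (10, 5), (19, 6)] (.iso 127 [(8, 4), (10, 5), (20, 6)] (.iso 127 [(8, 4), (10, 5), (21, 6)] (.iso 127 [(8, 4), (10, 5), (22, 6)] (.iso 127 [(8, 4), (11, 5), (12, 6)] (.iso 127 [(8, 4), (11, 5), (13, 6)] (.iso 127 [(8, 4), (11, 5), (14, 6)] (.iso 127 [(8, 4), (11, 5), (15, 6)] (.iso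 127 [(8, 4), (11, 5), (16, 6)] (.iso 127 [(8, 4), (11, 5), (17, 6)] (.iso 127 [(8, 4), (11, 5), (18, 6)] (.iso 127 [(8, 4), (11, 5), (19, 6)] (.iso 127 [(8, 4), (11, 5), (20, 6)] (.iso 127 [(8, 4), (11, 5), (21, 6)] (.iso 127 [(8, 4), (11, 5), (22, 6)] (.iso 127 [(8, 4), (12, 5), (13, 6)] (.iso 127 [(8, 4), (12, 5), (14, 6)] (.iso 127 [(8, 4), (12, 5), (15, 6)] (.iso 127 [(8, 4), (12, 5), (16, 6)] (.iso 127 [(8, 4), (12, 5), (17, 6)] (.iso 127 [(8, 4), (12, 5), (18, 6)] (.iso 127 [(8, 4), (12, 5), (19, 6)] (.iso 127 [(8, 4), (12, 5), (20, 6)] (.iso 127 [(8, 4), (12, 5), (21, 6)] phAc130))))))))))))))))))))))))))))))))))))))))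
def phAc132 : Cert := (.iso 127 [(7, 4), (14, 5), (16, 6)] (.iso 127 [(7, 4), (14, 5), (17, 6)] (.iso 127 [(7, 4), (14, 5), (18, 6)] (.iso 127 [(7, 4), (14, 5), (19, 6)] (.iso 127 [(7, 4), (14, 5), (20, 6)] (.iso 127 [(7, 4), (14, 5), (21, 6)] (.iso 127 [(7, 4), (14, 5), (22, 6)] (.iso 127 [(7, 4), (15, 5), (16, 6)] (.iso 127 [(7, 4), (15, 5), (17, 6)] (.iso 127 [(7, 4), (15, 5), (18, 6)] (.iso 127 [(7, 4), (15, 5), (19, 6)] (.iso 127 [(7, 4), (15, 5), (20, 6)] (.iso 127 [(7, 4), (15, 5), (21, 6)] (.iso 127 [(7, 4), (15, 5), (22, 6)] (.iso 127 [(7, 4), (16, 5), (17, 6)] (.iso 127 [(7, 4), (16, 5), (18, 6)] (.iso 127 [(7, 4), (16, 5), (19, 6)] (.iso 127 [(7, 4), (16, 5), (20, 6)] (.iso 127 [(7, 4), (16, 5), (21, 6)] (.iso 127 [(7, 4), (16, 5), (22, 6)] (.iso 127 [(7, 4), (17, 5), (18, 6)] (.iso 127 [(7, 4), (17, 5), (19, 6)] (.iso 127 [(7, 4), (17, 5), (20, 6)] (.iso 127 [(7, 4), (17, 5), (21,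 6)] (.iso 127 [(7, 4), (17, 5), (22, 6)] (.iso 127 [(7, 4), (18, 5), (19, 6)] (.iso 127 [(7, 4), (18, 5), (20, 6)] (.iso 127 [(7, 4), (18, 5), (21, 6)] (.iso 127 [(7, 4), (18, 5), (22, 6)] (.iso 127 [(7, 4), (19, 5), (20, 6)] (.iso 127 [(7, 4), (19, 5), (21, 6)] (.iso 127 [(7, 4), (19, 5), (22, 6)] (.iso 127 [(7, 4), (20, 5), (21, 6)] (.iso 127 [(7, 4), (20, 5), (22, 6)] (.iso 127 [(7, 4), (21, 5), (22, 6)] (.iso 127 [(8, 4), (9, 5), (10, 6)] (.iso 127 [(8, 4), (9, 5), (11, 6)] (.iso 127 [(8, 4), (9, 5), (12, 6)] (.iso 127 [(8, 4), (9, 5), (13, 6)] (.iso 127 [(8, 4), (9, 5), (14, 6)] phAc131))))))))))))))))))))))))))))))))))))))))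
def phAc133 : Cert := (.iso 127 [(7, 4), (10, 5), (14, 6)] (.iso 127 [(7, 4), (10, 5), (15, 6)] (.iso 127 [(7, 4), (10, 5), (16, 6)] (.iso 127 [(7, 4), (10, 5), (17, 6)] (.iso 127 [(7, 4), (10, 5), (18, 6)] (.iso 127 [(7, 4), (10, 5), (19, 6)] (.iso 127 [(7, 4), (10, 5), (20, 6)] (.iso 127 [(7, 4), (10, 5), (21, 6)] (.iso 127 [(7, 4), (10, 5), (22, 6)] (.iso 127 [(7, 4), (11, 5), (12, 6)] (.iso 127 [(7, 4), (11, 5), (13, 6)] (.iso 127 [(7, 4), (11, 5), (14, 6)] (.iso 127 [(7, 4), (11, 5), (15, 6)] (.iso 127 [(7, 4), (11, 5), (16, 6)] (.iso 127 [(7, 4), (11, 5), (17, 6)] (.iso 127 [(7, 4), (11, 5), (18, 6)] (.iso 127 [(7, 4), (11, 5), (19, 6)] (.iso 127 [(7, 4), (11, 5), (20, 6)] (.iso 127 [(7, 4), (11, 5), (21, 6)] (.iso 127 [(7, 4), (11, 5), (22, 6)] (.iso 127 [(7, 4), (12, 5), (13, 6)] (.iso 127 [(7, 4), (12, 5), (14, 6)] (.iso 127 [(7, 4), (12, 5), (15, 6)] (.iso 127 [(7, 4), (12, 5), (16,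 6)] (.iso 127 [(7, 4), (12, 5), (17, 6)] (.iso 127 [(7, 4), (12, 5), (18, 6)] (.iso 127 [(7, 4), (12, 5), (19, 6)] (.iso 127 [(7, 4), (12, 5), (20, 6)] (.iso 127 [(7, 4), (12, 5), (21, 6)] (.iso 127 [(7, 4), (12, 5), (22, 6)] (.iso 127 [(7, 4), (13, 5), (14, 6)] (.iso 127 [(7, 4), (13, 5), (15, 6)] (.iso 127 [(7, 4), (13, 5), (16, 6)] (.iso 127 [(7, 4), (13, 5), (17, 6)] (.iso 127 [(7, 4), (13, 5), (18, 6)] (.iso 127 [(7, 4), (13, 5), (19, 6)] (.iso 127 [(7, 4), (13, 5), (20, 6)] (.iso 127 [(7, 4), (13, 5), (21, 6)] (.iso 127 [(7, 4), (13, 5), (22, 6)] (.iso 127 [(7, 4), (14, 5), (15, 6)] phAc132))))))))))))))))))))))))))))))))))))))))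
def phAc134 : Cert := (.iso 127 [(18, 4), (19, 5)] (.iso 127 [(18, 4), (20, 5)] (.iso 127 [(18, 4), (21, 5)] (.iso 127 [(18, 4), (22, 5)] (.iso 127 [(19, 4), (20, 5)] (.iso 127 [(19, 4), (21, 5)] (.iso 127 [(19, 4), (22, 5)] (.iso 127 [(20, 4), (21, 5)] (.iso 127 [(20, 4), (22, 5)] (.iso 127 [(21, 4), (22, 5)] (.iso 127 [(7, 4), (8, 5), (9, 6)] (.iso 127 [(7, 4), (8, 5), (10, 6)] (.iso 127 [(7, 4), (8, 5), (11, 6)] (.iso 127 [(7, 4), (8, 5), (12, 6)] (.iso 127 [(7, 4), (8, 5), (13, 6)] (.iso 127 [(7, 4), (8, 5), (14, 6)] (.iso 127 [(7, 4), (8, 5), (15, 6)] (.iso 127 [(7, 4), (8, 5), (16, 6)] (.iso 127 [(7, 4), (8, 5), (17, 6)] (.iso 127 [(7, 4), (8, 5), (18, 6)] (.iso 127 [(7, 4), (8, 5), (19, 6)] (.iso 127 [(7, 4), (8, 5), (20, 6)] (.iso 127 [(7, 4), (8, 5), (21, 6)] (.iso 127 [(7, 4), (8, 5), (22, 6)] (.iso 127 [(7, 4), (9, 5), (10, 6)] (.iso 127 [(7, 4), (9, 5), (11, 6)] (.iso 127 [(7, 4),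 (9, 5), (12, 6)] (.iso 127 [(7, 4), (9, 5), (13, 6)] (.iso 127 [(7, 4), (9, 5), (14, 6)] (.iso 127 [(7, 4), (9, 5), (15, 6)] (.iso 127 [(7, 4), (9, 5), (16, 6)] (.iso 127 [(7, 4), (9, 5), (17, 6)] (.iso 127 [(7, 4), (9, 5), (18, 6)] (.iso 127 [(7, 4), (9, 5), (19, 6)] (.iso 127 [(7, 4), (9, 5), (20, 6)] (.iso 127 [(7, 4), (9, 5), (21, 6)] (.iso 127 [(7, 4), (9, 5), (22, 6)] (.iso 127 [(7, 4), (10, 5), (11, 6)] (.iso 127 [(7, 4), (10, 5), (12, 6)] (.iso 127 [(7, 4), (10, 5), (13, 6)] phAc133))))))))))))))))))))))))))))))))))))))))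
def phAc135 : Cert := (.iso 127 [(12, 4), (18, 5)] (.iso 127 [(12, 4), (19, 5)] (.iso 127 [(12, 4), (20, 5)] (.iso 127 [(12, 4), (21, 5)] (.iso 127 [(12, 4), (22, 5)] (.iso 127 [(13, 4), (14, 5)] (.iso 127 [(13, 4), (15, 5)] (.iso 127 [(13, 4), (16, 5)] (.iso 127 [(13, 4), (17, 5)] (.iso 127 [(13, 4), (18, 5)] (.iso 127 [(13, 4), (19, 5)] (.iso 127 [(13, 4), (20, 5)] (.iso 127 [(13, 4), (21, 5)] (.iso 127 [(13, 4), (22, 5)] (.iso 127 [(14, 4), (15, 5)] (.iso 127 [(14, 4), (16, 5)] (.iso 127 [(14, 4), (17, 5)] (.iso 127 [(14, 4), (18, 5)] (.iso 127 [(14, 4), (19, 5)] (.iso 127 [(14, 4), (20, 5)] (.iso 127 [(14, 4), (21, 5)] (.iso 127 [(14, 4), (22, 5)] (.iso 127 [(15, 4), (16, 5)] (.iso 127 [(15, 4), (17, 5)] (.iso 127 [(15, 4), (18, 5)] (.iso 127 [(15, 4), (19, 5)] (.iso 127 [(15, 4), (20, 5)] (.iso 127 [(15, 4), (21, 5)] (.iso 127 [(15, 4), (22, 5)] (.iso 127 [(16, 4), (17, 5)] (.iso 127 [(16,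 4), (18, 5)] (.iso 127 [(16, 4), (19, 5)] (.iso 127 [(16, 4), (20, 5)] (.iso 127 [(16, 4), (21, 5)] (.iso 127 [(16, 4), (22, 5)] (.iso 127 [(17, 4), (18, 5)] (.iso 127 [(17, 4), (19, 5)] (.iso 127 [(17, 4), (20, 5)] (.iso 127 [(17, 4), (21, 5)] (.iso 127 [(17, 4), (22, 5)] phAc134))))))))))))))))))))))))))))))))))))))))
def phAc136 : Cert := (.iso 127 [(9, 4), (11, 5)] (.iso 127 [(9, 4), (12, 5)] (.iso 127 [(9, 4), (13, 5)] (.iso 127 [(9, 4), (14, 5)] (.iso 127 [(9, 4), (15, 5)] (.iso 127 [(9, 4), (16, 5)] (.iso 127 [(9, 4), (17, 5)] (.iso 127 [(9, 4), (18, 5)] (.iso 127 [(9, 4), (19, 5)] (.iso 127 [(9, 4), (20, 5)] (.iso 127 [(9, 4), (21, 5)] (.iso 127 [(9, 4), (22, 5)] (.iso 127 [(10, 4), (11, 5)] (.iso 127 [(10, 4), (12, 5)] (.iso 127 [(10, 4), (13, 5)] (.iso 127 [(10, 4), (14, 5)] (.iso 127 [(10, 4), (15, 5)] (.iso 127 [(10, 4), (16, 5)] (.iso 127 [(10, 4), (17, 5)] (.iso 127 [(10, 4), (18,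 5)] (.iso 127 [(10, 4), (19, 5)] (.iso 127 [(10, 4), (20, 5)] (.iso 127 [(10, 4), (21, 5)] (.iso 127 [(10, 4), (22, 5)] (.iso 127 [(11, 4), (12, 5)] (.iso 127 [(11, 4), (13, 5)] (.iso 127 [(11, 4), (14, 5)] (.iso 127 [(11, 4), (15, 5)] (.iso 127 [(11, 4), (16, 5)] (.iso 127 [(11, 4), (17, 5)] (.iso 127 [(11, 4), (18, 5)] (.iso 127 [(11, 4), (19, 5)] (.iso 127 [(11, 4), (20, 5)] (.iso 127 [(11, 4), (21, 5)] (.iso 127 [(11, 4), (22, 5)] (.iso 127 [(12, 4), (13, 5)] (.iso 127 [(12, 4), (14, 5)] (.iso 127 [(12, 4), (15, 5)] (.iso 127 [(12, 4), (16, 5)] (.iso 127 [(12, 4), (17, 5)] phAc135))))))))))))))))))))))))))))))))))))))))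
def phAc137 : Cert := (.iso 127 [(18, 4), (19, 6)] (.iso 127 [(18, 4), (20, 6)] (.iso 127 [(18, 4), (21, 6)] (.iso 127 [(18, 4), (22, 6)] (.iso 127 [(19, 4), (20, 6)] (.iso 127 [(19, 4), (21, 6)] (.iso 127 [(19, 4), (22, 6)] (.iso 127 [(20, 4), (21, 6)] (.iso 127 [(20, 4), (22, 6)] (.iso 127 [(21, 4), (22, 6)] (.iso 127 [(7, 4), (8, 5)] (.iso 127 [(7, 4), (9, 5)] (.iso 127 [(7, 4), (10, 5)] (.iso 127 [(7, 4), (11, 5)] (.iso 127 [(7, 4), (12, 5)] (.iso 127 [(7, 4), (13, 5)] (.iso 127 [(7, 4), (14, 5)] (.iso 127 [(7, 4), (15, 5)] (.iso 127 [(7, 4), (16, 5)] (.iso 127 [(7, 4), (17, 5)] (.iso 127 [(7, 4), (18, 5)] (.iso 127 [(7, 4), (19, 5)] (.iso 127 [(7, 4), (20, 5)] (.iso 127 [(7, 4), (21, 5)] (.iso 127 [(7, 4), (22, 5)] (.iso 127 [(8, 4), (9, 5)] (.iso 127 [(8, 4), (10, 5)] (.iso 127 [(8, 4), (11, 5)] (.iso 127 [(8, 4), (12, 5)] (.iso 127 [(8, 4), (13, 5)] (.iso 127 [(8, 4), (14, 5)] (.iso 127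 [(8, 4), (15, 5)] (.iso 127 [(8, 4), (16, 5)] (.iso 127 [(8, 4), (17, 5)] (.iso 127 [(8, 4), (18, 5)] (.iso 127 [(8, 4), (19, 5)] (.iso 127 [(8, 4), (20, 5)] (.iso 127 [(8, 4), (21, 5)] (.iso 127 [(8, 4), (22, 5)] (.iso 127 [(9, 4), (10, 5)] phAc136))))))))))))))))))))))))))))))))))))))))
def phAc138 : Cert := (.iso 127 [(12, 4), (18, 6)] (.iso 127 [(12, 4), (19, 6)] (.iso 127 [(12, 4), (20, 6)] (.iso 127 [(12, 4), (21, 6)] (.iso 127 [(12, 4), (22, 6)] (.iso 127 [(13, 4), (14, 6)] (.iso 127 [(13, 4), (15, 6)] (.iso 127 [(13, 4), (16, 6)] (.iso 127 [(13, 4), (17, 6)] (.iso 127 [(13, 4), (18, 6)] (.iso 127 [(13, 4), (19, 6)] (.iso 127 [(13, 4), (20, 6)] (.iso 127 [(13, 4), (21, 6)] (.iso 127 [(13, 4), (22, 6)] (.iso 127 [(14, 4), (15, 6)] (.iso 127 [(14, 4), (16, 6)] (.iso 127 [(14, 4), (17, 6)] (.iso 127 [(14, 4), (18, 6)] (.iso 127 [(14, 4), (19, 6)] (.iso 127 [(14, 4), (20, 6)] (.iso 127 [(14,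 4), (21, 6)] (.iso 127 [(14, 4), (22, 6)] (.iso 127 [(15, 4), (16, 6)] (.iso 127 [(15, 4), (17, 6)] (.iso 127 [(15, 4), (18, 6)] (.iso 127 [(15, 4), (19, 6)] (.iso 127 [(15, 4), (20, 6)] (.iso 127 [(15, 4), (21, 6)] (.iso 127 [(15, 4), (22, 6)] (.iso 127 [(16, 4), (17, 6)] (.iso 127 [(16, 4), (18, 6)] (.iso 127 [(16, 4), (19, 6)] (.iso 127 [(16, 4), (20, 6)] (.iso 127 [(16, 4), (21, 6)] (.iso 127 [(16, 4), (22, 6)] (.iso 127 [(17, 4), (18, 6)] (.iso 127 [(17, 4), (19, 6)] (.iso 127 [(17, 4), (20, 6)] (.iso 127 [(17, 4), (21, 6)] (.iso 127 [(17, 4), (22, 6)] phAc137))))))))))))))))))))))))))))))))))))))))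
def phAc139 : Cert := (.iso 127 [(9, 4), (11, 6)] (.iso 127 [(9, 4), (12, 6)] (.iso 127 [(9, 4), (13, 6)] (.iso 127 [(9, 4), (14, 6)] (.iso 127 [(9, 4), (15, 6)] (.iso 127 [(9, 4), (16, 6)] (.iso 127 [(9, 4), (17, 6)] (.iso 127 [(9, 4), (18, 6)] (.iso 127 [(9, 4), (19, 6)] (.iso 127 [(9, 4), (20, 6)] (.iso 127 [(9, 4), (21, 6)] (.iso 127 [(9, 4), (22, 6)] (.iso 127 [(10, 4), (11, 6)] (.iso 127 [(10, 4), (12, 6)] (.iso 127 [(10, 4), (13, 6)] (.iso 127 [(10, 4), (14, 6)] (.iso 127 [(10, 4), (15, 6)] (.iso 127 [(10, 4), (16, 6)] (.iso 127 [(10, 4), (17, 6)] (.iso 127 [(10, 4), (18, 6)] (.iso 127 [(10, 4), (19, 6)] (.iso 127 [(10, 4), (20, 6)] (.iso 127 [(10, 4), (21, 6)] (.iso 127 [(10, 4), (22, 6)] (.iso 127 [(11, 4), (12, 6)] (.iso 127 [(11, 4), (13, 6)] (.iso 127 [(11, 4), (14, 6)] (.iso 127 [(11, 4), (15, 6)] (.iso 127 [(11, 4), (16, 6)] (.iso 127 [(11, 4), (17, 6)] (.iso 127 [(11, 4), (18, 6)]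 (.iso 127 [(11, 4), (19, 6)] (.iso 127 [(11, 4), (20, 6)] (.iso 127 [(11, 4), (21, 6)] (.iso 127 [(11, 4), (22, 6)] (.iso 127 [(12, 4), (13, 6)] (.iso 127 [(12, 4), (14, 6)] (.iso 127 [(12, 4), (15, 6)] (.iso 127 [(12, 4), (16, 6)] (.iso 127 [(12, 4), (17, 6)] phAc138))))))))))))))))))))))))))))))))))))))))
def phAc140 : Cert := (.iso 127 [(13, 4)] (.iso 127 [(14, 4)] (.iso 127 [(15, 4)] (.iso 127 [(16, 4)] (.iso 127 [(17, 4)] (.iso 127 [(18, 4)] (.iso 127 [(19, 4)] (.iso 127 [(20, 4)] (.iso 127 [(21, 4)] (.iso 127 [(22, 4)] (.iso 127 [(7, 4), (8, 6)] (.iso 127 [(7, 4), (9, 6)] (.iso 127 [(7, 4), (10, 6)] (.iso 127 [(7, 4), (11, 6)] (.iso 127 [(7, 4), (12, 6)] (.iso 127 [(7, 4), (13, 6)] (.iso 127 [(7, 4), (14, 6)] (.iso 127 [(7, 4), (15, 6)] (.iso 127 [(7, 4), (16, 6)] (.iso 127 [(7, 4), (17, 6)] (.iso 127 [(7, 4), (18, 6)] (.iso 127 [(7, 4), (19, 6)] (.iso 127 [(7, 4), (20, 6)] (.iso 127 [(7,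 4), (21, 6)] (.iso 127 [(7, 4), (22, 6)] (.iso 127 [(8, 4), (9, 6)] (.iso 127 [(8, 4), (10, 6)] (.iso 127 [(8, 4), (11, 6)] (.iso 127 [(8, 4), (12, 6)] (.iso 127 [(8, 4), (13, 6)] (.iso 127 [(8, 4), (14, 6)] (.iso 127 [(8, 4), (15, 6)] (.iso 127 [(8, 4), (16, 6)] (.iso 127 [(8, 4), (17, 6)] (.iso 127 [(8, 4), (18, 6)] (.iso 127 [(8, 4), (19, 6)] (.iso 127 [(8, 4), (20, 6)] (.iso 127 [(8, 4), (21, 6)] (.iso 127 [(8, 4), (22, 6)] (.iso 127 [(9, 4), (10, 6)] phAc139))))))))))))))))))))))))))))))))))))))))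
def phAc141 : Cert := (.iso 127 [(14, 5), (17, 6)] (.iso 127 [(14, 5), (18, 6)] (.iso 127 [(14, 5), (19, 6)] (.iso 127 [(14, 5), (20, 6)] (.iso 127 [(14, 5), (21, 6)] (.iso 127 [(14, 5), (22, 6)] (.iso 127 [(15, 5), (16, 6)] (.iso 127 [(15, 5), (17, 6)] (.iso 127 [(15, 5), (18, 6)] (.iso 127 [(15, 5), (19, 6)] (.iso 127 [(15, 5), (20, 6)] (.iso 127 [(15, 5), (21, 6)] (.iso 127 [(15, 5), (22, 6)] (.iso 127 [(16, 5), (17, 6)] (.iso 127 [(16, 5), (18, 6)] (.iso 127 [(16, 5), (19, 6)] (.iso 127 [(16, 5), (20, 6)] (.iso 127 [(16, 5), (21, 6)] (.iso 127 [(16, 5), (22, 6)] (.iso 127 [(17, 5), (18, 6)] (.iso 127 [(17, 5), (19, 6)] (.iso 127 [(17, 5), (20, 6)] (.iso 127 [(17, 5), (21, 6)] (.iso 127 [(17, 5), (22, 6)] (.iso 127 [(18, 5), (19, 6)] (.iso 127 [(18, 5), (20, 6)] (.iso 127 [(18, 5), (21, 6)] (.iso 127 [(18, 5), (22, 6)] (.iso 127 [(19, 5), (20, 6)] (.iso 127 [(19, 5), (21, 6)] (.iso 127 [(19,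 5), (22, 6)] (.iso 127 [(20, 5), (21, 6)] (.iso 127 [(20, 5), (22, 6)] (.iso 127 [(21, 5), (22, 6)] (.iso 127 [(7, 4)] (.iso 127 [(8, 4)] (.iso 127 [(9, 4)] (.iso 127 [(10, 4)] (.iso 127 [(11, 4)] (.iso 127 [(12, 4)] phAc140))))))))))))))))))))))))))))))))))))))))
def phAc142 : Cert := (.iso 127 [(10, 5), (15, 6)] (.iso 127 [(10, 5), (16, 6)] (.iso 127 [(10, 5), (17, 6)] (.iso 127 [(10, 5), (18, 6)] (.iso 127 [(10, 5), (19, 6)] (.iso 127 [(10, 5), (20, 6)] (.iso 127 [(10, 5), (21, 6)] (.iso 127 [(10, 5), (22, 6)] (.iso 127 [(11, 5), (12, 6)] (.iso 127 [(11, 5), (13, 6)] (.iso 127 [(11, 5), (14, 6)] (.iso 127 [(11, 5), (15, 6)] (.iso 127 [(11, 5), (16, 6)] (.iso 127 [(11, 5), (17, 6)] (.iso 127 [(11, 5), (18, 6)] (.iso 127 [(11, 5), (19, 6)] (.iso 127 [(11, 5), (20, 6)] (.iso 127 [(11, 5), (21, 6)] (.iso 127 [(11, 5), (22, 6)] (.iso 127 [(12, 5), (13, 6)] (.iso 127 [(12, 5), (14, 6)] (.iso 127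 [(12, 5), (15, 6)] (.iso 127 [(12, 5), (16, 6)] (.iso 127 [(12, 5), (17, 6)] (.iso 127 [(12, 5), (18, 6)] (.iso 127 [(12, 5), (19, 6)] (.iso 127 [(12, 5), (20, 6)] (.iso 127 [(12, 5), (21, 6)] (.iso 127 [(12, 5), (22, 6)] (.iso 127 [(13, 5), (14, 6)] (.iso 127 [(13, 5), (15, 6)] (.iso 127 [(13, 5), (16, 6)] (.iso 127 [(13, 5), (17, 6)] (.iso 127 [(13, 5), (18, 6)] (.iso 127 [(13, 5), (19, 6)] (.iso 127 [(13, 5), (20, 6)] (.iso 127 [(13, 5), (21, 6)] (.iso 127 [(13, 5), (22, 6)] (.iso 127 [(14, 5), (15, 6)] (.iso 127 [(14, 5), (16, 6)] phAc141))))))))))))))))))))))))))))))))))))))))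
def phAc143 : Cert := (.iso 127 [(7, 5), (14, 6)] (.iso 127 [(7, 5), (15, 6)] (.iso 127 [(7, 5), (16, 6)] (.iso 127 [(7, 5), (17, 6)] (.iso 127 [(7, 5), (18, 6)] (.iso 127 [(7, 5), (19, 6)] (.iso 127 [(7, 5), (20, 6)] (.iso 127 [(7, 5), (21, 6)] (.iso 127 [(7, 5), (22, 6)] (.iso 127 [(8, 5), (9, 6)] (.iso 127 [(8, 5), (10, 6)] (.iso 127 [(8, 5), (11, 6)] (.iso 127 [(8, 5), (12, 6)] (.iso 127 [(8, 5), (13, 6)] (.iso 127 [(8, 5), (14, 6)] (.iso 127 [(8, 5), (15, 6)] (.iso 127 [(8, 5), (16, 6)] (.iso 127 [(8, 5), (17, 6)] (.iso 127 [(8, 5), (18, 6)] (.iso 127 [(8, 5), (19, 6)] (.iso 127 [(8, 5), (20, 6)] (.iso 127 [(8, 5), (21, 6)] (.iso 127 [(8, 5), (22, 6)] (.iso 127 [(9, 5), (10, 6)] (.iso 127 [(9, 5), (11, 6)] (.iso 127 [(9, 5), (12, 6)] (.iso 127 [(9, 5), (13, 6)] (.iso 127 [(9, 5), (14, 6)] (.iso 127 [(9, 5), (15, 6)] (.iso 127 [(9, 5), (16, 6)] (.iso 127 [(9, 5), (17, 6)] (.iso 127 [(9, 5),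 (18, 6)] (.iso 127 [(9, 5), (19, 6)] (.iso 127 [(9, 5), (20, 6)] (.iso 127 [(9, 5), (21, 6)] (.iso 127 [(9, 5), (22, 6)] (.iso 127 [(10, 5), (11, 6)] (.iso 127 [(10, 5), (12, 6)] (.iso 127 [(10, 5), (13, 6)] (.iso 127 [(10, 5), (14, 6)] phAc142))))))))))))))))))))))))))))))))))))))))
def phAcert : Cert := (.node 15 (.sub (.node 135 (.sub (.node 2055 (.sub (.node 32775 (.sub (.node 524295 (.sub (.node 139 (.sub (.node 267 (.sub (.node 523 (.sub (.node 1035 (.sub (.node 147 (.sub (.node 275 (.sub (.node 531 (.sub (.node 1043 (.sub (.node 163 (.sub (.node 291 (.sub (.node 547 (.sub (.node 1059 (.sub (.node 195 (.sub (.node 323 (.sub (.node 579 (.sub phAc7 .nil)) .nil)) .nil)) .nil)) .nil)) .nil)) (.sub (.node 291 (.sub (.node 547 (.sub (.node 1059 (.sub (.node 195 (.sub (.node 323 (.sub (.node 579 phAc14) .nil)) .nil)) .nil)) .nil)) .nil)) .nil))) .nil)) (.sub (.node 1043 (.sub (.node 163 .nil) .nil))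 .nil))) (.sub (.node 531 (.sub (.node 1043 (.sub (.node 163 .nil) .nil)) .nil)) (.sub (.node 531 (.sub (.node 1043 (.sub (.node 163 .nil) .nil)) .nil)) .nil)))) (.sub (.node 275 (.sub (.node 531 (.sub (.node 1043 (.sub (.node 163 .nil) .nil)) (.sub (.node 1043 (.sub (.node 163 (.sub (.node 291 (.sub (.node 547 (.sub (.node 1059 (.sub (.node 195 (.sub (.node 323 (.sub phAc21 .nil)) .nil)) .nil)) .nil)) .nil)) (.sub (.node 291 (.sub (.node 547 (.sub (.node 1059 (.sub (.node 195 (.sub (.node 323 phAc28) .nil)) .nil)) .nil)) .nil)) .nil))) .nil)) .nil))) (.sub (.node 531 (.sub (.node 1043 (.sub (.node 163 .nil) .nil)) .nil)) (.sub (.node 531 (.sub (.node 1043 (.sub (.node 163 .nil) .nil)) .nil)) .nil)))) (.sub (.node 275 (.sub (.node 531 (.sub (.node 1043 (.sub (.node 163 .nil) .nil)) .nil)) (.sub (.node 531 (.sub (.node 1043 (.sub (.node 163 (.sub (.node 291 (.sub (.node 547 (.sub (.node 1059 (.sub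 (.node 195 (.sub (.node 323 phAc35) .nil)) .nil)) .nil)) .nil)) (.sub (.node 291 (.sub (.node 547 (.sub (.node 1059 (.sub (.node 195 (.sub phAc43 .nil)) .nil)) .nil)) .nil)) .nil))) .nil)) (.sub (.node 1043 (.sub (.node 163 .nil) .nil)) .nil))) (.sub (.node 531 (.sub (.node 1043 (.sub (.node 163 .nil) .nil)) .nil)) .nil)))) (.sub (.node 275 (.sub (.node 531 (.sub (.node 1043 (.sub (.node 163 .nil) .nil)) .nil)) (.sub (.node 531 (.sub (.node 1043 (.sub (.node 163 .nil) .nil)) .nil)) (.sub (.node 531 (.sub (.node 1043 (.sub (.node 163 (.sub (.node 291 (.sub (.node 547 (.sub (.node 1059 (.sub (.node 195 phAc52) .nil)) .nil)) .nil)) (.sub (.node 291 (.sub (.node 547 (.sub (.node 1059 (.sub phAc62 .nil)) .nil)) .nil)) .nil))) .nil)) (.sub (.node 1043 (.sub (.node 163 .nil) .nil)) .nil))) .nil)))) (.sub (.node 275 (.sub (.node 531 (.sub (.node 1043 (.sub (.node 163 .nil) .nil)) .nil)) (.sub (.node 531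 (.sub (.node 1043 (.sub (.node 163 .nil) .nil)) (.sub (.node 1043 (.sub (.node 163 (.sub (.node 291 (.sub (.node 547 (.sub (.node 1059 (.sub phAc72 .nil)) .nil)) .nil)) (.sub (.node 291 (.sub (.node 547 (.sub (.node 1059 phAc82) .nil)) .nil)) .nil))) .nil)) .nil))) (.sub (.node 531 (.sub (.node 1043 (.sub (.node 163 .nil) .nil)) .nil)) .nil)))) (.sub (.node 275 (.sub (.node 531 (.sub (.node 1043 (.sub (.node 163 .nil) .nil)) .nil)) (.sub (.node 531 (.sub (.node 1043 (.sub (.node 163 .nil) .nil)) .nil)) (.sub (.node 531 (.sub (.node 1043 (.sub (.node 163 .nil) .nil)) (.sub (.node 1043 (.sub (.node 163 (.sub (.node 291 (.sub (.node 547 (.sub phAc92 .nil)) .nil)) (.sub (.node 291 (.sub (.node 547 phAc102) .nil)) .nil))) .nil)) .nil))) .nil)))) .nil))))))) .nil)) (.iso 2236939 [(22, 21)] (.iso 2236939 [(18, 17)] (.iso 2236939 [(18, 17), (22, 21)] (.iso 2236939 [(14, 13)] (.iso 2236939 [(14, 13), (22,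 21)] (.iso 2236939 [(14, 13), (18, 17)] (.iso 2236939 [(14, 13), (18, 17), (22, 21)] .nil))))))))) (.iso 1118475 [(21, 20)] (.iso 1118475 [(22, 20)] (.iso 1118475 [(17, 16)] (.iso 1118475 [(17, 16), (21, 20)] (.iso 1118475 [(17, 16), (22, 20)] (.iso 1118475 [(18, 16)] (.iso 1118475 [(18, 16), (21, 20)] (.iso 1118475 [(18, 16), (22, 20)] (.iso 1118475 [(13, 12)] (.iso 1118475 [(13, 12), (21, 20)] (.iso 1118475 [(13, 12), (22, 20)] (.iso 1118475 [(13, 12), (17, 16)] (.iso 1118475 [(13, 12), (17, 16), (21, 20)] (.iso 1118475 [(13, 12), (17, 16), (22, 20)] (.iso 1118475 [(13, 12), (18, 16)] (.iso 1118475 [(13, 12), (18, 16), (21, 20)] (.iso 1118475 [(13, 12), (18, 16), (22, 20)] (.iso 1118475 [(14, 12)] (.iso 1118475 [(14, 12), (21, 20)] (.iso 1118475 [(14, 12), (22, 20)] (.iso 1118475 [(14, 12), (17, 16)] (.iso 1118475 [(14, 12), (17, 16), (21, 20)] (.iso 1118475 [(14, 12), (17, 16), (22, 20)] (.iso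 1118475 [(14, 12), (18, 16)] (.iso 1118475 [(14, 12), (18, 16), (21, 20)] (.iso 1118475 [(14, 12), (18, 16), (22, 20)] .nil)))))))))))))))))))))))))))) (.iso 559243 [(20, 19)] (.iso 559243 [(21, 19)] (.iso 559243 [(22, 19)] (.iso 559243 [(16, 15)] (.iso 559243 [(16, 15), (20, 19)] (.iso 559243 [(16, 15), (21, 19)] (.iso 559243 [(16, 15), (22, 19)] (.iso 559243 [(17, 15)] (.iso 559243 [(17, 15), (20, 19)] (.iso 559243 [(17, 15), (21, 19)] (.iso 559243 [(17, 15), (22, 19)] (.iso 559243 [(18, 15)] (.iso 559243 [(18, 15), (20, 19)] (.iso 559243 [(18, 15), (21, 19)] (.iso 559243 [(18, 15), (22, 19)] (.iso 559243 [(12, 11)] (.iso 559243 [(12, 11), (20, 19)] (.iso 559243 [(12, 11), (21, 19)] (.iso 559243 [(12, 11), (22, 19)] (.iso 559243 [(12, 11), (16, 15)] (.iso 559243 [(12, 11), (16, 15), (20, 19)] (.iso 559243 [(12, 11), (16, 15), (21, 19)] (.iso 559243 [(12, 11), (16, 15), (22, 19)] (.iso 559243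 [(12, 11), (17, 15)] (.iso 559243 [(12, 11), (17, 15), (20, 19)] (.iso 559243 [(12, 11), (17, 15), (21, 19)] (.iso 559243 [(12, 11), (17, 15), (22, 19)] (.iso 559243 [(12, 11), (18, 15)] phAc103)))))))))))))))))))))))))))))) .nil)) (.iso 491527 [(19, 18)] (.iso 491527 [(20, 18)] (.iso 491527 [(21, 18)] (.iso 491527 [(22, 18)] (.iso 491527 [(19, 17)] (.iso 491527 [(20, 17)] (.iso 491527 [(21, 17)] (.iso 491527 [(22, 17)] (.iso 491527 [(19, 17), (20, 18)] (.iso 491527 [(19, 17), (21, 18)] (.iso 491527 [(19, 17), (22, 18)] (.iso 491527 [(20, 17), (21, 18)] (.iso 491527 [(20, 17), (22, 18)] (.iso 491527 [(21, 17), (22, 18)] (.iso 491527 [(19, 16)] (.iso 491527 [(20, 16)] (.iso 491527 [(21, 16)] (.iso 491527 [(22, 16)] (.iso 491527 [(19, 16), (20, 18)] (.iso 491527 [(19, 16), (21, 18)] (.iso 491527 [(19, 16), (22, 18)] (.iso 491527 [(20, 16), (21, 18)] (.iso 491527 [(20, 16), (22, 18)] (.iso 491527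 [(21, 16), (22, 18)] (.iso 491527 [(19, 16), (20, 17)] (.iso 491527 [(19, 16), (21, 17)] (.iso 491527 [(19, 16), (22, 17)] (.iso 491527 [(20, 16), (21, 17)] (.iso 491527 [(20, 16), (22, 17)] (.iso 491527 [(21, 16), (22, 17)] (.iso 491527 [(19, 16), (20, 17), (21, 18)] (.iso 491527 [(19, 16), (20, 17), (22, 18)] phAc104)))))))))))))))))))))))))))))))))) (.iso 30727 [(15, 14)] (.iso 30727 [(16, 14)] (.iso 30727 [(17, 14)] (.iso 30727 [(18, 14)] (.iso 30727 [(19, 14)] (.iso 30727 [(20, 14)] (.iso 30727 [(21, 14)] (.iso 30727 [(22, 14)] (.iso 30727 [(15, 13)] (.iso 30727 [(16, 13)] (.iso 30727 [(17, 13)] (.iso 30727 [(18, 13)] (.iso 30727 [(19, 13)] (.iso 30727 [(20, 13)] (.iso 30727 [(21, 13)] (.iso 30727 [(22, 13)] (.iso 30727 [(15, 13), (16, 14)] (.iso 30727 [(15, 13), (17, 14)] (.iso 30727 [(15, 13), (18, 14)] (.iso 30727 [(15, 13), (19, 14)] (.iso 30727 [(15, 13), (20, 14)] (.iso 30727 [(15,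 13), (21, 14)] (.iso 30727 [(15, 13), (22, 14)] (.iso 30727 [(16, 13), (17, 14)] (.iso 30727 [(16, 13), (18, 14)] (.iso 30727 [(16, 13), (19, 14)] (.iso 30727 [(16, 13), (20, 14)] (.iso 30727 [(16, 13), (21, 14)] (.iso 30727 [(16, 13), (22, 14)] (.iso 30727 [(17, 13), (18, 14)] (.iso 30727 [(17, 13), (19, 14)] (.iso 30727 [(17, 13), (20, 14)] (.iso 30727 [(17, 13), (21, 14)] (.iso 30727 [(17, 13), (22, 14)] phAc108)))))))))))))))))))))))))))))))))))) (.iso 1927 [(11, 10)] (.iso 1927 [(12, 10)] (.iso 1927 [(13, 10)] (.iso 1927 [(14, 10)] (.iso 1927 [(15, 10)] (.iso 1927 [(16, 10)] (.iso 1927 [(17, 10)] (.iso 1927 [(18, 10)] (.iso 1927 [(19, 10)] (.iso 1927 [(20, 10)] (.iso 1927 [(21, 10)] (.iso 1927 [(22, 10)] (.iso 1927 [(11, 9)] (.iso 1927 [(12, 9)] (.iso 1927 [(13, 9)] (.iso 1927 [(14, 9)] (.iso 1927 [(15, 9)] (.iso 1927 [(16, 9)] (.iso 1927 [(17, 9)] (.iso 1927 [(18, 9)] (.iso 1927 [(19, 9)]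 (.iso 1927 [(20, 9)] (.iso 1927 [(21, 9)] (.iso 1927 [(22, 9)] (.iso 1927 [(11, 9), (12, 10)] (.iso 1927 [(11, 9), (13, 10)] (.iso 1927 [(11, 9), (14, 10)] (.iso 1927 [(11, 9), (15, 10)] (.iso 1927 [(11, 9), (16, 10)] (.iso 1927 [(11, 9), (17, 10)] (.iso 1927 [(11, 9), (18, 10)] (.iso 1927 [(11, 9), (19, 10)] (.iso 1927 [(11, 9), (20, 10)] (.iso 1927 [(11, 9), (21, 10)] (.iso 1927 [(11, 9), (22, 10)] (.iso 1927 [(12, 9), (13, 10)] phAc119)))))))))))))))))))))))))))))))))))))) (.iso 127 [(7, 6)] (.iso 127 [(8, 6)] (.iso 127 [(9, 6)] (.iso 127 [(10, 6)] (.iso 127 [(11, 6)] (.iso 127 [(12, 6)] (.iso 127 [(13, 6)] (.iso 127 [(14, 6)] (.iso 127 [(15, 6)] (.iso 127 [(16, 6)] (.iso 127 [(17, 6)] (.iso 127 [(18, 6)] (.iso 127 [(19, 6)] (.iso 127 [(20, 6)] (.iso 127 [(21, 6)] (.iso 127 [(22, 6)] (.iso 127 [(7, 5)] (.iso 127 [(8, 5)] (.iso 127 [(9, 5)] (.iso 127 [(10, 5)] (.iso 127 [(11, 5)] (.iso 127 [(12,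 5)] (.iso 127 [(13, 5)] (.iso 127 [(14, 5)] (.iso 127 [(15, 5)] (.iso 127 [(16, 5)] (.iso 127 [(17, 5)] (.iso 127 [(18, 5)] (.iso 127 [(19, 5)] (.iso 127 [(20, 5)] (.iso 127 [(21, 5)] (.iso 127 [(22, 5)] (.iso 127 [(7, 5), (8, 6)] (.iso 127 [(7, 5), (9, 6)] (.iso 127 [(7, 5), (10, 6)] (.iso 127 [(7, 5), (11, 6)] (.iso 127 [(7, 5), (12, 6)] (.iso 127 [(7, 5), (13, 6)] phAc143))))))))))))))))))))))))))))))))))))))))

theorem phA (S0 : Set (Finset (Fin 23))) (h : P 23 4 7 S0 G1) : P 23 4 7 S0 [] :=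
  sound (r := 3) (by norm_num) rfl h phAcert true [] [] [] (by decide +kernel)

end Cfsg.Agent.Lib.Helper3.Stq.D23
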