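import Cfsg.Agent.Lib.Helper3.StD23data

set_option autoImplicit false
set_option maxRecDepth 100000

namespace Cfsg.Agent.Lib.Helper3.Stq.D23

open Cfsg Cfsg.Agent.Lib.Helper3.Stq

def phBc1 : Cert := (.node 960 (.sub (.node 1472 (.sub (.node 1728 (.sub (.node 35008 (.sub (.node 264384 (.sub (.node 12480 (.sub (.node 1856 (.sub (.node 10560 (.sub (.node 37184 (.sub (.node 135488 (.sub (.node 6720 (.sub (.node 41536 (.sub (.node 74304 (.sub (.node 7232 (.sub (.node 50240 (.sub (.node 83008 (.sub (.goto []) .nil)) .nil)) .nil)) .nil)) .nil)) .nil)) .nil)) .nil)) .nil)) .nil)) .nil)) .nil)) .nil)) .nil)) .nil)) .nil))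
def phBc2 : Cert := (.node 12816 (.sub (.node 11280 (.sub (.node 37904 (.sub (.node 267280 (.sub (.node 928 (.sub (.node 1440 (.sub (.node 1696 (.sub (.node 10400 (.sub (.node 37024 (.sub (.node 69792 (.sub (.node 1824 (.sub (.node 35104 (.sub (.node 67872 (.sub (.node 12576 (.sub (.node 6688 (.sub (.node 49696 (.sub (.node 279072 (.sub (.node 7200 (.sub (.node 42016 (.sub (.node 140320 (.sub phBc1 .nil)) .nil)) .nil)) .nil)) .nil)) .nil)) .nil)) .nil)) .nil)) .nil)) .nil)) .nil)) .nil)) .nil)) .nil)) .nil)) .nil)) .nil)) .nil)) .nil))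
def phBc3 : Cert := (.node 70152 (.sub (.node 35848 (.sub (.node 68616 (.sub (.node 13320 (.sub (.node 240 (.sub (.node 368 (.sub (.node 624 (.sub (.node 1136 (.sub (.node 912 (.sub (.node 1424 (.sub (.node 1680 (.sub (.node 6288 (.sub (.node 41104 (.sub (.node 73872 (.sub (.node 1808 (.sub (.node 6416 (.sub (.node 49424 (.sub (.node 82192 (.sub (.node 35344 (.sub (.node 133648 (.sub phBc2 .nil)) .nil)) .nil)) .nil)) .nil)) .nil)) .nil)) .nil)) .nil)) .nil)) .nil)) .nil)) .nil)) .nil)) .nil)) .nil)) .nil)) .nil)) .nil)) .nil))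
def phBc4 : Cert := (.node 216 (.sub (.node 344 (.sub (.node 600 (.sub (.node 1112 (.sub (.node 232 (.sub (.node 360 (.sub (.node 616 (.sub (.node 1128 (.sub (.node 904 (.sub (.node 1416 (.sub (.node 1672 (.sub (.node 6280 (.sub (.node 49288 (.sub (.node 147592 (.sub (.node 1800 (.sub (.node 6408 (.sub (.node 41224 (.sub (.node 270600 (.sub (.node 10760 (.sub (.node 37384 (.sub phBc3 .nil)) .nil)) .nil)) .nil)) .nil)) .nil)) .nil)) .nil)) .nil)) .nil)) .nil)) .nil)) .nil)) .nil)) .nil)) .nil)) .nil)) .nil)) .nil)) .nil))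
def phBc5 : Cert := (.node 2436 (.sub (.node 4484 (.sub (.node 2692 (.sub (.node 8836 (.sub (.node 33924 (.sub (.node 132228 (.sub (.node 33540 (.sub (.node 131844 (.sub (.node 3332 (.sub (.node 9476 (.sub (.node 3588 (.sub (.node 5636 (.sub (.node 51204 (.sub (.node 83972 (.sub (.node 45060 (.sub (.node 77828 (.sub (.node 184 (.sub (.node 312 (.sub (.node 568 (.sub (.node 1080 (.sub phBc4 .nil)) .nil)) .nil)) .nil)) .nil)) .nil)) .nil)) .nil)) .nil)) .nil)) .nil)) .nil)) .nil)) .nil)) .nil)) .nil)) .nil)) .nil)) .nil)) .nil))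
def phBc6 : Cert := (.node 172 (.sub (.node 556 (.sub (.node 2092 (.sub (.node 8236 (.sub (.node 204 (.sub (.node 332 (.sub (.node 32844 (.sub (.node 65612 (.sub (.node 180 (.sub (.node 308 (.sub (.node 32820 (.sub (.node 65588 (.sub (.node 212 (.sub (.node 596 (.sub (.node 2132 (.sub (.node 8276 (.sub (.node 228 (.sub (.node 356 (.sub (.node 2148 (.sub (.node 4196 (.sub phBc5 .nil)) .nil)) .nil)) .nil)) .nil)) .nil)) .nil)) .nil)) .nil)) .nil)) .nil)) .nil)) .nil)) .nil)) .nil)) .nil)) .nil)) .nil)) .nil)) .nil))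
def phBc7 : Cert := (.node 2434 (.sub (.node 4482 (.sub (.node 33410 (.sub (.node 66178 (.sub (.node 3202 (.sub (.node 9346 (.sub (.node 2818 (.sub (.node 8962 (.sub (.node 34050 (.sub (.node 66818 (.sub (.node 3586 (.sub (.node 5634 (.sub (.node 43010 (.sub (.node 141314 (.sub (.node 53250 (.sub (.node 151554 (.sub (.node 156 (.sub (.node 284 (.sub (.node 2076 (.sub (.node 4124 (.sub phBc6 .nil)) .nil)) .nil)) .nil)) .nil)) .nil)) .nil)) .nil)) .nil)) .nil)) .nil)) .nil)) .nil)) .nil)) .nil)) .nil)) .nil)) .nil)) .nil)) .nil))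
def phBc8 : Cert := (.node 170 (.sub (.node 298 (.sub (.node 32810 (.sub (.node 65578 (.sub (.node 202 (.sub (.node 586 (.sub (.node 2122 (.sub (.node 8266 (.sub (.node 178 (.sub (.node 562 (.sub (.node 2098 (.sub (.node 8242 (.sub (.node 210 (.sub (.node 338 (.sub (.node 32850 (.sub (.node 65618 (.sub (.node 226 (.sub (.node 354 (.sub (.node 2146 (.sub (.node 4194 (.sub phBc7 .nil)) .nil)) .nil)) .nil)) .nil)) .nil)) .nil)) .nil)) .nil)) .nil)) .nil)) .nil)) .nil)) .nil)) .nil)) .nil)) .nil)) .nil)) .nil)) .nil))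
def phBc9 : Cert := (.sub (.node 960 (.sub (.node 1472 (.sub (.node 1728 (.sub (.node 10432 (.sub (.node 37056 (.sub (.node 69824 (.sub (.node 1856 (.sub (.node 35136 (.sub (.node 67904 (.sub (.node 12608 (.sub (.node 6720 (.sub (.node 49728 (.sub (.node 148032 (.sub (.node 7232 (.sub (.node 42048 (.sub (.node 271424 (.sub (.goto [(5, 6), (9, 10), (13, 14), (15, 19), (16, 20), (17, 22), (18, 21)]) .nil)) .nil)) .nil)) .nil)) .nil)) .nil)) .nil)) .nil)) .nil)) .nil)) .nil)) .nil)) .nil)) .nil)) .nil)) .nil)) .nil)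
def phBc10 : Cert := (.sub (.node 70160 (.sub (.node 35856 (.sub (.node 68624 (.sub (.node 13328 (.sub (.node 928 (.sub (.node 1440 (.sub (.node 1696 (.sub (.node 34976 (.sub (.node 133280 (.sub (.node 12448 (.sub (.node 1824 (.sub (.node 10528 (.sub (.node 37152 (.sub (.node 266528 (.sub (.node 6688 (.sub (.node 41504 (.sub (.node 74272 (.sub (.node 7200 (.sub (.node 50208 (.sub (.node 82976 phBc9) .nil)) .nil)) .nil)) .nil)) .nil)) .nil)) .nil)) .nil)) .nil)) .nil)) .nil)) .nil)) .nil)) .nil)) .nil)) .nil)) .nil)) .nil)) .nil)) .nil)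
def phBc11 : Cert := (.sub (.node 12808 (.sub (.node 11272 (.sub (.node 37896 (.sub (.node 136200 (.sub (.node 240 (.sub (.node 368 (.sub (.node 624 (.sub (.node 1136 (.sub (.node 912 (.sub (.node 1424 (.sub (.node 1680 (.sub (.node 6288 (.sub (.node 49296 (.sub (.node 278672 (.sub (.node 1808 (.sub (.node 6416 (.sub (.node 41232 (.sub (.node 139536 (.sub (.node 10768 (.sub (.node 37392 phBc10) .nil)) .nil)) .nil)) .nil)) .nil)) .nil)) .nil)) .nil)) .nil)) .nil)) .nil)) .nil)) .nil)) .nil)) .nil)) .nil)) .nil)) .nil)) .nil)) .nil)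
def phBc12 : Cert := (.sub (.node 216 (.sub (.node 344 (.sub (.node 600 (.sub (.node 1112 (.sub (.node 232 (.sub (.node 360 (.sub (.node 616 (.sub (.node 1128 (.sub (.node 904 (.sub (.node 1416 (.sub (.node 1672 (.sub (.node 6280 (.sub (.node 41096 (.sub (.node 73864 (.sub (.node 1800 (.sub (.node 6408 (.sub (.node 49416 (.sub (.node 82184 (.sub (.node 35336 (.sub (.node 264712 phBc11) .nil)) .nil)) .nil)) .nil)) .nil)) .nil)) .nil)) .nil)) .nil)) .nil)) .nil)) .nil)) .nil)) .nil)) .nil)) .nil)) .nil)) .nil)) .nil)) .nil)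
def phBc13 : Cert := (.sub (.node 2436 (.sub (.node 4484 (.sub (.node 33412 (.sub (.node 66180 (.sub (.node 3204 (.sub (.node 9348 (.sub (.node 2820 (.sub (.node 8964 (.sub (.node 34052 (.sub (.node 66820 (.sub (.node 3588 (.sub (.node 5636 (.sub (.node 43012 (.sub (.node 141316 (.sub (.node 53252 (.sub (.node 151556 (.sub (.node 184 (.sub (.node 312 (.sub (.node 568 (.sub (.node 1080 phBc12) .nil)) .nil)) .nil)) .nil)) .nil)) .nil)) .nil)) .nil)) .nil)) .nil)) .nil)) .nil)) .nil)) .nil)) .nil)) .nil)) .nil)) .nil)) .nil)) .nil)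
def phBc14 : Cert := (.sub (.node 172 (.sub (.node 300 (.sub (.node 32812 (.sub (.node 65580 (.sub (.node 204 (.sub (.node 588 (.sub (.node 2124 (.sub (.node 8268 (.sub (.node 180 (.sub (.node 564 (.sub (.node 2100 (.sub (.node 8244 (.sub (.node 212 (.sub (.node 340 (.sub (.node 32852 (.sub (.node 65620 (.sub (.node 228 (.sub (.node 356 (.sub (.node 2148 (.sub (.node 4196 phBc13) .nil)) .nil)) .nil)) .nil)) .nil)) .nil)) .nil)) .nil)) .nil)) .nil)) .nil)) .nil)) .nil)) .nil)) .nil)) .nil)) .nil)) .nil)) .nil)) .nil)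
def phBc15 : Cert := (.sub (.node 2434 (.sub (.node 4482 (.sub (.node 2690 (.sub (.node 8834 (.sub (.node 33922 (.sub (.node 132226 (.sub (.node 33538 (.sub (.node 131842 (.sub (.node 3330 (.sub (.node 9474 (.sub (.node 3586 (.sub (.node 5634 (.sub (.node 51202 (.sub (.node 83970 (.sub (.node 45058 (.sub (.node 77826 (.sub (.node 156 (.sub (.node 284 (.sub (.node 2076 (.sub (.node 4124 phBc14) .nil)) .nil)) .nil)) .nil)) .nil)) .nil)) .nil)) .nil)) .nil)) .nil)) .nil)) .nil)) .nil)) .nil)) .nil)) .nil)) .nil)) .nil)) .nil)) .nil)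
def phBc16 : Cert := (.sub (.node 170 (.sub (.node 554 (.sub (.node 2090 (.sub (.node 8234 (.sub (.node 202 (.sub (.node 330 (.sub (.node 32842 (.sub (.node 65610 (.sub (.node 178 (.sub (.node 306 (.sub (.node 32818 (.sub (.node 65586 (.sub (.node 210 (.sub (.node 594 (.sub (.node 2130 (.sub (.node 8274 (.sub (.node 226 (.sub (.node 354 (.sub (.node 2146 (.sub (.node 4194 phBc15) .nil)) .nil)) .nil)) .nil)) .nil)) .nil)) .nil)) .nil)) .nil)) .nil)) .nil)) .nil)) .nil)) .nil)) .nil)) .nil)) .nil)) .nil)) .nil)) .nil)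
def phBcert : Cert := (.node 142 (.sub (.node 270 (.sub (.node 526 (.sub (.node 1038 (.sub (.node 150 (.sub (.node 278 (.sub (.node 534 (.sub (.node 1046 (.sub (.node 166 (.sub (.node 294 (.sub (.node 550 (.sub (.node 1062 (.sub (.node 198 (.sub (.node 326 (.sub (.node 582 (.sub (.node 1094 (.sub (.node 154 (.sub (.node 282 (.sub (.node 2074 (.sub (.node 4122 (.sub phBc8 .nil)) .nil)) .nil)) .nil)) .nil)) .nil)) .nil)) .nil)) .nil)) .nil)) .nil)) .nil)) .nil)) .nil)) .nil)) .nil)) .nil)) .nil)) .nil)) (.sub (.node 270 (.sub (.node 526 (.sub (.node 1038 (.sub (.node 150 (.sub (.node 278 (.sub (.node 534 (.sub (.node 1046 (.sub (.node 166 (.sub (.node 294 (.sub (.node 550 (.sub (.node 1062 (.sub (.node 198 (.sub (.node 326 (.sub (.node 582 (.sub (.node 1094 (.sub (.node 154 (.sub (.node 282 (.sub (.node 2074 (.sub (.node 4122 phBc16) .nil)) .nil)) .nil)) .nil)) .nil)) .nil)) .nil)) .nil)) .nil)) .nil)) .nil)) .nil)) .nil)) .nil)) .nil)) .nil)) .nil))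 .nil)) .nil)))

theorem phB (S0 : Set (Finset (Fin 23))) (h : P 23 4 7 S0 B0) : P 23 4 7 S0 G1 :=
  sound (r := 3) (by norm_num) rfl h phBcert true G1 [] [] (by decide +kernel)

end Cfsg.Agent.Lib.Helper3.Stq.D23
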