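import Cfsg.Agent.Lib.Helper3.StD24data

set_option autoImplicit false
set_option maxRecDepth 100000

namespace Cfsg.Agent.Lib.Helper3.Stq.D24

open Cfsg Cfsg.Agent.Lib.Helper3.Stq

def phAc1 : Cert := (.node 262339 (.sub (.node 66307 (.sub (.node 131843 (.sub (.node 5379 (.sub (.node 9475 (.sub (.node 6403 (.sub (.node 10499 (.sub (.node 5635 (.sub (.node 9731 (.sub (.node 6659 (.sub (.node 10755 (.sub (.node 68611 (.sub (.node 134147 (.sub (.node 77827 (.sub (.node 143363 (.sub (.node 114691 (.sub (.node 180227 (.sub (.goto []) .nil)) .nil)) .nil)) .nil)) .nil)) .nil)) .nil)) .nil)) .nil)) .nil)) .nil)) .nil)) .nil)) .nil)) .nil)) .nil)) .nil))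
def phAc2 : Cert := (.node 262195 (.sub (.node 339 (.sub (.node 595 (.sub (.node 4179 (.sub (.node 8275 (.sub (.node 403 (.sub (.node 659 (.sub (.node 4243 (.sub (.node 8339 (.sub (.node 355 (.sub (.node 611 (.sub (.node 4195 (.sub (.node 8291 (.sub (.node 419 (.sub (.node 675 (.sub (.node 4259 (.sub (.node 8355 (.sub (.node 451 (.sub (.node 1219 (.sub (.node 65731 (.sub phAc1 .nil)) .nil)) .nil)) .nil)) .nil)) .nil)) .nil)) .nil)) .nil)) .nil)) .nil)) .nil)) .nil)) .nil)) .nil)) .nil)) .nil)) .nil)) .nil)) .nil))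
def phAc3 : Cert := (.sub (.node 8387 (.sub (.node 4867 (.sub (.node 8963 (.sub (.node 66819 (.sub (.node 132355 (.sub (.node 6403 (.sub (.node 18691 (.sub (.node 5635 (.sub (.node 17923 (.sub (.node 68099 (.sub (.node 133635 (.sub (.node 7171 (.sub (.node 11267 (.sub (.node 86019 (.sub (.node 282627 (.sub (.node 106499 (.sub (.node 303107 (.sub (.goto [(9, 10), (9, 11), (12, 16), (13, 18), (14, 19), (15, 17), (12, 20), (15, 22), (13, 23), (14, 21)]) .nil)) .nil)) .nil)) .nil)) .nil)) .nil)) .nil)) .nil)) .nil)) .nil)) .nil)) .nil)) .nil)) .nil)) .nil)) .nil)) .nil)) .nil)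
def phAc4 : Cert := (.sub (.node 8243 (.sub (.node 339 (.sub (.node 595 (.sub (.node 65619 (.sub (.node 131155 (.sub (.node 403 (.sub (.node 1171 (.sub (.node 4243 (.sub (.node 16531 (.sub (.node 355 (.sub (.node 1123 (.sub (.node 4195 (.sub (.node 16483 (.sub (.node 419 (.sub (.node 675 (.sub (.node 65699 (.sub (.node 131235 (.sub (.node 451 (.sub (.node 707 (.sub (.node 4291 phAc3) .nil)) .nil)) .nil)) .nil)) .nil)) .nil)) .nil)) .nil)) .nil)) .nil)) .nil)) .nil)) .nil)) .nil)) .nil)) .nil)) .nil)) .nil)) .nil)) .nil)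
def phAc5 : Cert := (.node 4291 (.sub (.node 8387 (.sub (.node 4867 (.sub (.node 8963 (.sub (.node 5379 (.sub (.node 17667 (.sub (.node 67843 (.sub (.node 264451 (.sub (.node 67075 (.sub (.node 263683 (.sub (.node 6659 (.sub (.node 18947 (.sub (.node 7171 (.sub (.node 11267 (.sub (.node 102403 (.sub (.node 167939 (.sub (.node 90115 (.sub (.node 155651 (.sub (.goto [(9, 11), (10, 9), (12, 20), (13, 23), (14, 21), (15, 22), (16, 12), (17, 15), (18, 13), (19, 14)]) .nil)) .nil)) .nil)) .nil)) .nil)) .nil)) .nil)) .nil)) .nil)) .nil)) .nil)) .nil)) .nil)) .nil)) .nil)) .nil)) .nil)) .nil))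
def phAc6 : Cert := (.node 4147 (.sub (.node 8243 (.sub (.node 339 (.sub (.node 1107 (.sub (.node 4179 (.sub (.node 16467 (.sub (.node 403 (.sub (.node 659 (.sub (.node 65683 (.sub (.node 131219 (.sub (.node 355 (.sub (.node 611 (.sub (.node 65635 (.sub (.node 131171 (.sub (.node 419 (.sub (.node 1187 (.sub (.node 4259 (.sub (.node 16547 (.sub (.node 451 (.sub (.node 707 (.sub phAc5 .nil)) .nil)) .nil)) .nil)) .nil)) .nil)) .nil)) .nil)) .nil)) .nil)) .nil)) .nil)) .nil)) .nil)) .nil)) .nil)) .nil)) .nil)) .nil)) .nil))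
def phAc7 : Cert := (.node 2183 (.sub (.node 283 (.sub (.node 539 (.sub (.node 1051 (.sub (.node 2075 (.sub (.node 299 (.sub (.node 555 (.sub (.node 1067 (.sub (.node 2091 (.sub (.node 331 (.sub (.node 587 (.sub (.node 1099 (.sub (.node 2123 (.sub (.node 395 (.sub (.node 651 (.sub (.node 1163 (.sub (.node 2187 (.sub (.node 307 (.sub (.node 1075 (.sub (.node 65587 (.sub phAc2 .nil)) .nil)) .nil)) .nil)) .nil)) .nil)) .nil)) .nil)) .nil)) .nil)) .nil)) .nil)) .nil)) .nil)) .nil)) .nil)) .nil)) .nil)) (.sub (.node 539 (.sub (.node 1051 (.sub (.node 2075 (.sub (.node 299 (.sub (.node 555 (.sub (.node 1067 (.sub (.node 2091 (.sub (.node 331 (.sub (.node 587 (.sub (.node 1099 (.sub (.node 2123 (.sub (.node 395 (.sub (.node 651 (.sub (.node 1163 (.sub (.node 2187 (.sub (.node 307 (.sub (.node 563 (.sub (.node 4147 phAc4) .nil)) .nil)) .nil)) .nil)) .nil)) .nil)) .nil)) .nil)) .nil)) .nil)) .nil)) .nil)) .nil))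 .nil)) .nil)) .nil)) .nil)) (.sub (.node 539 (.sub (.node 1051 (.sub (.node 2075 (.sub (.node 299 (.sub (.node 555 (.sub (.node 1067 (.sub (.node 2091 (.sub (.node 331 (.sub (.node 587 (.sub (.node 1099 (.sub (.node 2123 (.sub (.node 395 (.sub (.node 651 (.sub (.node 1163 (.sub (.node 2187 (.sub (.node 307 (.sub (.node 563 (.sub phAc6 .nil)) .nil)) .nil)) .nil)) .nil)) .nil)) .nil)) .nil)) .nil)) .nil)) .nil)) .nil)) .nil)) .nil)) .nil)) .nil)) .nil)) .nil)))) .nil))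
def phAc8 : Cert := (.sub (.node 262339 (.sub (.node 66307 (.sub (.node 131843 (.sub (.node 5379 (.sub (.node 9475 (.sub (.node 6403 (.sub (.node 10499 (.sub (.node 5635 (.sub (.node 9731 (.sub (.node 6659 (.sub (.node 10755 (.sub (.node 68611 (.sub (.node 134147 (.sub (.node 77827 (.sub (.node 143363 (.sub (.node 114691 (.sub (.node 180227 (.sub (.goto [(10, 11), (14, 15), (16, 20), (17, 21), (18, 23), (19, 22)]) .nil)) .nil)) .nil)) .nil)) .nil)) .nil)) .nil)) .nil)) .nil)) .nil)) .nil)) .nil)) .nil)) .nil)) .nil)) .nil)) .nil)) .nil)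
def phAc9 : Cert := (.sub (.node 262195 (.sub (.node 339 (.sub (.node 595 (.sub (.node 4179 (.sub (.node 8275 (.sub (.node 403 (.sub (.node 659 (.sub (.node 4243 (.sub (.node 8339 (.sub (.node 355 (.sub (.node 611 (.sub (.node 4195 (.sub (.node 8291 (.sub (.node 419 (.sub (.node 675 (.sub (.node 4259 (.sub (.node 8355 (.sub (.node 451 (.sub (.node 1219 (.sub (.node 65731 phAc8) .nil)) .nil)) .nil)) .nil)) .nil)) .nil)) .nil)) .nil)) .nil)) .nil)) .nil)) .nil)) .nil)) .nil)) .nil)) .nil)) .nil)) .nil)) .nil)) .nil)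
def phAc10 : Cert := (.node 4291 (.sub (.node 8387 (.sub (.node 4867 (.sub (.node 8963 (.sub (.node 66819 (.sub (.node 132355 (.sub (.node 6403 (.sub (.node 18691 (.sub (.node 5635 (.sub (.node 17923 (.sub (.node 68099 (.sub (.node 133635 (.sub (.node 7171 (.sub (.node 11267 (.sub (.node 86019 (.sub (.node 282627 (.sub (.node 106499 (.sub (.node 303107 (.sub (.goto [(9, 11), (12, 20), (13, 23), (14, 22), (15, 21), (17, 19)]) .nil)) .nil)) .nil)) .nil)) .nil)) .nil)) .nil)) .nil)) .nil)) .nil)) .nil)) .nil)) .nil)) .nil)) .nil)) .nil)) .nil)) .nil))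
def phAc11 : Cert := (.node 4147 (.sub (.node 8243 (.sub (.node 339 (.sub (.node 1107 (.sub (.node 4179 (.sub (.node 16467 (.sub (.node 403 (.sub (.node 659 (.sub (.node 65683 (.sub (.node 131219 (.sub (.node 355 (.sub (.node 611 (.sub (.node 65635 (.sub (.node 131171 (.sub (.node 419 (.sub (.node 1187 (.sub (.node 4259 (.sub (.node 16547 (.sub (.node 451 (.sub (.node 707 (.sub phAc10 .nil)) .nil)) .nil)) .nil)) .nil)) .nil)) .nil)) .nil)) .nil)) .nil)) .nil)) .nil)) .nil)) .nil)) .nil)) .nil)) .nil)) .nil)) .nil)) .nil))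
def phAc12 : Cert := (.sub (.node 4291 (.sub (.node 8387 (.sub (.node 4867 (.sub (.node 8963 (.sub (.node 5379 (.sub (.node 17667 (.sub (.node 67843 (.sub (.node 264451 (.sub (.node 67075 (.sub (.node 263683 (.sub (.node 6659 (.sub (.node 18947 (.sub (.node 7171 (.sub (.node 11267 (.sub (.node 102403 (.sub (.node 167939 (.sub (.node 90115 (.sub (.node 155651 (.sub (.goto [(9, 10), (12, 16), (13, 18), (14, 17), (15, 19), (21, 22)]) .nil)) .nil)) .nil)) .nil)) .nil)) .nil)) .nil)) .nil)) .nil)) .nil)) .nil)) .nil)) .nil)) .nil)) .nil)) .nil)) .nil)) .nil)) .nil)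
def phAc13 : Cert := (.sub (.node 4147 (.sub (.node 8243 (.sub (.node 339 (.sub (.node 595 (.sub (.node 65619 (.sub (.node 131155 (.sub (.node 403 (.sub (.node 1171 (.sub (.node 4243 (.sub (.node 16531 (.sub (.node 355 (.sub (.node 1123 (.sub (.node 4195 (.sub (.node 16483 (.sub (.node 419 (.sub (.node 675 (.sub (.node 65699 (.sub (.node 131235 (.sub (.node 451 (.sub (.node 707 phAc12) .nil)) .nil)) .nil)) .nil)) .nil)) .nil)) .nil)) .nil)) .nil)) .nil)) .nil)) .nil)) .nil)) .nil)) .nil)) .nil)) .nil)) .nil)) .nil)) .nil)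
def phAc14 : Cert := (.sub (.node 2183 (.sub (.node 283 (.sub (.node 539 (.sub (.node 1051 (.sub (.node 2075 (.sub (.node 299 (.sub (.node 555 (.sub (.node 1067 (.sub (.node 2091 (.sub (.node 331 (.sub (.node 587 (.sub (.node 1099 (.sub (.node 2123 (.sub (.node 395 (.sub (.node 651 (.sub (.node 1163 (.sub (.node 2187 (.sub (.node 307 (.sub (.node 1075 (.sub (.node 65587 phAc9) .nil)) .nil)) .nil)) .nil)) .nil)) .nil)) .nil)) .nil)) .nil)) .nil)) .nil)) .nil)) .nil)) .nil)) .nil)) .nil)) .nil)) (.sub (.node 539 (.sub (.node 1051 (.sub (.node 2075 (.sub (.node 299 (.sub (.node 555 (.sub (.node 1067 (.sub (.node 2091 (.sub (.node 331 (.sub (.node 587 (.sub (.node 1099 (.sub (.node 2123 (.sub (.node 395 (.sub (.node 651 (.sub (.node 1163 (.sub (.node 2187 (.sub (.node 307 (.sub (.node 563 (.sub phAc11 .nil)) .nil)) .nil)) .nil)) .nil)) .nil)) .nil)) .nil)) .nil)) .nil)) .nil)) .nil)) .nil)) .nil)) .nil))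 .nil)) .nil)) (.sub (.node 539 (.sub (.node 1051 (.sub (.node 2075 (.sub (.node 299 (.sub (.node 555 (.sub (.node 1067 (.sub (.node 2091 (.sub (.node 331 (.sub (.node 587 (.sub (.node 1099 (.sub (.node 2123 (.sub (.node 395 (.sub (.node 651 (.sub (.node 1163 (.sub (.node 2187 (.sub (.node 307 (.sub (.node 563 phAc13) .nil)) .nil)) .nil)) .nil)) .nil)) .nil)) .nil)) .nil)) .nil)) .nil)) .nil)) .nil)) .nil)) .nil)) .nil)) .nil)) .nil)))) .nil)) .nil)
def phAc15 : Cert := (.node 65731 (.sub (.node 262339 (.sub (.node 66307 (.sub (.node 131843 (.sub (.node 5379 (.sub (.node 9475 (.sub (.node 6403 (.sub (.node 10499 (.sub (.node 5635 (.sub (.node 9731 (.sub (.node 6659 (.sub (.node 10755 (.sub (.node 68611 (.sub (.node 134147 (.sub (.node 77827 (.sub (.node 143363 (.sub (.node 114691 (.sub (.node 180227 (.sub (.goto [(16, 20), (17, 21), (18, 22), (19, 23)]) .nil)) .nil)) .nil)) .nil)) .nil)) .nil)) .nil))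 .nil)) .nil)) .nil)) .nil)) .nil)) .nil)) .nil)) .nil)) .nil)) .nil)) .nil))
def phAc16 : Cert := (.node 65587 (.sub (.node 262195 (.sub (.node 339 (.sub (.node 595 (.sub (.node 4179 (.sub (.node 8275 (.sub (.node 403 (.sub (.node 659 (.sub (.node 4243 (.sub (.node 8339 (.sub (.node 355 (.sub (.node 611 (.sub (.node 4195 (.sub (.node 8291 (.sub (.node 419 (.sub (.node 675 (.sub (.node 4259 (.sub (.node 8355 (.sub (.node 451 (.sub (.node 1219 (.sub phAc15 .nil)) .nil)) .nil)) .nil)) .nil)) .nil)) .nil)) .nil)) .nil)) .nil)) .nil)) .nil)) .nil)) .nil)) .nil)) .nil)) .nil)) .nil)) .nil)) .nil))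
def phAc17 : Cert := (.sub (.node 4291 (.sub (.node 8387 (.sub (.node 4867 (.sub (.node 8963 (.sub (.node 66819 (.sub (.node 263427 (.sub (.node 6403 (.sub (.node 18691 (.sub (.node 5635 (.sub (.node 17923 (.sub (.node 68099 (.sub (.node 264707 (.sub (.node 7171 (.sub (.node 11267 (.sub (.node 86019 (.sub (.node 151555 (.sub (.node 106499 (.sub (.node 172035 (.sub (.goto [(9, 10), (9, 11), (12, 16), (13, 18), (14, 19), (15, 17), (15, 14), (13, 15), (21, 22), (21, 23)]) .nil)) .nil)) .nil)) .nil)) .nil)) .nil)) .nil)) .nil)) .nil)) .nil)) .nil)) .nil)) .nil)) .nil)) .nil)) .nil)) .nil)) .nil)) .nil)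
def phAc18 : Cert := (.sub (.node 4147 (.sub (.node 8243 (.sub (.node 339 (.sub (.node 595 (.sub (.node 65619 (.sub (.node 131155 (.sub (.node 403 (.sub (.node 1171 (.sub (.node 4243 (.sub (.node 16531 (.sub (.node 355 (.sub (.node 1123 (.sub (.node 4195 (.sub (.node 16483 (.sub (.node 419 (.sub (.node 675 (.sub (.node 65699 (.sub (.node 131235 (.sub (.node 451 (.sub (.node 707 phAc17) .nil)) .nil)) .nil)) .nil)) .nil)) .nil)) .nil)) .nil)) .nil)) .nil)) .nil)) .nil)) .nil)) .nil)) .nil)) .nil)) .nil)) .nil)) .nil)) .nil)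
def phAc19 : Cert := (.node 707 (.sub (.node 4291 (.sub (.node 8387 (.sub (.node 4867 (.sub (.node 8963 (.sub (.node 5379 (.sub (.node 17667 (.sub (.node 67843 (.sub (.node 133379 (.sub (.node 67075 (.sub (.node 132611 (.sub (.node 6659 (.sub (.node 18947 (.sub (.node 7171 (.sub (.node 11267 (.sub (.node 102403 (.sub (.node 299011 (.sub (.node 90115 (.sub (.node 286723 (.sub (.goto [(9, 11), (10, 9), (12, 20), (13, 23), (14, 21), (15, 22), (17, 19), (18, 17), (14, 15), (14, 13)]) .nil)) .nil)) .nil)) .nil)) .nil)) .nil)) .nil)) .nil)) .nil)) .nil)) .nil)) .nil)) .nil)) .nil)) .nil)) .nil)) .nil)) .nil)) .nil))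
def phAc20 : Cert := (.node 563 (.sub (.node 4147 (.sub (.node 8243 (.sub (.node 339 (.sub (.node 1107 (.sub (.node 4179 (.sub (.node 16467 (.sub (.node 403 (.sub (.node 659 (.sub (.node 65683 (.sub (.node 131219 (.sub (.node 355 (.sub (.node 611 (.sub (.node 65635 (.sub (.node 131171 (.sub (.node 419 (.sub (.node 1187 (.sub (.node 4259 (.sub (.node 16547 (.sub (.node 451 (.sub phAc19 .nil)) .nil)) .nil)) .nil)) .nil)) .nil)) .nil)) .nil)) .nil)) .nil)) .nil)) .nil)) .nil)) .nil)) .nil)) .nil)) .nil)) .nil)) .nil)) .nil))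
def phAc21 : Cert := (.node 1159 (.sub (.node 2183 (.sub (.node 283 (.sub (.node 539 (.sub (.node 1051 (.sub (.node 2075 (.sub (.node 299 (.sub (.node 555 (.sub (.node 1067 (.sub (.node 2091 (.sub (.node 331 (.sub (.node 587 (.sub (.node 1099 (.sub (.node 2123 (.sub (.node 395 (.sub (.node 651 (.sub (.node 1163 (.sub (.node 2187 (.sub (.node 307 (.sub (.node 1075 (.sub phAc16 .nil)) .nil)) .nil)) .nil)) .nil)) .nil)) .nil)) .nil)) .nil)) .nil)) .nil)) .nil)) .nil)) .nil)) .nil)) .nil)) .nil)) (.sub (.node 539 (.sub (.node 1051 (.sub (.node 2075 (.sub (.node 299 (.sub (.node 555 (.sub (.node 1067 (.sub (.node 2091 (.sub (.node 331 (.sub (.node 587 (.sub (.node 1099 (.sub (.node 2123 (.sub (.node 395 (.sub (.node 651 (.sub (.node 1163 (.sub (.node 2187 (.sub (.node 307 (.sub (.node 563 phAc18) .nil)) .nil)) .nil)) .nil)) .nil)) .nil)) .nil)) .nil)) .nil)) .nil)) .nil)) .nil)) .nil)) .nil)) .nil)) .nil))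 (.sub (.node 539 (.sub (.node 1051 (.sub (.node 2075 (.sub (.node 299 (.sub (.node 555 (.sub (.node 1067 (.sub (.node 2091 (.sub (.node 331 (.sub (.node 587 (.sub (.node 1099 (.sub (.node 2123 (.sub (.node 395 (.sub (.node 651 (.sub (.node 1163 (.sub (.node 2187 (.sub (.node 307 (.sub phAc20 .nil)) .nil)) .nil)) .nil)) .nil)) .nil)) .nil)) .nil)) .nil)) .nil)) .nil)) .nil)) .nil)) .nil)) .nil)) .nil)) .nil)))) .nil)) .nil))
def phAc22 : Cert := (.sub (.node 65731 (.sub (.node 262339 (.sub (.node 66307 (.sub (.node 131843 (.sub (.node 5379 (.sub (.node 9475 (.sub (.node 6403 (.sub (.node 10499 (.sub (.node 5635 (.sub (.node 9731 (.sub (.node 6659 (.sub (.node 10755 (.sub (.node 68611 (.sub (.node 134147 (.sub (.node 77827 (.sub (.node 143363 (.sub (.node 114691 (.sub (.node 180227 (.sub (.goto [(10, 11), (14, 15), (18, 19), (22, 23)]) .nil)) .nil)) .nil)) .nil)) .nil)) .nil)) .nil)) .nil)) .nil)) .nil))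 .nil)) .nil)) .nil)) .nil)) .nil)) .nil)) .nil)) .nil)) .nil)
def phAc23 : Cert := (.sub (.node 65587 (.sub (.node 262195 (.sub (.node 339 (.sub (.node 595 (.sub (.node 4179 (.sub (.node 8275 (.sub (.node 403 (.sub (.node 659 (.sub (.node 4243 (.sub (.node 8339 (.sub (.node 355 (.sub (.node 611 (.sub (.node 4195 (.sub (.node 8291 (.sub (.node 419 (.sub (.node 675 (.sub (.node 4259 (.sub (.node 8355 (.sub (.node 451 (.sub (.node 1219 phAc22) .nil)) .nil)) .nil)) .nil)) .nil)) .nil)) .nil)) .nil)) .nil)) .nil)) .nil)) .nil)) .nil)) .nil)) .nil)) .nil)) .nil)) .nil)) .nil)) .nil)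
def phAc24 : Cert := (.node 707 (.sub (.node 4291 (.sub (.node 8387 (.sub (.node 4867 (.sub (.node 8963 (.sub (.node 66819 (.sub (.node 263427 (.sub (.node 6403 (.sub (.node 18691 (.sub (.node 5635 (.sub (.node 17923 (.sub (.node 68099 (.sub (.node 264707 (.sub (.node 7171 (.sub (.node 11267 (.sub (.node 86019 (.sub (.node 151555 (.sub (.node 106499 (.sub (.node 172035 (.sub (.goto [(9, 11), (12, 20), (13, 23), (14, 22), (15, 21), (16, 12), (17, 15), (18, 14), (19, 13), (17, 19)]) .nil)) .nil)) .nil)) .nil)) .nil)) .nil)) .nil)) .nil)) .nil)) .nil)) .nil)) .nil)) .nil)) .nil)) .nil)) .nil)) .nil)) .nil)) .nil))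
def phAc25 : Cert := (.node 563 (.sub (.node 4147 (.sub (.node 8243 (.sub (.node 339 (.sub (.node 1107 (.sub (.node 4179 (.sub (.node 16467 (.sub (.node 403 (.sub (.node 659 (.sub (.node 65683 (.sub (.node 131219 (.sub (.node 355 (.sub (.node 611 (.sub (.node 65635 (.sub (.node 131171 (.sub (.node 419 (.sub (.node 1187 (.sub (.node 4259 (.sub (.node 16547 (.sub (.node 451 (.sub phAc24 .nil)) .nil)) .nil)) .nil)) .nil)) .nil)) .nil)) .nil)) .nil)) .nil)) .nil)) .nil)) .nil)) .nil)) .nil)) .nil)) .nil)) .nil)) .nil)) .nil))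
def phAc26 : Cert := (.sub (.node 707 (.sub (.node 4291 (.sub (.node 8387 (.sub (.node 4867 (.sub (.node 8963 (.sub (.node 5379 (.sub (.node 17667 (.sub (.node 67843 (.sub (.node 133379 (.sub (.node 67075 (.sub (.node 132611 (.sub (.node 6659 (.sub (.node 18947 (.sub (.node 7171 (.sub (.node 11267 (.sub (.node 102403 (.sub (.node 299011 (.sub (.node 90115 (.sub (.node 286723 (.sub (.goto [(9, 10), (12, 16), (13, 18), (14, 17), (15, 19), (12, 20), (14, 22), (13, 21), (15, 23), (13, 14)]) .nil)) .nil)) .nil)) .nil)) .nil)) .nil)) .nil)) .nil)) .nil)) .nil)) .nil)) .nil)) .nil)) .nil)) .nil)) .nil)) .nil)) .nil)) .nil)) .nil)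
def phAc27 : Cert := (.sub (.node 563 (.sub (.node 4147 (.sub (.node 8243 (.sub (.node 339 (.sub (.node 595 (.sub (.node 65619 (.sub (.node 131155 (.sub (.node 403 (.sub (.node 1171 (.sub (.node 4243 (.sub (.node 16531 (.sub (.node 355 (.sub (.node 1123 (.sub (.node 4195 (.sub (.node 16483 (.sub (.node 419 (.sub (.node 675 (.sub (.node 65699 (.sub (.node 131235 (.sub (.node 451 phAc26) .nil)) .nil)) .nil)) .nil)) .nil)) .nil)) .nil)) .nil)) .nil)) .nil)) .nil)) .nil)) .nil)) .nil)) .nil)) .nil)) .nil)) .nil)) .nil)) .nil)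
def phAc28 : Cert := (.sub (.node 1159 (.sub (.node 2183 (.sub (.node 283 (.sub (.node 539 (.sub (.node 1051 (.sub (.node 2075 (.sub (.node 299 (.sub (.node 555 (.sub (.node 1067 (.sub (.node 2091 (.sub (.node 331 (.sub (.node 587 (.sub (.node 1099 (.sub (.node 2123 (.sub (.node 395 (.sub (.node 651 (.sub (.node 1163 (.sub (.node 2187 (.sub (.node 307 (.sub (.node 1075 phAc23) .nil)) .nil)) .nil)) .nil)) .nil)) .nil)) .nil)) .nil)) .nil)) .nil)) .nil)) .nil)) .nil)) .nil)) .nil)) .nil)) (.sub (.node 539 (.sub (.node 1051 (.sub (.node 2075 (.sub (.node 299 (.sub (.node 555 (.sub (.node 1067 (.sub (.node 2091 (.sub (.node 331 (.sub (.node 587 (.sub (.node 1099 (.sub (.node 2123 (.sub (.node 395 (.sub (.node 651 (.sub (.node 1163 (.sub (.node 2187 (.sub (.node 307 (.sub phAc25 .nil)) .nil)) .nil)) .nil)) .nil)) .nil)) .nil)) .nil)) .nil)) .nil)) .nil)) .nil)) .nil)) .nil)) .nil)) .nil)) (.sub (.node 539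 (.sub (.node 1051 (.sub (.node 2075 (.sub (.node 299 (.sub (.node 555 (.sub (.node 1067 (.sub (.node 2091 (.sub (.node 331 (.sub (.node 587 (.sub (.node 1099 (.sub (.node 2123 (.sub (.node 395 (.sub (.node 651 (.sub (.node 1163 (.sub (.node 2187 (.sub (.node 307 phAc27) .nil)) .nil)) .nil)) .nil)) .nil)) .nil)) .nil)) .nil)) .nil)) .nil)) .nil)) .nil)) .nil)) .nil)) .nil)) .nil)))) .nil)) .nil)) .nil)
def phAc29 : Cert := (.sub (.node 4291 (.sub (.node 8387 (.sub (.node 66307 (.sub (.node 131843 (.sub (.node 5379 (.sub (.node 9475 (.sub (.node 6403 (.sub (.node 10499 (.sub (.node 5635 (.sub (.node 9731 (.sub (.node 6659 (.sub (.node 10755 (.sub (.node 68611 (.sub (.node 134147 (.sub (.node 77827 (.sub (.node 143363 (.sub (.node 114691 (.sub (.node 180227 (.sub (.goto [(9, 11), (12, 16), (13, 19), (14, 18), (15, 17), (12, 20), (15, 23), (14, 22), (13, 21), (13, 15)]) .nil)) .nil)) .nil)) .nil)) .nil))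 .nil)) .nil)) .nil)) .nil)) .nil)) .nil)) .nil)) .nil)) .nil)) .nil)) .nil)) .nil)) .nil)) .nil)
def phAc30 : Cert := (.sub (.node 4147 (.sub (.node 8243 (.sub (.node 339 (.sub (.node 1107 (.sub (.node 65619 (.sub (.node 262227 (.sub (.node 403 (.sub (.node 659 (.sub (.node 4243 (.sub (.node 8339 (.sub (.node 355 (.sub (.node 611 (.sub (.node 4195 (.sub (.node 8291 (.sub (.node 419 (.sub (.node 1187 (.sub (.node 65699 (.sub (.node 262307 (.sub (.node 451 (.sub (.node 707 phAc29) .nil)) .nil)) .nil)) .nil)) .nil)) .nil)) .nil)) .nil)) .nil)) .nil)) .nil)) .nil)) .nil)) .nil)) .nil)) .nil)) .nil)) .nil)) .nil)) .nil)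
def phAc31 : Cert := (.node 707 (.sub (.node 65731 (.sub (.node 131267 (.sub (.node 4867 (.sub (.node 8963 (.sub (.node 66819 (.sub (.node 263427 (.sub (.node 6403 (.sub (.node 18691 (.sub (.node 5635 (.sub (.node 17923 (.sub (.node 68099 (.sub (.node 264707 (.sub (.node 7171 (.sub (.node 11267 (.sub (.node 86019 (.sub (.node 151555 (.sub (.node 106499 (.sub (.node 172035 (.sub (.goto [(9, 10), (13, 14), (17, 18), (21, 22)]) .nil)) .nil)) .nil)) .nil)) .nil)) .nil)) .nil)) .nil)) .nil)) .nil)) .nil)) .nil)) .nil)) .nil)) .nil)) .nil)) .nil)) .nil)) .nil))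
def phAc32 : Cert := (.node 563 (.sub (.node 65587 (.sub (.node 131123 (.sub (.node 339 (.sub (.node 595 (.sub (.node 4179 (.sub (.node 8275 (.sub (.node 403 (.sub (.node 1171 (.sub (.node 4243 (.sub (.node 16531 (.sub (.node 355 (.sub (.node 1123 (.sub (.node 4195 (.sub (.node 16483 (.sub (.node 419 (.sub (.node 675 (.sub (.node 4259 (.sub (.node 8355 (.sub (.node 451 (.sub phAc31 .nil)) .nil)) .nil)) .nil)) .nil)) .nil)) .nil)) .nil)) .nil)) .nil)) .nil)) .nil)) .nil)) .nil)) .nil)) .nil)) .nil)) .nil)) .nil)) .nil))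
def phAc33 : Cert := (.sub (.node 1219 (.sub (.node 4291 (.sub (.node 16579 (.sub (.node 4867 (.sub (.node 8963 (.sub (.node 5379 (.sub (.node 17667 (.sub (.node 67843 (.sub (.node 133379 (.sub (.node 67075 (.sub (.node 132611 (.sub (.node 6659 (.sub (.node 18947 (.sub (.node 7171 (.sub (.node 11267 (.sub (.node 102403 (.sub (.node 299011 (.sub (.node 90115 (.sub (.node 286723 (.sub (.goto [(10, 11), (12, 20), (13, 21), (14, 23), (15, 22), (16, 12), (17, 13), (18, 15), (19, 14), (18, 19)]) .nil)) .nil)) .nil)) .nil)) .nil)) .nil)) .nil)) .nil)) .nil)) .nil)) .nil)) .nil)) .nil)) .nil)) .nil)) .nil)) .nil)) .nil)) .nil)) .nil)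
def phAc34 : Cert := (.sub (.node 1075 (.sub (.node 4147 (.sub (.node 16435 (.sub (.node 339 (.sub (.node 595 (.sub (.node 4179 (.sub (.node 8275 (.sub (.node 403 (.sub (.node 659 (.sub (.node 65683 (.sub (.node 131219 (.sub (.node 355 (.sub (.node 611 (.sub (.node 65635 (.sub (.node 131171 (.sub (.node 419 (.sub (.node 675 (.sub (.node 4259 (.sub (.node 8355 (.sub (.node 451 phAc33) .nil)) .nil)) .nil)) .nil)) .nil)) .nil)) .nil)) .nil)) .nil)) .nil)) .nil)) .nil)) .nil)) .nil)) .nil)) .nil)) .nil)) .nil)) .nil)) .nil)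
def phAc35 : Cert := (.sub (.node 1159 (.sub (.node 2183 (.sub (.node 283 (.sub (.node 539 (.sub (.node 1051 (.sub (.node 2075 (.sub (.node 299 (.sub (.node 555 (.sub (.node 1067 (.sub (.node 2091 (.sub (.node 331 (.sub (.node 587 (.sub (.node 1099 (.sub (.node 2123 (.sub (.node 395 (.sub (.node 651 (.sub (.node 1163 (.sub (.node 2187 (.sub (.node 307 (.sub (.node 563 phAc30) .nil)) .nil)) .nil)) .nil)) .nil)) .nil)) .nil)) .nil)) .nil)) .nil)) .nil)) .nil)) .nil)) .nil)) .nil)) .nil)) (.sub (.node 539 (.sub (.node 1051 (.sub (.node 2075 (.sub (.node 299 (.sub (.node 555 (.sub (.node 1067 (.sub (.node 2091 (.sub (.node 331 (.sub (.node 587 (.sub (.node 1099 (.sub (.node 2123 (.sub (.node 395 (.sub (.node 651 (.sub (.node 1163 (.sub (.node 2187 (.sub (.node 307 (.sub phAc32 .nil)) .nil)) .nil)) .nil)) .nil)) .nil)) .nil)) .nil)) .nil)) .nil)) .nil)) .nil)) .nil)) .nil)) .nil)) .nil)) (.sub (.node 539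 (.sub (.node 1051 (.sub (.node 2075 (.sub (.node 299 (.sub (.node 555 (.sub (.node 1067 (.sub (.node 2091 (.sub (.node 331 (.sub (.node 587 (.sub (.node 1099 (.sub (.node 2123 (.sub (.node 395 (.sub (.node 651 (.sub (.node 1163 (.sub (.node 2187 (.sub (.node 307 phAc34) .nil)) .nil)) .nil)) .nil)) .nil)) .nil)) .nil)) .nil)) .nil)) .nil)) .nil)) .nil)) .nil)) .nil)) .nil)) .nil)))) .nil)) .nil)) .nil)
def phAc36 : Cert := (.node 707 (.sub (.node 4291 (.sub (.node 8387 (.sub (.node 66307 (.sub (.node 131843 (.sub (.node 5379 (.sub (.node 9475 (.sub (.node 6403 (.sub (.node 10499 (.sub (.node 5635 (.sub (.node 9731 (.sub (.node 6659 (.sub (.node 10755 (.sub (.node 68611 (.sub (.node 134147 (.sub (.node 77827 (.sub (.node 143363 (.sub (.node 114691 (.sub (.node 180227 (.sub (.goto [(9, 10), (9, 11), (12, 20), (13, 22), (14, 23), (15, 21), (17, 18), (17, 19), (15, 14), (13, 15)]) .nil)) .nil)) .nil)) .nil))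 .nil)) .nil)) .nil)) .nil)) .nil)) .nil)) .nil)) .nil)) .nil)) .nil)) .nil)) .nil)) .nil)) .nil)) .nil))
def phAc37 : Cert := (.node 563 (.sub (.node 4147 (.sub (.node 8243 (.sub (.node 339 (.sub (.node 595 (.sub (.node 4179 (.sub (.node 8275 (.sub (.node 403 (.sub (.node 1171 (.sub (.node 65683 (.sub (.node 262291 (.sub (.node 355 (.sub (.node 1123 (.sub (.node 65635 (.sub (.node 262243 (.sub (.node 419 (.sub (.node 675 (.sub (.node 4259 (.sub (.node 8355 (.sub (.node 451 (.sub phAc36 .nil)) .nil)) .nil)) .nil)) .nil)) .nil)) .nil)) .nil)) .nil)) .nil)) .nil)) .nil)) .nil)) .nil)) .nil)) .nil)) .nil)) .nil)) .nil)) .nil))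
def phAc38 : Cert := (.sub (.node 707 (.sub (.node 65731 (.sub (.node 131267 (.sub (.node 4867 (.sub (.node 8963 (.sub (.node 66819 (.sub (.node 263427 (.sub (.node 6403 (.sub (.node 18691 (.sub (.node 5635 (.sub (.node 17923 (.sub (.node 68099 (.sub (.node 264707 (.sub (.node 7171 (.sub (.node 11267 (.sub (.node 86019 (.sub (.node 151555 (.sub (.node 106499 (.sub (.node 172035 (.sub (.goto [(9, 11), (10, 9), (13, 15), (14, 13), (16, 20), (17, 23), (18, 21), (19, 22), (18, 19), (18, 17)]) .nil)) .nil)) .nil)) .nil)) .nil)) .nil)) .nil)) .nil)) .nil)) .nil)) .nil)) .nil)) .nil)) .nil)) .nil)) .nil)) .nil)) .nil)) .nil)) .nil)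
def phAc39 : Cert := (.sub (.node 563 (.sub (.node 65587 (.sub (.node 131123 (.sub (.node 339 (.sub (.node 1107 (.sub (.node 4179 (.sub (.node 16467 (.sub (.node 403 (.sub (.node 659 (.sub (.node 4243 (.sub (.node 8339 (.sub (.node 355 (.sub (.node 611 (.sub (.node 4195 (.sub (.node 8291 (.sub (.node 419 (.sub (.node 1187 (.sub (.node 4259 (.sub (.node 16547 (.sub (.node 451 phAc38) .nil)) .nil)) .nil)) .nil)) .nil)) .nil)) .nil)) .nil)) .nil)) .nil)) .nil)) .nil)) .nil)) .nil)) .nil)) .nil)) .nil)) .nil)) .nil)) .nil)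
def phAc40 : Cert := (.goto [(12, 16), (13, 17), (14, 18), (15, 19)])
def phAc41 : Cert := (.node 451 (.sub (.node 1219 (.sub (.node 4291 (.sub (.node 16579 (.sub (.node 4867 (.sub (.node 8963 (.sub (.node 5379 (.sub (.node 17667 (.sub (.node 67843 (.sub (.node 133379 (.sub (.node 67075 (.sub (.node 132611 (.sub (.node 6659 (.sub (.node 18947 (.sub (.node 7171 (.sub (.node 11267 (.sub (.node 102403 (.sub (.node 299011 (.sub (.node 90115 (.sub (.node 286723 (.sub phAc40 .nil)) .nil)) .nil)) .nil)) .nil)) .nil)) .nil)) .nil)) .nil)) .nil)) .nil)) .nil)) .nil)) .nil)) .nil)) .nil)) .nil)) .nil)) .nil)) .nil))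
def phAc42 : Cert := (.node 307 (.sub (.node 1075 (.sub (.node 4147 (.sub (.node 16435 (.sub (.node 339 (.sub (.node 595 (.sub (.node 65619 (.sub (.node 131155 (.sub (.node 403 (.sub (.node 659 (.sub (.node 4243 (.sub (.node 8339 (.sub (.node 355 (.sub (.node 611 (.sub (.node 4195 (.sub (.node 8291 (.sub (.node 419 (.sub (.node 675 (.sub (.node 65699 (.sub (.node 131235 (.sub phAc41 .nil)) .nil)) .nil)) .nil)) .nil)) .nil)) .nil)) .nil)) .nil)) .nil)) .nil)) .nil)) .nil)) .nil)) .nil)) .nil)) .nil)) .nil)) .nil)) .nil))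
def phAc43 : Cert := (.node 647 (.sub (.node 1159 (.sub (.node 2183 (.sub (.node 283 (.sub (.node 539 (.sub (.node 1051 (.sub (.node 2075 (.sub (.node 299 (.sub (.node 555 (.sub (.node 1067 (.sub (.node 2091 (.sub (.node 331 (.sub (.node 587 (.sub (.node 1099 (.sub (.node 2123 (.sub (.node 395 (.sub (.node 651 (.sub (.node 1163 (.sub (.node 2187 (.sub (.node 307 (.sub phAc37 .nil)) .nil)) .nil)) .nil)) .nil)) .nil)) .nil)) .nil)) .nil)) .nil)) .nil)) .nil)) .nil)) .nil)) .nil)) .nil)) (.sub (.node 539 (.sub (.node 1051 (.sub (.node 2075 (.sub (.node 299 (.sub (.node 555 (.sub (.node 1067 (.sub (.node 2091 (.sub (.node 331 (.sub (.node 587 (.sub (.node 1099 (.sub (.node 2123 (.sub (.node 395 (.sub (.node 651 (.sub (.node 1163 (.sub (.node 2187 (.sub (.node 307 phAc39) .nil)) .nil)) .nil)) .nil)) .nil)) .nil)) .nil)) .nil)) .nil)) .nil)) .nil)) .nil)) .nil)) .nil)) .nil)) (.sub (.node 539 (.sub (.node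 1051 (.sub (.node 2075 (.sub (.node 299 (.sub (.node 555 (.sub (.node 1067 (.sub (.node 2091 (.sub (.node 331 (.sub (.node 587 (.sub (.node 1099 (.sub (.node 2123 (.sub (.node 395 (.sub (.node 651 (.sub (.node 1163 (.sub (.node 2187 (.sub phAc42 .nil)) .nil)) .nil)) .nil)) .nil)) .nil)) .nil)) .nil)) .nil)) .nil)) .nil)) .nil)) .nil)) .nil)) .nil)) .nil)))) .nil)) .nil)) .nil))
def phAc44 : Cert := (.sub (.node 707 (.sub (.node 4291 (.sub (.node 8387 (.sub (.node 66307 (.sub (.node 131843 (.sub (.node 5379 (.sub (.node 9475 (.sub (.node 6403 (.sub (.node 10499 (.sub (.node 5635 (.sub (.node 9731 (.sub (.node 6659 (.sub (.node 10755 (.sub (.node 68611 (.sub (.node 134147 (.sub (.node 77827 (.sub (.node 143363 (.sub (.node 114691 (.sub (.node 180227 (.sub (.goto [(9, 11), (12, 16), (13, 19), (14, 18), (15, 17), (21, 23)]) .nil)) .nil)) .nil)) .nil)) .nil)) .nil)) .nil)) .nil)) .nil)) .nil)) .nil)) .nil))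 .nil)) .nil)) .nil)) .nil)) .nil)) .nil)) .nil)) .nil)
def phAc45 : Cert := (.sub (.node 563 (.sub (.node 4147 (.sub (.node 8243 (.sub (.node 339 (.sub (.node 1107 (.sub (.node 65619 (.sub (.node 262227 (.sub (.node 403 (.sub (.node 659 (.sub (.node 4243 (.sub (.node 8339 (.sub (.node 355 (.sub (.node 611 (.sub (.node 4195 (.sub (.node 8291 (.sub (.node 419 (.sub (.node 1187 (.sub (.node 65699 (.sub (.node 262307 (.sub (.node 451 phAc44) .nil)) .nil)) .nil)) .nil)) .nil)) .nil)) .nil)) .nil)) .nil)) .nil)) .nil)) .nil)) .nil)) .nil)) .nil)) .nil)) .nil)) .nil)) .nil)) .nil)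
def phAc46 : Cert := (.goto [(9, 10), (13, 14), (16, 20), (17, 22), (18, 21), (19, 23)])
def phAc47 : Cert := (.node 451 (.sub (.node 707 (.sub (.node 65731 (.sub (.node 131267 (.sub (.node 4867 (.sub (.node 8963 (.sub (.node 66819 (.sub (.node 132355 (.sub (.node 6403 (.sub (.node 18691 (.sub (.node 5635 (.sub (.node 17923 (.sub (.node 68099 (.sub (.node 133635 (.sub (.node 7171 (.sub (.node 11267 (.sub (.node 86019 (.sub (.node 282627 (.sub (.node 106499 (.sub (.node 303107 (.sub phAc46 .nil)) .nil)) .nil)) .nil)) .nil)) .nil)) .nil)) .nil)) .nil)) .nil)) .nil)) .nil)) .nil)) .nil)) .nil)) .nil)) .nil)) .nil)) .nil)) .nil))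
def phAc48 : Cert := (.node 307 (.sub (.node 563 (.sub (.node 65587 (.sub (.node 131123 (.sub (.node 339 (.sub (.node 595 (.sub (.node 4179 (.sub (.node 8275 (.sub (.node 403 (.sub (.node 1171 (.sub (.node 4243 (.sub (.node 16531 (.sub (.node 355 (.sub (.node 1123 (.sub (.node 4195 (.sub (.node 16483 (.sub (.node 419 (.sub (.node 675 (.sub (.node 4259 (.sub (.node 8355 (.sub phAc47 .nil)) .nil)) .nil)) .nil)) .nil)) .nil)) .nil)) .nil)) .nil)) .nil)) .nil)) .nil)) .nil)) .nil)) .nil)) .nil)) .nil)) .nil)) .nil)) .nil))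
def phAc49 : Cert := (.sub (.goto [(10, 11), (12, 20), (13, 21), (14, 23), (15, 22), (18, 19)]) .nil)
def phAc50 : Cert := (.sub (.node 451 (.sub (.node 1219 (.sub (.node 4291 (.sub (.node 16579 (.sub (.node 4867 (.sub (.node 8963 (.sub (.node 5379 (.sub (.node 17667 (.sub (.node 67843 (.sub (.node 264451 (.sub (.node 67075 (.sub (.node 263683 (.sub (.node 6659 (.sub (.node 18947 (.sub (.node 7171 (.sub (.node 11267 (.sub (.node 102403 (.sub (.node 167939 (.sub (.node 90115 (.sub (.node 155651 phAc49) .nil)) .nil)) .nil)) .nil)) .nil)) .nil)) .nil)) .nil)) .nil)) .nil)) .nil)) .nil)) .nil)) .nil)) .nil)) .nil)) .nil)) .nil)) .nil)) .nil)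
def phAc51 : Cert := (.sub (.node 307 (.sub (.node 1075 (.sub (.node 4147 (.sub (.node 16435 (.sub (.node 339 (.sub (.node 595 (.sub (.node 4179 (.sub (.node 8275 (.sub (.node 403 (.sub (.node 659 (.sub (.node 65683 (.sub (.node 131219 (.sub (.node 355 (.sub (.node 611 (.sub (.node 65635 (.sub (.node 131171 (.sub (.node 419 (.sub (.node 675 (.sub (.node 4259 (.sub (.node 8355 phAc50) .nil)) .nil)) .nil)) .nil)) .nil)) .nil)) .nil)) .nil)) .nil)) .nil)) .nil)) .nil)) .nil)) .nil)) .nil)) .nil)) .nil)) .nil)) .nil)) .nil)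
def phAc52 : Cert := (.sub (.node 647 (.sub (.node 1159 (.sub (.node 2183 (.sub (.node 283 (.sub (.node 539 (.sub (.node 1051 (.sub (.node 2075 (.sub (.node 299 (.sub (.node 555 (.sub (.node 1067 (.sub (.node 2091 (.sub (.node 331 (.sub (.node 587 (.sub (.node 1099 (.sub (.node 2123 (.sub (.node 395 (.sub (.node 651 (.sub (.node 1163 (.sub (.node 2187 (.sub (.node 307 phAc45) .nil)) .nil)) .nil)) .nil)) .nil)) .nil)) .nil)) .nil)) .nil)) .nil)) .nil)) .nil)) .nil)) .nil)) .nil)) (.sub (.node 539 (.sub (.node 1051 (.sub (.node 2075 (.sub (.node 299 (.sub (.node 555 (.sub (.node 1067 (.sub (.node 2091 (.sub (.node 331 (.sub (.node 587 (.sub (.node 1099 (.sub (.node 2123 (.sub (.node 395 (.sub (.node 651 (.sub (.node 1163 (.sub (.node 2187 (.sub phAc48 .nil)) .nil)) .nil)) .nil)) .nil)) .nil)) .nil)) .nil)) .nil)) .nil)) .nil)) .nil)) .nil)) .nil)) .nil)) (.sub (.node 539 (.sub (.node 1051 (.sub (.node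 2075 (.sub (.node 299 (.sub (.node 555 (.sub (.node 1067 (.sub (.node 2091 (.sub (.node 331 (.sub (.node 587 (.sub (.node 1099 (.sub (.node 2123 (.sub (.node 395 (.sub (.node 651 (.sub (.node 1163 (.sub (.node 2187 phAc51) .nil)) .nil)) .nil)) .nil)) .nil)) .nil)) .nil)) .nil)) .nil)) .nil)) .nil)) .nil)) .nil)) .nil)) .nil)))) .nil)) .nil)) .nil)) .nil)
def phAc53 : Cert := (.goto [(9, 10), (9, 11), (12, 20), (13, 22), (14, 23), (15, 21), (16, 12), (17, 14), (18, 15), (19, 13)])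
def phAc54 : Cert := (.node 451 (.sub (.node 707 (.sub (.node 4291 (.sub (.node 8387 (.sub (.node 66307 (.sub (.node 131843 (.sub (.node 5379 (.sub (.node 9475 (.sub (.node 6403 (.sub (.node 10499 (.sub (.node 5635 (.sub (.node 9731 (.sub (.node 6659 (.sub (.node 10755 (.sub (.node 68611 (.sub (.node 134147 (.sub (.node 77827 (.sub (.node 143363 (.sub (.node 114691 (.sub (.node 180227 (.sub phAc53 .nil)) .nil)) .nil)) .nil)) .nil)) .nil)) .nil)) .nil)) .nil)) .nil)) .nil)) .nil)) .nil)) .nil)) .nil)) .nil)) .nil)) .nil)) .nil)) .nil))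
def phAc55 : Cert := (.node 307 (.sub (.node 563 (.sub (.node 4147 (.sub (.node 8243 (.sub (.node 339 (.sub (.node 595 (.sub (.node 4179 (.sub (.node 8275 (.sub (.node 403 (.sub (.node 1171 (.sub (.node 65683 (.sub (.node 262291 (.sub (.node 355 (.sub (.node 1123 (.sub (.node 65635 (.sub (.node 262243 (.sub (.node 419 (.sub (.node 675 (.sub (.node 4259 (.sub (.node 8355 (.sub phAc54 .nil)) .nil)) .nil)) .nil)) .nil)) .nil)) .nil)) .nil)) .nil)) .nil)) .nil)) .nil)) .nil)) .nil)) .nil)) .nil)) .nil)) .nil)) .nil)) .nil))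
def phAc56 : Cert := (.sub (.goto [(9, 11), (10, 9), (13, 15), (14, 13), (17, 19), (18, 17), (21, 23), (22, 21)]) .nil)
def phAc57 : Cert := (.sub (.node 451 (.sub (.node 707 (.sub (.node 65731 (.sub (.node 131267 (.sub (.node 4867 (.sub (.node 8963 (.sub (.node 66819 (.sub (.node 132355 (.sub (.node 6403 (.sub (.node 18691 (.sub (.node 5635 (.sub (.node 17923 (.sub (.node 68099 (.sub (.node 133635 (.sub (.node 7171 (.sub (.node 11267 (.sub (.node 86019 (.sub (.node 282627 (.sub (.node 106499 (.sub (.node 303107 phAc56) .nil)) .nil)) .nil)) .nil)) .nil)) .nil)) .nil)) .nil)) .nil)) .nil)) .nil)) .nil)) .nil)) .nil)) .nil)) .nil)) .nil)) .nil)) .nil)) .nil)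
def phAc58 : Cert := (.sub (.node 307 (.sub (.node 563 (.sub (.node 65587 (.sub (.node 131123 (.sub (.node 339 (.sub (.node 1107 (.sub (.node 4179 (.sub (.node 16467 (.sub (.node 403 (.sub (.node 659 (.sub (.node 4243 (.sub (.node 8339 (.sub (.node 355 (.sub (.node 611 (.sub (.node 4195 (.sub (.node 8291 (.sub (.node 419 (.sub (.node 1187 (.sub (.node 4259 (.sub (.node 16547 phAc57) .nil)) .nil)) .nil)) .nil)) .nil)) .nil)) .nil)) .nil)) .nil)) .nil)) .nil)) .nil)) .nil)) .nil)) .nil)) .nil)) .nil)) .nil)) .nil)) .nil)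
def phAc59 : Cert := (.node 155651 (.sub (.goto [(12, 16), (13, 17), (14, 18), (15, 19), (12, 20), (13, 21), (14, 22), (15, 23)]) .nil))
def phAc60 : Cert := (.node 131235 (.sub (.node 451 (.sub (.node 1219 (.sub (.node 4291 (.sub (.node 16579 (.sub (.node 4867 (.sub (.node 8963 (.sub (.node 5379 (.sub (.node 17667 (.sub (.node 67843 (.sub (.node 264451 (.sub (.node 67075 (.sub (.node 263683 (.sub (.node 6659 (.sub (.node 18947 (.sub (.node 7171 (.sub (.node 11267 (.sub (.node 102403 (.sub (.node 167939 (.sub (.node 90115 (.sub phAc59 .nil)) .nil)) .nil)) .nil)) .nil)) .nil)) .nil)) .nil)) .nil)) .nil)) .nil)) .nil)) .nil)) .nil)) .nil)) .nil)) .nil)) .nil)) .nil)) .nil))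
def phAc61 : Cert := (.node 2187 (.sub (.node 307 (.sub (.node 1075 (.sub (.node 4147 (.sub (.node 16435 (.sub (.node 339 (.sub (.node 595 (.sub (.node 65619 (.sub (.node 131155 (.sub (.node 403 (.sub (.node 659 (.sub (.node 4243 (.sub (.node 8339 (.sub (.node 355 (.sub (.node 611 (.sub (.node 4195 (.sub (.node 8291 (.sub (.node 419 (.sub (.node 675 (.sub (.node 65699 (.sub phAc60 .nil)) .nil)) .nil)) .nil)) .nil)) .nil)) .nil)) .nil)) .nil)) .nil)) .nil)) .nil)) .nil)) .nil)) .nil)) .nil)) .nil)) .nil)) .nil)) .nil))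
def phAc62 : Cert := (.node 391 (.sub (.node 647 (.sub (.node 1159 (.sub (.node 2183 (.sub (.node 283 (.sub (.node 539 (.sub (.node 1051 (.sub (.node 2075 (.sub (.node 299 (.sub (.node 555 (.sub (.node 1067 (.sub (.node 2091 (.sub (.node 331 (.sub (.node 587 (.sub (.node 1099 (.sub (.node 2123 (.sub (.node 395 (.sub (.node 651 (.sub (.node 1163 (.sub (.node 2187 (.sub phAc55 .nil)) .nil)) .nil)) .nil)) .nil)) .nil)) .nil)) .nil)) .nil)) .nil)) .nil)) .nil)) .nil)) .nil)) .nil)) (.sub (.node 539 (.sub (.node 1051 (.sub (.node 2075 (.sub (.node 299 (.sub (.node 555 (.sub (.node 1067 (.sub (.node 2091 (.sub (.node 331 (.sub (.node 587 (.sub (.node 1099 (.sub (.node 2123 (.sub (.node 395 (.sub (.node 651 (.sub (.node 1163 (.sub (.node 2187 phAc58) .nil)) .nil)) .nil)) .nil)) .nil)) .nil)) .nil)) .nil)) .nil)) .nil)) .nil)) .nil)) .nil)) .nil)) (.sub (.node 539 (.sub (.node 1051 (.sub (.node 2075 (.sub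 (.node 299 (.sub (.node 555 (.sub (.node 1067 (.sub (.node 2091 (.sub (.node 331 (.sub (.node 587 (.sub (.node 1099 (.sub (.node 2123 (.sub (.node 395 (.sub (.node 651 (.sub (.node 1163 (.sub phAc61 .nil)) .nil)) .nil)) .nil)) .nil)) .nil)) .nil)) .nil)) .nil)) .nil)) .nil)) .nil)) .nil)) .nil)) .nil)))) .nil)) .nil)) .nil)) .nil))
def phAc63 : Cert := (.goto [(9, 11), (10, 9), (12, 16), (13, 19), (14, 17), (15, 18), (12, 20), (14, 23), (15, 21), (13, 22)])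
def phAc64 : Cert := (.node 451 (.sub (.node 707 (.sub (.node 4291 (.sub (.node 8387 (.sub (.node 66307 (.sub (.node 131843 (.sub (.node 5379 (.sub (.node 9475 (.sub (.node 6403 (.sub (.node 10499 (.sub (.node 5635 (.sub (.node 9731 (.sub (.node 6659 (.sub (.node 10755 (.sub (.node 68611 (.sub (.node 134147 (.sub (.node 77827 (.sub (.node 143363 (.sub (.node 114691 (.sub (.node 180227 (.sub phAc63 .nil)) .nil)) .nil)) .nil)) .nil)) .nil)) .nil)) .nil)) .nil)) .nil)) .nil)) .nil)) .nil)) .nil)) .nil)) .nil)) .nil)) .nil)) .nil)) .nil))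
def phAc65 : Cert := (.node 307 (.sub (.node 563 (.sub (.node 4147 (.sub (.node 8243 (.sub (.node 339 (.sub (.node 1107 (.sub (.node 65619 (.sub (.node 262227 (.sub (.node 403 (.sub (.node 659 (.sub (.node 4243 (.sub (.node 8339 (.sub (.node 355 (.sub (.node 611 (.sub (.node 4195 (.sub (.node 8291 (.sub (.node 419 (.sub (.node 1187 (.sub (.node 65699 (.sub (.node 262307 (.sub phAc64 .nil)) .nil)) .nil)) .nil)) .nil)) .nil)) .nil)) .nil)) .nil)) .nil)) .nil)) .nil)) .nil)) .nil)) .nil)) .nil)) .nil)) .nil)) .nil)) .nil))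
def phAc66 : Cert := (.sub (.goto [(12, 20), (13, 21), (14, 22), (15, 23), (16, 12), (17, 13), (18, 14), (19, 15)]) .nil)
def phAc67 : Cert := (.sub (.node 451 (.sub (.node 1219 (.sub (.node 4291 (.sub (.node 16579 (.sub (.node 4867 (.sub (.node 8963 (.sub (.node 66819 (.sub (.node 132355 (.sub (.node 6403 (.sub (.node 18691 (.sub (.node 5635 (.sub (.node 17923 (.sub (.node 68099 (.sub (.node 133635 (.sub (.node 7171 (.sub (.node 11267 (.sub (.node 86019 (.sub (.node 282627 (.sub (.node 106499 (.sub (.node 303107 phAc66) .nil)) .nil)) .nil)) .nil)) .nil)) .nil)) .nil)) .nil)) .nil)) .nil)) .nil)) .nil)) .nil)) .nil)) .nil)) .nil)) .nil)) .nil)) .nil)) .nil)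
def phAc68 : Cert := (.sub (.node 307 (.sub (.node 1075 (.sub (.node 4147 (.sub (.node 16435 (.sub (.node 339 (.sub (.node 595 (.sub (.node 4179 (.sub (.node 8275 (.sub (.node 403 (.sub (.node 659 (.sub (.node 65683 (.sub (.node 131219 (.sub (.node 355 (.sub (.node 611 (.sub (.node 65635 (.sub (.node 131171 (.sub (.node 419 (.sub (.node 675 (.sub (.node 4259 (.sub (.node 8355 phAc67) .nil)) .nil)) .nil)) .nil)) .nil)) .nil)) .nil)) .nil)) .nil)) .nil)) .nil)) .nil)) .nil)) .nil)) .nil)) .nil)) .nil)) .nil)) .nil)) .nil)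
def phAc69 : Cert := (.node 155651 (.sub (.goto [(9, 10), (9, 11), (13, 14), (13, 15), (17, 18), (17, 19), (21, 22), (21, 23)]) .nil))
def phAc70 : Cert := (.node 8355 (.sub (.node 451 (.sub (.node 707 (.sub (.node 65731 (.sub (.node 131267 (.sub (.node 4867 (.sub (.node 8963 (.sub (.node 5379 (.sub (.node 17667 (.sub (.node 67843 (.sub (.node 264451 (.sub (.node 67075 (.sub (.node 263683 (.sub (.node 6659 (.sub (.node 18947 (.sub (.node 7171 (.sub (.node 11267 (.sub (.node 102403 (.sub (.node 167939 (.sub (.node 90115 (.sub phAc69 .nil)) .nil)) .nil)) .nil)) .nil)) .nil)) .nil)) .nil)) .nil)) .nil)) .nil)) .nil)) .nil)) .nil)) .nil)) .nil)) .nil)) .nil)) .nil)) .nil))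
def phAc71 : Cert := (.node 2187 (.sub (.node 307 (.sub (.node 563 (.sub (.node 65587 (.sub (.node 131123 (.sub (.node 339 (.sub (.node 595 (.sub (.node 4179 (.sub (.node 8275 (.sub (.node 403 (.sub (.node 1171 (.sub (.node 4243 (.sub (.node 16531 (.sub (.node 355 (.sub (.node 1123 (.sub (.node 4195 (.sub (.node 16483 (.sub (.node 419 (.sub (.node 675 (.sub (.node 4259 (.sub phAc70 .nil)) .nil)) .nil)) .nil)) .nil)) .nil)) .nil)) .nil)) .nil)) .nil)) .nil)) .nil)) .nil)) .nil)) .nil)) .nil)) .nil)) .nil)) .nil)) .nil))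
def phAc72 : Cert := (.node 391 (.sub (.node 647 (.sub (.node 1159 (.sub (.node 2183 (.sub (.node 283 (.sub (.node 539 (.sub (.node 1051 (.sub (.node 2075 (.sub (.node 299 (.sub (.node 555 (.sub (.node 1067 (.sub (.node 2091 (.sub (.node 331 (.sub (.node 587 (.sub (.node 1099 (.sub (.node 2123 (.sub (.node 395 (.sub (.node 651 (.sub (.node 1163 (.sub (.node 2187 (.sub phAc65 .nil)) .nil)) .nil)) .nil)) .nil)) .nil)) .nil)) .nil)) .nil)) .nil)) .nil)) .nil)) .nil)) .nil)) .nil)) (.sub (.node 539 (.sub (.node 1051 (.sub (.node 2075 (.sub (.node 299 (.sub (.node 555 (.sub (.node 1067 (.sub (.node 2091 (.sub (.node 331 (.sub (.node 587 (.sub (.node 1099 (.sub (.node 2123 (.sub (.node 395 (.sub (.node 651 (.sub (.node 1163 (.sub (.node 2187 phAc68) .nil)) .nil)) .nil)) .nil)) .nil)) .nil)) .nil)) .nil)) .nil)) .nil)) .nil)) .nil)) .nil)) .nil)) (.sub (.node 539 (.sub (.node 1051 (.sub (.node 2075 (.sub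 (.node 299 (.sub (.node 555 (.sub (.node 1067 (.sub (.node 2091 (.sub (.node 331 (.sub (.node 587 (.sub (.node 1099 (.sub (.node 2123 (.sub (.node 395 (.sub (.node 651 (.sub (.node 1163 (.sub phAc71 .nil)) .nil)) .nil)) .nil)) .nil)) .nil)) .nil)) .nil)) .nil)) .nil)) .nil)) .nil)) .nil)) .nil)) .nil)))) .nil)) .nil)) .nil)) .nil))
def phAc73 : Cert := (.sub (.goto [(9, 10), (12, 20), (13, 22), (14, 21), (15, 23), (17, 18)]) .nil)
def phAc74 : Cert := (.sub (.node 451 (.sub (.node 707 (.sub (.node 4291 (.sub (.node 8387 (.sub (.node 66307 (.sub (.node 131843 (.sub (.node 5379 (.sub (.node 9475 (.sub (.node 6403 (.sub (.node 10499 (.sub (.node 5635 (.sub (.node 9731 (.sub (.node 6659 (.sub (.node 10755 (.sub (.node 68611 (.sub (.node 134147 (.sub (.node 77827 (.sub (.node 143363 (.sub (.node 114691 (.sub (.node 180227 phAc73) .nil)) .nil)) .nil)) .nil)) .nil)) .nil)) .nil)) .nil)) .nil)) .nil)) .nil))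 .nil)) .nil)) .nil)) .nil)) .nil)) .nil)) .nil)) .nil)) .nil)
def phAc75 : Cert := (.sub (.node 307 (.sub (.node 563 (.sub (.node 4147 (.sub (.node 8243 (.sub (.node 339 (.sub (.node 595 (.sub (.node 4179 (.sub (.node 8275 (.sub (.node 403 (.sub (.node 1171 (.sub (.node 65683 (.sub (.node 262291 (.sub (.node 355 (.sub (.node 1123 (.sub (.node 65635 (.sub (.node 262243 (.sub (.node 419 (.sub (.node 675 (.sub (.node 4259 (.sub (.node 8355 phAc74) .nil)) .nil)) .nil)) .nil)) .nil)) .nil)) .nil)) .nil)) .nil)) .nil)) .nil)) .nil)) .nil)) .nil)) .nil)) .nil)) .nil)) .nil)) .nil)) .nil)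
def phAc76 : Cert := (.node 303107 (.sub (.goto [(10, 11), (12, 16), (13, 17), (14, 19), (15, 18), (22, 23)]) .nil))
def phAc77 : Cert := (.node 131235 (.sub (.node 451 (.sub (.node 1219 (.sub (.node 4291 (.sub (.node 16579 (.sub (.node 4867 (.sub (.node 8963 (.sub (.node 66819 (.sub (.node 132355 (.sub (.node 6403 (.sub (.node 18691 (.sub (.node 5635 (.sub (.node 17923 (.sub (.node 68099 (.sub (.node 133635 (.sub (.node 7171 (.sub (.node 11267 (.sub (.node 86019 (.sub (.node 282627 (.sub (.node 106499 (.sub phAc76 .nil)) .nil)) .nil)) .nil)) .nil)) .nil)) .nil)) .nil)) .nil)) .nil)) .nil)) .nil)) .nil)) .nil)) .nil)) .nil)) .nil)) .nil)) .nil)) .nil))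
def phAc78 : Cert := (.node 2187 (.sub (.node 307 (.sub (.node 1075 (.sub (.node 4147 (.sub (.node 16435 (.sub (.node 339 (.sub (.node 595 (.sub (.node 65619 (.sub (.node 131155 (.sub (.node 403 (.sub (.node 659 (.sub (.node 4243 (.sub (.node 8339 (.sub (.node 355 (.sub (.node 611 (.sub (.node 4195 (.sub (.node 8291 (.sub (.node 419 (.sub (.node 675 (.sub (.node 65699 (.sub phAc77 .nil)) .nil)) .nil)) .nil)) .nil)) .nil)) .nil)) .nil)) .nil)) .nil)) .nil)) .nil)) .nil)) .nil)) .nil)) .nil)) .nil)) .nil)) .nil)) .nil))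
def phAc79 : Cert := (.sub (.node 155651 (.sub (.goto [(9, 11), (13, 15), (16, 20), (17, 23), (18, 22), (19, 21)]) .nil)) .nil)
def phAc80 : Cert := (.sub (.node 16547 (.sub (.node 451 (.sub (.node 707 (.sub (.node 65731 (.sub (.node 131267 (.sub (.node 4867 (.sub (.node 8963 (.sub (.node 5379 (.sub (.node 17667 (.sub (.node 67843 (.sub (.node 264451 (.sub (.node 67075 (.sub (.node 263683 (.sub (.node 6659 (.sub (.node 18947 (.sub (.node 7171 (.sub (.node 11267 (.sub (.node 102403 (.sub (.node 167939 (.sub (.node 90115 phAc79) .nil)) .nil)) .nil)) .nil)) .nil)) .nil)) .nil)) .nil)) .nil)) .nil)) .nil)) .nil)) .nil)) .nil)) .nil)) .nil)) .nil)) .nil)) .nil)) .nil)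
def phAc81 : Cert := (.sub (.node 2187 (.sub (.node 307 (.sub (.node 563 (.sub (.node 65587 (.sub (.node 131123 (.sub (.node 339 (.sub (.node 1107 (.sub (.node 4179 (.sub (.node 16467 (.sub (.node 403 (.sub (.node 659 (.sub (.node 4243 (.sub (.node 8339 (.sub (.node 355 (.sub (.node 611 (.sub (.node 4195 (.sub (.node 8291 (.sub (.node 419 (.sub (.node 1187 (.sub (.node 4259 phAc80) .nil)) .nil)) .nil)) .nil)) .nil)) .nil)) .nil)) .nil)) .nil)) .nil)) .nil)) .nil)) .nil)) .nil)) .nil)) .nil)) .nil)) .nil)) .nil)) .nil)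
def phAc82 : Cert := (.sub (.node 391 (.sub (.node 647 (.sub (.node 1159 (.sub (.node 2183 (.sub (.node 283 (.sub (.node 539 (.sub (.node 1051 (.sub (.node 2075 (.sub (.node 299 (.sub (.node 555 (.sub (.node 1067 (.sub (.node 2091 (.sub (.node 331 (.sub (.node 587 (.sub (.node 1099 (.sub (.node 2123 (.sub (.node 395 (.sub (.node 651 (.sub (.node 1163 (.sub (.node 2187 phAc75) .nil)) .nil)) .nil)) .nil)) .nil)) .nil)) .nil)) .nil)) .nil)) .nil)) .nil)) .nil)) .nil)) .nil)) (.sub (.node 539 (.sub (.node 1051 (.sub (.node 2075 (.sub (.node 299 (.sub (.node 555 (.sub (.node 1067 (.sub (.node 2091 (.sub (.node 331 (.sub (.node 587 (.sub (.node 1099 (.sub (.node 2123 (.sub (.node 395 (.sub (.node 651 (.sub (.node 1163 (.sub phAc78 .nil)) .nil)) .nil)) .nil)) .nil)) .nil)) .nil)) .nil)) .nil)) .nil)) .nil)) .nil)) .nil)) .nil)) (.sub (.node 539 (.sub (.node 1051 (.sub (.node 2075 (.sub (.node 299 (.sub (.node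 555 (.sub (.node 1067 (.sub (.node 2091 (.sub (.node 331 (.sub (.node 587 (.sub (.node 1099 (.sub (.node 2123 (.sub (.node 395 (.sub (.node 651 (.sub (.node 1163 phAc81) .nil)) .nil)) .nil)) .nil)) .nil)) .nil)) .nil)) .nil)) .nil)) .nil)) .nil)) .nil)) .nil)) .nil)))) .nil)) .nil)) .nil)) .nil)) .nil)
def phAc83 : Cert := (.node 180227 (.sub (.goto [(9, 11), (10, 9), (12, 16), (13, 19), (14, 17), (15, 18), (14, 15), (14, 13), (21, 23), (22, 21)]) .nil))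
def phAc84 : Cert := (.node 262307 (.sub (.node 451 (.sub (.node 707 (.sub (.node 4291 (.sub (.node 8387 (.sub (.node 66307 (.sub (.node 131843 (.sub (.node 5379 (.sub (.node 9475 (.sub (.node 6403 (.sub (.node 10499 (.sub (.node 5635 (.sub (.node 9731 (.sub (.node 6659 (.sub (.node 10755 (.sub (.node 68611 (.sub (.node 134147 (.sub (.node 77827 (.sub (.node 143363 (.sub (.node 114691 (.sub phAc83 .nil)) .nil)) .nil)) .nil)) .nil)) .nil)) .nil)) .nil)) .nil)) .nil)) .nil)) .nil)) .nil)) .nil)) .nil)) .nil)) .nil)) .nil)) .nil)) .nil))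
def phAc85 : Cert := (.node 2187 (.sub (.node 307 (.sub (.node 563 (.sub (.node 4147 (.sub (.node 8243 (.sub (.node 339 (.sub (.node 1107 (.sub (.node 65619 (.sub (.node 262227 (.sub (.node 403 (.sub (.node 659 (.sub (.node 4243 (.sub (.node 8339 (.sub (.node 355 (.sub (.node 611 (.sub (.node 4195 (.sub (.node 8291 (.sub (.node 419 (.sub (.node 1187 (.sub (.node 65699 (.sub phAc84 .nil)) .nil)) .nil)) .nil)) .nil)) .nil)) .nil)) .nil)) .nil)) .nil)) .nil)) .nil)) .nil)) .nil)) .nil)) .nil)) .nil)) .nil)) .nil)) .nil))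
def phAc86 : Cert := (.sub (.node 172035 (.sub (.goto [(12, 20), (13, 21), (14, 22), (15, 23)]) .nil)) .nil)
def phAc87 : Cert := (.sub (.node 8355 (.sub (.node 451 (.sub (.node 1219 (.sub (.node 4291 (.sub (.node 16579 (.sub (.node 4867 (.sub (.node 8963 (.sub (.node 66819 (.sub (.node 263427 (.sub (.node 6403 (.sub (.node 18691 (.sub (.node 5635 (.sub (.node 17923 (.sub (.node 68099 (.sub (.node 264707 (.sub (.node 7171 (.sub (.node 11267 (.sub (.node 86019 (.sub (.node 151555 (.sub (.node 106499 phAc86) .nil)) .nil)) .nil)) .nil)) .nil)) .nil)) .nil)) .nil)) .nil)) .nil)) .nil)) .nil)) .nil)) .nil)) .nil)) .nil)) .nil)) .nil)) .nil)) .nil)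
def phAc88 : Cert := (.sub (.node 2187 (.sub (.node 307 (.sub (.node 1075 (.sub (.node 4147 (.sub (.node 16435 (.sub (.node 339 (.sub (.node 595 (.sub (.node 4179 (.sub (.node 8275 (.sub (.node 403 (.sub (.node 659 (.sub (.node 65683 (.sub (.node 131219 (.sub (.node 355 (.sub (.node 611 (.sub (.node 65635 (.sub (.node 131171 (.sub (.node 419 (.sub (.node 675 (.sub (.node 4259 phAc87) .nil)) .nil)) .nil)) .nil)) .nil)) .nil)) .nil)) .nil)) .nil)) .nil)) .nil)) .nil)) .nil)) .nil)) .nil)) .nil)) .nil)) .nil)) .nil)) .nil)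
def phAc89 : Cert := (.node 90115 (.sub (.node 286723 (.sub (.goto [(9, 10), (9, 11), (13, 14), (13, 15), (16, 20), (17, 22), (18, 23), (19, 21), (19, 18), (17, 19)]) .nil)) .nil))
def phAc90 : Cert := (.node 4259 (.sub (.node 8355 (.sub (.node 451 (.sub (.node 707 (.sub (.node 65731 (.sub (.node 131267 (.sub (.node 4867 (.sub (.node 8963 (.sub (.node 5379 (.sub (.node 17667 (.sub (.node 67843 (.sub (.node 133379 (.sub (.node 67075 (.sub (.node 132611 (.sub (.node 6659 (.sub (.node 18947 (.sub (.node 7171 (.sub (.node 11267 (.sub (.node 102403 (.sub (.node 299011 (.sub phAc89 .nil)) .nil)) .nil)) .nil)) .nil)) .nil)) .nil)) .nil)) .nil)) .nil)) .nil)) .nil)) .nil)) .nil)) .nil)) .nil)) .nil)) .nil)) .nil)) .nil))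
def phAc91 : Cert := (.node 1163 (.sub (.node 2187 (.sub (.node 307 (.sub (.node 563 (.sub (.node 65587 (.sub (.node 131123 (.sub (.node 339 (.sub (.node 595 (.sub (.node 4179 (.sub (.node 8275 (.sub (.node 403 (.sub (.node 1171 (.sub (.node 4243 (.sub (.node 16531 (.sub (.node 355 (.sub (.node 1123 (.sub (.node 4195 (.sub (.node 16483 (.sub (.node 419 (.sub (.node 675 (.sub phAc90 .nil)) .nil)) .nil)) .nil)) .nil)) .nil)) .nil)) .nil)) .nil)) .nil)) .nil)) .nil)) .nil)) .nil)) .nil)) .nil)) .nil)) .nil)) .nil)) .nil))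
def phAc92 : Cert := (.node 2119 (.sub (.node 391 (.sub (.node 647 (.sub (.node 1159 (.sub (.node 2183 (.sub (.node 283 (.sub (.node 539 (.sub (.node 1051 (.sub (.node 2075 (.sub (.node 299 (.sub (.node 555 (.sub (.node 1067 (.sub (.node 2091 (.sub (.node 331 (.sub (.node 587 (.sub (.node 1099 (.sub (.node 2123 (.sub (.node 395 (.sub (.node 651 (.sub (.node 1163 (.sub phAc85 .nil)) .nil)) .nil)) .nil)) .nil)) .nil)) .nil)) .nil)) .nil)) .nil)) .nil)) .nil)) .nil)) .nil)) (.sub (.node 539 (.sub (.node 1051 (.sub (.node 2075 (.sub (.node 299 (.sub (.node 555 (.sub (.node 1067 (.sub (.node 2091 (.sub (.node 331 (.sub (.node 587 (.sub (.node 1099 (.sub (.node 2123 (.sub (.node 395 (.sub (.node 651 (.sub (.node 1163 phAc88) .nil)) .nil)) .nil)) .nil)) .nil)) .nil)) .nil)) .nil)) .nil)) .nil)) .nil)) .nil)) .nil)) (.sub (.node 539 (.sub (.node 1051 (.sub (.node 2075 (.sub (.node 299 (.sub (.node 555 (.sub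 (.node 1067 (.sub (.node 2091 (.sub (.node 331 (.sub (.node 587 (.sub (.node 1099 (.sub (.node 2123 (.sub (.node 395 (.sub (.node 651 (.sub phAc91 .nil)) .nil)) .nil)) .nil)) .nil)) .nil)) .nil)) .nil)) .nil)) .nil)) .nil)) .nil)) .nil)) .nil)))) .nil)) .nil)) .nil)) .nil)) .nil))
def phAc93 : Cert := (.sub (.node 180227 (.sub (.goto [(9, 10), (12, 20), (13, 22), (14, 21), (15, 23), (16, 12), (17, 14), (18, 13), (19, 15), (17, 18)]) .nil)) .nil)
def phAc94 : Cert := (.sub (.node 8355 (.sub (.node 451 (.sub (.node 707 (.sub (.node 4291 (.sub (.node 8387 (.sub (.node 66307 (.sub (.node 131843 (.sub (.node 5379 (.sub (.node 9475 (.sub (.node 6403 (.sub (.node 10499 (.sub (.node 5635 (.sub (.node 9731 (.sub (.node 6659 (.sub (.node 10755 (.sub (.node 68611 (.sub (.node 134147 (.sub (.node 77827 (.sub (.node 143363 (.sub (.node 114691 phAc93) .nil)) .nil)) .nil)) .nil)) .nil)) .nil)) .nil)) .nil)) .nil))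 .nil)) .nil)) .nil)) .nil)) .nil)) .nil)) .nil)) .nil)) .nil)) .nil)) .nil)
def phAc95 : Cert := (.sub (.node 2187 (.sub (.node 307 (.sub (.node 563 (.sub (.node 4147 (.sub (.node 8243 (.sub (.node 339 (.sub (.node 595 (.sub (.node 4179 (.sub (.node 8275 (.sub (.node 403 (.sub (.node 1171 (.sub (.node 65683 (.sub (.node 262291 (.sub (.node 355 (.sub (.node 1123 (.sub (.node 65635 (.sub (.node 262243 (.sub (.node 419 (.sub (.node 675 (.sub (.node 4259 phAc94) .nil)) .nil)) .nil)) .nil)) .nil)) .nil)) .nil)) .nil)) .nil)) .nil)) .nil)) .nil)) .nil)) .nil)) .nil)) .nil)) .nil)) .nil)) .nil)) .nil)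
def phAc96 : Cert := (.node 106499 (.sub (.node 172035 (.sub (.goto [(10, 11), (12, 16), (13, 17), (14, 19), (15, 18), (12, 20), (13, 21), (15, 23), (14, 22), (14, 15)]) .nil)) .nil))
def phAc97 : Cert := (.node 65699 (.sub (.node 131235 (.sub (.node 451 (.sub (.node 1219 (.sub (.node 4291 (.sub (.node 16579 (.sub (.node 4867 (.sub (.node 8963 (.sub (.node 66819 (.sub (.node 263427 (.sub (.node 6403 (.sub (.node 18691 (.sub (.node 5635 (.sub (.node 17923 (.sub (.node 68099 (.sub (.node 264707 (.sub (.node 7171 (.sub (.node 11267 (.sub (.node 86019 (.sub (.node 151555 (.sub phAc96 .nil)) .nil)) .nil)) .nil)) .nil)) .nil)) .nil)) .nil)) .nil)) .nil)) .nil)) .nil)) .nil)) .nil)) .nil)) .nil)) .nil)) .nil)) .nil)) .nil))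
def phAc98 : Cert := (.node 1163 (.sub (.node 2187 (.sub (.node 307 (.sub (.node 1075 (.sub (.node 4147 (.sub (.node 16435 (.sub (.node 339 (.sub (.node 595 (.sub (.node 65619 (.sub (.node 131155 (.sub (.node 403 (.sub (.node 659 (.sub (.node 4243 (.sub (.node 8339 (.sub (.node 355 (.sub (.node 611 (.sub (.node 4195 (.sub (.node 8291 (.sub (.node 419 (.sub (.node 675 (.sub phAc97 .nil)) .nil)) .nil)) .nil)) .nil)) .nil)) .nil)) .nil)) .nil)) .nil)) .nil)) .nil)) .nil)) .nil)) .nil)) .nil)) .nil)) .nil)) .nil)) .nil))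
def phAc99 : Cert := (.sub (.node 90115 (.sub (.node 286723 (.sub (.goto [(9, 11), (13, 15), (17, 19), (21, 23)]) .nil)) .nil)) .nil)
def phAc100 : Cert := (.sub (.node 4259 (.sub (.node 16547 (.sub (.node 451 (.sub (.node 707 (.sub (.node 65731 (.sub (.node 131267 (.sub (.node 4867 (.sub (.node 8963 (.sub (.node 5379 (.sub (.node 17667 (.sub (.node 67843 (.sub (.node 133379 (.sub (.node 67075 (.sub (.node 132611 (.sub (.node 6659 (.sub (.node 18947 (.sub (.node 7171 (.sub (.node 11267 (.sub (.node 102403 (.sub (.node 299011 phAc99) .nil)) .nil)) .nil)) .nil)) .nil)) .nil)) .nil)) .nil)) .nil)) .nil)) .nil)) .nil)) .nil)) .nil)) .nil)) .nil)) .nil)) .nil)) .nil)) .nil)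
def phAc101 : Cert := (.sub (.node 1163 (.sub (.node 2187 (.sub (.node 307 (.sub (.node 563 (.sub (.node 65587 (.sub (.node 131123 (.sub (.node 339 (.sub (.node 1107 (.sub (.node 4179 (.sub (.node 16467 (.sub (.node 403 (.sub (.node 659 (.sub (.node 4243 (.sub (.node 8339 (.sub (.node 355 (.sub (.node 611 (.sub (.node 4195 (.sub (.node 8291 (.sub (.node 419 (.sub (.node 1187 phAc100) .nil)) .nil)) .nil)) .nil)) .nil)) .nil)) .nil)) .nil)) .nil)) .nil)) .nil)) .nil)) .nil)) .nil)) .nil)) .nil)) .nil)) .nil)) .nil)) .nil)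
def phAc102 : Cert := (.sub (.node 2119 (.sub (.node 391 (.sub (.node 647 (.sub (.node 1159 (.sub (.node 2183 (.sub (.node 283 (.sub (.node 539 (.sub (.node 1051 (.sub (.node 2075 (.sub (.node 299 (.sub (.node 555 (.sub (.node 1067 (.sub (.node 2091 (.sub (.node 331 (.sub (.node 587 (.sub (.node 1099 (.sub (.node 2123 (.sub (.node 395 (.sub (.node 651 (.sub (.node 1163 phAc95) .nil)) .nil)) .nil)) .nil)) .nil)) .nil)) .nil)) .nil)) .nil)) .nil)) .nil)) .nil)) .nil)) (.sub (.node 539 (.sub (.node 1051 (.sub (.node 2075 (.sub (.node 299 (.sub (.node 555 (.sub (.node 1067 (.sub (.node 2091 (.sub (.node 331 (.sub (.node 587 (.sub (.node 1099 (.sub (.node 2123 (.sub (.node 395 (.sub (.node 651 (.sub phAc98 .nil)) .nil)) .nil)) .nil)) .nil)) .nil)) .nil)) .nil)) .nil)) .nil)) .nil)) .nil)) .nil)) (.sub (.node 539 (.sub (.node 1051 (.sub (.node 2075 (.sub (.node 299 (.sub (.node 555 (.sub (.node 1067 (.sub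 (.node 2091 (.sub (.node 331 (.sub (.node 587 (.sub (.node 1099 (.sub (.node 2123 (.sub (.node 395 (.sub (.node 651 phAc101) .nil)) .nil)) .nil)) .nil)) .nil)) .nil)) .nil)) .nil)) .nil)) .nil)) .nil)) .nil)) .nil)))) .nil)) .nil)) .nil)) .nil)) .nil)) .nil)
def phAc103 : Cert := (.iso 1118487 [(13, 12), (19, 16), (21, 20)] (.iso 1118487 [(13, 12), (19, 16), (22, 20)] (.iso 1118487 [(13, 12), (19, 16), (23, 20)] (.iso 1118487 [(14, 12)] (.iso 1118487 [(14, 12), (21, 20)] (.iso 1118487 [(14, 12), (22, 20)] (.iso 1118487 [(14, 12), (23, 20)] (.iso 1118487 [(14, 12), (17, 16)] (.iso 1118487 [(14, 12), (17, 16), (21, 20)] (.iso 1118487 [(14, 12), (17, 16), (22, 20)] (.iso 1118487 [(14, 12), (17, 16), (23, 20)] (.iso 1118487 [(14, 12), (18, 16)] (.iso 1118487 [(14, 12), (18, 16), (21, 20)] (.iso 1118487 [(14, 12), (18, 16), (22, 20)] (.iso 1118487 [(14, 12), (18, 16), (23, 20)] (.iso 1118487 [(14, 12),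 (19, 16)] (.iso 1118487 [(14, 12), (19, 16), (21, 20)] (.iso 1118487 [(14, 12), (19, 16), (22, 20)] (.iso 1118487 [(14, 12), (19, 16), (23, 20)] (.iso 1118487 [(15, 12)] (.iso 1118487 [(15, 12), (21, 20)] (.iso 1118487 [(15, 12), (22, 20)] (.iso 1118487 [(15, 12), (23, 20)] (.iso 1118487 [(15, 12), (17, 16)] (.iso 1118487 [(15, 12), (17, 16), (21, 20)] (.iso 1118487 [(15, 12), (17, 16), (22, 20)] (.iso 1118487 [(15, 12), (17, 16), (23, 20)] (.iso 1118487 [(15, 12), (18, 16)] (.iso 1118487 [(15, 12), (18, 16), (21, 20)] (.iso 1118487 [(15, 12), (18, 16), (22, 20)] (.iso 1118487 [(15, 12), (18, 16), (23, 20)] (.iso 1118487 [(15, 12), (19, 16)] (.iso 1118487 [(15, 12), (19, 16), (21, 20)] (.iso 1118487 [(15, 12), (19, 16), (22, 20)] (.iso 1118487 [(15, 12), (19, 16), (23, 20)] .nil)))))))))))))))))))))))))))))))))))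
def phAc104 : Cert := (.iso 983055 [(20, 17), (22, 18), (23, 19)] (.iso 983055 [(21, 17), (22, 18), (23, 19)] .nil))
def phAc105 : Cert := (.iso 61455 [(19, 13), (20, 14), (21, 15)] (.iso 61455 [(19, 13), (20, 14), (22, 15)] (.iso 61455 [(19, 13), (20, 14), (23, 15)] (.iso 61455 [(19, 13), (21, 14), (22, 15)] (.iso 61455 [(19, 13), (21, 14), (23, 15)] (.iso 61455 [(19, 13), (22, 14), (23, 15)] (.iso 61455 [(20, 13), (21, 14), (22, 15)] (.iso 61455 [(20, 13), (21, 14), (23, 15)] (.iso 61455 [(20, 13), (22, 14), (23, 15)] (.iso 61455 [(21, 13), (22, 14), (23, 15)] .nil))))))))))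
def phAc106 : Cert := (.iso 61455 [(16, 13), (18, 14), (19, 15)] (.iso 61455 [(16, 13), (18, 14), (20, 15)] (.iso 61455 [(16, 13), (18, 14), (21, 15)] (.iso 61455 [(16, 13), (18, 14), (22, 15)] (.iso 61455 [(16, 13), (18, 14), (23, 15)] (.iso 61455 [(16, 13), (19, 14), (20, 15)] (.iso 61455 [(16, 13), (19, 14), (21, 15)] (.iso 61455 [(16, 13), (19, 14), (22, 15)] (.iso 61455 [(16, 13), (19, 14), (23, 15)] (.iso 61455 [(16, 13), (20, 14), (21, 15)] (.iso 61455 [(16, 13), (20, 14), (22, 15)] (.iso 61455 [(16, 13), (20, 14), (23, 15)] (.iso 61455 [(16, 13), (21, 14), (22, 15)] (.iso 61455 [(16, 13), (21, 14), (23, 15)] (.iso 61455 [(16, 13), (22, 14), (23, 15)] (.iso 61455 [(17, 13), (18, 14), (19, 15)] (.iso 61455 [(17, 13), (18, 14), (20, 15)] (.iso 61455 [(17, 13), (18, 14), (21, 15)] (.iso 61455 [(17, 13), (18, 14), (22, 15)] (.iso 61455 [(17, 13), (18, 14), (23, 15)] (.iso 61455 [(17, 13), (19, 14),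 (20, 15)] (.iso 61455 [(17, 13), (19, 14), (21, 15)] (.iso 61455 [(17, 13), (19, 14), (22, 15)] (.iso 61455 [(17, 13), (19, 14), (23, 15)] (.iso 61455 [(17, 13), (20, 14), (21, 15)] (.iso 61455 [(17, 13), (20, 14), (22, 15)] (.iso 61455 [(17, 13), (20, 14), (23, 15)] (.iso 61455 [(17, 13), (21, 14), (22, 15)] (.iso 61455 [(17, 13), (21, 14), (23, 15)] (.iso 61455 [(17, 13), (22, 14), (23, 15)] (.iso 61455 [(18, 13), (19, 14), (20, 15)] (.iso 61455 [(18, 13), (19, 14), (21, 15)] (.iso 61455 [(18, 13), (19, 14), (22, 15)] (.iso 61455 [(18, 13), (19, 14), (23, 15)] (.iso 61455 [(18, 13), (20, 14), (21, 15)] (.iso 61455 [(18, 13), (20, 14), (22, 15)] (.iso 61455 [(18, 13), (20, 14), (23, 15)] (.iso 61455 [(18, 13), (21, 14), (22, 15)] (.iso 61455 [(18, 13), (21, 14), (23, 15)] (.iso 61455 [(18, 13), (22, 14), (23, 15)] phAc105))))))))))))))))))))))))))))))))))))))))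
def phAc107 : Cert := (.iso 61455 [(20, 13), (21, 15)] (.iso 61455 [(20, 13), (22, 15)] (.iso 61455 [(20, 13), (23, 15)] (.iso 61455 [(21, 13), (22, 15)] (.iso 61455 [(21, 13), (23, 15)] (.iso 61455 [(22, 13), (23, 15)] (.iso 61455 [(16, 13), (17, 14)] (.iso 61455 [(16, 13), (18, 14)] (.iso 61455 [(16, 13), (19, 14)] (.iso 61455 [(16, 13), (20, 14)] (.iso 61455 [(16, 13), (21, 14)] (.iso 61455 [(16, 13), (22, 14)] (.iso 61455 [(16, 13), (23, 14)] (.iso 61455 [(17, 13), (18, 14)] (.iso 61455 [(17, 13), (19, 14)] (.iso 61455 [(17, 13), (20, 14)] (.iso 61455 [(17, 13), (21, 14)] (.iso 61455 [(17, 13), (22, 14)] (.iso 61455 [(17, 13), (23, 14)] (.iso 61455 [(18, 13), (19, 14)] (.iso 61455 [(18, 13), (20, 14)] (.iso 61455 [(18, 13), (21, 14)] (.iso 61455 [(18, 13), (22, 14)] (.iso 61455 [(18, 13), (23, 14)] (.iso 61455 [(19, 13), (20, 14)] (.iso 61455 [(19, 13), (21, 14)] (.iso 61455 [(19, 13), (22, 14)]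 (.iso 61455 [(19, 13), (23, 14)] (.iso 61455 [(20, 13), (21, 14)] (.iso 61455 [(20, 13), (22, 14)] (.iso 61455 [(20, 13), (23, 14)] (.iso 61455 [(21, 13), (22, 14)] (.iso 61455 [(21, 13), (23, 14)] (.iso 61455 [(22, 13), (23, 14)] (.iso 61455 [(16, 13), (17, 14), (18, 15)] (.iso 61455 [(16, 13), (17, 14), (19, 15)] (.iso 61455 [(16, 13), (17, 14), (20, 15)] (.iso 61455 [(16, 13), (17, 14), (21, 15)] (.iso 61455 [(16, 13), (17, 14), (22, 15)] (.iso 61455 [(16, 13), (17, 14), (23, 15)] phAc106))))))))))))))))))))))))))))))))))))))))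
def phAc108 : Cert := (.iso 61455 [(19, 14), (20, 15)] (.iso 61455 [(19, 14), (21, 15)] (.iso 61455 [(19, 14), (22, 15)] (.iso 61455 [(19, 14), (23, 15)] (.iso 61455 [(20, 14), (21, 15)] (.iso 61455 [(20, 14), (22, 15)] (.iso 61455 [(20, 14), (23, 15)] (.iso 61455 [(21, 14), (22, 15)] (.iso 61455 [(21, 14), (23, 15)] (.iso 61455 [(22, 14), (23, 15)] (.iso 61455 [(16, 13)] (.iso 61455 [(17, 13)] (.iso 61455 [(18, 13)] (.iso 61455 [(19, 13)] (.iso 61455 [(20, 13)] (.iso 61455 [(21, 13)] (.iso 61455 [(22, 13)] (.iso 61455 [(23, 13)] (.iso 61455 [(16, 13), (17, 15)] (.iso 61455 [(16, 13), (18, 15)] (.iso 61455 [(16, 13), (19, 15)] (.iso 61455 [(16, 13), (20, 15)] (.iso 61455 [(16, 13), (21, 15)] (.iso 61455 [(16, 13), (22, 15)] (.iso 61455 [(16, 13), (23, 15)] (.iso 61455 [(17, 13), (18, 15)] (.iso 61455 [(17, 13), (19, 15)] (.iso 61455 [(17, 13), (20, 15)] (.iso 61455 [(17, 13), (21, 15)] (.iso 61455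 [(17, 13), (22, 15)] (.iso 61455 [(17, 13), (23, 15)] (.iso 61455 [(18, 13), (19, 15)] (.iso 61455 [(18, 13), (20, 15)] (.iso 61455 [(18, 13), (21, 15)] (.iso 61455 [(18, 13), (22, 15)] (.iso 61455 [(18, 13), (23, 15)] (.iso 61455 [(19, 13), (20, 15)] (.iso 61455 [(19, 13), (21, 15)] (.iso 61455 [(19, 13), (22, 15)] (.iso 61455 [(19, 13), (23, 15)] phAc107))))))))))))))))))))))))))))))))))))))))
def phAc109 : Cert := (.iso 3855 [(18, 9), (19, 10), (22, 11)] (.iso 3855 [(18, 9), (19, 10), (23, 11)] (.iso 3855 [(18, 9), (20, 10), (21, 11)] (.iso 3855 [(18, 9), (20, 10), (22, 11)] (.iso 3855 [(18, 9), (20, 10), (23, 11)] (.iso 3855 [(18, 9), (21, 10), (22, 11)] (.iso 3855 [(18, 9), (21, 10), (23, 11)] (.iso 3855 [(18, 9), (22, 10), (23, 11)] (.iso 3855 [(19, 9), (20, 10), (21, 11)] (.iso 3855 [(19, 9), (20, 10), (22, 11)] (.iso 3855 [(19, 9), (20, 10), (23, 11)] (.iso 3855 [(19, 9), (21, 10), (22, 11)]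 (.iso 3855 [(19, 9), (21, 10), (23, 11)] (.iso 3855 [(19, 9), (22, 10), (23, 11)] (.iso 3855 [(20, 9), (21, 10), (22, 11)] (.iso 3855 [(20, 9), (21, 10), (23, 11)] (.iso 3855 [(20, 9), (22, 10), (23, 11)] (.iso 3855 [(21, 9), (22, 10), (23, 11)] .nil))))))))))))))))))
def phAc110 : Cert := (.iso 3855 [(15, 9), (21, 10), (23, 11)] (.iso 3855 [(15, 9), (22, 10), (23, 11)] (.iso 3855 [(16, 9), (17, 10), (18, 11)] (.iso 3855 [(16, 9), (17, 10), (19, 11)] (.iso 3855 [(16, 9), (17, 10), (20, 11)] (.iso 3855 [(16, 9), (17, 10), (21, 11)] (.iso 3855 [(16, 9), (17, 10), (22, 11)] (.iso 3855 [(16, 9), (17, 10), (23, 11)] (.iso 3855 [(16, 9), (18, 10), (19, 11)] (.iso 3855 [(16, 9), (18, 10), (20, 11)] (.iso 3855 [(16, 9), (18, 10), (21, 11)] (.iso 3855 [(16, 9), (18, 10), (22, 11)] (.iso 3855 [(16, 9), (18, 10), (23, 11)] (.iso 3855 [(16, 9), (19, 10), (20, 11)] (.iso 3855 [(16, 9), (19, 10), (21, 11)] (.iso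 3855 [(16, 9), (19, 10), (22, 11)] (.iso 3855 [(16, 9), (19, 10), (23, 11)] (.iso 3855 [(16, 9), (20, 10), (21, 11)] (.iso 3855 [(16, 9), (20, 10), (22, 11)] (.iso 3855 [(16, 9), (20, 10), (23, 11)] (.iso 3855 [(16, 9), (21, 10), (22, 11)] (.iso 3855 [(16, 9), (21, 10), (23, 11)] (.iso 3855 [(16, 9), (22, 10), (23, 11)] (.iso 3855 [(17, 9), (18, 10), (19, 11)] (.iso 3855 [(17, 9), (18, 10), (20, 11)] (.iso 3855 [(17, 9), (18, 10), (21, 11)] (.iso 3855 [(17, 9), (18, 10), (22, 11)] (.iso 3855 [(17, 9), (18, 10), (23, 11)] (.iso 3855 [(17, 9), (19, 10), (20, 11)] (.iso 3855 [(17, 9), (19, 10), (21, 11)] (.iso 3855 [(17, 9), (19, 10), (22, 11)] (.iso 3855 [(17, 9), (19, 10), (23, 11)] (.iso 3855 [(17, 9), (20, 10), (21, 11)] (.iso 3855 [(17, 9), (20, 10), (22, 11)] (.iso 3855 [(17, 9), (20, 10), (23, 11)] (.iso 3855 [(17, 9), (21, 10), (22, 11)] (.iso 3855 [(17, 9), (21, 10), (23, 11)] (.iso 3855 [(17,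 9), (22, 10), (23, 11)] (.iso 3855 [(18, 9), (19, 10), (20, 11)] (.iso 3855 [(18, 9), (19, 10), (21, 11)] phAc109))))))))))))))))))))))))))))))))))))))))
def phAc111 : Cert := (.iso 3855 [(14, 9), (18, 10), (20, 11)] (.iso 3855 [(14, 9), (18, 10), (21, 11)] (.iso 3855 [(14, 9), (18, 10), (22, 11)] (.iso 3855 [(14, 9), (18, 10), (23, 11)] (.iso 3855 [(14, 9), (19, 10), (20, 11)] (.iso 3855 [(14, 9), (19, 10), (21, 11)] (.iso 3855 [(14, 9), (19, 10), (22, 11)] (.iso 3855 [(14, 9), (19, 10), (23, 11)] (.iso 3855 [(14, 9), (20, 10), (21, 11)] (.iso 3855 [(14, 9), (20, 10), (22, 11)] (.iso 3855 [(14, 9), (20, 10), (23, 11)] (.iso 3855 [(14, 9), (21, 10), (22, 11)] (.iso 3855 [(14, 9), (21, 10), (23, 11)] (.iso 3855 [(14, 9), (22, 10), (23, 11)] (.iso 3855 [(15, 9), (16, 10), (17, 11)] (.iso 3855 [(15, 9), (16, 10), (18, 11)] (.iso 3855 [(15, 9), (16, 10), (19, 11)] (.iso 3855 [(15, 9), (16, 10), (20, 11)]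 (.iso 3855 [(15, 9), (16, 10), (21, 11)] (.iso 3855 [(15, 9), (16, 10), (22, 11)] (.iso 3855 [(15, 9), (16, 10), (23, 11)] (.iso 3855 [(15, 9), (17, 10), (18, 11)] (.iso 3855 [(15, 9), (17, 10), (19, 11)] (.iso 3855 [(15, 9), (17, 10), (20, 11)] (.iso 3855 [(15, 9), (17, 10), (21, 11)] (.iso 3855 [(15, 9), (17, 10), (22, 11)] (.iso 3855 [(15, 9), (17, 10), (23, 11)] (.iso 3855 [(15, 9), (18, 10), (19, 11)] (.iso 3855 [(15, 9), (18, 10), (20, 11)] (.iso 3855 [(15, 9), (18, 10), (21, 11)] (.iso 3855 [(15, 9), (18, 10), (22, 11)] (.iso 3855 [(15, 9), (18, 10), (23, 11)] (.iso 3855 [(15, 9), (19, 10), (20, 11)] (.iso 3855 [(15, 9), (19, 10), (21, 11)] (.iso 3855 [(15, 9), (19, 10), (22, 11)] (.iso 3855 [(15, 9), (19, 10), (23, 11)] (.iso 3855 [(15, 9), (20, 10), (21, 11)] (.iso 3855 [(15, 9), (20, 10), (22, 11)] (.iso 3855 [(15, 9), (20, 10), (23, 11)] (.iso 3855 [(15, 9), (21, 10), (22, 11)] phAc110))))))))))))))))))))))))))))))))))))))))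
def phAc112 : Cert := (.iso 3855 [(13, 9), (17, 10), (21, 11)] (.iso 3855 [(13, 9), (17, 10), (22, 11)] (.iso 3855 [(13, 9), (17, 10), (23, 11)] (.iso 3855 [(13, 9), (18, 10), (19, 11)] (.iso 3855 [(13, 9), (18, 10), (20, 11)] (.iso 3855 [(13, 9), (18, 10), (21, 11)] (.iso 3855 [(13, 9), (18, 10), (22, 11)] (.iso 3855 [(13, 9), (18, 10), (23, 11)] (.iso 3855 [(13, 9), (19, 10), (20, 11)] (.iso 3855 [(13, 9), (19, 10), (21, 11)] (.iso 3855 [(13, 9), (19, 10), (22, 11)] (.iso 3855 [(13, 9), (19, 10), (23, 11)] (.iso 3855 [(13, 9), (20, 10), (21, 11)] (.iso 3855 [(13, 9), (20, 10), (22, 11)] (.iso 3855 [(13, 9), (20, 10), (23, 11)] (.iso 3855 [(13, 9), (21, 10), (22, 11)] (.iso 3855 [(13, 9), (21, 10), (23, 11)] (.iso 3855 [(13, 9), (22, 10), (23, 11)] (.iso 3855 [(14, 9), (15, 10), (16, 11)] (.iso 3855 [(14, 9), (15, 10), (17, 11)] (.iso 3855 [(14, 9), (15, 10), (18, 11)] (.iso 3855 [(14, 9), (15, 10),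 (19, 11)] (.iso 3855 [(14, 9), (15, 10), (20, 11)] (.iso 3855 [(14, 9), (15, 10), (21, 11)] (.iso 3855 [(14, 9), (15, 10), (22, 11)] (.iso 3855 [(14, 9), (15, 10), (23, 11)] (.iso 3855 [(14, 9), (16, 10), (17, 11)] (.iso 3855 [(14, 9), (16, 10), (18, 11)] (.iso 3855 [(14, 9), (16, 10), (19, 11)] (.iso 3855 [(14, 9), (16, 10), (20, 11)] (.iso 3855 [(14, 9), (16, 10), (21, 11)] (.iso 3855 [(14, 9), (16, 10), (22, 11)] (.iso 3855 [(14, 9), (16, 10), (23, 11)] (.iso 3855 [(14, 9), (17, 10), (18, 11)] (.iso 3855 [(14, 9), (17, 10), (19, 11)] (.iso 3855 [(14, 9), (17, 10), (20, 11)] (.iso 3855 [(14, 9), (17, 10), (21, 11)] (.iso 3855 [(14, 9), (17, 10), (22, 11)] (.iso 3855 [(14, 9), (17, 10), (23, 11)] (.iso 3855 [(14, 9), (18, 10), (19, 11)] phAc111))))))))))))))))))))))))))))))))))))))))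
def phAc113 : Cert := (.iso 3855 [(12, 9), (18, 10), (21, 11)] (.iso 3855 [(12, 9), (18, 10), (22, 11)] (.iso 3855 [(12, 9), (18, 10), (23, 11)] (.iso 3855 [(12, 9), (19, 10), (20, 11)] (.iso 3855 [(12, 9), (19, 10), (21, 11)] (.iso 3855 [(12, 9), (19, 10), (22, 11)] (.iso 3855 [(12, 9), (19, 10), (23, 11)] (.iso 3855 [(12, 9), (20, 10), (21, 11)] (.iso 3855 [(12, 9), (20, 10), (22, 11)] (.iso 3855 [(12, 9), (20, 10), (23, 11)] (.iso 3855 [(12, 9), (21, 10), (22, 11)] (.iso 3855 [(12, 9), (21, 10), (23, 11)] (.iso 3855 [(12, 9), (22, 10), (23, 11)] (.iso 3855 [(13, 9), (14, 10), (15, 11)] (.iso 3855 [(13, 9), (14, 10), (16, 11)] (.iso 3855 [(13, 9), (14, 10), (17, 11)] (.iso 3855 [(13, 9), (14, 10), (18, 11)] (.iso 3855 [(13, 9), (14, 10), (19, 11)] (.iso 3855 [(13, 9), (14, 10), (20, 11)] (.iso 3855 [(13, 9), (14, 10), (21, 11)] (.iso 3855 [(13, 9), (14, 10), (22, 11)] (.iso 3855 [(13, 9), (14, 10),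 (23, 11)] (.iso 3855 [(13, 9), (15, 10), (16, 11)] (.iso 3855 [(13, 9), (15, 10), (17, 11)] (.iso 3855 [(13, 9), (15, 10), (18, 11)] (.iso 3855 [(13, 9), (15, 10), (19, 11)] (.iso 3855 [(13, 9), (15, 10), (20, 11)] (.iso 3855 [(13, 9), (15, 10), (21, 11)] (.iso 3855 [(13, 9), (15, 10), (22, 11)] (.iso 3855 [(13, 9), (15, 10), (23, 11)] (.iso 3855 [(13, 9), (16, 10), (17, 11)] (.iso 3855 [(13, 9), (16, 10), (18, 11)] (.iso 3855 [(13, 9), (16, 10), (19, 11)] (.iso 3855 [(13, 9), (16, 10), (20, 11)] (.iso 3855 [(13, 9), (16, 10), (21, 11)] (.iso 3855 [(13, 9), (16, 10), (22, 11)] (.iso 3855 [(13, 9), (16, 10), (23, 11)] (.iso 3855 [(13, 9), (17, 10), (18, 11)] (.iso 3855 [(13, 9), (17, 10), (19, 11)] (.iso 3855 [(13, 9), (17, 10), (20, 11)] phAc112))))))))))))))))))))))))))))))))))))))))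
def phAc114 : Cert := (.iso 3855 [(12, 9), (13, 10), (16, 11)] (.iso 3855 [(12, 9), (13, 10), (17, 11)] (.iso 3855 [(12, 9), (13, 10), (18, 11)] (.iso 3855 [(12, 9), (13, 10), (19, 11)] (.iso 3855 [(12, 9), (13, 10), (20, 11)] (.iso 3855 [(12, 9), (13, 10), (21, 11)] (.iso 3855 [(12, 9), (13, 10), (22, 11)] (.iso 3855 [(12, 9), (13, 10), (23, 11)] (.iso 3855 [(12, 9), (14, 10), (15, 11)] (.iso 3855 [(12, 9), (14, 10), (16, 11)] (.iso 3855 [(12, 9), (14, 10), (17, 11)] (.iso 3855 [(12, 9), (14, 10), (18, 11)] (.iso 3855 [(12, 9), (14, 10), (19, 11)] (.iso 3855 [(12, 9), (14, 10), (20, 11)] (.iso 3855 [(12, 9), (14, 10), (21, 11)] (.iso 3855 [(12, 9), (14, 10), (22, 11)] (.iso 3855 [(12, 9), (14, 10), (23, 11)] (.iso 3855 [(12, 9), (15, 10), (16, 11)] (.iso 3855 [(12, 9), (15, 10), (17, 11)] (.iso 3855 [(12, 9), (15, 10), (18, 11)] (.iso 3855 [(12, 9), (15, 10), (19, 11)] (.iso 3855 [(12, 9), (15, 10),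 (20, 11)] (.iso 3855 [(12, 9), (15, 10), (21, 11)] (.iso 3855 [(12, 9), (15, 10), (22, 11)] (.iso 3855 [(12, 9), (15, 10), (23, 11)] (.iso 3855 [(12, 9), (16, 10), (17, 11)] (.iso 3855 [(12, 9), (16, 10), (18, 11)] (.iso 3855 [(12, 9), (16, 10), (19, 11)] (.iso 3855 [(12, 9), (16, 10), (20, 11)] (.iso 3855 [(12, 9), (16, 10), (21, 11)] (.iso 3855 [(12, 9), (16, 10), (22, 11)] (.iso 3855 [(12, 9), (16, 10), (23, 11)] (.iso 3855 [(12, 9), (17, 10), (18, 11)] (.iso 3855 [(12, 9), (17, 10), (19, 11)] (.iso 3855 [(12, 9), (17, 10), (20, 11)] (.iso 3855 [(12, 9), (17, 10), (21, 11)] (.iso 3855 [(12, 9), (17, 10), (22, 11)] (.iso 3855 [(12, 9), (17, 10), (23, 11)] (.iso 3855 [(12, 9), (18, 10), (19, 11)] (.iso 3855 [(12, 9), (18, 10), (20, 11)] phAc113))))))))))))))))))))))))))))))))))))))))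
def phAc115 : Cert := (.iso 3855 [(14, 9), (22, 10)] (.iso 3855 [(14, 9), (23, 10)] (.iso 3855 [(15, 9), (16, 10)] (.iso 3855 [(15, 9), (17, 10)] (.iso 3855 [(15, 9), (18, 10)] (.iso 3855 [(15, 9), (19, 10)] (.iso 3855 [(15, 9), (20, 10)] (.iso 3855 [(15, 9), (21, 10)] (.iso 3855 [(15, 9), (22, 10)] (.iso 3855 [(15, 9), (23, 10)] (.iso 3855 [(16, 9), (17, 10)] (.iso 3855 [(16, 9), (18, 10)] (.iso 3855 [(16, 9), (19, 10)] (.iso 3855 [(16, 9), (20, 10)] (.iso 3855 [(16, 9), (21, 10)] (.iso 3855 [(16, 9), (22, 10)] (.iso 3855 [(16, 9), (23, 10)] (.iso 3855 [(17, 9), (18, 10)] (.iso 3855 [(17, 9), (19, 10)] (.iso 3855 [(17, 9), (20, 10)] (.iso 3855 [(17, 9), (21, 10)] (.iso 3855 [(17, 9), (22, 10)] (.iso 3855 [(17, 9), (23, 10)] (.iso 3855 [(18, 9), (19, 10)] (.iso 3855 [(18, 9), (20, 10)] (.iso 3855 [(18, 9), (21, 10)] (.iso 3855 [(18, 9), (22, 10)] (.iso 3855 [(18, 9), (23, 10)] (.iso 3855 [(19, 9),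 (20, 10)] (.iso 3855 [(19, 9), (21, 10)] (.iso 3855 [(19, 9), (22, 10)] (.iso 3855 [(19, 9), (23, 10)] (.iso 3855 [(20, 9), (21, 10)] (.iso 3855 [(20, 9), (22, 10)] (.iso 3855 [(20, 9), (23, 10)] (.iso 3855 [(21, 9), (22, 10)] (.iso 3855 [(21, 9), (23, 10)] (.iso 3855 [(22, 9), (23, 10)] (.iso 3855 [(12, 9), (13, 10), (14, 11)] (.iso 3855 [(12, 9), (13, 10), (15, 11)] phAc114))))))))))))))))))))))))))))))))))))))))
def phAc116 : Cert := (.iso 3855 [(18, 9), (22, 11)] (.iso 3855 [(18, 9), (23, 11)] (.iso 3855 [(19, 9), (20, 11)] (.iso 3855 [(19, 9), (21, 11)] (.iso 3855 [(19, 9), (22, 11)] (.iso 3855 [(19, 9), (23, 11)] (.iso 3855 [(20, 9), (21, 11)] (.iso 3855 [(20, 9), (22, 11)] (.iso 3855 [(20, 9), (23, 11)] (.iso 3855 [(21, 9), (22, 11)] (.iso 3855 [(21, 9), (23, 11)] (.iso 3855 [(22, 9), (23, 11)] (.iso 3855 [(12, 9), (13, 10)] (.iso 3855 [(12, 9), (14, 10)] (.iso 3855 [(12, 9), (15, 10)] (.iso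 3855 [(12, 9), (16, 10)] (.iso 3855 [(12, 9), (17, 10)] (.iso 3855 [(12, 9), (18, 10)] (.iso 3855 [(12, 9), (19, 10)] (.iso 3855 [(12, 9), (20, 10)] (.iso 3855 [(12, 9), (21, 10)] (.iso 3855 [(12, 9), (22, 10)] (.iso 3855 [(12, 9), (23, 10)] (.iso 3855 [(13, 9), (14, 10)] (.iso 3855 [(13, 9), (15, 10)] (.iso 3855 [(13, 9), (16, 10)] (.iso 3855 [(13, 9), (17, 10)] (.iso 3855 [(13, 9), (18, 10)] (.iso 3855 [(13, 9), (19, 10)] (.iso 3855 [(13, 9), (20, 10)] (.iso 3855 [(13, 9), (21, 10)] (.iso 3855 [(13, 9), (22, 10)] (.iso 3855 [(13, 9), (23, 10)] (.iso 3855 [(14, 9), (15, 10)] (.iso 3855 [(14, 9), (16, 10)] (.iso 3855 [(14, 9), (17, 10)] (.iso 3855 [(14, 9), (18, 10)] (.iso 3855 [(14, 9), (19, 10)] (.iso 3855 [(14, 9), (20, 10)] (.iso 3855 [(14, 9), (21, 10)] phAc115))))))))))))))))))))))))))))))))))))))))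
def phAc117 : Cert := (.iso 3855 [(13, 9), (17, 11)] (.iso 3855 [(13, 9), (18, 11)] (.iso 3855 [(13, 9), (19, 11)] (.iso 3855 [(13, 9), (20, 11)] (.iso 3855 [(13, 9), (21, 11)] (.iso 3855 [(13, 9), (22, 11)] (.iso 3855 [(13, 9), (23, 11)] (.iso 3855 [(14, 9), (15, 11)] (.iso 3855 [(14, 9), (16, 11)] (.iso 3855 [(14, 9), (17, 11)] (.iso 3855 [(14, 9), (18, 11)] (.iso 3855 [(14, 9), (19, 11)] (.iso 3855 [(14, 9), (20, 11)] (.iso 3855 [(14, 9), (21, 11)] (.iso 3855 [(14, 9), (22, 11)] (.iso 3855 [(14, 9), (23, 11)] (.iso 3855 [(15, 9), (16, 11)] (.iso 3855 [(15, 9), (17, 11)] (.iso 3855 [(15, 9), (18, 11)] (.iso 3855 [(15, 9), (19, 11)] (.iso 3855 [(15, 9), (20, 11)] (.iso 3855 [(15, 9), (21, 11)] (.iso 3855 [(15, 9), (22, 11)] (.iso 3855 [(15, 9), (23, 11)] (.iso 3855 [(16, 9), (17, 11)] (.iso 3855 [(16, 9), (18, 11)] (.iso 3855 [(16, 9), (19, 11)] (.iso 3855 [(16, 9), (20, 11)] (.iso 3855 [(16, 9),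 (21, 11)] (.iso 3855 [(16, 9), (22, 11)] (.iso 3855 [(16, 9), (23, 11)] (.iso 3855 [(17, 9), (18, 11)] (.iso 3855 [(17, 9), (19, 11)] (.iso 3855 [(17, 9), (20, 11)] (.iso 3855 [(17, 9), (21, 11)] (.iso 3855 [(17, 9), (22, 11)] (.iso 3855 [(17, 9), (23, 11)] (.iso 3855 [(18, 9), (19, 11)] (.iso 3855 [(18, 9), (20, 11)] (.iso 3855 [(18, 9), (21, 11)] phAc116))))))))))))))))))))))))))))))))))))))))
def phAc118 : Cert := (.iso 3855 [(18, 10), (20, 11)] (.iso 3855 [(18, 10), (21, 11)] (.iso 3855 [(18, 10), (22, 11)] (.iso 3855 [(18, 10), (23, 11)] (.iso 3855 [(19, 10), (20, 11)] (.iso 3855 [(19, 10), (21, 11)] (.iso 3855 [(19, 10), (22, 11)] (.iso 3855 [(19, 10), (23, 11)] (.iso 3855 [(20, 10), (21, 11)] (.iso 3855 [(20, 10), (22, 11)] (.iso 3855 [(20, 10), (23, 11)] (.iso 3855 [(21, 10), (22, 11)] (.iso 3855 [(21, 10), (23, 11)] (.iso 3855 [(22, 10), (23, 11)] (.iso 3855 [(12, 9)] (.iso 3855 [(13, 9)]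 (.iso 3855 [(14, 9)] (.iso 3855 [(15, 9)] (.iso 3855 [(16, 9)] (.iso 3855 [(17, 9)] (.iso 3855 [(18, 9)] (.iso 3855 [(19, 9)] (.iso 3855 [(20, 9)] (.iso 3855 [(21, 9)] (.iso 3855 [(22, 9)] (.iso 3855 [(23, 9)] (.iso 3855 [(12, 9), (13, 11)] (.iso 3855 [(12, 9), (14, 11)] (.iso 3855 [(12, 9), (15, 11)] (.iso 3855 [(12, 9), (16, 11)] (.iso 3855 [(12, 9), (17, 11)] (.iso 3855 [(12, 9), (18, 11)] (.iso 3855 [(12, 9), (19, 11)] (.iso 3855 [(12, 9), (20, 11)] (.iso 3855 [(12, 9), (21, 11)] (.iso 3855 [(12, 9), (22, 11)] (.iso 3855 [(12, 9), (23, 11)] (.iso 3855 [(13, 9), (14, 11)] (.iso 3855 [(13, 9), (15, 11)] (.iso 3855 [(13, 9), (16, 11)] phAc117))))))))))))))))))))))))))))))))))))))))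
def phAc119 : Cert := (.iso 3855 [(13, 10), (15, 11)] (.iso 3855 [(13, 10), (16, 11)] (.iso 3855 [(13, 10), (17, 11)] (.iso 3855 [(13, 10), (18, 11)] (.iso 3855 [(13, 10), (19, 11)] (.iso 3855 [(13, 10), (20, 11)] (.iso 3855 [(13, 10), (21, 11)] (.iso 3855 [(13, 10), (22, 11)] (.iso 3855 [(13, 10), (23, 11)] (.iso 3855 [(14, 10), (15, 11)] (.iso 3855 [(14, 10), (16, 11)] (.iso 3855 [(14, 10), (17, 11)] (.iso 3855 [(14, 10), (18, 11)] (.iso 3855 [(14, 10), (19, 11)] (.iso 3855 [(14, 10), (20, 11)] (.iso 3855 [(14, 10), (21, 11)] (.iso 3855 [(14, 10), (22, 11)] (.iso 3855 [(14, 10), (23, 11)] (.iso 3855 [(15, 10), (16, 11)] (.iso 3855 [(15, 10), (17, 11)] (.iso 3855 [(15, 10), (18, 11)] (.iso 3855 [(15, 10), (19, 11)] (.iso 3855 [(15, 10), (20, 11)] (.iso 3855 [(15, 10), (21, 11)] (.iso 3855 [(15, 10), (22, 11)] (.iso 3855 [(15, 10), (23, 11)] (.iso 3855 [(16, 10), (17, 11)] (.iso 3855 [(16, 10), (18,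 11)] (.iso 3855 [(16, 10), (19, 11)] (.iso 3855 [(16, 10), (20, 11)] (.iso 3855 [(16, 10), (21, 11)] (.iso 3855 [(16, 10), (22, 11)] (.iso 3855 [(16, 10), (23, 11)] (.iso 3855 [(17, 10), (18, 11)] (.iso 3855 [(17, 10), (19, 11)] (.iso 3855 [(17, 10), (20, 11)] (.iso 3855 [(17, 10), (21, 11)] (.iso 3855 [(17, 10), (22, 11)] (.iso 3855 [(17, 10), (23, 11)] (.iso 3855 [(18, 10), (19, 11)] phAc118))))))))))))))))))))))))))))))))))))))))
def phAc120 : Cert := (.iso 255 [(19, 5), (20, 6), (21, 7)] (.iso 255 [(19, 5), (20, 6), (22, 7)] (.iso 255 [(19, 5), (20, 6), (23, 7)] (.iso 255 [(19, 5), (21, 6), (22, 7)] (.iso 255 [(19, 5), (21, 6), (23, 7)] (.iso 255 [(19, 5), (22, 6), (23, 7)] (.iso 255 [(20, 5), (21, 6), (22, 7)] (.iso 255 [(20, 5), (21, 6), (23, 7)] (.iso 255 [(20, 5), (22, 6), (23, 7)] (.iso 255 [(21, 5), (22, 6), (23, 7)] .nil))))))))))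
def phAc121 : Cert := (.iso 255 [(16, 5), (18, 6), (19, 7)] (.iso 255 [(16, 5), (18, 6), (20, 7)] (.iso 255 [(16, 5), (18, 6), (21, 7)] (.iso 255 [(16, 5), (18, 6), (22, 7)] (.iso 255 [(16, 5), (18, 6), (23, 7)] (.iso 255 [(16, 5), (19, 6), (20, 7)] (.iso 255 [(16, 5), (19, 6), (21, 7)] (.iso 255 [(16, 5), (19, 6), (22, 7)] (.iso 255 [(16, 5), (19, 6), (23, 7)] (.iso 255 [(16, 5), (20, 6), (21, 7)] (.iso 255 [(16, 5), (20, 6), (22, 7)] (.iso 255 [(16, 5), (20, 6), (23, 7)] (.iso 255 [(16, 5), (21, 6), (22, 7)] (.iso 255 [(16, 5), (21, 6), (23, 7)] (.iso 255 [(16, 5), (22, 6), (23, 7)] (.iso 255 [(17, 5), (18, 6), (19, 7)] (.iso 255 [(17, 5), (18, 6), (20, 7)] (.iso 255 [(17, 5), (18, 6), (21, 7)] (.iso 255 [(17, 5), (18, 6), (22, 7)] (.iso 255 [(17, 5), (18, 6), (23, 7)] (.iso 255 [(17, 5), (19, 6), (20, 7)] (.iso 255 [(17, 5), (19, 6), (21, 7)] (.iso 255 [(17, 5), (19, 6), (22, 7)] (.iso 255 [(17,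 5), (19, 6), (23, 7)] (.iso 255 [(17, 5), (20, 6), (21, 7)] (.iso 255 [(17, 5), (20, 6), (22, 7)] (.iso 255 [(17, 5), (20, 6), (23, 7)] (.iso 255 [(17, 5), (21, 6), (22, 7)] (.iso 255 [(17, 5), (21, 6), (23, 7)] (.iso 255 [(17, 5), (22, 6), (23, 7)] (.iso 255 [(18, 5), (19, 6), (20, 7)] (.iso 255 [(18, 5), (19, 6), (21, 7)] (.iso 255 [(18, 5), (19, 6), (22, 7)] (.iso 255 [(18, 5), (19, 6), (23, 7)] (.iso 255 [(18, 5), (20, 6), (21, 7)] (.iso 255 [(18, 5), (20, 6), (22, 7)] (.iso 255 [(18, 5), (20, 6), (23, 7)] (.iso 255 [(18, 5), (21, 6), (22, 7)] (.iso 255 [(18, 5), (21, 6), (23, 7)] (.iso 255 [(18, 5), (22, 6), (23, 7)] phAc120))))))))))))))))))))))))))))))))))))))))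
def phAc122 : Cert := (.iso 255 [(14, 5), (20, 6), (21, 7)] (.iso 255 [(14, 5), (20, 6), (22, 7)] (.iso 255 [(14, 5), (20, 6), (23, 7)] (.iso 255 [(14, 5), (21, 6), (22, 7)] (.iso 255 [(14, 5), (21, 6), (23, 7)] (.iso 255 [(14, 5), (22, 6), (23, 7)] (.iso 255 [(15, 5), (16, 6), (17, 7)] (.iso 255 [(15, 5), (16, 6), (18, 7)] (.iso 255 [(15, 5), (16, 6), (19, 7)] (.iso 255 [(15, 5), (16, 6), (20, 7)] (.iso 255 [(15, 5), (16, 6), (21, 7)] (.iso 255 [(15, 5), (16, 6), (22, 7)] (.iso 255 [(15, 5), (16, 6), (23, 7)] (.iso 255 [(15, 5), (17, 6), (18, 7)] (.iso 255 [(15, 5), (17, 6), (19, 7)] (.iso 255 [(15, 5), (17, 6), (20, 7)] (.iso 255 [(15, 5), (17, 6), (21, 7)] (.iso 255 [(15, 5), (17, 6), (22, 7)] (.iso 255 [(15, 5), (17, 6), (23, 7)] (.iso 255 [(15, 5), (18, 6), (19, 7)] (.iso 255 [(15, 5), (18, 6), (20, 7)] (.iso 255 [(15, 5), (18, 6), (21, 7)] (.iso 255 [(15, 5), (18, 6), (22, 7)] (.iso 255 [(15,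 5), (18, 6), (23, 7)] (.iso 255 [(15, 5), (19, 6), (20, 7)] (.iso 255 [(15, 5), (19, 6), (21, 7)] (.iso 255 [(15, 5), (19, 6), (22, 7)] (.iso 255 [(15, 5), (19, 6), (23, 7)] (.iso 255 [(15, 5), (20, 6), (21, 7)] (.iso 255 [(15, 5), (20, 6), (22, 7)] (.iso 255 [(15, 5), (20, 6), (23, 7)] (.iso 255 [(15, 5), (21, 6), (22, 7)] (.iso 255 [(15, 5), (21, 6), (23, 7)] (.iso 255 [(15, 5), (22, 6), (23, 7)] (.iso 255 [(16, 5), (17, 6), (18, 7)] (.iso 255 [(16, 5), (17, 6), (19, 7)] (.iso 255 [(16, 5), (17, 6), (20, 7)] (.iso 255 [(16, 5), (17, 6), (21, 7)] (.iso 255 [(16, 5), (17, 6), (22, 7)] (.iso 255 [(16, 5), (17, 6), (23, 7)] phAc121))))))))))))))))))))))))))))))))))))))))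
def phAc123 : Cert := (.iso 255 [(13, 5), (19, 6), (20, 7)] (.iso 255 [(13, 5), (19, 6), (21, 7)] (.iso 255 [(13, 5), (19, 6), (22, 7)] (.iso 255 [(13, 5), (19, 6), (23, 7)] (.iso 255 [(13, 5), (20, 6), (21, 7)] (.iso 255 [(13, 5), (20, 6), (22, 7)] (.iso 255 [(13, 5), (20, 6), (23, 7)] (.iso 255 [(13, 5), (21, 6), (22, 7)] (.iso 255 [(13, 5), (21, 6), (23, 7)] (.iso 255 [(13, 5), (22, 6), (23, 7)] (.iso 255 [(14, 5), (15, 6), (16, 7)] (.iso 255 [(14, 5), (15, 6), (17, 7)] (.iso 255 [(14, 5), (15, 6), (18, 7)] (.iso 255 [(14, 5), (15, 6), (19, 7)] (.iso 255 [(14, 5), (15, 6), (20, 7)] (.iso 255 [(14, 5), (15, 6), (21, 7)] (.iso 255 [(14, 5), (15, 6), (22, 7)] (.iso 255 [(14, 5), (15, 6), (23, 7)] (.iso 255 [(14, 5), (16, 6), (17, 7)] (.iso 255 [(14, 5), (16, 6), (18, 7)] (.iso 255 [(14, 5), (16, 6), (19, 7)] (.iso 255 [(14, 5), (16, 6), (20, 7)] (.iso 255 [(14, 5), (16, 6), (21, 7)] (.iso 255 [(14,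 5), (16, 6), (22, 7)] (.iso 255 [(14, 5), (16, 6), (23, 7)] (.iso 255 [(14, 5), (17, 6), (18, 7)] (.iso 255 [(14, 5), (17, 6), (19, 7)] (.iso 255 [(14, 5), (17, 6), (20, 7)] (.iso 255 [(14, 5), (17, 6), (21, 7)] (.iso 255 [(14, 5), (17, 6), (22, 7)] (.iso 255 [(14, 5), (17, 6), (23, 7)] (.iso 255 [(14, 5), (18, 6), (19, 7)] (.iso 255 [(14, 5), (18, 6), (20, 7)] (.iso 255 [(14, 5), (18, 6), (21, 7)] (.iso 255 [(14, 5), (18, 6), (22, 7)] (.iso 255 [(14, 5), (18, 6), (23, 7)] (.iso 255 [(14, 5), (19, 6), (20, 7)] (.iso 255 [(14, 5), (19, 6), (21, 7)] (.iso 255 [(14, 5), (19, 6), (22, 7)] (.iso 255 [(14, 5), (19, 6), (23, 7)] phAc122))))))))))))))))))))))))))))))))))))))))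
def phAc124 : Cert := (.iso 255 [(12, 5), (20, 6), (22, 7)] (.iso 255 [(12, 5), (20, 6), (23, 7)] (.iso 255 [(12, 5), (21, 6), (22, 7)] (.iso 255 [(12, 5), (21, 6), (23, 7)] (.iso 255 [(12, 5), (22, 6), (23, 7)] (.iso 255 [(13, 5), (14, 6), (15, 7)] (.iso 255 [(13, 5), (14, 6), (16, 7)] (.iso 255 [(13, 5), (14, 6), (17, 7)] (.iso 255 [(13, 5), (14, 6), (18, 7)] (.iso 255 [(13, 5), (14, 6), (19, 7)] (.iso 255 [(13, 5), (14, 6), (20, 7)] (.iso 255 [(13, 5), (14, 6), (21, 7)] (.iso 255 [(13, 5), (14, 6), (22, 7)] (.iso 255 [(13, 5), (14, 6), (23, 7)] (.iso 255 [(13, 5), (15, 6), (16, 7)] (.iso 255 [(13, 5), (15, 6), (17, 7)] (.iso 255 [(13, 5), (15, 6), (18, 7)] (.iso 255 [(13, 5), (15, 6), (19, 7)] (.iso 255 [(13, 5), (15, 6), (20, 7)] (.iso 255 [(13, 5), (15, 6), (21, 7)] (.iso 255 [(13, 5), (15, 6), (22, 7)] (.iso 255 [(13, 5), (15, 6), (23, 7)] (.iso 255 [(13, 5), (16, 6), (17, 7)] (.iso 255 [(13,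 5), (16, 6), (18, 7)] (.iso 255 [(13, 5), (16, 6), (19, 7)] (.iso 255 [(13, 5), (16, 6), (20, 7)] (.iso 255 [(13, 5), (16, 6), (21, 7)] (.iso 255 [(13, 5), (16, 6), (22, 7)] (.iso 255 [(13, 5), (16, 6), (23, 7)] (.iso 255 [(13, 5), (17, 6), (18, 7)] (.iso 255 [(13, 5), (17, 6), (19, 7)] (.iso 255 [(13, 5), (17, 6), (20, 7)] (.iso 255 [(13, 5), (17, 6), (21, 7)] (.iso 255 [(13, 5), (17, 6), (22, 7)] (.iso 255 [(13, 5), (17, 6), (23, 7)] (.iso 255 [(13, 5), (18, 6), (19, 7)] (.iso 255 [(13, 5), (18, 6), (20, 7)] (.iso 255 [(13, 5), (18, 6), (21, 7)] (.iso 255 [(13, 5), (18, 6), (22, 7)] (.iso 255 [(13, 5), (18, 6), (23, 7)] phAc123))))))))))))))))))))))))))))))))))))))))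
def phAc125 : Cert := (.iso 255 [(12, 5), (14, 6), (15, 7)] (.iso 255 [(12, 5), (14, 6), (16, 7)] (.iso 255 [(12, 5), (14, 6), (17, 7)] (.iso 255 [(12, 5), (14, 6), (18, 7)] (.iso 255 [(12, 5), (14, 6), (19, 7)] (.iso 255 [(12, 5), (14, 6), (20, 7)] (.iso 255 [(12, 5), (14, 6), (21, 7)] (.iso 255 [(12, 5), (14, 6), (22, 7)] (.iso 255 [(12, 5), (14, 6), (23, 7)] (.iso 255 [(12, 5), (15, 6), (16, 7)] (.iso 255 [(12, 5), (15, 6), (17, 7)] (.iso 255 [(12, 5), (15, 6), (18, 7)] (.iso 255 [(12, 5), (15, 6), (19, 7)] (.iso 255 [(12, 5), (15, 6), (20, 7)] (.iso 255 [(12, 5), (15, 6), (21, 7)] (.iso 255 [(12, 5), (15, 6), (22, 7)] (.iso 255 [(12, 5), (15, 6), (23, 7)] (.iso 255 [(12, 5), (16, 6), (17, 7)] (.iso 255 [(12, 5), (16, 6), (18, 7)] (.iso 255 [(12, 5), (16, 6), (19, 7)] (.iso 255 [(12, 5), (16, 6), (20, 7)] (.iso 255 [(12, 5), (16, 6), (21, 7)] (.iso 255 [(12, 5), (16, 6), (22, 7)] (.iso 255 [(12,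 5), (16, 6), (23, 7)] (.iso 255 [(12, 5), (17, 6), (18, 7)] (.iso 255 [(12, 5), (17, 6), (19, 7)] (.iso 255 [(12, 5), (17, 6), (20, 7)] (.iso 255 [(12, 5), (17, 6), (21, 7)] (.iso 255 [(12, 5), (17, 6), (22, 7)] (.iso 255 [(12, 5), (17, 6), (23, 7)] (.iso 255 [(12, 5), (18, 6), (19, 7)] (.iso 255 [(12, 5), (18, 6), (20, 7)] (.iso 255 [(12, 5), (18, 6), (21, 7)] (.iso 255 [(12, 5), (18, 6), (22, 7)] (.iso 255 [(12, 5), (18, 6), (23, 7)] (.iso 255 [(12, 5), (19, 6), (20, 7)] (.iso 255 [(12, 5), (19, 6), (21, 7)] (.iso 255 [(12, 5), (19, 6), (22, 7)] (.iso 255 [(12, 5), (19, 6), (23, 7)] (.iso 255 [(12, 5), (20, 6), (21, 7)] phAc124))))))))))))))))))))))))))))))))))))))))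
def phAc126 : Cert := (.iso 255 [(11, 5), (15, 6), (22, 7)] (.iso 255 [(11, 5), (15, 6), (23, 7)] (.iso 255 [(11, 5), (16, 6), (17, 7)] (.iso 255 [(11, 5), (16, 6), (18, 7)] (.iso 255 [(11, 5), (16, 6), (19, 7)] (.iso 255 [(11, 5), (16, 6), (20, 7)] (.iso 255 [(11, 5), (16, 6), (21, 7)] (.iso 255 [(11, 5), (16, 6), (22, 7)] (.iso 255 [(11, 5), (16, 6), (23, 7)] (.iso 255 [(11, 5), (17, 6), (18, 7)] (.iso 255 [(11, 5), (17, 6), (19, 7)] (.iso 255 [(11, 5), (17, 6), (20, 7)] (.iso 255 [(11, 5), (17, 6), (21, 7)] (.iso 255 [(11, 5), (17, 6), (22, 7)] (.iso 255 [(11, 5), (17, 6), (23, 7)] (.iso 255 [(11, 5), (18, 6), (19, 7)] (.iso 255 [(11, 5), (18, 6), (20, 7)] (.iso 255 [(11, 5), (18, 6), (21, 7)] (.iso 255 [(11, 5), (18, 6), (22, 7)] (.iso 255 [(11, 5), (18, 6), (23, 7)] (.iso 255 [(11, 5), (19, 6), (20, 7)] (.iso 255 [(11, 5), (19, 6), (21, 7)] (.iso 255 [(11, 5), (19, 6), (22, 7)] (.iso 255 [(11,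 5), (19, 6), (23, 7)] (.iso 255 [(11, 5), (20, 6), (21, 7)] (.iso 255 [(11, 5), (20, 6), (22, 7)] (.iso 255 [(11, 5), (20, 6), (23, 7)] (.iso 255 [(11, 5), (21, 6), (22, 7)] (.iso 255 [(11, 5), (21, 6), (23, 7)] (.iso 255 [(11, 5), (22, 6), (23, 7)] (.iso 255 [(12, 5), (13, 6), (14, 7)] (.iso 255 [(12, 5), (13, 6), (15, 7)] (.iso 255 [(12, 5), (13, 6), (16, 7)] (.iso 255 [(12, 5), (13, 6), (17, 7)] (.iso 255 [(12, 5), (13, 6), (18, 7)] (.iso 255 [(12, 5), (13, 6), (19, 7)] (.iso 255 [(12, 5), (13, 6), (20, 7)] (.iso 255 [(12, 5), (13, 6), (21, 7)] (.iso 255 [(12, 5), (13, 6), (22, 7)] (.iso 255 [(12, 5), (13, 6), (23, 7)] phAc125))))))))))))))))))))))))))))))))))))))))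
def phAc127 : Cert := (.iso 255 [(10, 5), (20, 6), (23, 7)] (.iso 255 [(10, 5), (21, 6), (22, 7)] (.iso 255 [(10, 5), (21, 6), (23, 7)] (.iso 255 [(10, 5), (22, 6), (23, 7)] (.iso 255 [(11, 5), (12, 6), (13, 7)] (.iso 255 [(11, 5), (12, 6), (14, 7)] (.iso 255 [(11, 5), (12, 6), (15, 7)] (.iso 255 [(11, 5), (12, 6), (16, 7)] (.iso 255 [(11, 5), (12, 6), (17, 7)] (.iso 255 [(11, 5), (12, 6), (18, 7)] (.iso 255 [(11, 5), (12, 6), (19, 7)] (.iso 255 [(11, 5), (12, 6), (20, 7)] (.iso 255 [(11, 5), (12, 6), (21, 7)] (.iso 255 [(11, 5), (12, 6), (22, 7)] (.iso 255 [(11, 5), (12, 6), (23, 7)] (.iso 255 [(11, 5), (13, 6), (14, 7)] (.iso 255 [(11, 5), (13, 6), (15, 7)] (.iso 255 [(11, 5), (13, 6), (16, 7)] (.iso 255 [(11, 5), (13, 6), (17, 7)] (.iso 255 [(11, 5), (13, 6), (18, 7)] (.iso 255 [(11, 5), (13, 6), (19, 7)] (.iso 255 [(11, 5), (13, 6), (20, 7)] (.iso 255 [(11, 5), (13, 6), (21, 7)] (.iso 255 [(11,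 5), (13, 6), (22, 7)] (.iso 255 [(11, 5), (13, 6), (23, 7)] (.iso 255 [(11, 5), (14, 6), (15, 7)] (.iso 255 [(11, 5), (14, 6), (16, 7)] (.iso 255 [(11, 5), (14, 6), (17, 7)] (.iso 255 [(11, 5), (14, 6), (18, 7)] (.iso 255 [(11, 5), (14, 6), (19, 7)] (.iso 255 [(11, 5), (14, 6), (20, 7)] (.iso 255 [(11, 5), (14, 6), (21, 7)] (.iso 255 [(11, 5), (14, 6), (22, 7)] (.iso 255 [(11, 5), (14, 6), (23, 7)] (.iso 255 [(11, 5), (15, 6), (16, 7)] (.iso 255 [(11, 5), (15, 6), (17, 7)] (.iso 255 [(11, 5), (15, 6), (18, 7)] (.iso 255 [(11, 5), (15, 6), (19, 7)] (.iso 255 [(11, 5), (15, 6), (20, 7)] (.iso 255 [(11, 5), (15, 6), (21, 7)] phAc126))))))))))))))))))))))))))))))))))))))))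
def phAc128 : Cert := (.iso 255 [(10, 5), (14, 6), (16, 7)] (.iso 255 [(10, 5), (14, 6), (17, 7)] (.iso 255 [(10, 5), (14, 6), (18, 7)] (.iso 255 [(10, 5), (14, 6), (19, 7)] (.iso 255 [(10, 5), (14, 6), (20, 7)] (.iso 255 [(10, 5), (14, 6), (21, 7)] (.iso 255 [(10, 5), (14, 6), (22, 7)] (.iso 255 [(10, 5), (14, 6), (23, 7)] (.iso 255 [(10, 5), (15, 6), (16, 7)] (.iso 255 [(10, 5), (15, 6), (17, 7)] (.iso 255 [(10, 5), (15, 6), (18, 7)] (.iso 255 [(10, 5), (15, 6), (19, 7)] (.iso 255 [(10, 5), (15, 6), (20, 7)] (.iso 255 [(10, 5), (15, 6), (21, 7)] (.iso 255 [(10, 5), (15, 6), (22, 7)] (.iso 255 [(10, 5), (15, 6), (23, 7)] (.iso 255 [(10, 5), (16, 6), (17, 7)] (.iso 255 [(10, 5), (16, 6), (18, 7)] (.iso 255 [(10, 5), (16, 6), (19, 7)] (.iso 255 [(10, 5), (16, 6), (20, 7)] (.iso 255 [(10, 5), (16, 6), (21, 7)] (.iso 255 [(10, 5), (16, 6), (22, 7)] (.iso 255 [(10, 5), (16, 6), (23, 7)] (.iso 255 [(10,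 5), (17, 6), (18, 7)] (.iso 255 [(10, 5), (17, 6), (19, 7)] (.iso 255 [(10, 5), (17, 6), (20, 7)] (.iso 255 [(10, 5), (17, 6), (21, 7)] (.iso 255 [(10, 5), (17, 6), (22, 7)] (.iso 255 [(10, 5), (17, 6), (23, 7)] (.iso 255 [(10, 5), (18, 6), (19, 7)] (.iso 255 [(10, 5), (18, 6), (20, 7)] (.iso 255 [(10, 5), (18, 6), (21, 7)] (.iso 255 [(10, 5), (18, 6), (22, 7)] (.iso 255 [(10, 5), (18, 6), (23, 7)] (.iso 255 [(10, 5), (19, 6), (20, 7)] (.iso 255 [(10, 5), (19, 6), (21, 7)] (.iso 255 [(10, 5), (19, 6), (22, 7)] (.iso 255 [(10, 5), (19, 6), (23, 7)] (.iso 255 [(10, 5), (20, 6), (21, 7)] (.iso 255 [(10, 5), (20, 6), (22, 7)] phAc127))))))))))))))))))))))))))))))))))))))))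
def phAc129 : Cert := (.iso 255 [(9, 5), (20, 6), (21, 7)] (.iso 255 [(9, 5), (20, 6), (22, 7)] (.iso 255 [(9, 5), (20, 6), (23, 7)] (.iso 255 [(9, 5), (21, 6), (22, 7)] (.iso 255 [(9, 5), (21, 6), (23, 7)] (.iso 255 [(9, 5), (22, 6), (23, 7)] (.iso 255 [(10, 5), (11, 6), (12, 7)] (.iso 255 [(10, 5), (11, 6), (13, 7)] (.iso 255 [(10, 5), (11, 6), (14, 7)] (.iso 255 [(10, 5), (11, 6), (15, 7)] (.iso 255 [(10, 5), (11, 6), (16, 7)] (.iso 255 [(10, 5), (11, 6), (17, 7)] (.iso 255 [(10, 5), (11, 6), (18, 7)] (.iso 255 [(10, 5), (11, 6), (19, 7)] (.iso 255 [(10, 5), (11, 6), (20, 7)] (.iso 255 [(10, 5), (11, 6), (21, 7)] (.iso 255 [(10, 5), (11, 6), (22, 7)] (.iso 255 [(10, 5), (11, 6), (23, 7)] (.iso 255 [(10, 5), (12, 6), (13, 7)] (.iso 255 [(10, 5), (12, 6), (14, 7)] (.iso 255 [(10, 5), (12, 6), (15, 7)] (.iso 255 [(10, 5), (12, 6), (16, 7)] (.iso 255 [(10, 5), (12, 6), (17, 7)] (.iso 255 [(10, 5), (12,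 6), (18, 7)] (.iso 255 [(10, 5), (12, 6), (19, 7)] (.iso 255 [(10, 5), (12, 6), (20, 7)] (.iso 255 [(10, 5), (12, 6), (21, 7)] (.iso 255 [(10, 5), (12, 6), (22, 7)] (.iso 255 [(10, 5), (12, 6), (23, 7)] (.iso 255 [(10, 5), (13, 6), (14, 7)] (.iso 255 [(10, 5), (13, 6), (15, 7)] (.iso 255 [(10, 5), (13, 6), (16, 7)] (.iso 255 [(10, 5), (13, 6), (17, 7)] (.iso 255 [(10, 5), (13, 6), (18, 7)] (.iso 255 [(10, 5), (13, 6), (19, 7)] (.iso 255 [(10, 5), (13, 6), (20, 7)] (.iso 255 [(10, 5), (13, 6), (21, 7)] (.iso 255 [(10, 5), (13, 6), (22, 7)] (.iso 255 [(10, 5), (13, 6), (23, 7)] (.iso 255 [(10, 5), (14, 6), (15, 7)] phAc128))))))))))))))))))))))))))))))))))))))))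
def phAc130 : Cert := (.iso 255 [(9, 5), (13, 6), (23, 7)] (.iso 255 [(9, 5), (14, 6), (15, 7)] (.iso 255 [(9, 5), (14, 6), (16, 7)] (.iso 255 [(9, 5), (14, 6), (17, 7)] (.iso 255 [(9, 5), (14, 6), (18, 7)] (.iso 255 [(9, 5), (14, 6), (19, 7)] (.iso 255 [(9, 5), (14, 6), (20, 7)] (.iso 255 [(9, 5), (14, 6), (21, 7)] (.iso 255 [(9, 5), (14, 6), (22, 7)] (.iso 255 [(9, 5), (14, 6), (23, 7)] (.iso 255 [(9, 5), (15, 6), (16, 7)] (.iso 255 [(9, 5), (15, 6), (17, 7)] (.iso 255 [(9, 5), (15, 6), (18, 7)] (.iso 255 [(9, 5), (15, 6), (19, 7)] (.iso 255 [(9, 5), (15, 6), (20, 7)] (.iso 255 [(9, 5), (15, 6), (21, 7)] (.iso 255 [(9, 5), (15, 6), (22, 7)] (.iso 255 [(9, 5), (15, 6), (23, 7)] (.iso 255 [(9, 5), (16, 6), (17, 7)] (.iso 255 [(9, 5), (16, 6), (18, 7)] (.iso 255 [(9, 5), (16, 6), (19, 7)] (.iso 255 [(9, 5), (16, 6), (20, 7)] (.iso 255 [(9, 5), (16, 6), (21, 7)] (.iso 255 [(9, 5), (16, 6), (22, 7)] (.iso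 255 [(9, 5), (16, 6), (23, 7)] (.iso 255 [(9, 5), (17, 6), (18, 7)] (.iso 255 [(9, 5), (17, 6), (19, 7)] (.iso 255 [(9, 5), (17, 6), (20, 7)] (.iso 255 [(9, 5), (17, 6), (21, 7)] (.iso 255 [(9, 5), (17, 6), (22, 7)] (.iso 255 [(9, 5), (17, 6), (23, 7)] (.iso 255 [(9, 5), (18, 6), (19, 7)] (.iso 255 [(9, 5), (18, 6), (20, 7)] (.iso 255 [(9, 5), (18, 6), (21, 7)] (.iso 255 [(9, 5), (18, 6), (22, 7)] (.iso 255 [(9, 5), (18, 6), (23, 7)] (.iso 255 [(9, 5), (19, 6), (20, 7)] (.iso 255 [(9, 5), (19, 6), (21, 7)] (.iso 255 [(9, 5), (19, 6), (22, 7)] (.iso 255 [(9, 5), (19, 6), (23, 7)] phAc129))))))))))))))))))))))))))))))))))))))))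
def phAc131 : Cert := (.iso 255 [(9, 5), (10, 6), (16, 7)] (.iso 255 [(9, 5), (10, 6), (17, 7)] (.iso 255 [(9, 5), (10, 6), (18, 7)] (.iso 255 [(9, 5), (10, 6), (19, 7)] (.iso 255 [(9, 5), (10, 6), (20, 7)] (.iso 255 [(9, 5), (10, 6), (21, 7)] (.iso 255 [(9, 5), (10, 6), (22, 7)] (.iso 255 [(9, 5), (10, 6), (23, 7)] (.iso 255 [(9, 5), (11, 6), (12, 7)] (.iso 255 [(9, 5), (11, 6), (13, 7)] (.iso 255 [(9, 5), (11, 6), (14, 7)] (.iso 255 [(9, 5), (11, 6), (15, 7)] (.iso 255 [(9, 5), (11, 6), (16, 7)] (.iso 255 [(9, 5), (11, 6), (17, 7)] (.iso 255 [(9, 5), (11, 6), (18, 7)] (.iso 255 [(9, 5), (11, 6), (19, 7)] (.iso 255 [(9, 5), (11, 6), (20, 7)] (.iso 255 [(9, 5), (11, 6), (21, 7)] (.iso 255 [(9, 5), (11, 6), (22, 7)] (.iso 255 [(9, 5), (11, 6), (23, 7)] (.iso 255 [(9, 5), (12, 6), (13, 7)] (.iso 255 [(9, 5), (12, 6), (14, 7)] (.iso 255 [(9, 5), (12, 6), (15, 7)] (.iso 255 [(9, 5), (12, 6), (16, 7)] (.iso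 255 [(9, 5), (12, 6), (17, 7)] (.iso 255 [(9, 5), (12, 6), (18, 7)] (.iso 255 [(9, 5), (12, 6), (19, 7)] (.iso 255 [(9, 5), (12, 6), (20, 7)] (.iso 255 [(9, 5), (12, 6), (21, 7)] (.iso 255 [(9, 5), (12, 6), (22, 7)] (.iso 255 [(9, 5), (12, 6), (23, 7)] (.iso 255 [(9, 5), (13, 6), (14, 7)] (.iso 255 [(9, 5), (13, 6), (15, 7)] (.iso 255 [(9, 5), (13, 6), (16, 7)] (.iso 255 [(9, 5), (13, 6), (17, 7)] (.iso 255 [(9, 5), (13, 6), (18, 7)] (.iso 255 [(9, 5), (13, 6), (19, 7)] (.iso 255 [(9, 5), (13, 6), (20, 7)] (.iso 255 [(9, 5), (13, 6), (21, 7)] (.iso 255 [(9, 5), (13, 6), (22, 7)] phAc130))))))))))))))))))))))))))))))))))))))))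
def phAc132 : Cert := (.iso 255 [(8, 5), (15, 6), (17, 7)] (.iso 255 [(8, 5), (15, 6), (18, 7)] (.iso 255 [(8, 5), (15, 6), (19, 7)] (.iso 255 [(8, 5), (15, 6), (20, 7)] (.iso 255 [(8, 5), (15, 6), (21, 7)] (.iso 255 [(8, 5), (15, 6), (22, 7)] (.iso 255 [(8, 5), (15, 6), (23, 7)] (.iso 255 [(8, 5), (16, 6), (17, 7)] (.iso 255 [(8, 5), (16, 6), (18, 7)] (.iso 255 [(8, 5), (16, 6), (19, 7)] (.iso 255 [(8, 5), (16, 6), (20, 7)] (.iso 255 [(8, 5), (16, 6), (21, 7)] (.iso 255 [(8, 5), (16, 6), (22, 7)] (.iso 255 [(8, 5), (16, 6), (23, 7)] (.iso 255 [(8, 5), (17, 6), (18, 7)] (.iso 255 [(8, 5), (17, 6), (19, 7)] (.iso 255 [(8, 5), (17, 6), (20, 7)] (.iso 255 [(8, 5), (17, 6), (21, 7)] (.iso 255 [(8, 5), (17, 6), (22, 7)] (.iso 255 [(8, 5), (17, 6), (23, 7)] (.iso 255 [(8, 5), (18, 6), (19, 7)] (.iso 255 [(8, 5), (18, 6), (20, 7)] (.iso 255 [(8, 5), (18, 6), (21, 7)] (.iso 255 [(8, 5), (18, 6), (22, 7)] (.iso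 255 [(8, 5), (18, 6), (23, 7)] (.iso 255 [(8, 5), (19, 6), (20, 7)] (.iso 255 [(8, 5), (19, 6), (21, 7)] (.iso 255 [(8, 5), (19, 6), (22, 7)] (.iso 255 [(8, 5), (19, 6), (23, 7)] (.iso 255 [(8, 5), (20, 6), (21, 7)] (.iso 255 [(8, 5), (20, 6), (22, 7)] (.iso 255 [(8, 5), (20, 6), (23, 7)] (.iso 255 [(8, 5), (21, 6), (22, 7)] (.iso 255 [(8, 5), (21, 6), (23, 7)] (.iso 255 [(8, 5), (22, 6), (23, 7)] (.iso 255 [(9, 5), (10, 6), (11, 7)] (.iso 255 [(9, 5), (10, 6), (12, 7)] (.iso 255 [(9, 5), (10, 6), (13, 7)] (.iso 255 [(9, 5), (10, 6), (14, 7)] (.iso 255 [(9, 5), (10, 6), (15, 7)] phAc131))))))))))))))))))))))))))))))))))))))))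
def phAc133 : Cert := (.iso 255 [(8, 5), (11, 6), (15, 7)] (.iso 255 [(8, 5), (11, 6), (16, 7)] (.iso 255 [(8, 5), (11, 6), (17, 7)] (.iso 255 [(8, 5), (11, 6), (18, 7)] (.iso 255 [(8, 5), (11, 6), (19, 7)] (.iso 255 [(8, 5), (11, 6), (20, 7)] (.iso 255 [(8, 5), (11, 6), (21, 7)] (.iso 255 [(8, 5), (11, 6), (22, 7)] (.iso 255 [(8, 5), (11, 6), (23, 7)] (.iso 255 [(8, 5), (12, 6), (13, 7)] (.iso 255 [(8, 5), (12, 6), (14, 7)] (.iso 255 [(8, 5), (12, 6), (15, 7)] (.iso 255 [(8, 5), (12, 6), (16, 7)] (.iso 255 [(8, 5), (12, 6), (17, 7)] (.iso 255 [(8, 5), (12, 6), (18, 7)] (.iso 255 [(8, 5), (12, 6), (19, 7)] (.iso 255 [(8, 5), (12, 6), (20, 7)] (.iso 255 [(8, 5), (12, 6), (21, 7)] (.iso 255 [(8, 5), (12, 6), (22, 7)] (.iso 255 [(8, 5), (12, 6), (23, 7)] (.iso 255 [(8, 5), (13, 6), (14, 7)] (.iso 255 [(8, 5), (13, 6), (15, 7)] (.iso 255 [(8, 5), (13, 6), (16, 7)] (.iso 255 [(8, 5), (13, 6), (17, 7)] (.iso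 255 [(8, 5), (13, 6), (18, 7)] (.iso 255 [(8, 5), (13, 6), (19, 7)] (.iso 255 [(8, 5), (13, 6), (20, 7)] (.iso 255 [(8, 5), (13, 6), (21, 7)] (.iso 255 [(8, 5), (13, 6), (22, 7)] (.iso 255 [(8, 5), (13, 6), (23, 7)] (.iso 255 [(8, 5), (14, 6), (15, 7)] (.iso 255 [(8, 5), (14, 6), (16, 7)] (.iso 255 [(8, 5), (14, 6), (17, 7)] (.iso 255 [(8, 5), (14, 6), (18, 7)] (.iso 255 [(8, 5), (14, 6), (19, 7)] (.iso 255 [(8, 5), (14, 6), (20, 7)] (.iso 255 [(8, 5), (14, 6), (21, 7)] (.iso 255 [(8, 5), (14, 6), (22, 7)] (.iso 255 [(8, 5), (14, 6), (23, 7)] (.iso 255 [(8, 5), (15, 6), (16, 7)] phAc132))))))))))))))))))))))))))))))))))))))))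
def phAc134 : Cert := (.iso 255 [(19, 5), (20, 6)] (.iso 255 [(19, 5), (21, 6)] (.iso 255 [(19, 5), (22, 6)] (.iso 255 [(19, 5), (23, 6)] (.iso 255 [(20, 5), (21, 6)] (.iso 255 [(20, 5), (22, 6)] (.iso 255 [(20, 5), (23, 6)] (.iso 255 [(21, 5), (22, 6)] (.iso 255 [(21, 5), (23, 6)] (.iso 255 [(22, 5), (23, 6)] (.iso 255 [(8, 5), (9, 6), (10, 7)] (.iso 255 [(8, 5), (9, 6), (11, 7)] (.iso 255 [(8, 5), (9, 6), (12, 7)] (.iso 255 [(8, 5), (9, 6), (13, 7)] (.iso 255 [(8, 5), (9, 6), (14, 7)] (.iso 255 [(8, 5), (9, 6), (15, 7)] (.iso 255 [(8, 5), (9, 6), (16, 7)] (.iso 255 [(8, 5), (9, 6), (17, 7)] (.iso 255 [(8, 5), (9, 6), (18, 7)] (.iso 255 [(8, 5), (9, 6), (19, 7)] (.iso 255 [(8, 5), (9, 6), (20, 7)] (.iso 255 [(8, 5), (9, 6), (21, 7)] (.iso 255 [(8, 5), (9, 6), (22, 7)] (.iso 255 [(8, 5), (9, 6), (23, 7)] (.iso 255 [(8, 5), (10, 6), (11, 7)] (.iso 255 [(8, 5), (10, 6), (12, 7)] (.iso 255 [(8, 5), (10,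 6), (13, 7)] (.iso 255 [(8, 5), (10, 6), (14, 7)] (.iso 255 [(8, 5), (10, 6), (15, 7)] (.iso 255 [(8, 5), (10, 6), (16, 7)] (.iso 255 [(8, 5), (10, 6), (17, 7)] (.iso 255 [(8, 5), (10, 6), (18, 7)] (.iso 255 [(8, 5), (10, 6), (19, 7)] (.iso 255 [(8, 5), (10, 6), (20, 7)] (.iso 255 [(8, 5), (10, 6), (21, 7)] (.iso 255 [(8, 5), (10, 6), (22, 7)] (.iso 255 [(8, 5), (10, 6), (23, 7)] (.iso 255 [(8, 5), (11, 6), (12, 7)] (.iso 255 [(8, 5), (11, 6), (13, 7)] (.iso 255 [(8, 5), (11, 6), (14, 7)] phAc133))))))))))))))))))))))))))))))))))))))))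
def phAc135 : Cert := (.iso 255 [(13, 5), (19, 6)] (.iso 255 [(13, 5), (20, 6)] (.iso 255 [(13, 5), (21, 6)] (.iso 255 [(13, 5), (22, 6)] (.iso 255 [(13, 5), (23, 6)] (.iso 255 [(14, 5), (15, 6)] (.iso 255 [(14, 5), (16, 6)] (.iso 255 [(14, 5), (17, 6)] (.iso 255 [(14, 5), (18, 6)] (.iso 255 [(14, 5), (19, 6)] (.iso 255 [(14, 5), (20, 6)] (.iso 255 [(14, 5), (21, 6)] (.iso 255 [(14, 5), (22, 6)] (.iso 255 [(14, 5), (23, 6)] (.iso 255 [(15, 5), (16, 6)] (.iso 255 [(15, 5), (17, 6)] (.iso 255 [(15, 5), (18, 6)] (.iso 255 [(15, 5), (19, 6)] (.iso 255 [(15, 5), (20, 6)] (.iso 255 [(15, 5), (21, 6)] (.iso 255 [(15, 5), (22, 6)] (.iso 255 [(15, 5), (23, 6)] (.iso 255 [(16, 5), (17, 6)] (.iso 255 [(16, 5), (18, 6)] (.iso 255 [(16, 5), (19, 6)] (.iso 255 [(16, 5), (20, 6)] (.iso 255 [(16, 5), (21, 6)] (.iso 255 [(16, 5), (22, 6)] (.iso 255 [(16, 5), (23, 6)] (.iso 255 [(17, 5), (18, 6)] (.iso 255 [(17, 5),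 (19, 6)] (.iso 255 [(17, 5), (20, 6)] (.iso 255 [(17, 5), (21, 6)] (.iso 255 [(17, 5), (22, 6)] (.iso 255 [(17, 5), (23, 6)] (.iso 255 [(18, 5), (19, 6)] (.iso 255 [(18, 5), (20, 6)] (.iso 255 [(18, 5), (21, 6)] (.iso 255 [(18, 5), (22, 6)] (.iso 255 [(18, 5), (23, 6)] phAc134))))))))))))))))))))))))))))))))))))))))
def phAc136 : Cert := (.iso 255 [(10, 5), (12, 6)] (.iso 255 [(10, 5), (13, 6)] (.iso 255 [(10, 5), (14, 6)] (.iso 255 [(10, 5), (15, 6)] (.iso 255 [(10, 5), (16, 6)] (.iso 255 [(10, 5), (17, 6)] (.iso 255 [(10, 5), (18, 6)] (.iso 255 [(10, 5), (19, 6)] (.iso 255 [(10, 5), (20, 6)] (.iso 255 [(10, 5), (21, 6)] (.iso 255 [(10, 5), (22, 6)] (.iso 255 [(10, 5), (23, 6)] (.iso 255 [(11, 5), (12, 6)] (.iso 255 [(11, 5), (13, 6)] (.iso 255 [(11, 5), (14, 6)] (.iso 255 [(11, 5), (15, 6)] (.iso 255 [(11, 5), (16, 6)] (.iso 255 [(11, 5), (17, 6)] (.iso 255 [(11, 5), (18, 6)] (.iso 255 [(11, 5),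 (19, 6)] (.iso 255 [(11, 5), (20, 6)] (.iso 255 [(11, 5), (21, 6)] (.iso 255 [(11, 5), (22, 6)] (.iso 255 [(11, 5), (23, 6)] (.iso 255 [(12, 5), (13, 6)] (.iso 255 [(12, 5), (14, 6)] (.iso 255 [(12, 5), (15, 6)] (.iso 255 [(12, 5), (16, 6)] (.iso 255 [(12, 5), (17, 6)] (.iso 255 [(12, 5), (18, 6)] (.iso 255 [(12, 5), (19, 6)] (.iso 255 [(12, 5), (20, 6)] (.iso 255 [(12, 5), (21, 6)] (.iso 255 [(12, 5), (22, 6)] (.iso 255 [(12, 5), (23, 6)] (.iso 255 [(13, 5), (14, 6)] (.iso 255 [(13, 5), (15, 6)] (.iso 255 [(13, 5), (16, 6)] (.iso 255 [(13, 5), (17, 6)] (.iso 255 [(13, 5), (18, 6)] phAc135))))))))))))))))))))))))))))))))))))))))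
def phAc137 : Cert := (.iso 255 [(19, 5), (20, 7)] (.iso 255 [(19, 5), (21, 7)] (.iso 255 [(19, 5), (22, 7)] (.iso 255 [(19, 5), (23, 7)] (.iso 255 [(20, 5), (21, 7)] (.iso 255 [(20, 5), (22, 7)] (.iso 255 [(20, 5), (23, 7)] (.iso 255 [(21, 5), (22, 7)] (.iso 255 [(21, 5), (23, 7)] (.iso 255 [(22, 5), (23, 7)] (.iso 255 [(8, 5), (9, 6)] (.iso 255 [(8, 5), (10, 6)] (.iso 255 [(8, 5), (11, 6)] (.iso 255 [(8, 5), (12, 6)] (.iso 255 [(8, 5), (13, 6)] (.iso 255 [(8, 5), (14, 6)] (.iso 255 [(8, 5), (15, 6)] (.iso 255 [(8, 5), (16, 6)] (.iso 255 [(8, 5), (17, 6)] (.iso 255 [(8, 5), (18, 6)] (.iso 255 [(8, 5), (19, 6)] (.iso 255 [(8, 5), (20, 6)] (.iso 255 [(8, 5), (21, 6)] (.iso 255 [(8, 5), (22, 6)] (.iso 255 [(8, 5), (23, 6)] (.iso 255 [(9, 5), (10, 6)] (.iso 255 [(9, 5), (11, 6)] (.iso 255 [(9, 5), (12, 6)] (.iso 255 [(9, 5), (13, 6)] (.iso 255 [(9, 5), (14, 6)] (.iso 255 [(9, 5), (15, 6)] (.iso 255 [(9,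 5), (16, 6)] (.iso 255 [(9, 5), (17, 6)] (.iso 255 [(9, 5), (18, 6)] (.iso 255 [(9, 5), (19, 6)] (.iso 255 [(9, 5), (20, 6)] (.iso 255 [(9, 5), (21, 6)] (.iso 255 [(9, 5), (22, 6)] (.iso 255 [(9, 5), (23, 6)] (.iso 255 [(10, 5), (11, 6)] phAc136))))))))))))))))))))))))))))))))))))))))
def phAc138 : Cert := (.iso 255 [(13, 5), (19, 7)] (.iso 255 [(13, 5), (20, 7)] (.iso 255 [(13, 5), (21, 7)] (.iso 255 [(13, 5), (22, 7)] (.iso 255 [(13, 5), (23, 7)] (.iso 255 [(14, 5), (15, 7)] (.iso 255 [(14, 5), (16, 7)] (.iso 255 [(14, 5), (17, 7)] (.iso 255 [(14, 5), (18, 7)] (.iso 255 [(14, 5), (19, 7)] (.iso 255 [(14, 5), (20, 7)] (.iso 255 [(14, 5), (21, 7)] (.iso 255 [(14, 5), (22, 7)] (.iso 255 [(14, 5), (23, 7)] (.iso 255 [(15, 5), (16, 7)] (.iso 255 [(15, 5), (17, 7)] (.iso 255 [(15, 5), (18, 7)] (.iso 255 [(15, 5), (19, 7)] (.iso 255 [(15, 5), (20, 7)] (.iso 255 [(15, 5), (21, 7)] (.iso 255 [(15, 5), (22,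 7)] (.iso 255 [(15, 5), (23, 7)] (.iso 255 [(16, 5), (17, 7)] (.iso 255 [(16, 5), (18, 7)] (.iso 255 [(16, 5), (19, 7)] (.iso 255 [(16, 5), (20, 7)] (.iso 255 [(16, 5), (21, 7)] (.iso 255 [(16, 5), (22, 7)] (.iso 255 [(16, 5), (23, 7)] (.iso 255 [(17, 5), (18, 7)] (.iso 255 [(17, 5), (19, 7)] (.iso 255 [(17, 5), (20, 7)] (.iso 255 [(17, 5), (21, 7)] (.iso 255 [(17, 5), (22, 7)] (.iso 255 [(17, 5), (23, 7)] (.iso 255 [(18, 5), (19, 7)] (.iso 255 [(18, 5), (20, 7)] (.iso 255 [(18, 5), (21, 7)] (.iso 255 [(18, 5), (22, 7)] (.iso 255 [(18, 5), (23, 7)] phAc137))))))))))))))))))))))))))))))))))))))))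
def phAc139 : Cert := (.iso 255 [(10, 5), (12, 7)] (.iso 255 [(10, 5), (13, 7)] (.iso 255 [(10, 5), (14, 7)] (.iso 255 [(10, 5), (15, 7)] (.iso 255 [(10, 5), (16, 7)] (.iso 255 [(10, 5), (17, 7)] (.iso 255 [(10, 5), (18, 7)] (.iso 255 [(10, 5), (19, 7)] (.iso 255 [(10, 5), (20, 7)] (.iso 255 [(10, 5), (21, 7)] (.iso 255 [(10, 5), (22, 7)] (.iso 255 [(10, 5), (23, 7)] (.iso 255 [(11, 5), (12, 7)] (.iso 255 [(11, 5), (13, 7)] (.iso 255 [(11, 5), (14, 7)] (.iso 255 [(11, 5), (15, 7)] (.iso 255 [(11, 5), (16, 7)] (.iso 255 [(11, 5), (17, 7)] (.iso 255 [(11, 5), (18, 7)] (.iso 255 [(11, 5), (19, 7)] (.iso 255 [(11, 5), (20, 7)] (.iso 255 [(11, 5), (21, 7)] (.iso 255 [(11, 5), (22, 7)] (.iso 255 [(11, 5), (23, 7)] (.iso 255 [(12, 5), (13, 7)] (.iso 255 [(12, 5), (14, 7)] (.iso 255 [(12, 5), (15, 7)] (.iso 255 [(12, 5), (16, 7)] (.iso 255 [(12, 5), (17, 7)] (.iso 255 [(12, 5), (18, 7)] (.iso 255 [(12, 5),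 (19, 7)] (.iso 255 [(12, 5), (20, 7)] (.iso 255 [(12, 5), (21, 7)] (.iso 255 [(12, 5), (22, 7)] (.iso 255 [(12, 5), (23, 7)] (.iso 255 [(13, 5), (14, 7)] (.iso 255 [(13, 5), (15, 7)] (.iso 255 [(13, 5), (16, 7)] (.iso 255 [(13, 5), (17, 7)] (.iso 255 [(13, 5), (18, 7)] phAc138))))))))))))))))))))))))))))))))))))))))
def phAc140 : Cert := (.iso 255 [(14, 5)] (.iso 255 [(15, 5)] (.iso 255 [(16, 5)] (.iso 255 [(17, 5)] (.iso 255 [(18, 5)] (.iso 255 [(19, 5)] (.iso 255 [(20, 5)] (.iso 255 [(21, 5)] (.iso 255 [(22, 5)] (.iso 255 [(23, 5)] (.iso 255 [(8, 5), (9, 7)] (.iso 255 [(8, 5), (10, 7)] (.iso 255 [(8, 5), (11, 7)] (.iso 255 [(8, 5), (12, 7)] (.iso 255 [(8, 5), (13, 7)] (.iso 255 [(8, 5), (14, 7)] (.iso 255 [(8, 5), (15, 7)] (.iso 255 [(8, 5), (16, 7)] (.iso 255 [(8, 5), (17, 7)] (.iso 255 [(8, 5), (18, 7)] (.iso 255 [(8, 5), (19, 7)] (.iso 255 [(8, 5), (20, 7)] (.iso 255 [(8, 5), (21, 7)] (.iso 255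 [(8, 5), (22, 7)] (.iso 255 [(8, 5), (23, 7)] (.iso 255 [(9, 5), (10, 7)] (.iso 255 [(9, 5), (11, 7)] (.iso 255 [(9, 5), (12, 7)] (.iso 255 [(9, 5), (13, 7)] (.iso 255 [(9, 5), (14, 7)] (.iso 255 [(9, 5), (15, 7)] (.iso 255 [(9, 5), (16, 7)] (.iso 255 [(9, 5), (17, 7)] (.iso 255 [(9, 5), (18, 7)] (.iso 255 [(9, 5), (19, 7)] (.iso 255 [(9, 5), (20, 7)] (.iso 255 [(9, 5), (21, 7)] (.iso 255 [(9, 5), (22, 7)] (.iso 255 [(9, 5), (23, 7)] (.iso 255 [(10, 5), (11, 7)] phAc139))))))))))))))))))))))))))))))))))))))))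
def phAc141 : Cert := (.iso 255 [(15, 6), (18, 7)] (.iso 255 [(15, 6), (19, 7)] (.iso 255 [(15, 6), (20, 7)] (.iso 255 [(15, 6), (21, 7)] (.iso 255 [(15, 6), (22, 7)] (.iso 255 [(15, 6), (23, 7)] (.iso 255 [(16, 6), (17, 7)] (.iso 255 [(16, 6), (18, 7)] (.iso 255 [(16, 6), (19, 7)] (.iso 255 [(16, 6), (20, 7)] (.iso 255 [(16, 6), (21, 7)] (.iso 255 [(16, 6), (22, 7)] (.iso 255 [(16, 6), (23, 7)] (.iso 255 [(17, 6), (18, 7)] (.iso 255 [(17, 6), (19, 7)] (.iso 255 [(17, 6), (20, 7)] (.iso 255 [(17, 6), (21, 7)] (.iso 255 [(17, 6), (22, 7)] (.iso 255 [(17, 6), (23, 7)] (.iso 255 [(18, 6), (19, 7)] (.iso 255 [(18, 6), (20, 7)] (.iso 255 [(18, 6), (21, 7)] (.iso 255 [(18, 6), (22, 7)] (.iso 255 [(18, 6), (23, 7)] (.iso 255 [(19, 6), (20, 7)] (.iso 255 [(19, 6), (21, 7)] (.iso 255 [(19, 6), (22, 7)] (.iso 255 [(19, 6), (23, 7)] (.iso 255 [(20, 6), (21, 7)] (.iso 255 [(20, 6), (22, 7)] (.iso 255 [(20, 6),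 (23, 7)] (.iso 255 [(21, 6), (22, 7)] (.iso 255 [(21, 6), (23, 7)] (.iso 255 [(22, 6), (23, 7)] (.iso 255 [(8, 5)] (.iso 255 [(9, 5)] (.iso 255 [(10, 5)] (.iso 255 [(11, 5)] (.iso 255 [(12, 5)] (.iso 255 [(13, 5)] phAc140))))))))))))))))))))))))))))))))))))))))
def phAc142 : Cert := (.iso 255 [(11, 6), (16, 7)] (.iso 255 [(11, 6), (17, 7)] (.iso 255 [(11, 6), (18, 7)] (.iso 255 [(11, 6), (19, 7)] (.iso 255 [(11, 6), (20, 7)] (.iso 255 [(11, 6), (21, 7)] (.iso 255 [(11, 6), (22, 7)] (.iso 255 [(11, 6), (23, 7)] (.iso 255 [(12, 6), (13, 7)] (.iso 255 [(12, 6), (14, 7)] (.iso 255 [(12, 6), (15, 7)] (.iso 255 [(12, 6), (16, 7)] (.iso 255 [(12, 6), (17, 7)] (.iso 255 [(12, 6), (18, 7)] (.iso 255 [(12, 6), (19, 7)] (.iso 255 [(12, 6), (20, 7)] (.iso 255 [(12, 6), (21, 7)] (.iso 255 [(12, 6), (22, 7)] (.iso 255 [(12, 6), (23, 7)] (.iso 255 [(13, 6), (14, 7)] (.iso 255 [(13, 6), (15, 7)] (.iso 255 [(13, 6),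 (16, 7)] (.iso 255 [(13, 6), (17, 7)] (.iso 255 [(13, 6), (18, 7)] (.iso 255 [(13, 6), (19, 7)] (.iso 255 [(13, 6), (20, 7)] (.iso 255 [(13, 6), (21, 7)] (.iso 255 [(13, 6), (22, 7)] (.iso 255 [(13, 6), (23, 7)] (.iso 255 [(14, 6), (15, 7)] (.iso 255 [(14, 6), (16, 7)] (.iso 255 [(14, 6), (17, 7)] (.iso 255 [(14, 6), (18, 7)] (.iso 255 [(14, 6), (19, 7)] (.iso 255 [(14, 6), (20, 7)] (.iso 255 [(14, 6), (21, 7)] (.iso 255 [(14, 6), (22, 7)] (.iso 255 [(14, 6), (23, 7)] (.iso 255 [(15, 6), (16, 7)] (.iso 255 [(15, 6), (17, 7)] phAc141))))))))))))))))))))))))))))))))))))))))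
def phAc143 : Cert := (.iso 255 [(8, 6), (15, 7)] (.iso 255 [(8, 6), (16, 7)] (.iso 255 [(8, 6), (17, 7)] (.iso 255 [(8, 6), (18, 7)] (.iso 255 [(8, 6), (19, 7)] (.iso 255 [(8, 6), (20, 7)] (.iso 255 [(8, 6), (21, 7)] (.iso 255 [(8, 6), (22, 7)] (.iso 255 [(8, 6), (23, 7)] (.iso 255 [(9, 6), (10, 7)] (.iso 255 [(9, 6), (11, 7)] (.iso 255 [(9, 6), (12, 7)] (.iso 255 [(9, 6), (13, 7)] (.iso 255 [(9, 6), (14, 7)] (.iso 255 [(9, 6), (15, 7)] (.iso 255 [(9, 6), (16, 7)] (.iso 255 [(9, 6), (17, 7)] (.iso 255 [(9, 6), (18, 7)] (.iso 255 [(9, 6), (19, 7)] (.iso 255 [(9, 6), (20, 7)] (.iso 255 [(9, 6), (21, 7)] (.iso 255 [(9, 6), (22, 7)] (.iso 255 [(9, 6), (23, 7)] (.iso 255 [(10, 6), (11, 7)] (.iso 255 [(10, 6), (12, 7)] (.iso 255 [(10, 6), (13, 7)] (.iso 255 [(10, 6), (14, 7)] (.iso 255 [(10, 6), (15, 7)] (.iso 255 [(10, 6), (16, 7)] (.iso 255 [(10, 6), (17, 7)] (.iso 255 [(10, 6), (18, 7)] (.iso 255 [(10,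 6), (19, 7)] (.iso 255 [(10, 6), (20, 7)] (.iso 255 [(10, 6), (21, 7)] (.iso 255 [(10, 6), (22, 7)] (.iso 255 [(10, 6), (23, 7)] (.iso 255 [(11, 6), (12, 7)] (.iso 255 [(11, 6), (13, 7)] (.iso 255 [(11, 6), (14, 7)] (.iso 255 [(11, 6), (15, 7)] phAc142))))))))))))))))))))))))))))))))))))))))
def phAcert : Cert := (.node 31 (.sub (.node 271 (.sub (.node 4111 (.sub (.node 65551 (.sub (.node 1048591 (.sub (.node 279 (.sub (.node 535 (.sub (.node 1047 (.sub (.node 2071 (.sub (.node 295 (.sub (.node 551 (.sub (.node 1063 (.sub (.node 2087 (.sub (.node 327 (.sub (.node 583 (.sub (.node 1095 (.sub (.node 2119 (.sub (.node 391 (.sub (.node 647 (.sub (.node 1159 (.sub phAc7 .nil)) .nil)) .nil)) .nil)) .nil)) .nil)) (.sub (.node 583 (.sub (.node 1095 (.sub (.node 2119 (.sub (.node 391 (.sub (.node 647 (.sub (.node 1159 phAc14) .nil)) .nil)) .nil)) .nil)) .nil)) .nil))) .nil)) (.sub (.node 2087 (.sub (.node 327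 .nil) .nil)) .nil))) (.sub (.node 1063 (.sub (.node 2087 (.sub (.node 327 .nil) .nil)) .nil)) (.sub (.node 1063 (.sub (.node 2087 (.sub (.node 327 .nil) .nil)) .nil)) .nil)))) (.sub (.node 551 (.sub (.node 1063 (.sub (.node 2087 (.sub (.node 327 .nil) .nil)) (.sub (.node 2087 (.sub (.node 327 (.sub (.node 583 (.sub (.node 1095 (.sub (.node 2119 (.sub (.node 391 (.sub (.node 647 (.sub phAc21 .nil)) .nil)) .nil)) .nil)) .nil)) (.sub (.node 583 (.sub (.node 1095 (.sub (.node 2119 (.sub (.node 391 (.sub (.node 647 phAc28) .nil)) .nil)) .nil)) .nil)) .nil))) .nil)) .nil))) (.sub (.node 1063 (.sub (.node 2087 (.sub (.node 327 .nil) .nil)) .nil)) (.sub (.node 1063 (.sub (.node 2087 (.sub (.node 327 .nil) .nil)) .nil)) .nil)))) (.sub (.node 551 (.sub (.node 1063 (.sub (.node 2087 (.sub (.node 327 .nil) .nil)) .nil)) (.sub (.node 1063 (.sub (.node 2087 (.sub (.node 327 (.sub (.node 583 (.sub (.node 1095 (.sub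 (.node 2119 (.sub (.node 391 (.sub (.node 647 phAc35) .nil)) .nil)) .nil)) .nil)) (.sub (.node 583 (.sub (.node 1095 (.sub (.node 2119 (.sub (.node 391 (.sub phAc43 .nil)) .nil)) .nil)) .nil)) .nil))) .nil)) (.sub (.node 2087 (.sub (.node 327 .nil) .nil)) .nil))) (.sub (.node 1063 (.sub (.node 2087 (.sub (.node 327 .nil) .nil)) .nil)) .nil)))) (.sub (.node 551 (.sub (.node 1063 (.sub (.node 2087 (.sub (.node 327 .nil) .nil)) .nil)) (.sub (.node 1063 (.sub (.node 2087 (.sub (.node 327 .nil) .nil)) .nil)) (.sub (.node 1063 (.sub (.node 2087 (.sub (.node 327 (.sub (.node 583 (.sub (.node 1095 (.sub (.node 2119 (.sub (.node 391 phAc52) .nil)) .nil)) .nil)) (.sub (.node 583 (.sub (.node 1095 (.sub (.node 2119 (.sub phAc62 .nil)) .nil)) .nil)) .nil))) .nil)) (.sub (.node 2087 (.sub (.node 327 .nil) .nil)) .nil))) .nil)))) (.sub (.node 551 (.sub (.node 1063 (.sub (.node 2087 (.sub (.node 327 .nil) .nil))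 .nil)) (.sub (.node 1063 (.sub (.node 2087 (.sub (.node 327 .nil) .nil)) (.sub (.node 2087 (.sub (.node 327 (.sub (.node 583 (.sub (.node 1095 (.sub (.node 2119 (.sub phAc72 .nil)) .nil)) .nil)) (.sub (.node 583 (.sub (.node 1095 (.sub (.node 2119 phAc82) .nil)) .nil)) .nil))) .nil)) .nil))) (.sub (.node 1063 (.sub (.node 2087 (.sub (.node 327 .nil) .nil)) .nil)) .nil)))) (.sub (.node 551 (.sub (.node 1063 (.sub (.node 2087 (.sub (.node 327 .nil) .nil)) .nil)) (.sub (.node 1063 (.sub (.node 2087 (.sub (.node 327 .nil) .nil)) .nil)) (.sub (.node 1063 (.sub (.node 2087 (.sub (.node 327 .nil) .nil)) (.sub (.node 2087 (.sub (.node 327 (.sub (.node 583 (.sub (.node 1095 (.sub phAc92 .nil)) .nil)) (.sub (.node 583 (.sub (.node 1095 phAc102) .nil)) .nil))) .nil)) .nil))) .nil)))) .nil))))))) .nil)) (.iso 4473879 [(23, 22)] (.iso 4473879 [(19, 18)] (.iso 4473879 [(19, 18), (23, 22)] (.iso 4473879 [(15, 14)]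 (.iso 4473879 [(15, 14), (23, 22)] (.iso 4473879 [(15, 14), (19, 18)] (.iso 4473879 [(15, 14), (19, 18), (23, 22)] .nil))))))))) (.iso 2236951 [(22, 21)] (.iso 2236951 [(23, 21)] (.iso 2236951 [(18, 17)] (.iso 2236951 [(18, 17), (22, 21)] (.iso 2236951 [(18, 17), (23, 21)] (.iso 2236951 [(19, 17)] (.iso 2236951 [(19, 17), (22, 21)] (.iso 2236951 [(19, 17), (23, 21)] (.iso 2236951 [(14, 13)] (.iso 2236951 [(14, 13), (22, 21)] (.iso 2236951 [(14, 13), (23, 21)] (.iso 2236951 [(14, 13), (18, 17)] (.iso 2236951 [(14, 13), (18, 17), (22, 21)] (.iso 2236951 [(14, 13), (18, 17), (23, 21)] (.iso 2236951 [(14, 13), (19, 17)] (.iso 2236951 [(14, 13), (19, 17), (22, 21)] (.iso 2236951 [(14, 13), (19, 17), (23, 21)] (.iso 2236951 [(15, 13)] (.iso 2236951 [(15, 13), (22, 21)] (.iso 2236951 [(15, 13), (23, 21)] (.iso 2236951 [(15, 13), (18, 17)] (.iso 2236951 [(15, 13), (18, 17), (22, 21)] (.iso 2236951 [(15, 13),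 (18, 17), (23, 21)] (.iso 2236951 [(15, 13), (19, 17)] (.iso 2236951 [(15, 13), (19, 17), (22, 21)] (.iso 2236951 [(15, 13), (19, 17), (23, 21)] .nil)))))))))))))))))))))))))))) (.iso 1118487 [(21, 20)] (.iso 1118487 [(22, 20)] (.iso 1118487 [(23, 20)] (.iso 1118487 [(17, 16)] (.iso 1118487 [(17, 16), (21, 20)] (.iso 1118487 [(17, 16), (22, 20)] (.iso 1118487 [(17, 16), (23, 20)] (.iso 1118487 [(18, 16)] (.iso 1118487 [(18, 16), (21, 20)] (.iso 1118487 [(18, 16), (22, 20)] (.iso 1118487 [(18, 16), (23, 20)] (.iso 1118487 [(19, 16)] (.iso 1118487 [(19, 16), (21, 20)] (.iso 1118487 [(19, 16), (22, 20)] (.iso 1118487 [(19, 16), (23, 20)] (.iso 1118487 [(13, 12)] (.iso 1118487 [(13, 12), (21, 20)] (.iso 1118487 [(13, 12), (22, 20)] (.iso 1118487 [(13, 12), (23, 20)] (.iso 1118487 [(13, 12), (17, 16)] (.iso 1118487 [(13, 12), (17, 16), (21, 20)] (.iso 1118487 [(13, 12), (17, 16), (22, 20)] (.iso 1118487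 [(13, 12), (17, 16), (23, 20)] (.iso 1118487 [(13, 12), (18, 16)] (.iso 1118487 [(13, 12), (18, 16), (21, 20)] (.iso 1118487 [(13, 12), (18, 16), (22, 20)] (.iso 1118487 [(13, 12), (18, 16), (23, 20)] (.iso 1118487 [(13, 12), (19, 16)] phAc103)))))))))))))))))))))))))))))) .nil)) (.iso 983055 [(20, 19)] (.iso 983055 [(21, 19)] (.iso 983055 [(22, 19)] (.iso 983055 [(23, 19)] (.iso 983055 [(20, 18)] (.iso 983055 [(21, 18)] (.iso 983055 [(22, 18)] (.iso 983055 [(23, 18)] (.iso 983055 [(20, 18), (21, 19)] (.iso 983055 [(20, 18), (22, 19)] (.iso 983055 [(20, 18), (23, 19)] (.iso 983055 [(21, 18), (22, 19)] (.iso 983055 [(21, 18), (23, 19)] (.iso 983055 [(22, 18), (23, 19)] (.iso 983055 [(20, 17)] (.iso 983055 [(21, 17)] (.iso 983055 [(22, 17)] (.iso 983055 [(23, 17)] (.iso 983055 [(20, 17), (21, 19)] (.iso 983055 [(20, 17), (22, 19)] (.iso 983055 [(20, 17), (23, 19)] (.iso 983055 [(21, 17), (22, 19)] (.iso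 983055 [(21, 17), (23, 19)] (.iso 983055 [(22, 17), (23, 19)] (.iso 983055 [(20, 17), (21, 18)] (.iso 983055 [(20, 17), (22, 18)] (.iso 983055 [(20, 17), (23, 18)] (.iso 983055 [(21, 17), (22, 18)] (.iso 983055 [(21, 17), (23, 18)] (.iso 983055 [(22, 17), (23, 18)] (.iso 983055 [(20, 17), (21, 18), (22, 19)] (.iso 983055 [(20, 17), (21, 18), (23, 19)] phAc104)))))))))))))))))))))))))))))))))) (.iso 61455 [(16, 15)] (.iso 61455 [(17, 15)] (.iso 61455 [(18, 15)] (.iso 61455 [(19, 15)] (.iso 61455 [(20, 15)] (.iso 61455 [(21, 15)] (.iso 61455 [(22, 15)] (.iso 61455 [(23, 15)] (.iso 61455 [(16, 14)] (.iso 61455 [(17, 14)] (.iso 61455 [(18, 14)] (.iso 61455 [(19, 14)] (.iso 61455 [(20, 14)] (.iso 61455 [(21, 14)] (.iso 61455 [(22, 14)] (.iso 61455 [(23, 14)] (.iso 61455 [(16, 14), (17, 15)] (.iso 61455 [(16, 14), (18, 15)] (.iso 61455 [(16, 14), (19, 15)] (.iso 61455 [(16, 14), (20, 15)] (.iso 61455 [(16,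 14), (21, 15)] (.iso 61455 [(16, 14), (22, 15)] (.iso 61455 [(16, 14), (23, 15)] (.iso 61455 [(17, 14), (18, 15)] (.iso 61455 [(17, 14), (19, 15)] (.iso 61455 [(17, 14), (20, 15)] (.iso 61455 [(17, 14), (21, 15)] (.iso 61455 [(17, 14), (22, 15)] (.iso 61455 [(17, 14), (23, 15)] (.iso 61455 [(18, 14), (19, 15)] (.iso 61455 [(18, 14), (20, 15)] (.iso 61455 [(18, 14), (21, 15)] (.iso 61455 [(18, 14), (22, 15)] (.iso 61455 [(18, 14), (23, 15)] phAc108)))))))))))))))))))))))))))))))))))) (.iso 3855 [(12, 11)] (.iso 3855 [(13, 11)] (.iso 3855 [(14, 11)] (.iso 3855 [(15, 11)] (.iso 3855 [(16, 11)] (.iso 3855 [(17, 11)] (.iso 3855 [(18, 11)] (.iso 3855 [(19, 11)] (.iso 3855 [(20, 11)] (.iso 3855 [(21, 11)] (.iso 3855 [(22, 11)] (.iso 3855 [(23, 11)] (.iso 3855 [(12, 10)] (.iso 3855 [(13, 10)] (.iso 3855 [(14, 10)] (.iso 3855 [(15, 10)] (.iso 3855 [(16, 10)] (.iso 3855 [(17, 10)] (.iso 3855 [(18, 10)] (.iso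 3855 [(19, 10)] (.iso 3855 [(20, 10)] (.iso 3855 [(21, 10)] (.iso 3855 [(22, 10)] (.iso 3855 [(23, 10)] (.iso 3855 [(12, 10), (13, 11)] (.iso 3855 [(12, 10), (14, 11)] (.iso 3855 [(12, 10), (15, 11)] (.iso 3855 [(12, 10), (16, 11)] (.iso 3855 [(12, 10), (17, 11)] (.iso 3855 [(12, 10), (18, 11)] (.iso 3855 [(12, 10), (19, 11)] (.iso 3855 [(12, 10), (20, 11)] (.iso 3855 [(12, 10), (21, 11)] (.iso 3855 [(12, 10), (22, 11)] (.iso 3855 [(12, 10), (23, 11)] (.iso 3855 [(13, 10), (14, 11)] phAc119)))))))))))))))))))))))))))))))))))))) (.iso 255 [(8, 7)] (.iso 255 [(9, 7)] (.iso 255 [(10, 7)] (.iso 255 [(11, 7)] (.iso 255 [(12, 7)] (.iso 255 [(13, 7)] (.iso 255 [(14, 7)] (.iso 255 [(15, 7)] (.iso 255 [(16, 7)] (.iso 255 [(17, 7)] (.iso 255 [(18, 7)] (.iso 255 [(19, 7)] (.iso 255 [(20, 7)] (.iso 255 [(21, 7)] (.iso 255 [(22, 7)] (.iso 255 [(23, 7)] (.iso 255 [(8, 6)] (.iso 255 [(9, 6)] (.iso 255 [(10, 6)] (.iso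 255 [(11, 6)] (.iso 255 [(12, 6)] (.iso 255 [(13, 6)] (.iso 255 [(14, 6)] (.iso 255 [(15, 6)] (.iso 255 [(16, 6)] (.iso 255 [(17, 6)] (.iso 255 [(18, 6)] (.iso 255 [(19, 6)] (.iso 255 [(20, 6)] (.iso 255 [(21, 6)] (.iso 255 [(22, 6)] (.iso 255 [(23, 6)] (.iso 255 [(8, 6), (9, 7)] (.iso 255 [(8, 6), (10, 7)] (.iso 255 [(8, 6), (11, 7)] (.iso 255 [(8, 6), (12, 7)] (.iso 255 [(8, 6), (13, 7)] (.iso 255 [(8, 6), (14, 7)] phAc143))))))))))))))))))))))))))))))))))))))))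

theorem phA (S0 : Set (Finset (Fin 24))) (h : P 24 5 8 S0 G1) : P 24 5 8 S0 [] :=
  sound (r := 3) (by norm_num) rfl h phAcert true [] [] [] (by decide +kernel)

end Cfsg.Agent.Lib.Helper3.Stq.D24
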