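import Cfsg.Agent.Lib.Helper3.StD24data

set_option autoImplicit false
set_option maxRecDepth 100000

namespace Cfsg.Agent.Lib.Helper3.Stq.D24

open Cfsg Cfsg.Agent.Lib.Helper3.Stq

def phBc1 : Cert := (.node 1921 (.sub (.node 2945 (.sub (.node 3457 (.sub (.node 70017 (.sub (.node 528769 (.sub (.node 24961 (.sub (.node 3713 (.sub (.node 21121 (.sub (.node 74369 (.sub (.node 270977 (.sub (.node 13441 (.sub (.node 83073 (.sub (.node 148609 (.sub (.node 14465 (.sub (.node 100481 (.sub (.node 166017 (.sub (.goto []) .nil)) .nil)) .nil)) .nil)) .nil)) .nil)) .nil)) .nil)) .nil)) .nil)) .nil)) .nil)) .nil)) .nil)) .nil)) .nil))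
def phBc2 : Cert := (.node 25633 (.sub (.node 22561 (.sub (.node 75809 (.sub (.node 534561 (.sub (.node 1857 (.sub (.node 2881 (.sub (.node 3393 (.sub (.node 20801 (.sub (.node 74049 (.sub (.node 139585 (.sub (.node 3649 (.sub (.node 70209 (.sub (.node 135745 (.sub (.node 25153 (.sub (.node 13377 (.sub (.node 99393 (.sub (.node 558145 (.sub (.node 14401 (.sub (.node 84033 (.sub (.node 280641 (.sub phBc1 .nil)) .nil)) .nil)) .nil)) .nil)) .nil)) .nil)) .nil)) .nil)) .nil)) .nil)) .nil)) .nil)) .nil)) .nil)) .nil)) .nil)) .nil)) .nil)) .nil))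
def phBc3 : Cert := (.node 140305 (.sub (.node 71697 (.sub (.node 137233 (.sub (.node 26641 (.sub (.node 481 (.sub (.node 737 (.sub (.node 1249 (.sub (.node 2273 (.sub (.node 1825 (.sub (.node 2849 (.sub (.node 3361 (.sub (.node 12577 (.sub (.node 82209 (.sub (.node 147745 (.sub (.node 3617 (.sub (.node 12833 (.sub (.node 98849 (.sub (.node 164385 (.sub (.node 70689 (.sub (.node 267297 (.sub phBc2 .nil)) .nil)) .nil)) .nil)) .nil)) .nil)) .nil)) .nil)) .nil)) .nil)) .nil)) .nil)) .nil)) .nil)) .nil)) .nil)) .nil)) .nil)) .nil)) .nil))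
def phBc4 : Cert := (.node 433 (.sub (.node 689 (.sub (.node 1201 (.sub (.node 2225 (.sub (.node 465 (.sub (.node 721 (.sub (.node 1233 (.sub (.node 2257 (.sub (.node 1809 (.sub (.node 2833 (.sub (.node 3345 (.sub (.node 12561 (.sub (.node 98577 (.sub (.node 295185 (.sub (.node 3601 (.sub (.node 12817 (.sub (.node 82449 (.sub (.node 541201 (.sub (.node 21521 (.sub (.node 74769 (.sub phBc3 .nil)) .nil)) .nil)) .nil)) .nil)) .nil)) .nil)) .nil)) .nil)) .nil)) .nil)) .nil)) .nil)) .nil)) .nil)) .nil)) .nil)) .nil)) .nil)) .nil))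
def phBc5 : Cert := (.node 4873 (.sub (.node 8969 (.sub (.node 5385 (.sub (.node 17673 (.sub (.node 67849 (.sub (.node 264457 (.sub (.node 67081 (.sub (.node 263689 (.sub (.node 6665 (.sub (.node 18953 (.sub (.node 7177 (.sub (.node 11273 (.sub (.node 102409 (.sub (.node 167945 (.sub (.node 90121 (.sub (.node 155657 (.sub (.node 369 (.sub (.node 625 (.sub (.node 1137 (.sub (.node 2161 (.sub phBc4 .nil)) .nil)) .nil)) .nil)) .nil)) .nil)) .nil)) .nil)) .nil)) .nil)) .nil)) .nil)) .nil)) .nil)) .nil)) .nil)) .nil)) .nil)) .nil)) .nil))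
def phBc6 : Cert := (.node 345 (.sub (.node 1113 (.sub (.node 4185 (.sub (.node 16473 (.sub (.node 409 (.sub (.node 665 (.sub (.node 65689 (.sub (.node 131225 (.sub (.node 361 (.sub (.node 617 (.sub (.node 65641 (.sub (.node 131177 (.sub (.node 425 (.sub (.node 1193 (.sub (.node 4265 (.sub (.node 16553 (.sub (.node 457 (.sub (.node 713 (.sub (.node 4297 (.sub (.node 8393 (.sub phBc5 .nil)) .nil)) .nil)) .nil)) .nil)) .nil)) .nil)) .nil)) .nil)) .nil)) .nil)) .nil)) .nil)) .nil)) .nil)) .nil)) .nil)) .nil)) .nil)) .nil))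
def phBc7 : Cert := (.node 4869 (.sub (.node 8965 (.sub (.node 66821 (.sub (.node 132357 (.sub (.node 6405 (.sub (.node 18693 (.sub (.node 5637 (.sub (.node 17925 (.sub (.node 68101 (.sub (.node 133637 (.sub (.node 7173 (.sub (.node 11269 (.sub (.node 86021 (.sub (.node 282629 (.sub (.node 106501 (.sub (.node 303109 (.sub (.node 313 (.sub (.node 569 (.sub (.node 4153 (.sub (.node 8249 (.sub phBc6 .nil)) .nil)) .nil)) .nil)) .nil)) .nil)) .nil)) .nil)) .nil)) .nil)) .nil)) .nil)) .nil)) .nil)) .nil)) .nil)) .nil)) .nil)) .nil)) .nil))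
def phBc8 : Cert := (.node 341 (.sub (.node 597 (.sub (.node 65621 (.sub (.node 131157 (.sub (.node 405 (.sub (.node 1173 (.sub (.node 4245 (.sub (.node 16533 (.sub (.node 357 (.sub (.node 1125 (.sub (.node 4197 (.sub (.node 16485 (.sub (.node 421 (.sub (.node 677 (.sub (.node 65701 (.sub (.node 131237 (.sub (.node 453 (.sub (.node 709 (.sub (.node 4293 (.sub (.node 8389 (.sub phBc7 .nil)) .nil)) .nil)) .nil)) .nil)) .nil)) .nil)) .nil)) .nil)) .nil)) .nil)) .nil)) .nil)) .nil)) .nil)) .nil)) .nil)) .nil)) .nil)) .nil))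
def phBc9 : Cert := (.sub (.node 1921 (.sub (.node 2945 (.sub (.node 3457 (.sub (.node 20865 (.sub (.node 74113 (.sub (.node 139649 (.sub (.node 3713 (.sub (.node 70273 (.sub (.node 135809 (.sub (.node 25217 (.sub (.node 13441 (.sub (.node 99457 (.sub (.node 296065 (.sub (.node 14465 (.sub (.node 84097 (.sub (.node 542849 (.sub (.goto [(6, 7), (10, 11), (14, 15), (16, 20), (17, 21), (18, 23), (19, 22)]) .nil)) .nil)) .nil)) .nil)) .nil)) .nil)) .nil)) .nil)) .nil)) .nil)) .nil)) .nil)) .nil)) .nil)) .nil)) .nil)) .nil)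
def phBc10 : Cert := (.sub (.node 140321 (.sub (.node 71713 (.sub (.node 137249 (.sub (.node 26657 (.sub (.node 1857 (.sub (.node 2881 (.sub (.node 3393 (.sub (.node 69953 (.sub (.node 266561 (.sub (.node 24897 (.sub (.node 3649 (.sub (.node 21057 (.sub (.node 74305 (.sub (.node 533057 (.sub (.node 13377 (.sub (.node 83009 (.sub (.node 148545 (.sub (.node 14401 (.sub (.node 100417 (.sub (.node 165953 phBc9) .nil)) .nil)) .nil)) .nil)) .nil)) .nil)) .nil)) .nil)) .nil)) .nil)) .nil)) .nil)) .nil)) .nil)) .nil)) .nil)) .nil)) .nil)) .nil)) .nil)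
def phBc11 : Cert := (.sub (.node 25617 (.sub (.node 22545 (.sub (.node 75793 (.sub (.node 272401 (.sub (.node 481 (.sub (.node 737 (.sub (.node 1249 (.sub (.node 2273 (.sub (.node 1825 (.sub (.node 2849 (.sub (.node 3361 (.sub (.node 12577 (.sub (.node 98593 (.sub (.node 557345 (.sub (.node 3617 (.sub (.node 12833 (.sub (.node 82465 (.sub (.node 279073 (.sub (.node 21537 (.sub (.node 74785 phBc10) .nil)) .nil)) .nil)) .nil)) .nil)) .nil)) .nil)) .nil)) .nil)) .nil)) .nil)) .nil)) .nil)) .nil)) .nil)) .nil)) .nil)) .nil)) .nil)) .nil)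
def phBc12 : Cert := (.sub (.node 433 (.sub (.node 689 (.sub (.node 1201 (.sub (.node 2225 (.sub (.node 465 (.sub (.node 721 (.sub (.node 1233 (.sub (.node 2257 (.sub (.node 1809 (.sub (.node 2833 (.sub (.node 3345 (.sub (.node 12561 (.sub (.node 82193 (.sub (.node 147729 (.sub (.node 3601 (.sub (.node 12817 (.sub (.node 98833 (.sub (.node 164369 (.sub (.node 70673 (.sub (.node 529425 phBc11) .nil)) .nil)) .nil)) .nil)) .nil)) .nil)) .nil)) .nil)) .nil)) .nil)) .nil)) .nil)) .nil)) .nil)) .nil)) .nil)) .nil)) .nil)) .nil)) .nil)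
def phBc13 : Cert := (.sub (.node 4873 (.sub (.node 8969 (.sub (.node 66825 (.sub (.node 132361 (.sub (.node 6409 (.sub (.node 18697 (.sub (.node 5641 (.sub (.node 17929 (.sub (.node 68105 (.sub (.node 133641 (.sub (.node 7177 (.sub (.node 11273 (.sub (.node 86025 (.sub (.node 282633 (.sub (.node 106505 (.sub (.node 303113 (.sub (.node 369 (.sub (.node 625 (.sub (.node 1137 (.sub (.node 2161 phBc12) .nil)) .nil)) .nil)) .nil)) .nil)) .nil)) .nil)) .nil)) .nil)) .nil)) .nil)) .nil)) .nil)) .nil)) .nil)) .nil)) .nil)) .nil)) .nil)) .nil)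
def phBc14 : Cert := (.sub (.node 345 (.sub (.node 601 (.sub (.node 65625 (.sub (.node 131161 (.sub (.node 409 (.sub (.node 1177 (.sub (.node 4249 (.sub (.node 16537 (.sub (.node 361 (.sub (.node 1129 (.sub (.node 4201 (.sub (.node 16489 (.sub (.node 425 (.sub (.node 681 (.sub (.node 65705 (.sub (.node 131241 (.sub (.node 457 (.sub (.node 713 (.sub (.node 4297 (.sub (.node 8393 phBc13) .nil)) .nil)) .nil)) .nil)) .nil)) .nil)) .nil)) .nil)) .nil)) .nil)) .nil)) .nil)) .nil)) .nil)) .nil)) .nil)) .nil)) .nil)) .nil)) .nil)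
def phBc15 : Cert := (.sub (.node 4869 (.sub (.node 8965 (.sub (.node 5381 (.sub (.node 17669 (.sub (.node 67845 (.sub (.node 264453 (.sub (.node 67077 (.sub (.node 263685 (.sub (.node 6661 (.sub (.node 18949 (.sub (.node 7173 (.sub (.node 11269 (.sub (.node 102405 (.sub (.node 167941 (.sub (.node 90117 (.sub (.node 155653 (.sub (.node 313 (.sub (.node 569 (.sub (.node 4153 (.sub (.node 8249 phBc14) .nil)) .nil)) .nil)) .nil)) .nil)) .nil)) .nil)) .nil)) .nil)) .nil)) .nil)) .nil)) .nil)) .nil)) .nil)) .nil)) .nil)) .nil)) .nil)) .nil)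
def phBc16 : Cert := (.sub (.node 341 (.sub (.node 1109 (.sub (.node 4181 (.sub (.node 16469 (.sub (.node 405 (.sub (.node 661 (.sub (.node 65685 (.sub (.node 131221 (.sub (.node 357 (.sub (.node 613 (.sub (.node 65637 (.sub (.node 131173 (.sub (.node 421 (.sub (.node 1189 (.sub (.node 4261 (.sub (.node 16549 (.sub (.node 453 (.sub (.node 709 (.sub (.node 4293 (.sub (.node 8389 phBc15) .nil)) .nil)) .nil)) .nil)) .nil)) .nil)) .nil)) .nil)) .nil)) .nil)) .nil)) .nil)) .nil)) .nil)) .nil)) .nil)) .nil)) .nil)) .nil)) .nil)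
def phBcert : Cert := (.node 285 (.sub (.node 541 (.sub (.node 1053 (.sub (.node 2077 (.sub (.node 301 (.sub (.node 557 (.sub (.node 1069 (.sub (.node 2093 (.sub (.node 333 (.sub (.node 589 (.sub (.node 1101 (.sub (.node 2125 (.sub (.node 397 (.sub (.node 653 (.sub (.node 1165 (.sub (.node 2189 (.sub (.node 309 (.sub (.node 565 (.sub (.node 4149 (.sub (.node 8245 (.sub phBc8 .nil)) .nil)) .nil)) .nil)) .nil)) .nil)) .nil)) .nil)) .nil)) .nil)) .nil)) .nil)) .nil)) .nil)) .nil)) .nil)) .nil)) .nil)) .nil)) (.sub (.node 541 (.sub (.node 1053 (.sub (.node 2077 (.sub (.node 301 (.sub (.node 557 (.sub (.node 1069 (.sub (.node 2093 (.sub (.node 333 (.sub (.node 589 (.sub (.node 1101 (.sub (.node 2125 (.sub (.node 397 (.sub (.node 653 (.sub (.node 1165 (.sub (.node 2189 (.sub (.node 309 (.sub (.node 565 (.sub (.node 4149 (.sub (.node 8245 phBc16) .nil)) .nil)) .nil)) .nil)) .nil)) .nil)) .nil)) .nil)) .nil)) .nil)) .nil)) .nil)) .nil)) .nil)) .nil)) .nil)) .nil))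 .nil)) .nil)))

theorem phB (S0 : Set (Finset (Fin 24))) (h : P 24 5 8 S0 G2) : P 24 5 8 S0 G1 :=
  sound (r := 3) (by norm_num) rfl h phBcert true G1 [] [] (by decide +kernel)

end Cfsg.Agent.Lib.Helper3.Stq.D24
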