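import Cfsg.Agent.Lib.Helper3.StD24data

set_option autoImplicit false
set_option maxRecDepth 100000

namespace Cfsg.Agent.Lib.Helper3.Stq.D24

open Cfsg Cfsg.Agent.Lib.Helper3.Stq

def phCc1 : Cert := (.node 277504 (.sub (.node 117760 (.sub (.node 314368 (.sub (.node 126976 (.sub (.node 1110016 (.sub (.node 2031616 (.sub (.goto []) .nil)) .nil)) .nil)) .nil)) .nil)) .nil))
def phCc2 : Cert := (.node 275200 (.sub (.node 115456 (.sub (.node 312064 (.sub (.node 87296 (.sub (.node 152832 (.sub (.node 107776 (.sub (.node 173312 (.sub (.node 104704 (.sub (.node 170240 (.sub (.node 92416 (.sub (.node 157952 (.sub (.node 103936 (.sub (.node 169472 (.sub (.node 91648 (.sub (.node 157184 (.sub (.node 88576 (.sub (.node 154112 (.sub (.node 109056 (.sub (.node 174592 (.sub (.node 80896 (.sub phCc1 .nil)) .nil)) .nil)) .nil)) .nil)) .nil)) .nil)) .nil)) .nil)) .nil)) .nil)) .nil)) .nil)) .nil)) .nil)) .nil)) .nil)) .nil)) .nil)) .nil))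
def phCc3 : Cert := (.node 66496 (.sub (.node 132032 (.sub (.node 5568 (.sub (.node 9664 (.sub (.node 6592 (.sub (.node 10688 (.sub (.node 5824 (.sub (.node 9920 (.sub (.node 6848 (.sub (.node 10944 (.sub (.node 68800 (.sub (.node 134336 (.sub (.node 78016 (.sub (.node 143552 (.sub (.node 114880 (.sub (.node 180416 (.sub (.node 7936 (.sub (.node 69376 (.sub (.node 1052416 (.sub (.node 78592 (.sub phCc2 .nil)) .nil)) .nil)) .nil)) .nil)) .nil)) .nil)) .nil)) .nil)) .nil)) .nil)) .nil)) .nil)) .nil)) .nil)) .nil)) .nil)) .nil)) .nil)) .nil))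
def phCc4 : Cert := (.node 102496 (.sub (.node 299104 (.sub (.node 90208 (.sub (.node 286816 (.sub (.node 5024 (.sub (.node 9120 (.sub (.node 66976 (.sub (.node 263584 (.sub (.node 6560 (.sub (.node 18848 (.sub (.node 5792 (.sub (.node 18080 (.sub (.node 68256 (.sub (.node 264864 (.sub (.node 7328 (.sub (.node 11424 (.sub (.node 86176 (.sub (.node 151712 (.sub (.node 106656 (.sub (.node 172192 (.sub phCc3 .nil)) .nil)) .nil)) .nil)) .nil)) .nil)) .nil)) .nil)) .nil)) .nil)) .nil)) .nil)) .nil)) .nil)) .nil)) .nil)) .nil)) .nil)) .nil)) .nil))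
def phCc5 : Cert := (.node 6800 (.sub (.node 19088 (.sub (.node 7312 (.sub (.node 11408 (.sub (.node 102544 (.sub (.node 299152 (.sub (.node 90256 (.sub (.node 286864 (.sub (.node 4960 (.sub (.node 9056 (.sub (.node 5472 (.sub (.node 17760 (.sub (.node 67936 (.sub (.node 133472 (.sub (.node 67168 (.sub (.node 132704 (.sub (.node 6752 (.sub (.node 19040 (.sub (.node 7264 (.sub (.node 11360 (.sub phCc4 .nil)) .nil)) .nil)) .nil)) .nil)) .nil)) .nil)) .nil)) .nil)) .nil)) .nil)) .nil)) .nil)) .nil)) .nil)) .nil)) .nil)) .nil)) .nil)) .nil))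
def phCc6 : Cert := (.node 6480 (.sub (.node 18768 (.sub (.node 5712 (.sub (.node 18000 (.sub (.node 68176 (.sub (.node 264784 (.sub (.node 7248 (.sub (.node 11344 (.sub (.node 86096 (.sub (.node 151632 (.sub (.node 106576 (.sub (.node 172112 (.sub (.node 5008 (.sub (.node 9104 (.sub (.node 5520 (.sub (.node 17808 (.sub (.node 67984 (.sub (.node 133520 (.sub (.node 67216 (.sub (.node 132752 (.sub phCc5 .nil)) .nil)) .nil)) .nil)) .nil)) .nil)) .nil)) .nil)) .nil)) .nil)) .nil)) .nil)) .nil)) .nil)) .nil)) .nil)) .nil)) .nil)) .nil)) .nil))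
def phCc7 : Cert := (.node 66352 (.sub (.node 131888 (.sub (.node 5424 (.sub (.node 9520 (.sub (.node 6448 (.sub (.node 10544 (.sub (.node 5680 (.sub (.node 9776 (.sub (.node 6704 (.sub (.node 10800 (.sub (.node 68656 (.sub (.node 134192 (.sub (.node 77872 (.sub (.node 143408 (.sub (.node 114736 (.sub (.node 180272 (.sub (.node 4944 (.sub (.node 9040 (.sub (.node 66896 (.sub (.node 263504 (.sub phCc6 .nil)) .nil)) .nil)) .nil)) .nil)) .nil)) .nil)) .nil)) .nil)) .nil)) .nil)) .nil)) .nil)) .nil)) .nil)) .nil)) .nil)) .nil)) .nil)) .nil))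
def phCc8 : Cert := (.node 1928 (.sub (.node 2952 (.sub (.node 3464 (.sub (.node 12680 (.sub (.node 98696 (.sub (.node 164232 (.sub (.node 3720 (.sub (.node 12936 (.sub (.node 82568 (.sub (.node 148104 (.sub (.node 21640 (.sub (.node 74888 (.sub (.node 533640 (.sub (.node 71816 (.sub (.node 268424 (.sub (.node 26760 (.sub (.node 496 (.sub (.node 4336 (.sub (.node 65776 (.sub (.node 1048816 (.sub phCc7 .nil)) .nil)) .nil)) .nil)) .nil)) .nil)) .nil)) .nil)) .nil)) .nil)) .nil)) .nil)) .nil)) .nil)) .nil)) .nil)) .nil)) .nil)) .nil)) .nil))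
def phCc9 : Cert := (.node 164904 (.sub (.node 14376 (.sub (.node 84008 (.sub (.node 149544 (.sub (.node 1864 (.sub (.node 2888 (.sub (.node 3400 (.sub (.node 12616 (.sub (.node 82248 (.sub (.node 541000 (.sub (.node 3656 (.sub (.node 12872 (.sub (.node 98888 (.sub (.node 295496 (.sub (.node 70728 (.sub (.node 136264 (.sub (.node 25672 (.sub (.node 22600 (.sub (.node 75848 (.sub (.node 141384 (.sub phCc8 .nil)) .nil)) .nil)) .nil)) .nil)) .nil)) .nil)) .nil)) .nil)) .nil)) .nil)) .nil)) .nil)) .nil)) .nil)) .nil)) .nil)) .nil)) .nil)) .nil))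
def phCc10 : Cert := (.node 279576 (.sub (.node 14360 (.sub (.node 100376 (.sub (.node 559128 (.sub (.node 488 (.sub (.node 744 (.sub (.node 1256 (.sub (.node 2280 (.sub (.node 1832 (.sub (.node 2856 (.sub (.node 3368 (.sub (.node 20776 (.sub (.node 74024 (.sub (.node 270632 (.sub (.node 3624 (.sub (.node 70184 (.sub (.node 528936 (.sub (.node 25128 (.sub (.node 13352 (.sub (.node 99368 (.sub phCc9 .nil)) .nil)) .nil)) .nil)) .nil)) .nil)) .nil)) .nil)) .nil)) .nil)) .nil)) .nil)) .nil)) .nil)) .nil)) .nil)) .nil)) .nil)) .nil)) .nil))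
def phCc11 : Cert := (.node 440 (.sub (.node 696 (.sub (.node 1208 (.sub (.node 2232 (.sub (.node 472 (.sub (.node 728 (.sub (.node 1240 (.sub (.node 2264 (.sub (.node 1816 (.sub (.node 2840 (.sub (.node 3352 (.sub (.node 69912 (.sub (.node 135448 (.sub (.node 24856 (.sub (.node 3608 (.sub (.node 21016 (.sub (.node 74264 (.sub (.node 139800 (.sub (.node 13336 (.sub (.node 82968 (.sub phCc10 .nil)) .nil)) .nil)) .nil)) .nil)) .nil)) .nil)) .nil)) .nil)) .nil)) .nil)) .nil)) .nil)) .nil)) .nil)) .nil)) .nil)) .nil)) .nil)) .nil))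
def phCc12 : Cert := (.node 1924 (.sub (.node 2948 (.sub (.node 3460 (.sub (.node 12676 (.sub (.node 82308 (.sub (.node 278916 (.sub (.node 3716 (.sub (.node 12932 (.sub (.node 98948 (.sub (.node 557700 (.sub (.node 70788 (.sub (.node 136324 (.sub (.node 25732 (.sub (.node 22660 (.sub (.node 75908 (.sub (.node 141444 (.sub (.node 376 (.sub (.node 632 (.sub (.node 1144 (.sub (.node 2168 (.sub phCc11 .nil)) .nil)) .nil)) .nil)) .nil)) .nil)) .nil)) .nil)) .nil)) .nil)) .nil)) .nil)) .nil)) .nil)) .nil)) .nil)) .nil)) .nil)) .nil)) .nil))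
def phCc13 : Cert := (.node 541732 (.sub (.node 14372 (.sub (.node 100388 (.sub (.node 296996 (.sub (.node 1860 (.sub (.node 2884 (.sub (.node 3396 (.sub (.node 12612 (.sub (.node 98628 (.sub (.node 164164 (.sub (.node 3652 (.sub (.node 12868 (.sub (.node 82500 (.sub (.node 148036 (.sub (.node 21572 (.sub (.node 74820 (.sub (.node 271428 (.sub (.node 71748 (.sub (.node 530500 (.sub (.node 26692 (.sub phCc12 .nil)) .nil)) .nil)) .nil)) .nil)) .nil)) .nil)) .nil)) .nil)) .nil)) .nil)) .nil)) .nil)) .nil)) .nil)) .nil)) .nil)) .nil)) .nil)) .nil))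
def phCc14 : Cert := (.node 164884 (.sub (.node 14356 (.sub (.node 83988 (.sub (.node 149524 (.sub (.node 484 (.sub (.node 740 (.sub (.node 1252 (.sub (.node 2276 (.sub (.node 1828 (.sub (.node 2852 (.sub (.node 3364 (.sub (.node 69924 (.sub (.node 135460 (.sub (.node 24868 (.sub (.node 3620 (.sub (.node 21028 (.sub (.node 74276 (.sub (.node 139812 (.sub (.node 13348 (.sub (.node 82980 (.sub phCc13 .nil)) .nil)) .nil)) .nil)) .nil)) .nil)) .nil)) .nil)) .nil)) .nil)) .nil)) .nil)) .nil)) .nil)) .nil)) .nil)) .nil)) .nil)) .nil)) .nil))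
def phCc15 : Cert := (.node 436 (.sub (.node 692 (.sub (.node 1204 (.sub (.node 2228 (.sub (.node 468 (.sub (.node 724 (.sub (.node 1236 (.sub (.node 2260 (.sub (.node 1812 (.sub (.node 2836 (.sub (.node 3348 (.sub (.node 20756 (.sub (.node 74004 (.sub (.node 532756 (.sub (.node 3604 (.sub (.node 70164 (.sub (.node 266772 (.sub (.node 25108 (.sub (.node 13332 (.sub (.node 99348 (.sub phCc14 .nil)) .nil)) .nil)) .nil)) .nil)) .nil)) .nil)) .nil)) .nil)) .nil)) .nil)) .nil)) .nil)) .nil)) .nil)) .nil)) .nil)) .nil)) .nil)) .nil))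
def phCc16 : Cert := (.node 66316 (.sub (.node 131852 (.sub (.node 5388 (.sub (.node 9484 (.sub (.node 6412 (.sub (.node 10508 (.sub (.node 5644 (.sub (.node 9740 (.sub (.node 6668 (.sub (.node 10764 (.sub (.node 68620 (.sub (.node 134156 (.sub (.node 77836 (.sub (.node 143372 (.sub (.node 114700 (.sub (.node 180236 (.sub (.node 372 (.sub (.node 628 (.sub (.node 1140 (.sub (.node 2164 (.sub phCc15 .nil)) .nil)) .nil)) .nil)) .nil)) .nil)) .nil)) .nil)) .nil)) .nil)) .nil)) .nil)) .nil)) .nil)) .nil)) .nil)) .nil)) .nil)) .nil)) .nil))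
def phCc17 : Cert := (.node 348 (.sub (.node 604 (.sub (.node 4188 (.sub (.node 8284 (.sub (.node 412 (.sub (.node 668 (.sub (.node 4252 (.sub (.node 8348 (.sub (.node 364 (.sub (.node 620 (.sub (.node 4204 (.sub (.node 8300 (.sub (.node 428 (.sub (.node 684 (.sub (.node 4268 (.sub (.node 8364 (.sub (.node 460 (.sub (.node 1228 (.sub (.node 65740 (.sub (.node 262348 (.sub phCc16 .nil)) .nil)) .nil)) .nil)) .nil)) .nil)) .nil)) .nil)) .nil)) .nil)) .nil)) .nil)) .nil)) .nil)) .nil)) .nil)) .nil)) .nil)) .nil)) .nil))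
def phCc18 : Cert := (.node 1922 (.sub (.node 2946 (.sub (.node 3458 (.sub (.node 20866 (.sub (.node 74114 (.sub (.node 139650 (.sub (.node 3714 (.sub (.node 70274 (.sub (.node 135810 (.sub (.node 25218 (.sub (.node 13442 (.sub (.node 99458 (.sub (.node 296066 (.sub (.node 14466 (.sub (.node 84098 (.sub (.node 542850 (.sub (.node 316 (.sub (.node 1084 (.sub (.node 65596 (.sub (.node 262204 (.sub phCc17 .nil)) .nil)) .nil)) .nil)) .nil)) .nil)) .nil)) .nil)) .nil)) .nil)) .nil)) .nil)) .nil)) .nil)) .nil)) .nil)) .nil)) .nil)) .nil)) .nil))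
def phCc19 : Cert := (.node 140322 (.sub (.node 71714 (.sub (.node 137250 (.sub (.node 26658 (.sub (.node 1858 (.sub (.node 2882 (.sub (.node 3394 (.sub (.node 69954 (.sub (.node 266562 (.sub (.node 24898 (.sub (.node 3650 (.sub (.node 21058 (.sub (.node 74306 (.sub (.node 533058 (.sub (.node 13378 (.sub (.node 83010 (.sub (.node 148546 (.sub (.node 14402 (.sub (.node 100418 (.sub (.node 165954 (.sub phCc18 .nil)) .nil)) .nil)) .nil)) .nil)) .nil)) .nil)) .nil)) .nil)) .nil)) .nil)) .nil)) .nil)) .nil)) .nil)) .nil)) .nil)) .nil)) .nil)) .nil))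
def phCc20 : Cert := (.node 25618 (.sub (.node 22546 (.sub (.node 75794 (.sub (.node 272402 (.sub (.node 482 (.sub (.node 738 (.sub (.node 1250 (.sub (.node 2274 (.sub (.node 1826 (.sub (.node 2850 (.sub (.node 3362 (.sub (.node 12578 (.sub (.node 98594 (.sub (.node 557346 (.sub (.node 3618 (.sub (.node 12834 (.sub (.node 82466 (.sub (.node 279074 (.sub (.node 21538 (.sub (.node 74786 (.sub phCc19 .nil)) .nil)) .nil)) .nil)) .nil)) .nil)) .nil)) .nil)) .nil)) .nil)) .nil)) .nil)) .nil)) .nil)) .nil)) .nil)) .nil)) .nil)) .nil)) .nil))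
def phCc21 : Cert := (.node 434 (.sub (.node 690 (.sub (.node 1202 (.sub (.node 2226 (.sub (.node 466 (.sub (.node 722 (.sub (.node 1234 (.sub (.node 2258 (.sub (.node 1810 (.sub (.node 2834 (.sub (.node 3346 (.sub (.node 12562 (.sub (.node 82194 (.sub (.node 147730 (.sub (.node 3602 (.sub (.node 12818 (.sub (.node 98834 (.sub (.node 164370 (.sub (.node 70674 (.sub (.node 529426 (.sub phCc20 .nil)) .nil)) .nil)) .nil)) .nil)) .nil)) .nil)) .nil)) .nil)) .nil)) .nil)) .nil)) .nil)) .nil)) .nil)) .nil)) .nil)) .nil)) .nil)) .nil))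
def phCc22 : Cert := (.node 4874 (.sub (.node 8970 (.sub (.node 66826 (.sub (.node 132362 (.sub (.node 6410 (.sub (.node 18698 (.sub (.node 5642 (.sub (.node 17930 (.sub (.node 68106 (.sub (.node 133642 (.sub (.node 7178 (.sub (.node 11274 (.sub (.node 86026 (.sub (.node 282634 (.sub (.node 106506 (.sub (.node 303114 (.sub (.node 370 (.sub (.node 626 (.sub (.node 1138 (.sub (.node 2162 (.sub phCc21 .nil)) .nil)) .nil)) .nil)) .nil)) .nil)) .nil)) .nil)) .nil)) .nil)) .nil)) .nil)) .nil)) .nil)) .nil)) .nil)) .nil)) .nil)) .nil)) .nil))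
def phCc23 : Cert := (.node 346 (.sub (.node 602 (.sub (.node 65626 (.sub (.node 131162 (.sub (.node 410 (.sub (.node 1178 (.sub (.node 4250 (.sub (.node 16538 (.sub (.node 362 (.sub (.node 1130 (.sub (.node 4202 (.sub (.node 16490 (.sub (.node 426 (.sub (.node 682 (.sub (.node 65706 (.sub (.node 131242 (.sub (.node 458 (.sub (.node 714 (.sub (.node 4298 (.sub (.node 8394 (.sub phCc22 .nil)) .nil)) .nil)) .nil)) .nil)) .nil)) .nil)) .nil)) .nil)) .nil)) .nil)) .nil)) .nil)) .nil)) .nil)) .nil)) .nil)) .nil)) .nil)) .nil))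
def phCc24 : Cert := (.node 4870 (.sub (.node 8966 (.sub (.node 5382 (.sub (.node 17670 (.sub (.node 67846 (.sub (.node 264454 (.sub (.node 67078 (.sub (.node 263686 (.sub (.node 6662 (.sub (.node 18950 (.sub (.node 7174 (.sub (.node 11270 (.sub (.node 102406 (.sub (.node 167942 (.sub (.node 90118 (.sub (.node 155654 (.sub (.node 314 (.sub (.node 570 (.sub (.node 4154 (.sub (.node 8250 (.sub phCc23 .nil)) .nil)) .nil)) .nil)) .nil)) .nil)) .nil)) .nil)) .nil)) .nil)) .nil)) .nil)) .nil)) .nil)) .nil)) .nil)) .nil)) .nil)) .nil)) .nil))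
def phCc25 : Cert := (.node 342 (.sub (.node 1110 (.sub (.node 4182 (.sub (.node 16470 (.sub (.node 406 (.sub (.node 662 (.sub (.node 65686 (.sub (.node 131222 (.sub (.node 358 (.sub (.node 614 (.sub (.node 65638 (.sub (.node 131174 (.sub (.node 422 (.sub (.node 1190 (.sub (.node 4262 (.sub (.node 16550 (.sub (.node 454 (.sub (.node 710 (.sub (.node 4294 (.sub (.node 8390 (.sub phCc24 .nil)) .nil)) .nil)) .nil)) .nil)) .nil)) .nil)) .nil)) .nil)) .nil)) .nil)) .nil)) .nil)) .nil)) .nil)) .nil)) .nil)) .nil)) .nil)) .nil))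
def phCcert : Cert := (.node 286 (.sub (.node 542 (.sub (.node 1054 (.sub (.node 2078 (.sub (.node 302 (.sub (.node 558 (.sub (.node 1070 (.sub (.node 2094 (.sub (.node 334 (.sub (.node 590 (.sub (.node 1102 (.sub (.node 2126 (.sub (.node 398 (.sub (.node 654 (.sub (.node 1166 (.sub (.node 2190 (.sub (.node 310 (.sub (.node 566 (.sub (.node 4150 (.sub (.node 8246 (.sub phCc25 .nil)) .nil)) .nil)) .nil)) .nil)) .nil)) .nil)) .nil)) .nil)) .nil)) .nil)) .nil)) .nil)) .nil)) .nil)) .nil)) .nil)) .nil)) .nil)) .nil))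

theorem phC (S0 : Set (Finset (Fin 24))) (h : P 24 5 8 S0 B0) : P 24 5 8 S0 G2 :=
  sound (r := 3) (by norm_num) rfl h phCcert true G2 [] [] (by decide +kernel)

end Cfsg.Agent.Lib.Helper3.Stq.D24
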