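import Cfsg.Agent.Lib.Helper3.StCon

set_option autoImplicit false
set_option maxRecDepth 100000

namespace Cfsg.Agent.Lib.Helper3.Stq.H21

open Cfsg Cfsg.Agent.Lib.Helper3.Stq

def B0 : List ℕ := [660736, 1098496, 1120384, 402048, 567360, 345152, 4720, 33960, 264472, 74020, 540820, 1179724, 149538, 1057810, 590346, 299014, 1835041, 229393, 28681, 3589, 451]

def c1 : Cert := (.node 1280 (.sub (.goto []) .nil))
def c2 : Cert := (.iso 28681 [(16, 12), (17, 13), (19, 14)] (.iso 28681 [(16, 12), (17, 13), (20, 14)] (.iso 28681 [(16, 12), (18, 13), (19, 14)] (.iso 28681 [(16, 12), (18, 13), (20, 14)] (.iso 28681 [(16, 12), (19, 13), (20, 14)] (.iso 28681 [(17, 12), (18, 13), (19, 14)] (.iso 28681 [(17, 12), (18, 13), (20, 14)] (.iso 28681 [(17, 12), (19, 13), (20, 14)] (.iso 28681 [(18, 12), (19, 13), (20, 14)] .nil)))))))))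
def c3 : Cert := (.iso 28681 [(15, 12), (17, 14)] (.iso 28681 [(15, 12), (18, 14)] (.iso 28681 [(15, 12), (19, 14)] (.iso 28681 [(15, 12), (20, 14)] (.iso 28681 [(16, 12), (17, 14)] (.iso 28681 [(16, 12), (18, 14)] (.iso 28681 [(16, 12), (19, 14)] (.iso 28681 [(16, 12), (20, 14)] (.iso 28681 [(17, 12), (18, 14)] (.iso 28681 [(17, 12), (19, 14)] (.iso 28681 [(17, 12), (20, 14)] (.iso 28681 [(18, 12), (19, 14)] (.iso 28681 [(18, 12), (20, 14)] (.iso 28681 [(19, 12), (20, 14)] (.iso 28681 [(15, 12), (16, 13)] (.iso 28681 [(15, 12), (17, 13)] (.iso 28681 [(15, 12), (18, 13)] (.iso 28681 [(15, 12), (19, 13)] (.iso 28681 [(15, 12), (20, 13)] (.iso 28681 [(16, 12), (17, 13)] (.iso 28681 [(16, 12), (18, 13)] (.iso 28681 [(16, 12), (19, 13)] (.iso 28681 [(16, 12), (20, 13)] (.iso 28681 [(17, 12), (18, 13)] (.iso 28681 [(17, 12), (19, 13)] (.iso 28681 [(17, 12), (20, 13)]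 (.iso 28681 [(18, 12), (19, 13)] (.iso 28681 [(18, 12), (20, 13)] (.iso 28681 [(19, 12), (20, 13)] (.iso 28681 [(15, 12), (16, 13), (17, 14)] (.iso 28681 [(15, 12), (16, 13), (18, 14)] (.iso 28681 [(15, 12), (16, 13), (19, 14)] (.iso 28681 [(15, 12), (16, 13), (20, 14)] (.iso 28681 [(15, 12), (17, 13), (18, 14)] (.iso 28681 [(15, 12), (17, 13), (19, 14)] (.iso 28681 [(15, 12), (17, 13), (20, 14)] (.iso 28681 [(15, 12), (18, 13), (19, 14)] (.iso 28681 [(15, 12), (18, 13), (20, 14)] (.iso 28681 [(15, 12), (19, 13), (20, 14)] (.iso 28681 [(16, 12), (17, 13), (18, 14)] c2))))))))))))))))))))))))))))))))))))))))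
def c4 : Cert := (.iso 3589 [(14, 9), (18, 10), (19, 11)] (.iso 3589 [(14, 9), (18, 10), (20, 11)] (.iso 3589 [(14, 9), (19, 10), (20, 11)] (.iso 3589 [(15, 9), (16, 10), (17, 11)] (.iso 3589 [(15, 9), (16, 10), (18, 11)] (.iso 3589 [(15, 9), (16, 10), (19, 11)] (.iso 3589 [(15, 9), (16, 10), (20, 11)] (.iso 3589 [(15, 9), (17, 10), (18, 11)] (.iso 3589 [(15, 9), (17, 10), (19, 11)] (.iso 3589 [(15, 9), (17, 10), (20, 11)] (.iso 3589 [(15, 9), (18, 10), (19, 11)] (.iso 3589 [(15, 9), (18, 10), (20, 11)] (.iso 3589 [(15, 9), (19, 10), (20, 11)] (.iso 3589 [(16, 9), (17, 10), (18, 11)] (.iso 3589 [(16, 9), (17, 10), (19, 11)] (.iso 3589 [(16, 9), (17, 10), (20, 11)] (.iso 3589 [(16, 9), (18, 10), (19, 11)] (.iso 3589 [(16, 9), (18, 10), (20, 11)] (.iso 3589 [(16, 9), (19, 10), (20, 11)] (.iso 3589 [(17, 9), (18, 10), (19, 11)] (.iso 3589 [(17, 9), (18, 10), (20,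 11)] (.iso 3589 [(17, 9), (19, 10), (20, 11)] (.iso 3589 [(18, 9), (19, 10), (20, 11)] .nil)))))))))))))))))))))))
def c5 : Cert := (.iso 3589 [(12, 9), (16, 10), (20, 11)] (.iso 3589 [(12, 9), (17, 10), (18, 11)] (.iso 3589 [(12, 9), (17, 10), (19, 11)] (.iso 3589 [(12, 9), (17, 10), (20, 11)] (.iso 3589 [(12, 9), (18, 10), (19, 11)] (.iso 3589 [(12, 9), (18, 10), (20, 11)] (.iso 3589 [(12, 9), (19, 10), (20, 11)] (.iso 3589 [(13, 9), (14, 10), (15, 11)] (.iso 3589 [(13, 9), (14, 10), (16, 11)] (.iso 3589 [(13, 9), (14, 10), (17, 11)] (.iso 3589 [(13, 9), (14, 10), (18, 11)] (.iso 3589 [(13, 9), (14, 10), (19, 11)] (.iso 3589 [(13, 9), (14, 10), (20, 11)] (.iso 3589 [(13, 9), (15, 10), (16, 11)] (.iso 3589 [(13, 9), (15, 10), (17, 11)] (.iso 3589 [(13, 9), (15, 10), (18, 11)] (.iso 3589 [(13, 9), (15, 10), (19, 11)] (.iso 3589 [(13, 9), (15, 10), (20, 11)] (.iso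 3589 [(13, 9), (16, 10), (17, 11)] (.iso 3589 [(13, 9), (16, 10), (18, 11)] (.iso 3589 [(13, 9), (16, 10), (19, 11)] (.iso 3589 [(13, 9), (16, 10), (20, 11)] (.iso 3589 [(13, 9), (17, 10), (18, 11)] (.iso 3589 [(13, 9), (17, 10), (19, 11)] (.iso 3589 [(13, 9), (17, 10), (20, 11)] (.iso 3589 [(13, 9), (18, 10), (19, 11)] (.iso 3589 [(13, 9), (18, 10), (20, 11)] (.iso 3589 [(13, 9), (19, 10), (20, 11)] (.iso 3589 [(14, 9), (15, 10), (16, 11)] (.iso 3589 [(14, 9), (15, 10), (17, 11)] (.iso 3589 [(14, 9), (15, 10), (18, 11)] (.iso 3589 [(14, 9), (15, 10), (19, 11)] (.iso 3589 [(14, 9), (15, 10), (20, 11)] (.iso 3589 [(14, 9), (16, 10), (17, 11)] (.iso 3589 [(14, 9), (16, 10), (18, 11)] (.iso 3589 [(14, 9), (16, 10), (19, 11)] (.iso 3589 [(14, 9), (16, 10), (20, 11)] (.iso 3589 [(14, 9), (17, 10), (18, 11)] (.iso 3589 [(14, 9), (17, 10), (19, 11)] (.iso 3589 [(14,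 9), (17, 10), (20, 11)] c4))))))))))))))))))))))))))))))))))))))))
def c6 : Cert := (.iso 3589 [(14, 9), (17, 10)] (.iso 3589 [(14, 9), (18, 10)] (.iso 3589 [(14, 9), (19, 10)] (.iso 3589 [(14, 9), (20, 10)] (.iso 3589 [(15, 9), (16, 10)] (.iso 3589 [(15, 9), (17, 10)] (.iso 3589 [(15, 9), (18, 10)] (.iso 3589 [(15, 9), (19, 10)] (.iso 3589 [(15, 9), (20, 10)] (.iso 3589 [(16, 9), (17, 10)] (.iso 3589 [(16, 9), (18, 10)] (.iso 3589 [(16, 9), (19, 10)] (.iso 3589 [(16, 9), (20, 10)] (.iso 3589 [(17, 9), (18, 10)] (.iso 3589 [(17, 9), (19, 10)] (.iso 3589 [(17, 9), (20, 10)] (.iso 3589 [(18, 9), (19, 10)] (.iso 3589 [(18, 9), (20, 10)] (.iso 3589 [(19, 9), (20, 10)] (.iso 3589 [(12, 9), (13, 10), (14, 11)] (.iso 3589 [(12, 9), (13, 10), (15, 11)] (.iso 3589 [(12, 9), (13, 10), (16, 11)] (.iso 3589 [(12, 9), (13, 10), (17, 11)] (.iso 3589 [(12, 9), (13, 10), (18,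 11)] (.iso 3589 [(12, 9), (13, 10), (19, 11)] (.iso 3589 [(12, 9), (13, 10), (20, 11)] (.iso 3589 [(12, 9), (14, 10), (15, 11)] (.iso 3589 [(12, 9), (14, 10), (16, 11)] (.iso 3589 [(12, 9), (14, 10), (17, 11)] (.iso 3589 [(12, 9), (14, 10), (18, 11)] (.iso 3589 [(12, 9), (14, 10), (19, 11)] (.iso 3589 [(12, 9), (14, 10), (20, 11)] (.iso 3589 [(12, 9), (15, 10), (16, 11)] (.iso 3589 [(12, 9), (15, 10), (17, 11)] (.iso 3589 [(12, 9), (15, 10), (18, 11)] (.iso 3589 [(12, 9), (15, 10), (19, 11)] (.iso 3589 [(12, 9), (15, 10), (20, 11)] (.iso 3589 [(12, 9), (16, 10), (17, 11)] (.iso 3589 [(12, 9), (16, 10), (18, 11)] (.iso 3589 [(12, 9), (16, 10), (19, 11)] c5))))))))))))))))))))))))))))))))))))))))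
def c7 : Cert := (.iso 3589 [(13, 9), (19, 11)] (.iso 3589 [(13, 9), (20, 11)] (.iso 3589 [(14, 9), (15, 11)] (.iso 3589 [(14, 9), (16, 11)] (.iso 3589 [(14, 9), (17, 11)] (.iso 3589 [(14, 9), (18, 11)] (.iso 3589 [(14, 9), (19, 11)] (.iso 3589 [(14, 9), (20, 11)] (.iso 3589 [(15, 9), (16, 11)] (.iso 3589 [(15, 9), (17, 11)] (.iso 3589 [(15, 9), (18, 11)] (.iso 3589 [(15, 9), (19, 11)] (.iso 3589 [(15, 9), (20, 11)] (.iso 3589 [(16, 9), (17, 11)] (.iso 3589 [(16, 9), (18, 11)] (.iso 3589 [(16, 9), (19, 11)] (.iso 3589 [(16, 9), (20, 11)] (.iso 3589 [(17, 9), (18, 11)] (.iso 3589 [(17, 9), (19, 11)] (.iso 3589 [(17, 9), (20, 11)] (.iso 3589 [(18, 9), (19, 11)] (.iso 3589 [(18, 9), (20, 11)] (.iso 3589 [(19, 9), (20, 11)] (.iso 3589 [(12, 9), (13, 10)] (.iso 3589 [(12, 9), (14, 10)] (.iso 3589 [(12, 9), (15, 10)] (.iso 3589 [(12, 9), (16, 10)] (.iso 3589 [(12, 9),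 (17, 10)] (.iso 3589 [(12, 9), (18, 10)] (.iso 3589 [(12, 9), (19, 10)] (.iso 3589 [(12, 9), (20, 10)] (.iso 3589 [(13, 9), (14, 10)] (.iso 3589 [(13, 9), (15, 10)] (.iso 3589 [(13, 9), (16, 10)] (.iso 3589 [(13, 9), (17, 10)] (.iso 3589 [(13, 9), (18, 10)] (.iso 3589 [(13, 9), (19, 10)] (.iso 3589 [(13, 9), (20, 10)] (.iso 3589 [(14, 9), (15, 10)] (.iso 3589 [(14, 9), (16, 10)] c6))))))))))))))))))))))))))))))))))))))))
def c8 : Cert := (.iso 3589 [(14, 10), (18, 11)] (.iso 3589 [(14, 10), (19, 11)] (.iso 3589 [(14, 10), (20, 11)] (.iso 3589 [(15, 10), (16, 11)] (.iso 3589 [(15, 10), (17, 11)] (.iso 3589 [(15, 10), (18, 11)] (.iso 3589 [(15, 10), (19, 11)] (.iso 3589 [(15, 10), (20, 11)] (.iso 3589 [(16, 10), (17, 11)] (.iso 3589 [(16, 10), (18, 11)] (.iso 3589 [(16, 10), (19, 11)] (.iso 3589 [(16, 10), (20, 11)] (.iso 3589 [(17, 10), (18, 11)] (.iso 3589 [(17,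 10), (19, 11)] (.iso 3589 [(17, 10), (20, 11)] (.iso 3589 [(18, 10), (19, 11)] (.iso 3589 [(18, 10), (20, 11)] (.iso 3589 [(19, 10), (20, 11)] (.iso 3589 [(12, 9)] (.iso 3589 [(13, 9)] (.iso 3589 [(14, 9)] (.iso 3589 [(15, 9)] (.iso 3589 [(16, 9)] (.iso 3589 [(17, 9)] (.iso 3589 [(18, 9)] (.iso 3589 [(19, 9)] (.iso 3589 [(20, 9)] (.iso 3589 [(12, 9), (13, 11)] (.iso 3589 [(12, 9), (14, 11)] (.iso 3589 [(12, 9), (15, 11)] (.iso 3589 [(12, 9), (16, 11)] (.iso 3589 [(12, 9), (17, 11)] (.iso 3589 [(12, 9), (18, 11)] (.iso 3589 [(12, 9), (19, 11)] (.iso 3589 [(12, 9), (20, 11)] (.iso 3589 [(13, 9), (14, 11)] (.iso 3589 [(13, 9), (15, 11)] (.iso 3589 [(13, 9), (16, 11)] (.iso 3589 [(13, 9), (17, 11)] (.iso 3589 [(13, 9), (18, 11)] c7))))))))))))))))))))))))))))))))))))))))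
def c9 : Cert := (.iso 451 [(15, 6), (17, 7), (18, 8)] (.iso 451 [(15, 6), (17, 7), (19, 8)] (.iso 451 [(15, 6), (17, 7), (20, 8)] (.iso 451 [(15, 6), (18, 7), (19, 8)] (.iso 451 [(15, 6), (18, 7), (20, 8)] (.iso 451 [(15, 6), (19, 7), (20, 8)] (.iso 451 [(16, 6), (17, 7), (18, 8)] (.iso 451 [(16, 6), (17, 7), (19, 8)] (.iso 451 [(16, 6), (17, 7), (20, 8)] (.iso 451 [(16, 6), (18, 7), (19, 8)] (.iso 451 [(16, 6), (18, 7), (20, 8)] (.iso 451 [(16, 6), (19, 7), (20, 8)] (.iso 451 [(17, 6), (18, 7), (19, 8)] (.iso 451 [(17, 6), (18, 7), (20, 8)] (.iso 451 [(17, 6), (19, 7), (20, 8)] (.iso 451 [(18, 6), (19, 7), (20, 8)] .nil))))))))))))))))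
def c10 : Cert := (.iso 451 [(13, 6), (14, 7), (15, 8)] (.iso 451 [(13, 6), (14, 7), (16, 8)] (.iso 451 [(13, 6), (14, 7), (17, 8)] (.iso 451 [(13, 6), (14, 7), (18, 8)] (.iso 451 [(13, 6), (14, 7), (19, 8)] (.iso 451 [(13, 6), (14, 7), (20, 8)] (.iso 451 [(13, 6), (15, 7), (16, 8)] (.iso 451 [(13, 6), (15, 7), (17, 8)] (.iso 451 [(13, 6), (15, 7), (18, 8)] (.iso 451 [(13, 6), (15, 7), (19, 8)] (.iso 451 [(13, 6), (15, 7), (20, 8)] (.iso 451 [(13, 6), (16, 7), (17, 8)] (.iso 451 [(13, 6), (16, 7), (18, 8)] (.iso 451 [(13, 6), (16, 7), (19, 8)] (.iso 451 [(13, 6), (16, 7), (20, 8)] (.iso 451 [(13, 6), (17, 7), (18, 8)] (.iso 451 [(13, 6), (17, 7), (19, 8)] (.iso 451 [(13, 6), (17, 7), (20, 8)] (.iso 451 [(13, 6), (18, 7), (19, 8)] (.iso 451 [(13, 6), (18, 7), (20, 8)] (.iso 451 [(13, 6), (19, 7), (20, 8)] (.iso 451 [(14, 6), (15, 7), (16, 8)] (.iso 451 [(14, 6),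 (15, 7), (17, 8)] (.iso 451 [(14, 6), (15, 7), (18, 8)] (.iso 451 [(14, 6), (15, 7), (19, 8)] (.iso 451 [(14, 6), (15, 7), (20, 8)] (.iso 451 [(14, 6), (16, 7), (17, 8)] (.iso 451 [(14, 6), (16, 7), (18, 8)] (.iso 451 [(14, 6), (16, 7), (19, 8)] (.iso 451 [(14, 6), (16, 7), (20, 8)] (.iso 451 [(14, 6), (17, 7), (18, 8)] (.iso 451 [(14, 6), (17, 7), (19, 8)] (.iso 451 [(14, 6), (17, 7), (20, 8)] (.iso 451 [(14, 6), (18, 7), (19, 8)] (.iso 451 [(14, 6), (18, 7), (20, 8)] (.iso 451 [(14, 6), (19, 7), (20, 8)] (.iso 451 [(15, 6), (16, 7), (17, 8)] (.iso 451 [(15, 6), (16, 7), (18, 8)] (.iso 451 [(15, 6), (16, 7), (19, 8)] (.iso 451 [(15, 6), (16, 7), (20, 8)] c9))))))))))))))))))))))))))))))))))))))))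
def c11 : Cert := (.iso 451 [(11, 6), (15, 7), (19, 8)] (.iso 451 [(11, 6), (15, 7), (20, 8)] (.iso 451 [(11, 6), (16, 7), (17, 8)] (.iso 451 [(11, 6), (16, 7), (18, 8)] (.iso 451 [(11, 6), (16, 7), (19, 8)] (.iso 451 [(11, 6), (16, 7), (20, 8)] (.iso 451 [(11, 6), (17, 7), (18, 8)] (.iso 451 [(11, 6), (17, 7), (19, 8)] (.iso 451 [(11, 6), (17, 7), (20, 8)] (.iso 451 [(11, 6), (18, 7), (19, 8)] (.iso 451 [(11, 6), (18, 7), (20, 8)] (.iso 451 [(11, 6), (19, 7), (20, 8)] (.iso 451 [(12, 6), (13, 7), (14, 8)] (.iso 451 [(12, 6), (13, 7), (15, 8)] (.iso 451 [(12, 6), (13, 7), (16, 8)] (.iso 451 [(12, 6), (13, 7), (17, 8)] (.iso 451 [(12, 6), (13, 7), (18, 8)] (.iso 451 [(12, 6), (13, 7), (19, 8)] (.iso 451 [(12, 6), (13, 7), (20, 8)] (.iso 451 [(12, 6), (14, 7), (15, 8)] (.iso 451 [(12, 6), (14, 7), (16, 8)] (.iso 451 [(12, 6), (14, 7), (17, 8)] (.iso 451 [(12, 6),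 (14, 7), (18, 8)] (.iso 451 [(12, 6), (14, 7), (19, 8)] (.iso 451 [(12, 6), (14, 7), (20, 8)] (.iso 451 [(12, 6), (15, 7), (16, 8)] (.iso 451 [(12, 6), (15, 7), (17, 8)] (.iso 451 [(12, 6), (15, 7), (18, 8)] (.iso 451 [(12, 6), (15, 7), (19, 8)] (.iso 451 [(12, 6), (15, 7), (20, 8)] (.iso 451 [(12, 6), (16, 7), (17, 8)] (.iso 451 [(12, 6), (16, 7), (18, 8)] (.iso 451 [(12, 6), (16, 7), (19, 8)] (.iso 451 [(12, 6), (16, 7), (20, 8)] (.iso 451 [(12, 6), (17, 7), (18, 8)] (.iso 451 [(12, 6), (17, 7), (19, 8)] (.iso 451 [(12, 6), (17, 7), (20, 8)] (.iso 451 [(12, 6), (18, 7), (19, 8)] (.iso 451 [(12, 6), (18, 7), (20, 8)] (.iso 451 [(12, 6), (19, 7), (20, 8)] c10))))))))))))))))))))))))))))))))))))))))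
def c12 : Cert := (.iso 451 [(10, 6), (14, 7), (20, 8)] (.iso 451 [(10, 6), (15, 7), (16, 8)] (.iso 451 [(10, 6), (15, 7), (17, 8)] (.iso 451 [(10, 6), (15, 7), (18, 8)] (.iso 451 [(10, 6), (15, 7), (19, 8)] (.iso 451 [(10, 6), (15, 7), (20, 8)] (.iso 451 [(10, 6), (16, 7), (17, 8)] (.iso 451 [(10, 6), (16, 7), (18, 8)] (.iso 451 [(10, 6), (16, 7), (19, 8)] (.iso 451 [(10, 6), (16, 7), (20, 8)] (.iso 451 [(10, 6), (17, 7), (18, 8)] (.iso 451 [(10, 6), (17, 7), (19, 8)] (.iso 451 [(10, 6), (17, 7), (20, 8)] (.iso 451 [(10, 6), (18, 7), (19, 8)] (.iso 451 [(10, 6), (18, 7), (20, 8)] (.iso 451 [(10, 6), (19, 7), (20, 8)] (.iso 451 [(11, 6), (12, 7), (13, 8)] (.iso 451 [(11, 6), (12, 7), (14, 8)] (.iso 451 [(11, 6), (12, 7), (15, 8)] (.iso 451 [(11, 6), (12, 7), (16, 8)] (.iso 451 [(11, 6), (12, 7), (17, 8)] (.iso 451 [(11, 6), (12, 7), (18, 8)] (.iso 451 [(11, 6),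 (12, 7), (19, 8)] (.iso 451 [(11, 6), (12, 7), (20, 8)] (.iso 451 [(11, 6), (13, 7), (14, 8)] (.iso 451 [(11, 6), (13, 7), (15, 8)] (.iso 451 [(11, 6), (13, 7), (16, 8)] (.iso 451 [(11, 6), (13, 7), (17, 8)] (.iso 451 [(11, 6), (13, 7), (18, 8)] (.iso 451 [(11, 6), (13, 7), (19, 8)] (.iso 451 [(11, 6), (13, 7), (20, 8)] (.iso 451 [(11, 6), (14, 7), (15, 8)] (.iso 451 [(11, 6), (14, 7), (16, 8)] (.iso 451 [(11, 6), (14, 7), (17, 8)] (.iso 451 [(11, 6), (14, 7), (18, 8)] (.iso 451 [(11, 6), (14, 7), (19, 8)] (.iso 451 [(11, 6), (14, 7), (20, 8)] (.iso 451 [(11, 6), (15, 7), (16, 8)] (.iso 451 [(11, 6), (15, 7), (17, 8)] (.iso 451 [(11, 6), (15, 7), (18, 8)] c11))))))))))))))))))))))))))))))))))))))))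
def c13 : Cert := (.iso 451 [(9, 6), (15, 7), (20, 8)] (.iso 451 [(9, 6), (16, 7), (17, 8)] (.iso 451 [(9, 6), (16, 7), (18, 8)] (.iso 451 [(9, 6), (16, 7), (19, 8)] (.iso 451 [(9, 6), (16, 7), (20, 8)] (.iso 451 [(9, 6), (17, 7), (18, 8)] (.iso 451 [(9, 6), (17, 7), (19, 8)] (.iso 451 [(9, 6), (17, 7), (20, 8)] (.iso 451 [(9, 6), (18, 7), (19, 8)] (.iso 451 [(9, 6), (18, 7), (20, 8)] (.iso 451 [(9, 6), (19, 7), (20, 8)] (.iso 451 [(10, 6), (11, 7), (12, 8)] (.iso 451 [(10, 6), (11, 7), (13, 8)] (.iso 451 [(10, 6), (11, 7), (14, 8)] (.iso 451 [(10, 6), (11, 7), (15, 8)] (.iso 451 [(10, 6), (11, 7), (16, 8)] (.iso 451 [(10, 6), (11, 7), (17, 8)] (.iso 451 [(10, 6), (11, 7), (18, 8)] (.iso 451 [(10, 6), (11, 7), (19, 8)] (.iso 451 [(10, 6), (11, 7), (20, 8)] (.iso 451 [(10, 6), (12, 7), (13, 8)] (.iso 451 [(10, 6), (12, 7), (14, 8)] (.iso 451 [(10, 6), (12, 7),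 (15, 8)] (.iso 451 [(10, 6), (12, 7), (16, 8)] (.iso 451 [(10, 6), (12, 7), (17, 8)] (.iso 451 [(10, 6), (12, 7), (18, 8)] (.iso 451 [(10, 6), (12, 7), (19, 8)] (.iso 451 [(10, 6), (12, 7), (20, 8)] (.iso 451 [(10, 6), (13, 7), (14, 8)] (.iso 451 [(10, 6), (13, 7), (15, 8)] (.iso 451 [(10, 6), (13, 7), (16, 8)] (.iso 451 [(10, 6), (13, 7), (17, 8)] (.iso 451 [(10, 6), (13, 7), (18, 8)] (.iso 451 [(10, 6), (13, 7), (19, 8)] (.iso 451 [(10, 6), (13, 7), (20, 8)] (.iso 451 [(10, 6), (14, 7), (15, 8)] (.iso 451 [(10, 6), (14, 7), (16, 8)] (.iso 451 [(10, 6), (14, 7), (17, 8)] (.iso 451 [(10, 6), (14, 7), (18, 8)] (.iso 451 [(10, 6), (14, 7), (19, 8)] c12))))))))))))))))))))))))))))))))))))))))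
def c14 : Cert := (.iso 451 [(9, 6), (10, 7), (15, 8)] (.iso 451 [(9, 6), (10, 7), (16, 8)] (.iso 451 [(9, 6), (10, 7), (17, 8)] (.iso 451 [(9, 6), (10, 7), (18, 8)] (.iso 451 [(9, 6), (10, 7), (19, 8)] (.iso 451 [(9, 6), (10, 7), (20, 8)] (.iso 451 [(9, 6), (11, 7), (12, 8)] (.iso 451 [(9, 6), (11, 7), (13, 8)] (.iso 451 [(9, 6), (11, 7), (14, 8)] (.iso 451 [(9, 6), (11, 7), (15, 8)] (.iso 451 [(9, 6), (11, 7), (16, 8)] (.iso 451 [(9, 6), (11, 7), (17, 8)] (.iso 451 [(9, 6), (11, 7), (18, 8)] (.iso 451 [(9, 6), (11, 7), (19, 8)] (.iso 451 [(9, 6), (11, 7), (20, 8)] (.iso 451 [(9, 6), (12, 7), (13, 8)] (.iso 451 [(9, 6), (12, 7), (14, 8)] (.iso 451 [(9, 6), (12, 7), (15, 8)] (.iso 451 [(9, 6), (12, 7), (16, 8)] (.iso 451 [(9, 6), (12, 7), (17, 8)] (.iso 451 [(9, 6), (12, 7), (18, 8)] (.iso 451 [(9, 6), (12, 7), (19, 8)] (.iso 451 [(9, 6), (12, 7), (20, 8)] (.iso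 451 [(9, 6), (13, 7), (14, 8)] (.iso 451 [(9, 6), (13, 7), (15, 8)] (.iso 451 [(9, 6), (13, 7), (16, 8)] (.iso 451 [(9, 6), (13, 7), (17, 8)] (.iso 451 [(9, 6), (13, 7), (18, 8)] (.iso 451 [(9, 6), (13, 7), (19, 8)] (.iso 451 [(9, 6), (13, 7), (20, 8)] (.iso 451 [(9, 6), (14, 7), (15, 8)] (.iso 451 [(9, 6), (14, 7), (16, 8)] (.iso 451 [(9, 6), (14, 7), (17, 8)] (.iso 451 [(9, 6), (14, 7), (18, 8)] (.iso 451 [(9, 6), (14, 7), (19, 8)] (.iso 451 [(9, 6), (14, 7), (20, 8)] (.iso 451 [(9, 6), (15, 7), (16, 8)] (.iso 451 [(9, 6), (15, 7), (17, 8)] (.iso 451 [(9, 6), (15, 7), (18, 8)] (.iso 451 [(9, 6), (15, 7), (19, 8)] c13))))))))))))))))))))))))))))))))))))))))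
def c15 : Cert := (.iso 451 [(12, 6), (13, 7)] (.iso 451 [(12, 6), (14, 7)] (.iso 451 [(12, 6), (15, 7)] (.iso 451 [(12, 6), (16, 7)] (.iso 451 [(12, 6), (17, 7)] (.iso 451 [(12, 6), (18, 7)] (.iso 451 [(12, 6), (19, 7)] (.iso 451 [(12, 6), (20, 7)] (.iso 451 [(13, 6), (14, 7)] (.iso 451 [(13, 6), (15, 7)] (.iso 451 [(13, 6), (16, 7)] (.iso 451 [(13, 6), (17, 7)] (.iso 451 [(13, 6), (18, 7)] (.iso 451 [(13, 6), (19, 7)] (.iso 451 [(13, 6), (20, 7)] (.iso 451 [(14, 6), (15, 7)] (.iso 451 [(14, 6), (16, 7)] (.iso 451 [(14, 6), (17, 7)] (.iso 451 [(14, 6), (18, 7)] (.iso 451 [(14, 6), (19, 7)] (.iso 451 [(14, 6), (20, 7)] (.iso 451 [(15, 6), (16, 7)] (.iso 451 [(15, 6), (17, 7)] (.iso 451 [(15, 6), (18, 7)] (.iso 451 [(15, 6), (19, 7)] (.iso 451 [(15, 6), (20, 7)] (.iso 451 [(16, 6), (17, 7)] (.iso 451 [(16, 6), (18, 7)] (.iso 451 [(16, 6), (19, 7)] (.iso 451 [(16,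 6), (20, 7)] (.iso 451 [(17, 6), (18, 7)] (.iso 451 [(17, 6), (19, 7)] (.iso 451 [(17, 6), (20, 7)] (.iso 451 [(18, 6), (19, 7)] (.iso 451 [(18, 6), (20, 7)] (.iso 451 [(19, 6), (20, 7)] (.iso 451 [(9, 6), (10, 7), (11, 8)] (.iso 451 [(9, 6), (10, 7), (12, 8)] (.iso 451 [(9, 6), (10, 7), (13, 8)] (.iso 451 [(9, 6), (10, 7), (14, 8)] c14))))))))))))))))))))))))))))))))))))))))
def c16 : Cert := (.iso 451 [(16, 6), (17, 8)] (.iso 451 [(16, 6), (18, 8)] (.iso 451 [(16, 6), (19, 8)] (.iso 451 [(16, 6), (20, 8)] (.iso 451 [(17, 6), (18, 8)] (.iso 451 [(17, 6), (19, 8)] (.iso 451 [(17, 6), (20, 8)] (.iso 451 [(18, 6), (19, 8)] (.iso 451 [(18, 6), (20, 8)] (.iso 451 [(19, 6), (20, 8)] (.iso 451 [(9, 6), (10, 7)] (.iso 451 [(9, 6), (11, 7)] (.iso 451 [(9, 6), (12, 7)] (.iso 451 [(9, 6), (13, 7)] (.iso 451 [(9, 6), (14, 7)] (.iso 451 [(9, 6), (15, 7)] (.iso 451 [(9, 6),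 (16, 7)] (.iso 451 [(9, 6), (17, 7)] (.iso 451 [(9, 6), (18, 7)] (.iso 451 [(9, 6), (19, 7)] (.iso 451 [(9, 6), (20, 7)] (.iso 451 [(10, 6), (11, 7)] (.iso 451 [(10, 6), (12, 7)] (.iso 451 [(10, 6), (13, 7)] (.iso 451 [(10, 6), (14, 7)] (.iso 451 [(10, 6), (15, 7)] (.iso 451 [(10, 6), (16, 7)] (.iso 451 [(10, 6), (17, 7)] (.iso 451 [(10, 6), (18, 7)] (.iso 451 [(10, 6), (19, 7)] (.iso 451 [(10, 6), (20, 7)] (.iso 451 [(11, 6), (12, 7)] (.iso 451 [(11, 6), (13, 7)] (.iso 451 [(11, 6), (14, 7)] (.iso 451 [(11, 6), (15, 7)] (.iso 451 [(11, 6), (16, 7)] (.iso 451 [(11, 6), (17, 7)] (.iso 451 [(11, 6), (18, 7)] (.iso 451 [(11, 6), (19, 7)] (.iso 451 [(11, 6), (20, 7)] c15))))))))))))))))))))))))))))))))))))))))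
def c17 : Cert := (.iso 451 [(10, 6), (16, 8)] (.iso 451 [(10, 6), (17, 8)] (.iso 451 [(10, 6), (18, 8)] (.iso 451 [(10, 6), (19, 8)] (.iso 451 [(10, 6), (20, 8)] (.iso 451 [(11, 6), (12, 8)] (.iso 451 [(11, 6), (13, 8)] (.iso 451 [(11, 6), (14, 8)] (.iso 451 [(11, 6), (15, 8)] (.iso 451 [(11, 6), (16, 8)] (.iso 451 [(11, 6), (17, 8)] (.iso 451 [(11, 6), (18, 8)] (.iso 451 [(11, 6), (19, 8)] (.iso 451 [(11, 6), (20, 8)] (.iso 451 [(12, 6), (13, 8)] (.iso 451 [(12, 6), (14, 8)] (.iso 451 [(12, 6), (15, 8)] (.iso 451 [(12, 6), (16, 8)] (.iso 451 [(12, 6), (17, 8)] (.iso 451 [(12, 6), (18, 8)] (.iso 451 [(12, 6), (19, 8)] (.iso 451 [(12, 6), (20, 8)] (.iso 451 [(13, 6), (14, 8)] (.iso 451 [(13, 6), (15, 8)] (.iso 451 [(13, 6), (16, 8)] (.iso 451 [(13, 6), (17, 8)] (.iso 451 [(13, 6), (18, 8)] (.iso 451 [(13, 6), (19, 8)] (.iso 451 [(13, 6), (20, 8)] (.iso 451 [(14,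 6), (15, 8)] (.iso 451 [(14, 6), (16, 8)] (.iso 451 [(14, 6), (17, 8)] (.iso 451 [(14, 6), (18, 8)] (.iso 451 [(14, 6), (19, 8)] (.iso 451 [(14, 6), (20, 8)] (.iso 451 [(15, 6), (16, 8)] (.iso 451 [(15, 6), (17, 8)] (.iso 451 [(15, 6), (18, 8)] (.iso 451 [(15, 6), (19, 8)] (.iso 451 [(15, 6), (20, 8)] c16))))))))))))))))))))))))))))))))))))))))
def c18 : Cert := (.iso 451 [(15, 7), (19, 8)] (.iso 451 [(15, 7), (20, 8)] (.iso 451 [(16, 7), (17, 8)] (.iso 451 [(16, 7), (18, 8)] (.iso 451 [(16, 7), (19, 8)] (.iso 451 [(16, 7), (20, 8)] (.iso 451 [(17, 7), (18, 8)] (.iso 451 [(17, 7), (19, 8)] (.iso 451 [(17, 7), (20, 8)] (.iso 451 [(18, 7), (19, 8)] (.iso 451 [(18, 7), (20, 8)] (.iso 451 [(19, 7), (20, 8)] (.iso 451 [(9, 6)] (.iso 451 [(10, 6)] (.iso 451 [(11, 6)] (.iso 451 [(12, 6)] (.iso 451 [(13, 6)] (.iso 451 [(14, 6)] (.iso 451 [(15, 6)] (.iso 451 [(16, 6)]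 (.iso 451 [(17, 6)] (.iso 451 [(18, 6)] (.iso 451 [(19, 6)] (.iso 451 [(20, 6)] (.iso 451 [(9, 6), (10, 8)] (.iso 451 [(9, 6), (11, 8)] (.iso 451 [(9, 6), (12, 8)] (.iso 451 [(9, 6), (13, 8)] (.iso 451 [(9, 6), (14, 8)] (.iso 451 [(9, 6), (15, 8)] (.iso 451 [(9, 6), (16, 8)] (.iso 451 [(9, 6), (17, 8)] (.iso 451 [(9, 6), (18, 8)] (.iso 451 [(9, 6), (19, 8)] (.iso 451 [(9, 6), (20, 8)] (.iso 451 [(10, 6), (11, 8)] (.iso 451 [(10, 6), (12, 8)] (.iso 451 [(10, 6), (13, 8)] (.iso 451 [(10, 6), (14, 8)] (.iso 451 [(10, 6), (15, 8)] c17))))))))))))))))))))))))))))))))))))))))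
def c19 : Cert := (.iso 451 [(10, 7), (14, 8)] (.iso 451 [(10, 7), (15, 8)] (.iso 451 [(10, 7), (16, 8)] (.iso 451 [(10, 7), (17, 8)] (.iso 451 [(10, 7), (18, 8)] (.iso 451 [(10, 7), (19, 8)] (.iso 451 [(10, 7), (20, 8)] (.iso 451 [(11, 7), (12, 8)] (.iso 451 [(11, 7), (13, 8)] (.iso 451 [(11, 7), (14, 8)] (.iso 451 [(11, 7), (15, 8)] (.iso 451 [(11, 7), (16, 8)] (.iso 451 [(11, 7), (17, 8)] (.iso 451 [(11, 7), (18, 8)] (.iso 451 [(11, 7), (19, 8)] (.iso 451 [(11, 7), (20, 8)] (.iso 451 [(12, 7), (13, 8)] (.iso 451 [(12, 7), (14, 8)] (.iso 451 [(12, 7), (15, 8)] (.iso 451 [(12, 7), (16, 8)] (.iso 451 [(12, 7), (17, 8)] (.iso 451 [(12, 7), (18, 8)] (.iso 451 [(12, 7), (19, 8)] (.iso 451 [(12, 7), (20, 8)] (.iso 451 [(13, 7), (14, 8)] (.iso 451 [(13, 7), (15, 8)] (.iso 451 [(13, 7), (16, 8)] (.iso 451 [(13, 7), (17, 8)] (.iso 451 [(13, 7), (18, 8)] (.iso 451 [(13,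 7), (19, 8)] (.iso 451 [(13, 7), (20, 8)] (.iso 451 [(14, 7), (15, 8)] (.iso 451 [(14, 7), (16, 8)] (.iso 451 [(14, 7), (17, 8)] (.iso 451 [(14, 7), (18, 8)] (.iso 451 [(14, 7), (19, 8)] (.iso 451 [(14, 7), (20, 8)] (.iso 451 [(15, 7), (16, 8)] (.iso 451 [(15, 7), (17, 8)] (.iso 451 [(15, 7), (18, 8)] c18))))))))))))))))))))))))))))))))))))))))
def cert : Cert := (.node 3 (.sub (.node 5 (.sub (.node 9 (.sub (.node 17 (.sub (.node 33 (.sub (.node 6 (.sub (.node 10 (.sub (.node 18 (.sub (.node 34 (.sub (.node 12 (.sub (.node 20 (.sub (.node 36 (.sub (.node 24 (.sub (.node 40 (.sub (.node 48 (.sub (.node 1088 (.sub (.node 2112 (.sub (.node 640 (.sub (.node 2176 (.sub (.node 768 (.sub c1 .nil)) .nil)) .nil)) .nil)) .nil)) .nil)) .nil)) .nil)) .nil)) (.iso 540820 [(8, 7)] .nil))) (.iso 1179724 [(7, 6)] (.iso 1179724 [(8, 6)] .nil)))) .nil)) (.iso 1057810 [(14, 13)]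 (.iso 1057810 [(11, 10)] (.iso 1057810 [(11, 10), (14, 13)] .nil))))) (.iso 590346 [(20, 19)] (.iso 590346 [(17, 16)] (.iso 590346 [(17, 16), (20, 19)] (.iso 590346 [(10, 9)] (.iso 590346 [(10, 9), (20, 19)] (.iso 590346 [(10, 9), (17, 16)] (.iso 590346 [(10, 9), (17, 16), (20, 19)] (.iso 590346 [(11, 9)] (.iso 590346 [(11, 9), (20, 19)] (.iso 590346 [(11, 9), (17, 16)] (.iso 590346 [(11, 9), (17, 16), (20, 19)] .nil))))))))))))) (.iso 299014 [(19, 18)] (.iso 299014 [(20, 18)] (.iso 299014 [(16, 15)] (.iso 299014 [(16, 15), (19, 18)] (.iso 299014 [(16, 15), (20, 18)] (.iso 299014 [(17, 15)] (.iso 299014 [(17, 15), (19, 18)] (.iso 299014 [(17, 15), (20, 18)] (.iso 299014 [(13, 12)] (.iso 299014 [(13, 12), (19, 18)] (.iso 299014 [(13, 12), (20, 18)] (.iso 299014 [(13, 12), (16, 15)] (.iso 299014 [(13, 12), (16, 15), (19, 18)] (.iso 299014 [(13, 12), (16, 15), (20,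 18)] (.iso 299014 [(13, 12), (17, 15)] (.iso 299014 [(13, 12), (17, 15), (19, 18)] (.iso 299014 [(13, 12), (17, 15), (20, 18)] (.iso 299014 [(14, 12)] (.iso 299014 [(14, 12), (19, 18)] (.iso 299014 [(14, 12), (20, 18)] (.iso 299014 [(14, 12), (16, 15)] (.iso 299014 [(14, 12), (16, 15), (19, 18)] (.iso 299014 [(14, 12), (16, 15), (20, 18)] (.iso 299014 [(14, 12), (17, 15)] (.iso 299014 [(14, 12), (17, 15), (19, 18)] (.iso 299014 [(14, 12), (17, 15), (20, 18)] .nil)))))))))))))))))))))))))))) .nil)) (.iso 229393 [(18, 17)] (.iso 229393 [(19, 17)] (.iso 229393 [(20, 17)] (.iso 229393 [(18, 16)] (.iso 229393 [(19, 16)] (.iso 229393 [(20, 16)] (.iso 229393 [(18, 16), (19, 17)] (.iso 229393 [(18, 16), (20, 17)] (.iso 229393 [(19, 16), (20, 17)] (.iso 229393 [(18, 15)] (.iso 229393 [(19, 15)] (.iso 229393 [(20, 15)] (.iso 229393 [(18, 15), (19, 17)] (.iso 229393 [(18,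 15), (20, 17)] (.iso 229393 [(19, 15), (20, 17)] (.iso 229393 [(18, 15), (19, 16)] (.iso 229393 [(18, 15), (20, 16)] (.iso 229393 [(19, 15), (20, 16)] (.iso 229393 [(18, 15), (19, 16), (20, 17)] .nil))))))))))))))))))))) (.iso 28681 [(15, 14)] (.iso 28681 [(16, 14)] (.iso 28681 [(17, 14)] (.iso 28681 [(18, 14)] (.iso 28681 [(19, 14)] (.iso 28681 [(20, 14)] (.iso 28681 [(15, 13)] (.iso 28681 [(16, 13)] (.iso 28681 [(17, 13)] (.iso 28681 [(18, 13)] (.iso 28681 [(19, 13)] (.iso 28681 [(20, 13)] (.iso 28681 [(15, 13), (16, 14)] (.iso 28681 [(15, 13), (17, 14)] (.iso 28681 [(15, 13), (18, 14)] (.iso 28681 [(15, 13), (19, 14)] (.iso 28681 [(15, 13), (20, 14)] (.iso 28681 [(16, 13), (17, 14)] (.iso 28681 [(16, 13), (18, 14)] (.iso 28681 [(16, 13), (19, 14)] (.iso 28681 [(16, 13), (20, 14)] (.iso 28681 [(17, 13), (18, 14)] (.iso 28681 [(17, 13), (19, 14)] (.iso 28681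 [(17, 13), (20, 14)] (.iso 28681 [(18, 13), (19, 14)] (.iso 28681 [(18, 13), (20, 14)] (.iso 28681 [(19, 13), (20, 14)] (.iso 28681 [(15, 12)] (.iso 28681 [(16, 12)] (.iso 28681 [(17, 12)] (.iso 28681 [(18, 12)] (.iso 28681 [(19, 12)] (.iso 28681 [(20, 12)] (.iso 28681 [(15, 12), (16, 14)] c3)))))))))))))))))))))))))))))))))))) (.iso 3589 [(12, 11)] (.iso 3589 [(13, 11)] (.iso 3589 [(14, 11)] (.iso 3589 [(15, 11)] (.iso 3589 [(16, 11)] (.iso 3589 [(17, 11)] (.iso 3589 [(18, 11)] (.iso 3589 [(19, 11)] (.iso 3589 [(20, 11)] (.iso 3589 [(12, 10)] (.iso 3589 [(13, 10)] (.iso 3589 [(14, 10)] (.iso 3589 [(15, 10)] (.iso 3589 [(16, 10)] (.iso 3589 [(17, 10)] (.iso 3589 [(18, 10)] (.iso 3589 [(19, 10)] (.iso 3589 [(20, 10)] (.iso 3589 [(12, 10), (13, 11)] (.iso 3589 [(12, 10), (14, 11)] (.iso 3589 [(12, 10), (15, 11)] (.iso 3589 [(12, 10), (16, 11)] (.iso 3589 [(12, 10),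 (17, 11)] (.iso 3589 [(12, 10), (18, 11)] (.iso 3589 [(12, 10), (19, 11)] (.iso 3589 [(12, 10), (20, 11)] (.iso 3589 [(13, 10), (14, 11)] (.iso 3589 [(13, 10), (15, 11)] (.iso 3589 [(13, 10), (16, 11)] (.iso 3589 [(13, 10), (17, 11)] (.iso 3589 [(13, 10), (18, 11)] (.iso 3589 [(13, 10), (19, 11)] (.iso 3589 [(13, 10), (20, 11)] (.iso 3589 [(14, 10), (15, 11)] (.iso 3589 [(14, 10), (16, 11)] (.iso 3589 [(14, 10), (17, 11)] c8)))))))))))))))))))))))))))))))))))))) (.iso 451 [(9, 8)] (.iso 451 [(10, 8)] (.iso 451 [(11, 8)] (.iso 451 [(12, 8)] (.iso 451 [(13, 8)] (.iso 451 [(14, 8)] (.iso 451 [(15, 8)] (.iso 451 [(16, 8)] (.iso 451 [(17, 8)] (.iso 451 [(18, 8)] (.iso 451 [(19, 8)] (.iso 451 [(20, 8)] (.iso 451 [(9, 7)] (.iso 451 [(10, 7)] (.iso 451 [(11, 7)] (.iso 451 [(12, 7)] (.iso 451 [(13, 7)] (.iso 451 [(14, 7)] (.iso 451 [(15, 7)] (.iso 451 [(16, 7)] (.iso 451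 [(17, 7)] (.iso 451 [(18, 7)] (.iso 451 [(19, 7)] (.iso 451 [(20, 7)] (.iso 451 [(9, 7), (10, 8)] (.iso 451 [(9, 7), (11, 8)] (.iso 451 [(9, 7), (12, 8)] (.iso 451 [(9, 7), (13, 8)] (.iso 451 [(9, 7), (14, 8)] (.iso 451 [(9, 7), (15, 8)] (.iso 451 [(9, 7), (16, 8)] (.iso 451 [(9, 7), (17, 8)] (.iso 451 [(9, 7), (18, 8)] (.iso 451 [(9, 7), (19, 8)] (.iso 451 [(9, 7), (20, 8)] (.iso 451 [(10, 7), (11, 8)] (.iso 451 [(10, 7), (12, 8)] (.iso 451 [(10, 7), (13, 8)] c19))))))))))))))))))))))))))))))))))))))))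

theorem base : PQ 21 2 5 (QC 21 6 (setOf' 21 B0)) B0 := PC_base (by decide +kernel)

theorem main : PQ 21 2 5 (QC 21 6 (setOf' 21 B0)) [] :=
  soundC (r := 3) (by norm_num) (by norm_num) rfl base cert true [] [] [] (by decide +kernel)

def scr : List Step2 := [.blk ⟨[(16, 16), (32, 32)], 4720, 4720⟩, .blk ⟨[(8, 8), (32, 32)], 33960, 33960⟩, .blk ⟨[(8, 8), (16, 16)], 264472, 264472⟩, .blk ⟨[(4, 4), (32, 32)], 74020, 74020⟩, .and (264448, 264448) (73984, 73984), .xor (264448, 264448) (256, 256), .xor (73984, 73984) (256, 256), .blk ⟨[(4, 4), (16, 16)], 540820, 540820⟩, .and (33920, 33920) (540800, 540800), .xor (33920, 33920) (128, 128), .xor (540800, 540800) (128, 128), .blk ⟨[(4, 4), (8, 8)], 1179724, 1179724⟩, .and (4672, 4672) (1179712, 1179712), .xor (4672, 4672) (64, 64), .xor (1179712, 1179712) (64, 64), .blk ⟨[(2, 2), (32, 32)], 149538, 149538⟩, .and (264192,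 264192) (149504, 149504), .xor (264192, 264192) (2048, 2048), .xor (149504, 149504) (2048, 2048), .and (540672, 540672) (149504, 149504), .xor (540672, 540672) (16384, 16384), .xor (147456, 147456) (16384, 16384), .xor (1179648, 1179648) (131072, 131072), .blk ⟨[(2, 2), (16, 16), (1048576, 1048576)], 1057810, 1057810⟩, .and (33792, 33792) (9216, 9216), .xor (33792, 33792) (1024, 1024), .xor (9216, 9216) (1024, 1024), .xor (73728, 73728) (8192, 8192), .blk ⟨[(2, 2), (8, 8), (65536, 65536), (524288, 524288)], 590346, 590346⟩, .xor (4608, 4608) (512, 512)]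

theorem rigid (hS : IsSteinerSystem 2 5 (setOf' 21 B0)) (σ : Equiv.Perm (Fin 21))
    (hσ : ∀ b ∈ setOf' 21 B0, b.image σ ∈ setOf' 21 B0)
    (hfix : ∀ i : Fin 21, (i : ℕ) < 6 → σ i = i) : σ = 1 :=
  rig2_sound (by norm_num) hS hσ scr .done _
    (inv_fixed (List.range 6) (fun i hi => hfix i (List.mem_range.mp hi))
      (fun i hi => lt_trans (List.mem_range.mp hi) (by norm_num))) (by decide +kernel)

end Cfsg.Agent.Lib.Helper3.Stq.H21
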