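import Cfsg.Agent.Lib.Helper3.StMark

set_option autoImplicit false
set_option maxRecDepth 100000

namespace Cfsg.Agent.Lib.Helper3.Stq.M11

open Cfsg Cfsg.Agent.Lib.Helper3.Stq

def B0 : List ℕ := [976, 1840, 1264, 1736, 1448, 872, 1368, 696, 1476, 932, 1636, 1684, 372, 1804, 236, 412, 604, 1084, 1858, 1698, 482, 1426, 626, 906, 1130, 1562, 218, 314, 710, 1318, 790, 1110, 182, 1166, 334, 558, 1921, 1377, 737, 1617, 433, 457, 1577, 793, 1177, 121, 837, 1189, 1301, 213, 565, 653, 1101, 301, 1219, 803, 659, 339, 1075, 1291, 587, 171, 1543, 391, 103, 31]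

def c1 : Cert := (.sub (.node 549 .nil) .nil)
def c2 : Cert := (.sub (.node 420 (.sub (.node 452 (.sub (.node 184 (.sub (.node 344 (.sub (.node 360 (.sub (.node 424 (.sub (.node 712 (.sub (.node 240 (.sub (.node 816 (.sub (.node 464 (.sub (.goto []) .nil)) .nil)) .nil)) .nil)) .nil)) .nil)) .nil)) .nil)) .nil)) .nil)) .nil)
def c3 : Cert := (.sub (.node 294 (.sub (.node 198 (.sub (.node 58 (.sub (.node 90 (.sub (.node 538 (.sub (.node 106 (.sub (.node 394 (.sub (.node 114 (.sub (.node 402 (.sub (.node 226 (.sub (.node 674 (.sub (.node 834 (.sub (.node 60 (.sub (.node 92 (.sub (.node 156 (.sub (.node 108 (.sub (.node 780 (.sub (.node 116 (.sub (.node 660 (.sub (.node 612 c2) .nil)) .nil)) .nil)) .nil)) .nil)) .nil)) .nil)) .nil)) .nil)) .nil)) .nil)) .nil)) .nil)) .nil)) .nil)) .nil)) .nil)) .nil)) .nil)) .nil)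
def c4 : Cert := (.node 150 .nil)
def c5 : Cert := (.sub (.node 804 (.sub (.node 708 (.sub (.node 312 (.sub (.node 216 (.sub (.node 232 (.sub (.node 424 (.sub (.node 840 (.sub (.node 368 (.sub (.node 688 (.sub (.node 464 (.sub (.goto [(5, 6), (7, 9), (8, 10)]) .nil)) .nil)) .nil)) .nil)) .nil)) .nil)) .nil)) .nil)) .nil)) .nil)) .nil)
def c6 : Cert := (.sub (.node 166 (.sub (.node 326 (.sub (.node 58 (.sub (.node 90 (.sub (.node 154 (.sub (.node 106 (.sub (.node 650 (.sub (.node 114 (.sub (.node 786 (.sub (.node 610 (.sub (.node 418 (.sub (.node 450 (.sub (.node 60 (.sub (.node 92 (.sub (.node 540 (.sub (.node 108 (.sub (.node 396 (.sub (.node 116 (.sub (.node 404 (.sub (.node 228 c5) .nil)) .nil)) .nil)) .nil)) .nil)) .nil)) .nil)) .nil)) .nil)) .nil)) .nil)) .nil)) .nil)) .nil)) .nil)) .nil)) .nil)) .nil)) .nil)) .nil)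
def c7 : Cert := (.node 150 .nil)
def c8 : Cert := (.node 277 (.sub (.node 165 (.sub (.node 325 (.sub (.node 57 (.sub (.node 153 (.sub (.node 537 (.sub (.node 553 .nil) .nil)) (.sub (.node 281 (.sub (.node 553 (.sub (.node 201 (.sub (.node 177 (.sub (.node 593 (.sub (.node 225 (.sub (.node 353 (.sub (.node 897 (.sub (.node 46 (.sub (.node 78 (.sub (.node 270 .nil) (.sub (.node 142 (.sub (.node 54 (.sub (.node 86 (.sub (.node 278 .nil) (.sub (.node 278 c3) .nil))) (.sub (.node 86 (.sub (.node 150 .nil) (.sub c4 .nil))) .nil))) .nil)) .nil))) (.sub (.node 78 (.sub (.node 270 (.sub (.node 54 (.sub (.node 86 (.sub (.node 278 .nil) (.sub (.node 278 .nil) .nil))) (.sub (.node 86 (.sub (.node 150 c6) (.sub c7 .nil))) .nil))) .nil)) (.sub (.node 142 .nil) .nil))) .nil))) .nil)) .nil)) .nil)) .nil)) .nil)) .nil)) .nil)) .nil)) .nil))) .nil)) .nil)) .nil)) .nil))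
def c9 : Cert := (.node 277 (.sub (.node 293 .nil) .nil))
def c10 : Cert := (.node 612 (.sub (.node 420 (.sub (.node 452 (.sub (.node 184 (.sub (.node 344 (.sub (.node 360 (.sub (.node 424 (.sub (.node 712 (.sub (.node 240 (.sub (.node 816 (.sub (.node 464 (.sub (.goto [(5, 10), (6, 9), (7, 8)]) .nil)) .nil)) .nil)) .nil)) .nil)) .nil)) .nil)) .nil)) .nil)) .nil)) .nil))
def c11 : Cert := (.sub (.node 166 (.sub (.node 326 (.sub (.node 58 (.sub (.node 154 (.sub (.node 538 .nil) (.sub (.node 282 (.sub (.node 554 (.sub (.node 202 (.sub (.node 178 (.sub (.node 594 (.sub (.node 226 (.sub (.node 354 (.sub (.node 898 (.sub (.node 60 (.sub (.node 92 (.sub (.node 156 (.sub (.node 108 (.sub (.node 780 (.sub (.node 116 (.sub (.node 660 (.sub c10 .nil)) .nil)) .nil)) .nil)) .nil)) .nil)) .nil)) .nil)) .nil)) .nil)) .nil)) .nil)) .nil)) .nil)) .nil)) .nil))) .nil)) .nil)) .nil)) .nil)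
def c12 : Cert := (.node 228 (.sub (.node 356 (.sub (.node 900 (.sub (.node 184 (.sub (.node 344 (.sub (.node 232 (.sub (.node 808 (.sub (.node 456 (.sub (.node 368 (.sub (.node 432 (.sub (.node 720 (.sub (.goto [(5, 8), (6, 7), (6, 10), (5, 9)]) .nil)) .nil)) .nil)) .nil)) .nil)) .nil)) .nil)) .nil)) .nil)) .nil)) .nil))
def c13 : Cert := (.sub (.node 166 (.sub (.node 326 (.sub (.node 58 (.sub (.node 154 (.sub (.node 538 .nil) .nil)) (.sub (.node 90 (.sub (.node 154 (.sub (.node 106 (.sub (.node 650 (.sub (.node 114 (.sub (.node 786 (.sub (.node 610 (.sub (.node 418 (.sub (.node 450 (.sub (.node 60 (.sub (.node 156 (.sub (.node 284 (.sub (.node 172 (.sub (.node 588 (.sub (.node 564 (.sub (.node 212 (.sub c12 .nil)) .nil)) .nil)) .nil)) .nil)) .nil)) .nil)) .nil)) .nil)) .nil)) .nil)) .nil)) .nil)) .nil)) .nil)) .nil)) .nil))) .nil)) .nil)) .nil)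
def c14 : Cert := (.sub (.node 277 (.sub (.node 293 (.sub (.node 197 (.sub (.node 57 (.sub (.node 153 (.sub (.node 537 (.sub (.node 297 .nil) .nil)) .nil)) (.sub (.node 89 (.sub (.node 537 (.sub (.node 105 (.sub (.node 393 (.sub (.node 113 (.sub (.node 401 (.sub (.node 225 (.sub (.node 673 (.sub (.node 833 (.sub (.node 46 (.sub (.node 78 (.sub (.node 526 .nil) (.sub (.node 142 (.sub (.node 54 (.sub (.node 86 (.sub (.node 278 c11) .nil)) .nil)) .nil)) .nil))) (.sub (.node 78 (.sub (.node 270 (.sub (.node 54 (.sub (.node 86 (.sub (.node 150 c13) .nil)) (.sub (.node 86 .nil) .nil))) .nil)) .nil)) .nil))) .nil)) .nil)) .nil)) .nil)) .nil)) .nil)) .nil)) .nil)) .nil)) .nil))) .nil)) .nil)) .nil)) .nil)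
def c15 : Cert := (.sub (.node 533 .nil) (.sub (.node 149 .nil) (.sub (.node 149 .nil) .nil)))
def c16 : Cert := (.node 277 (.sub (.node 293 .nil) .nil))
def c17 : Cert := (.sub (.node 277 .nil) .nil)
def c18 : Cert := (.sub (.node 804 (.sub (.node 708 (.sub (.node 312 (.sub (.node 216 (.sub (.node 232 (.sub (.node 424 (.sub (.node 840 (.sub (.node 368 (.sub (.node 688 (.sub (.node 464 (.sub (.goto [(5, 9), (6, 10), (7, 6), (8, 5)]) .nil)) .nil)) .nil)) .nil)) .nil)) .nil)) .nil)) .nil)) .nil)) .nil)) .nil)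
def c19 : Cert := (.sub (.node 166 (.sub (.node 326 (.sub (.node 58 (.sub (.node 154 (.sub (.node 282 (.sub (.node 554 (.sub (.node 202 (.sub (.node 178 (.sub (.node 594 (.sub (.node 226 (.sub (.node 354 (.sub (.node 898 (.sub (.node 60 (.sub (.node 92 (.sub (.node 540 (.sub (.node 108 (.sub (.node 396 (.sub (.node 116 (.sub (.node 404 (.sub (.node 228 c18) .nil)) .nil)) .nil)) .nil)) .nil)) .nil)) .nil)) .nil)) .nil)) .nil)) .nil)) .nil)) .nil)) .nil)) .nil)) .nil)) .nil)) .nil)) .nil)) .nil)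
def c20 : Cert := (.node 228 (.sub (.node 356 (.sub (.node 900 (.sub (.node 184 (.sub (.node 344 (.sub (.node 232 (.sub (.node 808 (.sub (.node 456 (.sub (.node 368 (.sub (.node 432 (.sub (.node 720 (.sub (.goto [(5, 7), (6, 8), (9, 10)]) .nil)) .nil)) .nil)) .nil)) .nil)) .nil)) .nil)) .nil)) .nil)) .nil)) .nil))
def c21 : Cert := (.sub (.node 294 (.sub (.node 198 (.sub (.node 58 (.sub (.node 154 .nil) (.sub (.node 90 (.sub (.node 538 (.sub (.node 106 (.sub (.node 394 (.sub (.node 114 (.sub (.node 402 (.sub (.node 226 (.sub (.node 674 (.sub (.node 834 (.sub (.node 60 (.sub (.node 156 (.sub (.node 284 (.sub (.node 172 (.sub (.node 588 (.sub (.node 564 (.sub (.node 212 (.sub c20 .nil)) .nil)) .nil)) .nil)) .nil)) .nil)) .nil)) .nil)) .nil)) .nil)) .nil)) .nil)) .nil)) .nil)) .nil)) .nil)) .nil))) .nil)) .nil)) .nil)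
def c22 : Cert := (.sub (.node 149 (.sub (.node 165 (.sub (.node 325 (.sub (.node 57 (.sub (.node 153 (.sub (.node 537 (.sub (.node 297 .nil) .nil)) .nil)) (.sub (.node 89 (.sub (.node 153 (.sub (.node 105 (.sub (.node 649 (.sub (.node 113 (.sub (.node 785 (.sub (.node 609 (.sub (.node 417 (.sub (.node 449 (.sub (.node 46 (.sub (.node 78 (.sub (.node 142 (.sub (.node 54 (.sub (.node 86 .nil) (.sub (.node 86 (.sub (.node 278 c19) .nil)) .nil))) .nil)) .nil)) (.sub (.node 78 (.sub (.node 142 (.sub (.node 54 (.sub (.node 86 (.sub (.node 278 c21) .nil)) .nil)) .nil)) (.sub (.node 142 .nil) .nil))) .nil))) .nil)) .nil)) .nil)) .nil)) .nil)) .nil)) .nil)) .nil)) .nil)) .nil))) .nil)) .nil)) .nil)) (.sub (.node 149 .nil) .nil))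
def c23 : Cert := (.node 85 (.sub (.node 149 .nil) .nil))
def c24 : Cert := (.sub (.node 277 (.sub (.node 293 .nil) .nil)) (.sub (.node 277 (.sub (.node 293 .nil) .nil)) .nil))
def c25 : Cert := (.node 85 (.sub (.node 533 .nil) (.sub (.node 149 (.sub (.node 165 .nil) .nil)) (.sub (.node 149 .nil) .nil))))
def c26 : Cert := (.sub (.node 85 (.sub (.node 277 (.sub (.node 165 .nil) .nil)) (.sub (.node 149 .nil) .nil))) .nil)
def c27 : Cert := (.node 277 (.sub (.node 293 .nil) .nil))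
def c28 : Cert := (.node 228 (.sub (.node 356 (.sub (.node 900 (.sub (.node 312 (.sub (.node 216 (.sub (.node 232 (.sub (.node 424 (.sub (.node 840 (.sub (.node 368 (.sub (.node 688 (.sub (.node 464 (.sub (.goto [(5, 8), (6, 7), (6, 5), (9, 10)]) .nil)) .nil)) .nil)) .nil)) .nil)) .nil)) .nil)) .nil)) .nil)) .nil)) .nil))
def c29 : Cert := (.sub (.node 166 (.sub (.node 326 (.sub (.node 58 (.sub (.node 154 .nil) (.sub (.node 90 (.sub (.node 538 (.sub (.node 106 (.sub (.node 394 (.sub (.node 114 (.sub (.node 402 (.sub (.node 226 (.sub (.node 802 (.sub (.node 706 (.sub (.node 60 (.sub (.node 156 (.sub (.node 284 (.sub (.node 556 (.sub (.node 204 (.sub (.node 180 (.sub (.node 596 (.sub c28 .nil)) .nil)) .nil)) .nil)) .nil)) .nil)) .nil)) .nil)) .nil)) .nil)) .nil)) .nil)) .nil)) .nil)) .nil)) .nil)) .nil))) .nil)) .nil)) .nil)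
def c30 : Cert := (.sub (.node 676 (.sub (.node 836 (.sub (.node 184 (.sub (.node 344 (.sub (.node 232 (.sub (.node 808 (.sub (.node 456 (.sub (.node 368 (.sub (.node 432 (.sub (.node 720 (.sub (.goto [(5, 10), (6, 9), (7, 6), (8, 5), (7, 8)]) .nil)) .nil)) .nil)) .nil)) .nil)) .nil)) .nil)) .nil)) .nil)) .nil)) .nil)
def c31 : Cert := (.sub (.node 294 (.sub (.node 198 (.sub (.node 58 (.sub (.node 154 (.sub (.node 282 (.sub (.node 170 (.sub (.node 586 (.sub (.node 562 (.sub (.node 210 (.sub (.node 226 (.sub (.node 354 (.sub (.node 898 (.sub (.node 60 (.sub (.node 92 (.sub (.node 540 (.sub (.node 108 (.sub (.node 396 (.sub (.node 116 (.sub (.node 404 (.sub (.node 228 c30) .nil)) .nil)) .nil)) .nil)) .nil)) .nil)) .nil)) .nil)) .nil)) .nil)) .nil)) .nil)) .nil)) .nil)) .nil)) .nil)) .nil)) .nil)) .nil)) .nil)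
def c32 : Cert := (.sub (.node 149 (.sub (.node 293 (.sub (.node 197 (.sub (.node 57 (.sub (.node 153 (.sub (.node 537 (.sub (.node 297 .nil) .nil)) .nil)) (.sub (.node 89 (.sub (.node 153 (.sub (.node 105 (.sub (.node 649 (.sub (.node 113 (.sub (.node 785 (.sub (.node 609 (.sub (.node 417 (.sub (.node 449 (.sub (.node 46 (.sub (.node 78 (.sub (.node 142 (.sub (.node 54 (.sub (.node 86 .nil) (.sub (.node 86 (.sub (.node 278 c29) .nil)) .nil))) .nil)) .nil)) (.sub (.node 78 (.sub (.node 142 (.sub (.node 54 (.sub (.node 86 (.sub (.node 278 c31) .nil)) .nil)) .nil)) (.sub (.node 142 .nil) .nil))) .nil))) .nil)) .nil)) .nil)) .nil)) .nil)) .nil)) .nil)) .nil)) .nil)) .nil))) .nil)) .nil)) .nil)) .nil)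
def c33 : Cert := (.sub (.node 277 .nil) (.sub (.node 149 .nil) (.sub (.node 149 .nil) .nil)))
def c34 : Cert := (.node 277 (.sub (.node 165 .nil) .nil))
def c35 : Cert := (.sub (.node 149 .nil) .nil)
def c36 : Cert := (.node 228 (.sub (.node 356 (.sub (.node 900 (.sub (.node 312 (.sub (.node 216 (.sub (.node 232 (.sub (.node 424 (.sub (.node 840 (.sub (.node 368 (.sub (.node 688 (.sub (.node 464 (.sub (.goto [(5, 7), (6, 8), (5, 10), (6, 9), (6, 5)]) .nil)) .nil)) .nil)) .nil)) .nil)) .nil)) .nil)) .nil)) .nil)) .nil)) .nil))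
def c37 : Cert := (.sub (.node 294 (.sub (.node 198 (.sub (.node 58 (.sub (.node 154 (.sub (.node 538 .nil) .nil)) (.sub (.node 90 (.sub (.node 154 (.sub (.node 106 (.sub (.node 650 (.sub (.node 114 (.sub (.node 786 (.sub (.node 610 (.sub (.node 418 (.sub (.node 450 (.sub (.node 60 (.sub (.node 156 (.sub (.node 284 (.sub (.node 556 (.sub (.node 204 (.sub (.node 180 (.sub (.node 596 (.sub c36 .nil)) .nil)) .nil)) .nil)) .nil)) .nil)) .nil)) .nil)) .nil)) .nil)) .nil)) .nil)) .nil)) .nil)) .nil)) .nil)) .nil))) .nil)) .nil)) .nil)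
def c38 : Cert := (.node 612 (.sub (.node 420 (.sub (.node 452 (.sub (.node 312 (.sub (.node 216 (.sub (.node 360 (.sub (.node 680 (.sub (.node 456 (.sub (.node 240 (.sub (.node 432 (.sub (.node 848 (.sub (.goto [(5, 9), (6, 10), (7, 8), (5, 6)]) .nil)) .nil)) .nil)) .nil)) .nil)) .nil)) .nil)) .nil)) .nil)) .nil)) .nil))
def c39 : Cert := (.sub (.node 294 (.sub (.node 198 (.sub (.node 58 (.sub (.node 154 (.sub (.node 538 .nil) (.sub (.node 282 (.sub (.node 170 (.sub (.node 586 (.sub (.node 562 (.sub (.node 210 (.sub (.node 226 (.sub (.node 354 (.sub (.node 898 (.sub (.node 60 (.sub (.node 92 (.sub (.node 156 (.sub (.node 108 (.sub (.node 780 (.sub (.node 116 (.sub (.node 660 (.sub c38 .nil)) .nil)) .nil)) .nil)) .nil)) .nil)) .nil)) .nil)) .nil)) .nil)) .nil)) .nil)) .nil)) .nil)) .nil)) .nil))) .nil)) .nil)) .nil)) .nil)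
def c40 : Cert := (.sub (.node 277 (.sub (.node 165 (.sub (.node 325 (.sub (.node 57 (.sub (.node 153 (.sub (.node 537 (.sub (.node 169 .nil) .nil)) .nil)) (.sub (.node 89 (.sub (.node 537 (.sub (.node 105 (.sub (.node 393 (.sub (.node 113 (.sub (.node 401 (.sub (.node 225 (.sub (.node 801 (.sub (.node 705 (.sub (.node 46 (.sub (.node 78 (.sub (.node 526 .nil) (.sub (.node 270 (.sub (.node 54 (.sub (.node 86 (.sub (.node 150 c37) .nil)) .nil)) .nil)) .nil))) (.sub (.node 78 (.sub (.node 142 (.sub (.node 54 (.sub (.node 86 (.sub (.node 278 c39) .nil)) (.sub (.node 86 .nil) .nil))) .nil)) .nil)) .nil))) .nil)) .nil)) .nil)) .nil)) .nil)) .nil)) .nil)) .nil)) .nil)) .nil))) .nil)) .nil)) .nil)) (.sub (.node 149 .nil) .nil))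
def c41 : Cert := (.node 533 .nil)
def c42 : Cert := (.sub (.node 277 (.sub (.node 549 .nil) .nil)) .nil)
def c43 : Cert := (.sub (.node 277 (.sub (.node 165 .nil) .nil)) (.sub (.node 149 (.sub (.node 165 .nil) .nil)) .nil))
def c44 : Cert := (.node 85 (.sub (.node 277 (.sub (.node 165 .nil) .nil)) (.sub (.node 149 .nil) (.sub (.node 149 .nil) .nil))))
def c45 : Cert := (.sub (.node 676 (.sub (.node 836 (.sub (.node 184 (.sub (.node 344 (.sub (.node 232 (.sub (.node 808 (.sub (.node 456 (.sub (.node 368 (.sub (.node 432 (.sub (.node 720 (.sub (.goto [(7, 9), (8, 10)]) .nil)) .nil)) .nil)) .nil)) .nil)) .nil)) .nil)) .nil)) .nil)) .nil)) .nil)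
def c46 : Cert := (.sub (.node 294 (.sub (.node 198 (.sub (.node 58 (.sub (.node 90 (.sub (.node 154 (.sub (.node 106 (.sub (.node 650 (.sub (.node 114 (.sub (.node 786 (.sub (.node 610 (.sub (.node 418 (.sub (.node 450 (.sub (.node 60 (.sub (.node 92 (.sub (.node 540 (.sub (.node 108 (.sub (.node 396 (.sub (.node 116 (.sub (.node 404 (.sub (.node 228 c45) .nil)) .nil)) .nil)) .nil)) .nil)) .nil)) .nil)) .nil)) .nil)) .nil)) .nil)) .nil)) .nil)) .nil)) .nil)) .nil)) .nil)) .nil)) .nil)) .nil)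
def c47 : Cert := (.node 150 .nil)
def c48 : Cert := (.sub (.node 420 (.sub (.node 452 (.sub (.node 312 (.sub (.node 216 (.sub (.node 360 (.sub (.node 680 (.sub (.node 456 (.sub (.node 240 (.sub (.node 432 (.sub (.node 848 (.sub (.goto [(5, 6)]) .nil)) .nil)) .nil)) .nil)) .nil)) .nil)) .nil)) .nil)) .nil)) .nil)) .nil)
def c49 : Cert := (.sub (.node 166 (.sub (.node 326 (.sub (.node 58 (.sub (.node 90 (.sub (.node 538 (.sub (.node 106 (.sub (.node 394 (.sub (.node 114 (.sub (.node 402 (.sub (.node 226 (.sub (.node 802 (.sub (.node 706 (.sub (.node 60 (.sub (.node 92 (.sub (.node 156 (.sub (.node 108 (.sub (.node 780 (.sub (.node 116 (.sub (.node 660 (.sub (.node 612 c48) .nil)) .nil)) .nil)) .nil)) .nil)) .nil)) .nil)) .nil)) .nil)) .nil)) .nil)) .nil)) .nil)) .nil)) .nil)) .nil)) .nil)) .nil)) .nil)) .nil)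
def c50 : Cert := (.node 150 .nil)
def c51 : Cert := (.node 277 (.sub (.node 293 (.sub (.node 197 (.sub (.node 57 (.sub (.node 153 (.sub (.node 537 (.sub (.node 169 .nil) .nil)) (.sub (.node 281 (.sub (.node 169 (.sub (.node 585 (.sub (.node 561 (.sub (.node 209 (.sub (.node 225 (.sub (.node 353 (.sub (.node 897 (.sub (.node 46 (.sub (.node 78 (.sub (.node 270 .nil) (.sub (.node 270 (.sub (.node 54 (.sub (.node 86 (.sub (.node 278 .nil) (.sub (.node 150 c46) .nil))) (.sub (.node 86 (.sub (.node 278 .nil) (.sub c47 .nil))) .nil))) .nil)) .nil))) (.sub (.node 78 (.sub (.node 142 (.sub (.node 54 (.sub (.node 86 (.sub (.node 278 .nil) (.sub (.node 150 .nil) .nil))) (.sub (.node 86 (.sub (.node 278 c49) (.sub c50 .nil))) .nil))) .nil)) (.sub (.node 142 .nil) .nil))) .nil))) .nil)) .nil)) .nil)) .nil)) .nil)) .nil)) .nil)) .nil)) .nil))) .nil)) .nil)) .nil)) .nil))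
def c52 : Cert := (.sub (.node 277 (.sub (.node 165 .nil) .nil)) .nil)
def cert : Cert := (.node 15 (.sub (.node 39 (.sub (.node 135 (.sub (.node 519 (.sub (.node 43 (.sub (.node 75 (.sub (.node 523 .nil) (.sub (.node 267 (.sub (.node 51 (.sub (.node 83 (.sub (.node 531 .nil) (.sub (.node 147 (.sub (.node 547 .nil) .nil)) .nil))) (.sub (.node 83 (.sub (.node 275 .nil) (.sub (.node 147 (.sub (.node 291 .nil) .nil)) (.sub (.node 147 .nil) .nil)))) (.sub (.node 83 (.sub (.node 275 (.sub (.node 291 .nil) .nil)) (.sub (.node 147 (.sub (.node 291 (.sub (.node 195 (.sub (.node 45 (.sub (.node 77 (.sub (.node 525 .nil) (.sub (.node 141 (.sub (.node 53 (.sub (.node 85 (.sub (.node 277 c1) .nil)) (.sub (.node 85 (.sub c8 .nil)) .nil))) .nil)) .nil))) (.sub (.node 77 (.sub (.node 269 .nil) (.sub (.node 141 (.sub (.node 53 (.sub (.node 85 (.sub c9 c14)) (.sub (.node 85 c15) .nil))) .nil)) (.sub (.node 141 .nil) .nil)))) (.sub (.node 77 (.sub (.node 269 (.sub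 (.node 53 (.sub (.node 85 (.sub c16 c17)) (.sub (.node 85 c22) (.sub c23 .nil)))) .nil)) (.sub (.node 141 (.sub (.node 53 (.sub (.node 85 c24) (.sub c25 c26))) .nil)) .nil))) .nil)))) .nil)) .nil)) .nil)) .nil))) .nil)))) .nil)) (.iso 587 [(10, 9)] .nil)))) (.iso 171 [(8, 7)] (.sub (.node 75 (.sub (.node 267 (.sub (.node 51 (.sub (.node 83 (.sub (.node 531 .nil) (.sub (.node 275 .nil) (.sub (.node 275 (.sub (.node 291 .nil) .nil)) .nil)))) (.sub (.node 83 (.sub (.node 147 (.sub (.node 163 .nil) .nil)) (.sub (.node 147 (.sub (.node 163 (.sub (.node 323 (.sub (.node 45 (.sub (.node 77 (.sub (.node 525 .nil) (.sub (.node 269 .nil) (.sub (.node 269 (.sub (.node 53 (.sub (.node 85 (.sub c27 c32)) (.sub (.node 85 c33) .nil))) .nil)) .nil)))) (.sub (.node 77 (.sub (.node 141 (.sub (.node 53 (.sub (.node 85 (.sub (.node 533 .nil) .nil)) (.sub (.node 85 (.sub c34 c35)) (.sub (.node 85 c40) .nil)))) .nil)) (.sub (.node 141 (.sub (.node 53 (.sub (.node 85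 (.sub c41 c42)) (.sub (.node 85 c43) (.sub c44 .nil)))) .nil)) .nil))) (.sub (.node 77 (.sub (.node 141 (.sub (.node 53 (.sub (.node 85 (.sub c51 .nil)) (.sub (.node 85 c52) .nil))) .nil)) (.sub (.node 141 .nil) .nil))) .nil)))) .nil)) .nil)) .nil)) .nil))) (.sub (.node 83 (.sub (.node 147 (.sub (.node 163 .nil) .nil)) (.sub (.node 147 .nil) .nil))) .nil)))) .nil)) (.iso 203 [(8, 7)] (.sub (.node 139 .nil) .nil)))) (.iso 555 [(10, 9)] .nil))))) .nil)) (.iso 391 [(9, 8)] (.iso 391 [(10, 8)] .nil)))) (.iso 103 [(7, 6)] (.iso 103 [(8, 6)] (.iso 103 [(9, 6)] (.iso 103 [(10, 6)] .nil)))))) (.iso 31 [(5, 4)] (.iso 31 [(6, 4)] (.iso 31 [(7, 4)] (.iso 31 [(8, 4)] (.iso 31 [(9, 4)] (.iso 31 [(10, 4)] .nil))))))))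

theorem base : PQ 11 4 5 (QM 11 4 (setOf' 11 B0)) B0 := PM_base (by decide +kernel)

theorem main : PQ 11 4 5 (QM 11 4 (setOf' 11 B0)) [] :=
  soundM (r := 1) (by norm_num) rfl base cert true [] [] [] (by decide +kernel)

end Cfsg.Agent.Lib.Helper3.Stq.M11
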