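import Cfsg.Agent.Lib.Helper3.StMark

set_option autoImplicit false
set_option maxRecDepth 100000

namespace Cfsg.Agent.Lib.Helper3.Stq.M12

open Cfsg Cfsg.Agent.Lib.Helper3.Stq

def B0 : List ℕ := [4032, 3888, 3312, 1008, 3752, 2920, 1512, 1944, 3416, 2776, 2488, 1656, 3492, 1892, 2788, 2964, 3668, 1492, 1716, 2420, 3852, 1740, 2508, 940, 3180, 3228, 860, 2620, 1340, 252, 2978, 3426, 1762, 3730, 1874, 2514, 1458, 2674, 3466, 3658, 970, 1834, 2282, 2842, 1242, 3130, 698, 378, 1926, 2886, 3270, 3622, 486, 3350, 726, 822, 2230, 1142, 2702, 1358, 2350, 1198, 622, 1566, 414, 2142, 1953, 3681, 2529, 3473, 2897, 1745, 2737, 1393, 2953, 1865, 3273, 3369, 745, 3609, 473, 825, 1209, 2169, 3717, 3397, 965, 2853, 1253, 1813, 2261, 3125, 437, 629, 1421, 2637, 1581, 2221, 365, 2333, 669, 1117, 3843, 2755, 1475, 3235, 867, 915, 3155, 1587, 2355, 243, 1675, 2379, 2603, 427, 1131, 1307, 2203, 603, 2439, 1607, 1319, 679, 2151, 2583, 1175, 343, 3087, 783, 207, 63]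

def c1 : Cert := (.sub (.node 1099 .nil) .nil)
def c2 : Cert := (.sub (.node 916 (.sub (.node 740 (.sub (.node 868 (.sub (.node 1444 (.sub (.node 632 (.sub (.node 440 (.sub (.node 728 (.sub (.node 1368 (.sub (.node 920 (.sub (.node 488 (.sub (.node 872 (.sub (.node 1704 (.sub (.node 496 (.sub (.node 1264 (.sub (.node 1840 (.sub (.node 1984 (.sub (.goto []) .nil)) .nil)) .nil)) .nil)) .nil)) .nil)) .nil)) .nil)) .nil)) .nil)) .nil)) .nil)) .nil)) .nil)) .nil)) .nil)) .nil)
def c3 : Cert := (.sub (.node 466 (.sub (.node 850 (.sub (.node 1682 (.sub (.node 738 (.sub (.node 1378 (.sub (.node 930 (.sub (.node 124 (.sub (.node 316 (.sub (.node 572 (.sub (.node 348 (.sub (.node 1180 (.sub (.node 1132 (.sub (.node 428 (.sub (.node 460 (.sub (.node 716 (.sub (.node 1804 (.sub (.node 372 (.sub (.node 692 (.sub (.node 468 (.sub (.node 1620 c2) .nil)) .nil)) .nil)) .nil)) .nil)) .nil)) .nil)) .nil)) .nil)) .nil)) .nil)) .nil)) .nil)) .nil)) .nil)) .nil)) .nil))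 .nil)) .nil)) .nil)
def c4 : Cert := (.sub (.node 310 (.sub (.node 214 (.sub (.node 1302 (.sub (.node 230 (.sub (.node 1574 (.sub (.node 1222 (.sub (.node 838 (.sub (.node 902 (.sub (.node 122 (.sub (.node 186 (.sub (.node 1082 (.sub (.node 218 (.sub (.node 794 (.sub (.node 234 (.sub (.node 810 (.sub (.node 458 (.sub (.node 1610 (.sub (.node 1418 (.sub (.node 626 (.sub (.node 434 c3) .nil)) .nil)) .nil)) .nil)) .nil)) .nil)) .nil)) .nil)) .nil)) .nil)) .nil)) .nil)) .nil)) .nil)) .nil)) .nil)) .nil)) .nil)) .nil)) .nil)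
def c5 : Cert := (.sub (.node 841 (.sub (.node 905 (.sub (.node 369 (.sub (.node 689 (.sub (.node 721 (.sub (.node 849 (.sub (.node 1425 (.sub (.node 481 (.sub (.node 1633 (.sub (.node 929 (.sub (.node 94 (.sub (.node 158 (.sub (.node 542 (.sub (.node 110 (.sub (.node 174 (.sub (.node 302 (.sub (.node 334 (.sub (.node 654 (.sub (.node 118 (.sub (.node 182 c4) .nil)) .nil)) .nil)) .nil)) .nil)) .nil)) .nil)) .nil)) .nil)) .nil)) .nil)) .nil)) .nil)) .nil)) .nil)) .nil)) .nil)) .nil)) .nil)) .nil)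
def c6 : Cert := (.sub (.node 589 (.sub (.node 397 (.sub (.node 117 (.sub (.node 181 (.sub (.node 1077 (.sub (.node 213 (.sub (.node 789 (.sub (.node 229 (.sub (.node 805 (.sub (.node 453 (.sub (.node 1349 (.sub (.node 1669 (.sub (.node 121 (.sub (.node 185 (.sub (.node 313 (.sub (.node 217 (.sub (.node 1561 (.sub (.node 233 (.sub (.node 1321 (.sub (.node 1225 c5) .nil)) .nil)) .nil)) .nil)) .nil)) .nil)) .nil)) .nil)) .nil)) .nil)) .nil)) .nil)) .nil)) .nil)) .nil)) .nil)) .nil)) .nil)) .nil)) .nil)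
def c7 : Cert := (.node 301 .nil)
def c8 : Cert := (.sub (.node 916 (.sub (.node 740 (.sub (.node 868 (.sub (.node 1444 (.sub (.node 632 (.sub (.node 440 (.sub (.node 728 (.sub (.node 1368 (.sub (.node 920 (.sub (.node 488 (.sub (.node 872 (.sub (.node 1704 (.sub (.node 496 (.sub (.node 1264 (.sub (.node 1840 (.sub (.node 1984 (.sub (.goto [(6, 7), (8, 10), (9, 11)]) .nil)) .nil)) .nil)) .nil)) .nil)) .nil)) .nil)) .nil)) .nil)) .nil)) .nil)) .nil)) .nil)) .nil)) .nil)) .nil)) .nil)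
def c9 : Cert := (.sub (.node 722 (.sub (.node 850 (.sub (.node 1426 (.sub (.node 482 (.sub (.node 1634 (.sub (.node 930 (.sub (.node 124 (.sub (.node 316 (.sub (.node 572 (.sub (.node 348 (.sub (.node 1180 (.sub (.node 1132 (.sub (.node 428 (.sub (.node 460 (.sub (.node 716 (.sub (.node 1804 (.sub (.node 372 (.sub (.node 692 (.sub (.node 468 (.sub (.node 1620 c8) .nil)) .nil)) .nil)) .nil)) .nil)) .nil)) .nil)) .nil)) .nil)) .nil)) .nil)) .nil)) .nil)) .nil)) .nil)) .nil)) .nil)) .nil)) .nil)) .nil)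
def c10 : Cert := (.sub (.node 1078 (.sub (.node 214 (.sub (.node 790 (.sub (.node 230 (.sub (.node 806 (.sub (.node 454 (.sub (.node 1350 (.sub (.node 1670 (.sub (.node 122 (.sub (.node 186 (.sub (.node 314 (.sub (.node 218 (.sub (.node 1562 (.sub (.node 234 (.sub (.node 1322 (.sub (.node 1226 (.sub (.node 842 (.sub (.node 906 (.sub (.node 370 (.sub (.node 690 c9) .nil)) .nil)) .nil)) .nil)) .nil)) .nil)) .nil)) .nil)) .nil)) .nil)) .nil)) .nil)) .nil)) .nil)) .nil)) .nil)) .nil)) .nil)) .nil)) .nil)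
def c11 : Cert := (.sub (.node 1609 (.sub (.node 1417 (.sub (.node 625 (.sub (.node 433 (.sub (.node 465 (.sub (.node 849 (.sub (.node 1681 (.sub (.node 737 (.sub (.node 1377 (.sub (.node 929 (.sub (.node 94 (.sub (.node 158 (.sub (.node 286 (.sub (.node 110 (.sub (.node 174 (.sub (.node 558 (.sub (.node 590 (.sub (.node 398 (.sub (.node 118 (.sub (.node 182 c10) .nil)) .nil)) .nil)) .nil)) .nil)) .nil)) .nil)) .nil)) .nil)) .nil)) .nil)) .nil)) .nil)) .nil)) .nil)) .nil)) .nil)) .nil)) .nil)) .nil)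
def c12 : Cert := (.sub (.node 333 (.sub (.node 653 (.sub (.node 117 (.sub (.node 181 (.sub (.node 309 (.sub (.node 213 (.sub (.node 1301 (.sub (.node 229 (.sub (.node 1573 (.sub (.node 1221 (.sub (.node 837 (.sub (.node 901 (.sub (.node 121 (.sub (.node 185 (.sub (.node 1081 (.sub (.node 217 (.sub (.node 793 (.sub (.node 233 (.sub (.node 809 (.sub (.node 457 c11) .nil)) .nil)) .nil)) .nil)) .nil)) .nil)) .nil)) .nil)) .nil)) .nil)) .nil)) .nil)) .nil)) .nil)) .nil)) .nil)) .nil)) .nil)) .nil)) .nil)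
def c13 : Cert := (.node 301 .nil)
def c14 : Cert := (.node 555 (.sub (.node 331 (.sub (.node 651 (.sub (.node 115 (.sub (.node 307 (.sub (.node 1075 (.sub (.node 1107 .nil) .nil)) (.sub (.node 563 (.sub (.node 1107 (.sub (.node 403 (.sub (.node 355 (.sub (.node 1187 (.sub (.node 451 (.sub (.node 707 (.sub (.node 1795 (.sub (.node 93 (.sub (.node 157 (.sub (.node 541 .nil) (.sub (.node 285 (.sub (.node 109 (.sub (.node 173 (.sub (.node 557 .nil) (.sub (.node 557 c6) .nil))) (.sub (.node 173 (.sub (.node 301 .nil) (.sub c7 .nil))) .nil))) .nil)) .nil))) (.sub (.node 157 (.sub (.node 541 (.sub (.node 109 (.sub (.node 173 (.sub (.node 557 .nil) (.sub (.node 557 .nil) .nil))) (.sub (.node 173 (.sub (.node 301 c12) (.sub c13 .nil))) .nil))) .nil)) (.sub (.node 285 .nil) .nil))) .nil))) .nil)) .nil)) .nil)) .nil)) .nil)) .nil)) .nil)) .nil)) .nil))) .nil)) .nil)) .nil)) .nil))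
def c15 : Cert := (.node 555 (.sub (.node 587 .nil) .nil))
def c16 : Cert := (.node 852 (.sub (.node 1684 (.sub (.node 740 (.sub (.node 1380 (.sub (.node 932 (.sub (.node 632 (.sub (.node 440 (.sub (.node 728 (.sub (.node 1368 (.sub (.node 920 (.sub (.node 488 (.sub (.node 872 (.sub (.node 1704 (.sub (.node 496 (.sub (.node 1264 (.sub (.node 1840 (.sub (.node 1984 (.sub (.goto [(6, 11), (7, 10), (8, 9)]) .nil)) .nil)) .nil)) .nil)) .nil)) .nil)) .nil)) .nil)) .nil)) .nil)) .nil)) .nil)) .nil)) .nil)) .nil)) .nil)) .nil))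
def c17 : Cert := (.node 690 (.sub (.node 466 (.sub (.node 1618 (.sub (.node 914 (.sub (.node 738 (.sub (.node 866 (.sub (.node 1442 (.sub (.node 124 (.sub (.node 188 (.sub (.node 1084 (.sub (.node 220 (.sub (.node 796 (.sub (.node 236 (.sub (.node 812 (.sub (.node 460 (.sub (.node 1612 (.sub (.node 1420 (.sub (.node 628 (.sub (.node 436 (.sub (.node 468 (.sub c16 .nil)) .nil)) .nil)) .nil)) .nil)) .nil)) .nil)) .nil)) .nil)) .nil)) .nil)) .nil)) .nil)) .nil)) .nil)) .nil)) .nil)) .nil)) .nil)) .nil))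
def c18 : Cert := (.node 182 (.sub (.node 310 (.sub (.node 214 (.sub (.node 1302 (.sub (.node 230 (.sub (.node 1574 (.sub (.node 1222 (.sub (.node 838 (.sub (.node 902 (.sub (.node 122 (.sub (.node 314 (.sub (.node 570 (.sub (.node 346 (.sub (.node 1178 (.sub (.node 1130 (.sub (.node 426 (.sub (.node 458 (.sub (.node 714 (.sub (.node 1802 (.sub (.node 370 (.sub c17 .nil)) .nil)) .nil)) .nil)) .nil)) .nil)) .nil)) .nil)) .nil)) .nil)) .nil)) .nil)) .nil)) .nil)) .nil)) .nil)) .nil)) .nil)) .nil)) .nil))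
def c19 : Cert := (.node 1225 (.sub (.node 841 (.sub (.node 905 (.sub (.node 369 (.sub (.node 689 (.sub (.node 721 (.sub (.node 849 (.sub (.node 1425 (.sub (.node 481 (.sub (.node 1633 (.sub (.node 929 (.sub (.node 94 (.sub (.node 158 (.sub (.node 542 (.sub (.node 110 (.sub (.node 174 (.sub (.node 302 (.sub (.node 334 (.sub (.node 654 (.sub (.node 118 (.sub c18 .nil)) .nil)) .nil)) .nil)) .nil)) .nil)) .nil)) .nil)) .nil)) .nil)) .nil)) .nil)) .nil)) .nil)) .nil)) .nil)) .nil)) .nil)) .nil)) .nil))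
def c20 : Cert := (.sub (.node 333 (.sub (.node 653 (.sub (.node 117 (.sub (.node 309 (.sub (.node 1077 .nil) (.sub (.node 565 (.sub (.node 1109 (.sub (.node 405 (.sub (.node 357 (.sub (.node 1189 (.sub (.node 453 (.sub (.node 709 (.sub (.node 1797 (.sub (.node 121 (.sub (.node 185 (.sub (.node 313 (.sub (.node 217 (.sub (.node 1561 (.sub (.node 233 (.sub (.node 1321 (.sub c19 .nil)) .nil)) .nil)) .nil)) .nil)) .nil)) .nil)) .nil)) .nil)) .nil)) .nil)) .nil)) .nil)) .nil)) .nil)) .nil))) .nil)) .nil)) .nil)) .nil)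
def c21 : Cert := (.node 852 (.sub (.node 1684 (.sub (.node 740 (.sub (.node 1380 (.sub (.node 932 (.sub (.node 632 (.sub (.node 440 (.sub (.node 728 (.sub (.node 1368 (.sub (.node 920 (.sub (.node 488 (.sub (.node 872 (.sub (.node 1704 (.sub (.node 496 (.sub (.node 1264 (.sub (.node 1840 (.sub (.node 1984 (.sub (.goto [(6, 9), (7, 8), (7, 11), (6, 10)]) .nil)) .nil)) .nil)) .nil)) .nil)) .nil)) .nil)) .nil)) .nil)) .nil)) .nil)) .nil)) .nil)) .nil)) .nil)) .nil)) .nil))
def c22 : Cert := (.node 690 (.sub (.node 722 (.sub (.node 850 (.sub (.node 1426 (.sub (.node 482 (.sub (.node 1634 (.sub (.node 930 (.sub (.node 124 (.sub (.node 188 (.sub (.node 1084 (.sub (.node 220 (.sub (.node 796 (.sub (.node 236 (.sub (.node 812 (.sub (.node 460 (.sub (.node 1612 (.sub (.node 1420 (.sub (.node 628 (.sub (.node 436 (.sub (.node 468 (.sub c21 .nil)) .nil)) .nil)) .nil)) .nil)) .nil)) .nil)) .nil)) .nil)) .nil)) .nil)) .nil)) .nil)) .nil)) .nil)) .nil)) .nil))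 .nil)) .nil)) .nil))
def c23 : Cert := (.node 310 (.sub (.node 566 (.sub (.node 1110 (.sub (.node 406 (.sub (.node 358 (.sub (.node 1190 (.sub (.node 454 (.sub (.node 710 (.sub (.node 1798 (.sub (.node 122 (.sub (.node 186 (.sub (.node 314 (.sub (.node 218 (.sub (.node 1562 (.sub (.node 234 (.sub (.node 1322 (.sub (.node 1226 (.sub (.node 842 (.sub (.node 906 (.sub (.node 370 (.sub c22 .nil)) .nil)) .nil)) .nil)) .nil)) .nil)) .nil)) .nil)) .nil)) .nil)) .nil)) .nil)) .nil)) .nil)) .nil)) .nil)) .nil)) .nil)) .nil)) .nil))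
def c24 : Cert := (.node 457 (.sub (.node 713 (.sub (.node 1801 (.sub (.node 369 (.sub (.node 689 (.sub (.node 465 (.sub (.node 1617 (.sub (.node 913 (.sub (.node 737 (.sub (.node 865 (.sub (.node 1441 (.sub (.node 94 (.sub (.node 158 (.sub (.node 286 (.sub (.node 110 (.sub (.node 174 (.sub (.node 558 (.sub (.node 334 (.sub (.node 654 (.sub (.node 118 (.sub c23 .nil)) .nil)) .nil)) .nil)) .nil)) .nil)) .nil)) .nil)) .nil)) .nil)) .nil)) .nil)) .nil)) .nil)) .nil)) .nil)) .nil)) .nil)) .nil)) .nil))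
def c25 : Cert := (.sub (.node 333 (.sub (.node 653 (.sub (.node 117 (.sub (.node 309 (.sub (.node 1077 .nil) .nil)) (.sub (.node 181 (.sub (.node 309 (.sub (.node 213 (.sub (.node 1301 (.sub (.node 229 (.sub (.node 1573 (.sub (.node 1221 (.sub (.node 837 (.sub (.node 901 (.sub (.node 121 (.sub (.node 313 (.sub (.node 569 (.sub (.node 345 (.sub (.node 1177 (.sub (.node 1129 (.sub (.node 425 (.sub c24 .nil)) .nil)) .nil)) .nil)) .nil)) .nil)) .nil)) .nil)) .nil)) .nil)) .nil)) .nil)) .nil)) .nil)) .nil)) .nil)) .nil))) .nil)) .nil)) .nil)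
def c26 : Cert := (.sub (.node 555 (.sub (.node 587 (.sub (.node 395 (.sub (.node 115 (.sub (.node 307 (.sub (.node 1075 (.sub (.node 595 .nil) .nil)) .nil)) (.sub (.node 179 (.sub (.node 1075 (.sub (.node 211 (.sub (.node 787 (.sub (.node 227 (.sub (.node 803 (.sub (.node 451 (.sub (.node 1347 (.sub (.node 1667 (.sub (.node 93 (.sub (.node 157 (.sub (.node 1053 .nil) (.sub (.node 285 (.sub (.node 109 (.sub (.node 173 (.sub (.node 557 c20) .nil)) .nil)) .nil)) .nil))) (.sub (.node 157 (.sub (.node 541 (.sub (.node 109 (.sub (.node 173 (.sub (.node 301 c25) .nil)) (.sub (.node 173 .nil) .nil))) .nil)) .nil)) .nil))) .nil)) .nil)) .nil)) .nil)) .nil)) .nil)) .nil)) .nil)) .nil)) .nil))) .nil)) .nil)) .nil)) .nil)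
def c27 : Cert := (.sub (.node 1067 .nil) (.sub (.node 299 .nil) (.sub (.node 299 .nil) .nil)))
def c28 : Cert := (.node 555 (.sub (.node 587 .nil) .nil))
def c29 : Cert := (.sub (.node 555 .nil) .nil)
def c30 : Cert := (.sub (.node 1428 (.sub (.node 484 (.sub (.node 1636 (.sub (.node 932 (.sub (.node 632 (.sub (.node 440 (.sub (.node 728 (.sub (.node 1368 (.sub (.node 920 (.sub (.node 488 (.sub (.node 872 (.sub (.node 1704 (.sub (.node 496 (.sub (.node 1264 (.sub (.node 1840 (.sub (.node 1984 (.sub (.goto [(6, 10), (7, 11), (8, 7), (9, 6)]) .nil)) .nil)) .nil)) .nil)) .nil)) .nil)) .nil)) .nil)) .nil)) .nil)) .nil)) .nil)) .nil)) .nil)) .nil)) .nil)) .nil)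
def c31 : Cert := (.sub (.node 466 (.sub (.node 1618 (.sub (.node 914 (.sub (.node 738 (.sub (.node 866 (.sub (.node 1442 (.sub (.node 124 (.sub (.node 188 (.sub (.node 316 (.sub (.node 220 (.sub (.node 1564 (.sub (.node 236 (.sub (.node 1324 (.sub (.node 1228 (.sub (.node 844 (.sub (.node 908 (.sub (.node 372 (.sub (.node 692 (.sub (.node 724 (.sub (.node 852 c30) .nil)) .nil)) .nil)) .nil)) .nil)) .nil)) .nil)) .nil)) .nil)) .nil)) .nil)) .nil)) .nil)) .nil)) .nil)) .nil)) .nil)) .nil)) .nil)) .nil)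
def c32 : Cert := (.sub (.node 1078 (.sub (.node 214 (.sub (.node 790 (.sub (.node 230 (.sub (.node 806 (.sub (.node 454 (.sub (.node 1350 (.sub (.node 1670 (.sub (.node 122 (.sub (.node 314 (.sub (.node 570 (.sub (.node 346 (.sub (.node 1178 (.sub (.node 1130 (.sub (.node 426 (.sub (.node 458 (.sub (.node 714 (.sub (.node 1802 (.sub (.node 370 (.sub (.node 690 c31) .nil)) .nil)) .nil)) .nil)) .nil)) .nil)) .nil)) .nil)) .nil)) .nil)) .nil)) .nil)) .nil)) .nil)) .nil)) .nil)) .nil)) .nil)) .nil)) .nil)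
def c33 : Cert := (.sub (.node 1609 (.sub (.node 1417 (.sub (.node 625 (.sub (.node 433 (.sub (.node 465 (.sub (.node 849 (.sub (.node 1681 (.sub (.node 737 (.sub (.node 1377 (.sub (.node 929 (.sub (.node 94 (.sub (.node 158 (.sub (.node 286 (.sub (.node 110 (.sub (.node 174 (.sub (.node 558 (.sub (.node 590 (.sub (.node 398 (.sub (.node 118 (.sub (.node 182 c32) .nil)) .nil)) .nil)) .nil)) .nil)) .nil)) .nil)) .nil)) .nil)) .nil)) .nil)) .nil)) .nil)) .nil)) .nil)) .nil)) .nil)) .nil)) .nil)) .nil)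
def c34 : Cert := (.sub (.node 333 (.sub (.node 653 (.sub (.node 117 (.sub (.node 309 (.sub (.node 565 (.sub (.node 1109 (.sub (.node 405 (.sub (.node 357 (.sub (.node 1189 (.sub (.node 453 (.sub (.node 709 (.sub (.node 1797 (.sub (.node 121 (.sub (.node 185 (.sub (.node 1081 (.sub (.node 217 (.sub (.node 793 (.sub (.node 233 (.sub (.node 809 (.sub (.node 457 c33) .nil)) .nil)) .nil)) .nil)) .nil)) .nil)) .nil)) .nil)) .nil)) .nil)) .nil)) .nil)) .nil)) .nil)) .nil)) .nil)) .nil)) .nil)) .nil)) .nil)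
def c35 : Cert := (.node 852 (.sub (.node 1428 (.sub (.node 484 (.sub (.node 1636 (.sub (.node 932 (.sub (.node 632 (.sub (.node 440 (.sub (.node 728 (.sub (.node 1368 (.sub (.node 920 (.sub (.node 488 (.sub (.node 872 (.sub (.node 1704 (.sub (.node 496 (.sub (.node 1264 (.sub (.node 1840 (.sub (.node 1984 (.sub (.goto [(6, 8), (7, 9), (10, 11)]) .nil)) .nil)) .nil)) .nil)) .nil)) .nil)) .nil)) .nil)) .nil)) .nil)) .nil)) .nil)) .nil)) .nil)) .nil)) .nil)) .nil))
def c36 : Cert := (.node 434 (.sub (.node 466 (.sub (.node 850 (.sub (.node 1682 (.sub (.node 738 (.sub (.node 1378 (.sub (.node 930 (.sub (.node 124 (.sub (.node 188 (.sub (.node 316 (.sub (.node 220 (.sub (.node 1564 (.sub (.node 236 (.sub (.node 1324 (.sub (.node 1228 (.sub (.node 844 (.sub (.node 908 (.sub (.node 372 (.sub (.node 692 (.sub (.node 724 (.sub c35 .nil)) .nil)) .nil)) .nil)) .nil)) .nil)) .nil)) .nil)) .nil)) .nil)) .nil)) .nil)) .nil)) .nil)) .nil)) .nil)) .nil)) .nil))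 .nil)) .nil))
def c37 : Cert := (.node 310 (.sub (.node 566 (.sub (.node 1110 (.sub (.node 406 (.sub (.node 358 (.sub (.node 1190 (.sub (.node 454 (.sub (.node 710 (.sub (.node 1798 (.sub (.node 122 (.sub (.node 186 (.sub (.node 1082 (.sub (.node 218 (.sub (.node 794 (.sub (.node 234 (.sub (.node 810 (.sub (.node 458 (.sub (.node 1610 (.sub (.node 1418 (.sub (.node 626 (.sub c36 .nil)) .nil)) .nil)) .nil)) .nil)) .nil)) .nil)) .nil)) .nil)) .nil)) .nil)) .nil)) .nil)) .nil)) .nil)) .nil)) .nil)) .nil)) .nil)) .nil))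
def c38 : Cert := (.node 457 (.sub (.node 713 (.sub (.node 1801 (.sub (.node 369 (.sub (.node 689 (.sub (.node 465 (.sub (.node 1617 (.sub (.node 913 (.sub (.node 737 (.sub (.node 865 (.sub (.node 1441 (.sub (.node 94 (.sub (.node 158 (.sub (.node 286 (.sub (.node 110 (.sub (.node 174 (.sub (.node 558 (.sub (.node 334 (.sub (.node 654 (.sub (.node 118 (.sub c37 .nil)) .nil)) .nil)) .nil)) .nil)) .nil)) .nil)) .nil)) .nil)) .nil)) .nil)) .nil)) .nil)) .nil)) .nil)) .nil)) .nil)) .nil)) .nil)) .nil))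
def c39 : Cert := (.sub (.node 589 (.sub (.node 397 (.sub (.node 117 (.sub (.node 309 .nil) (.sub (.node 181 (.sub (.node 1077 (.sub (.node 213 (.sub (.node 789 (.sub (.node 229 (.sub (.node 805 (.sub (.node 453 (.sub (.node 1349 (.sub (.node 1669 (.sub (.node 121 (.sub (.node 313 (.sub (.node 569 (.sub (.node 345 (.sub (.node 1177 (.sub (.node 1129 (.sub (.node 425 (.sub c38 .nil)) .nil)) .nil)) .nil)) .nil)) .nil)) .nil)) .nil)) .nil)) .nil)) .nil)) .nil)) .nil)) .nil)) .nil)) .nil)) .nil))) .nil)) .nil)) .nil)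
def c40 : Cert := (.sub (.node 299 (.sub (.node 331 (.sub (.node 651 (.sub (.node 115 (.sub (.node 307 (.sub (.node 1075 (.sub (.node 595 .nil) .nil)) .nil)) (.sub (.node 179 (.sub (.node 307 (.sub (.node 211 (.sub (.node 1299 (.sub (.node 227 (.sub (.node 1571 (.sub (.node 1219 (.sub (.node 835 (.sub (.node 899 (.sub (.node 93 (.sub (.node 157 (.sub (.node 285 (.sub (.node 109 (.sub (.node 173 .nil) (.sub (.node 173 (.sub (.node 557 c34) .nil)) .nil))) .nil)) .nil)) (.sub (.node 157 (.sub (.node 285 (.sub (.node 109 (.sub (.node 173 (.sub (.node 557 c39) .nil)) .nil)) .nil)) (.sub (.node 285 .nil) .nil))) .nil))) .nil)) .nil)) .nil)) .nil)) .nil)) .nil)) .nil)) .nil)) .nil)) .nil))) .nil)) .nil)) .nil)) (.sub (.node 299 .nil) .nil))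
def c41 : Cert := (.node 171 (.sub (.node 299 .nil) .nil))
def c42 : Cert := (.sub (.node 555 (.sub (.node 587 .nil) .nil)) (.sub (.node 555 (.sub (.node 587 .nil) .nil)) .nil))
def c43 : Cert := (.node 171 (.sub (.node 1067 .nil) (.sub (.node 299 (.sub (.node 331 .nil) .nil)) (.sub (.node 299 .nil) .nil))))
def c44 : Cert := (.sub (.node 171 (.sub (.node 555 (.sub (.node 331 .nil) .nil)) (.sub (.node 299 .nil) .nil))) .nil)
def c45 : Cert := (.node 555 (.sub (.node 587 .nil) .nil))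
def c46 : Cert := (.node 1364 (.sub (.node 916 (.sub (.node 484 (.sub (.node 868 (.sub (.node 1700 (.sub (.node 376 (.sub (.node 696 (.sub (.node 728 (.sub (.node 856 (.sub (.node 1432 (.sub (.node 488 (.sub (.node 1640 (.sub (.node 936 (.sub (.node 496 (.sub (.node 1264 (.sub (.node 1840 (.sub (.node 1984 (.sub (.goto [(6, 9), (7, 8), (7, 6), (10, 11)]) .nil)) .nil)) .nil)) .nil)) .nil)) .nil)) .nil)) .nil)) .nil)) .nil)) .nil)) .nil)) .nil)) .nil)) .nil)) .nil)) .nil))
def c47 : Cert := (.node 690 (.sub (.node 466 (.sub (.node 1618 (.sub (.node 914 (.sub (.node 738 (.sub (.node 866 (.sub (.node 1442 (.sub (.node 124 (.sub (.node 188 (.sub (.node 316 (.sub (.node 220 (.sub (.node 1564 (.sub (.node 236 (.sub (.node 1324 (.sub (.node 1228 (.sub (.node 844 (.sub (.node 908 (.sub (.node 628 (.sub (.node 436 (.sub (.node 724 (.sub c46 .nil)) .nil)) .nil)) .nil)) .nil)) .nil)) .nil)) .nil)) .nil)) .nil)) .nil)) .nil)) .nil)) .nil)) .nil)) .nil)) .nil))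 .nil)) .nil)) .nil))
def c48 : Cert := (.node 310 (.sub (.node 566 (.sub (.node 342 (.sub (.node 1174 (.sub (.node 1126 (.sub (.node 422 (.sub (.node 454 (.sub (.node 710 (.sub (.node 1798 (.sub (.node 122 (.sub (.node 186 (.sub (.node 1082 (.sub (.node 218 (.sub (.node 794 (.sub (.node 234 (.sub (.node 810 (.sub (.node 458 (.sub (.node 1354 (.sub (.node 1674 (.sub (.node 370 (.sub c47 .nil)) .nil)) .nil)) .nil)) .nil)) .nil)) .nil)) .nil)) .nil)) .nil)) .nil)) .nil)) .nil)) .nil)) .nil)) .nil)) .nil)) .nil)) .nil)) .nil))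
def c49 : Cert := (.node 457 (.sub (.node 713 (.sub (.node 1801 (.sub (.node 625 (.sub (.node 433 (.sub (.node 465 (.sub (.node 849 (.sub (.node 1681 (.sub (.node 737 (.sub (.node 1377 (.sub (.node 929 (.sub (.node 94 (.sub (.node 158 (.sub (.node 286 (.sub (.node 110 (.sub (.node 174 (.sub (.node 558 (.sub (.node 590 (.sub (.node 398 (.sub (.node 118 (.sub c48 .nil)) .nil)) .nil)) .nil)) .nil)) .nil)) .nil)) .nil)) .nil)) .nil)) .nil)) .nil)) .nil)) .nil)) .nil)) .nil)) .nil)) .nil)) .nil)) .nil))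
def c50 : Cert := (.sub (.node 333 (.sub (.node 653 (.sub (.node 117 (.sub (.node 309 .nil) (.sub (.node 181 (.sub (.node 1077 (.sub (.node 213 (.sub (.node 789 (.sub (.node 229 (.sub (.node 805 (.sub (.node 453 (.sub (.node 1605 (.sub (.node 1413 (.sub (.node 121 (.sub (.node 313 (.sub (.node 569 (.sub (.node 1113 (.sub (.node 409 (.sub (.node 361 (.sub (.node 1193 (.sub c49 .nil)) .nil)) .nil)) .nil)) .nil)) .nil)) .nil)) .nil)) .nil)) .nil)) .nil)) .nil)) .nil)) .nil)) .nil)) .nil)) .nil))) .nil)) .nil)) .nil)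
def c51 : Cert := (.sub (.node 916 (.sub (.node 484 (.sub (.node 868 (.sub (.node 1700 (.sub (.node 376 (.sub (.node 696 (.sub (.node 728 (.sub (.node 856 (.sub (.node 1432 (.sub (.node 488 (.sub (.node 1640 (.sub (.node 936 (.sub (.node 496 (.sub (.node 1264 (.sub (.node 1840 (.sub (.node 1984 (.sub (.goto [(6, 11), (7, 10), (8, 7), (9, 6), (8, 9)]) .nil)) .nil)) .nil)) .nil)) .nil)) .nil)) .nil)) .nil)) .nil)) .nil)) .nil)) .nil)) .nil)) .nil)) .nil)) .nil)) .nil)
def c52 : Cert := (.sub (.node 466 (.sub (.node 850 (.sub (.node 1682 (.sub (.node 738 (.sub (.node 1378 (.sub (.node 930 (.sub (.node 124 (.sub (.node 188 (.sub (.node 316 (.sub (.node 220 (.sub (.node 1564 (.sub (.node 236 (.sub (.node 1324 (.sub (.node 1228 (.sub (.node 844 (.sub (.node 908 (.sub (.node 628 (.sub (.node 436 (.sub (.node 724 (.sub (.node 1364 c51) .nil)) .nil)) .nil)) .nil)) .nil)) .nil)) .nil)) .nil)) .nil)) .nil)) .nil)) .nil)) .nil)) .nil)) .nil)) .nil)) .nil))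 .nil)) .nil)) .nil)
def c53 : Cert := (.sub (.node 1078 (.sub (.node 214 (.sub (.node 790 (.sub (.node 230 (.sub (.node 806 (.sub (.node 454 (.sub (.node 1606 (.sub (.node 1414 (.sub (.node 122 (.sub (.node 314 (.sub (.node 570 (.sub (.node 1114 (.sub (.node 410 (.sub (.node 362 (.sub (.node 1194 (.sub (.node 458 (.sub (.node 714 (.sub (.node 1802 (.sub (.node 626 (.sub (.node 434 c52) .nil)) .nil)) .nil)) .nil)) .nil)) .nil)) .nil)) .nil)) .nil)) .nil)) .nil)) .nil)) .nil)) .nil)) .nil)) .nil)) .nil)) .nil)) .nil)) .nil)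
def c54 : Cert := (.sub (.node 1353 (.sub (.node 1673 (.sub (.node 369 (.sub (.node 689 (.sub (.node 465 (.sub (.node 1617 (.sub (.node 913 (.sub (.node 737 (.sub (.node 865 (.sub (.node 1441 (.sub (.node 94 (.sub (.node 158 (.sub (.node 286 (.sub (.node 110 (.sub (.node 174 (.sub (.node 558 (.sub (.node 334 (.sub (.node 654 (.sub (.node 118 (.sub (.node 182 c53) .nil)) .nil)) .nil)) .nil)) .nil)) .nil)) .nil)) .nil)) .nil)) .nil)) .nil)) .nil)) .nil)) .nil)) .nil)) .nil)) .nil)) .nil)) .nil)) .nil)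
def c55 : Cert := (.sub (.node 589 (.sub (.node 397 (.sub (.node 117 (.sub (.node 309 (.sub (.node 565 (.sub (.node 341 (.sub (.node 1173 (.sub (.node 1125 (.sub (.node 421 (.sub (.node 453 (.sub (.node 709 (.sub (.node 1797 (.sub (.node 121 (.sub (.node 185 (.sub (.node 1081 (.sub (.node 217 (.sub (.node 793 (.sub (.node 233 (.sub (.node 809 (.sub (.node 457 c54) .nil)) .nil)) .nil)) .nil)) .nil)) .nil)) .nil)) .nil)) .nil)) .nil)) .nil)) .nil)) .nil)) .nil)) .nil)) .nil)) .nil)) .nil)) .nil)) .nil)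
def c56 : Cert := (.sub (.node 299 (.sub (.node 587 (.sub (.node 395 (.sub (.node 115 (.sub (.node 307 (.sub (.node 1075 (.sub (.node 595 .nil) .nil)) .nil)) (.sub (.node 179 (.sub (.node 307 (.sub (.node 211 (.sub (.node 1299 (.sub (.node 227 (.sub (.node 1571 (.sub (.node 1219 (.sub (.node 835 (.sub (.node 899 (.sub (.node 93 (.sub (.node 157 (.sub (.node 285 (.sub (.node 109 (.sub (.node 173 .nil) (.sub (.node 173 (.sub (.node 557 c50) .nil)) .nil))) .nil)) .nil)) (.sub (.node 157 (.sub (.node 285 (.sub (.node 109 (.sub (.node 173 (.sub (.node 557 c55) .nil)) .nil)) .nil)) (.sub (.node 285 .nil) .nil))) .nil))) .nil)) .nil)) .nil)) .nil)) .nil)) .nil)) .nil)) .nil)) .nil)) .nil))) .nil)) .nil)) .nil)) .nil)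
def c57 : Cert := (.sub (.node 555 .nil) (.sub (.node 299 .nil) (.sub (.node 299 .nil) .nil)))
def c58 : Cert := (.node 555 (.sub (.node 331 .nil) .nil))
def c59 : Cert := (.sub (.node 299 .nil) .nil)
def c60 : Cert := (.node 1620 (.sub (.node 916 (.sub (.node 740 (.sub (.node 868 (.sub (.node 1444 (.sub (.node 376 (.sub (.node 696 (.sub (.node 728 (.sub (.node 856 (.sub (.node 1432 (.sub (.node 488 (.sub (.node 1640 (.sub (.node 936 (.sub (.node 496 (.sub (.node 1264 (.sub (.node 1840 (.sub (.node 1984 (.sub (.goto [(6, 8), (7, 9), (6, 11), (7, 10), (7, 6)]) .nil)) .nil)) .nil)) .nil)) .nil)) .nil)) .nil)) .nil)) .nil)) .nil)) .nil)) .nil)) .nil)) .nil)) .nil)) .nil)) .nil))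
def c61 : Cert := (.node 434 (.sub (.node 722 (.sub (.node 1362 (.sub (.node 914 (.sub (.node 482 (.sub (.node 866 (.sub (.node 1698 (.sub (.node 124 (.sub (.node 188 (.sub (.node 1084 (.sub (.node 220 (.sub (.node 796 (.sub (.node 236 (.sub (.node 812 (.sub (.node 460 (.sub (.node 1356 (.sub (.node 1676 (.sub (.node 372 (.sub (.node 692 (.sub (.node 468 (.sub c60 .nil)) .nil)) .nil)) .nil)) .nil)) .nil)) .nil)) .nil)) .nil)) .nil)) .nil)) .nil)) .nil)) .nil)) .nil)) .nil)) .nil)) .nil)) .nil)) .nil))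
def c62 : Cert := (.node 310 (.sub (.node 566 (.sub (.node 342 (.sub (.node 1174 (.sub (.node 1126 (.sub (.node 422 (.sub (.node 454 (.sub (.node 710 (.sub (.node 1798 (.sub (.node 122 (.sub (.node 186 (.sub (.node 314 (.sub (.node 218 (.sub (.node 1562 (.sub (.node 234 (.sub (.node 1322 (.sub (.node 1226 (.sub (.node 842 (.sub (.node 906 (.sub (.node 626 (.sub c61 .nil)) .nil)) .nil)) .nil)) .nil)) .nil)) .nil)) .nil)) .nil)) .nil)) .nil)) .nil)) .nil)) .nil)) .nil)) .nil)) .nil)) .nil)) .nil)) .nil))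
def c63 : Cert := (.node 457 (.sub (.node 713 (.sub (.node 1801 (.sub (.node 625 (.sub (.node 433 (.sub (.node 465 (.sub (.node 849 (.sub (.node 1681 (.sub (.node 737 (.sub (.node 1377 (.sub (.node 929 (.sub (.node 94 (.sub (.node 158 (.sub (.node 286 (.sub (.node 110 (.sub (.node 174 (.sub (.node 558 (.sub (.node 590 (.sub (.node 398 (.sub (.node 118 (.sub c62 .nil)) .nil)) .nil)) .nil)) .nil)) .nil)) .nil)) .nil)) .nil)) .nil)) .nil)) .nil)) .nil)) .nil)) .nil)) .nil)) .nil)) .nil)) .nil)) .nil))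
def c64 : Cert := (.sub (.node 589 (.sub (.node 397 (.sub (.node 117 (.sub (.node 309 (.sub (.node 1077 .nil) .nil)) (.sub (.node 181 (.sub (.node 309 (.sub (.node 213 (.sub (.node 1301 (.sub (.node 229 (.sub (.node 1573 (.sub (.node 1221 (.sub (.node 837 (.sub (.node 901 (.sub (.node 121 (.sub (.node 313 (.sub (.node 569 (.sub (.node 1113 (.sub (.node 409 (.sub (.node 361 (.sub (.node 1193 (.sub c63 .nil)) .nil)) .nil)) .nil)) .nil)) .nil)) .nil)) .nil)) .nil)) .nil)) .nil)) .nil)) .nil)) .nil)) .nil)) .nil)) .nil))) .nil)) .nil)) .nil)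
def c65 : Cert := (.node 1620 (.sub (.node 916 (.sub (.node 740 (.sub (.node 868 (.sub (.node 1444 (.sub (.node 376 (.sub (.node 696 (.sub (.node 728 (.sub (.node 856 (.sub (.node 1432 (.sub (.node 488 (.sub (.node 1640 (.sub (.node 936 (.sub (.node 496 (.sub (.node 1264 (.sub (.node 1840 (.sub (.node 1984 (.sub (.goto [(6, 10), (7, 11), (8, 9), (6, 7)]) .nil)) .nil)) .nil)) .nil)) .nil)) .nil)) .nil)) .nil)) .nil)) .nil)) .nil)) .nil)) .nil)) .nil)) .nil)) .nil)) .nil))
def c66 : Cert := (.node 434 (.sub (.node 466 (.sub (.node 850 (.sub (.node 1682 (.sub (.node 738 (.sub (.node 1378 (.sub (.node 930 (.sub (.node 124 (.sub (.node 188 (.sub (.node 1084 (.sub (.node 220 (.sub (.node 796 (.sub (.node 236 (.sub (.node 812 (.sub (.node 460 (.sub (.node 1356 (.sub (.node 1676 (.sub (.node 372 (.sub (.node 692 (.sub (.node 468 (.sub c65 .nil)) .nil)) .nil)) .nil)) .nil)) .nil)) .nil)) .nil)) .nil)) .nil)) .nil)) .nil)) .nil)) .nil)) .nil)) .nil)) .nil))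 .nil)) .nil)) .nil))
def c67 : Cert := (.node 182 (.sub (.node 310 (.sub (.node 214 (.sub (.node 1302 (.sub (.node 230 (.sub (.node 1574 (.sub (.node 1222 (.sub (.node 838 (.sub (.node 902 (.sub (.node 122 (.sub (.node 314 (.sub (.node 570 (.sub (.node 1114 (.sub (.node 410 (.sub (.node 362 (.sub (.node 1194 (.sub (.node 458 (.sub (.node 714 (.sub (.node 1802 (.sub (.node 626 (.sub c66 .nil)) .nil)) .nil)) .nil)) .nil)) .nil)) .nil)) .nil)) .nil)) .nil)) .nil)) .nil)) .nil)) .nil)) .nil)) .nil)) .nil)) .nil)) .nil)) .nil))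
def c68 : Cert := (.node 1225 (.sub (.node 841 (.sub (.node 905 (.sub (.node 625 (.sub (.node 433 (.sub (.node 721 (.sub (.node 1361 (.sub (.node 913 (.sub (.node 481 (.sub (.node 865 (.sub (.node 1697 (.sub (.node 94 (.sub (.node 158 (.sub (.node 542 (.sub (.node 110 (.sub (.node 174 (.sub (.node 302 (.sub (.node 590 (.sub (.node 398 (.sub (.node 118 (.sub c67 .nil)) .nil)) .nil)) .nil)) .nil)) .nil)) .nil)) .nil)) .nil)) .nil)) .nil)) .nil)) .nil)) .nil)) .nil)) .nil)) .nil)) .nil)) .nil)) .nil))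
def c69 : Cert := (.sub (.node 589 (.sub (.node 397 (.sub (.node 117 (.sub (.node 309 (.sub (.node 1077 .nil) (.sub (.node 565 (.sub (.node 341 (.sub (.node 1173 (.sub (.node 1125 (.sub (.node 421 (.sub (.node 453 (.sub (.node 709 (.sub (.node 1797 (.sub (.node 121 (.sub (.node 185 (.sub (.node 313 (.sub (.node 217 (.sub (.node 1561 (.sub (.node 233 (.sub (.node 1321 (.sub c68 .nil)) .nil)) .nil)) .nil)) .nil)) .nil)) .nil)) .nil)) .nil)) .nil)) .nil)) .nil)) .nil)) .nil)) .nil)) .nil))) .nil)) .nil)) .nil)) .nil)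
def c70 : Cert := (.sub (.node 555 (.sub (.node 331 (.sub (.node 651 (.sub (.node 115 (.sub (.node 307 (.sub (.node 1075 (.sub (.node 339 .nil) .nil)) .nil)) (.sub (.node 179 (.sub (.node 1075 (.sub (.node 211 (.sub (.node 787 (.sub (.node 227 (.sub (.node 803 (.sub (.node 451 (.sub (.node 1603 (.sub (.node 1411 (.sub (.node 93 (.sub (.node 157 (.sub (.node 1053 .nil) (.sub (.node 541 (.sub (.node 109 (.sub (.node 173 (.sub (.node 301 c64) .nil)) .nil)) .nil)) .nil))) (.sub (.node 157 (.sub (.node 285 (.sub (.node 109 (.sub (.node 173 (.sub (.node 557 c69) .nil)) (.sub (.node 173 .nil) .nil))) .nil)) .nil)) .nil))) .nil)) .nil)) .nil)) .nil)) .nil)) .nil)) .nil)) .nil)) .nil)) .nil))) .nil)) .nil)) .nil)) (.sub (.node 299 .nil) .nil))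
def c71 : Cert := (.node 1067 .nil)
def c72 : Cert := (.sub (.node 555 (.sub (.node 1099 .nil) .nil)) .nil)
def c73 : Cert := (.sub (.node 555 (.sub (.node 331 .nil) .nil)) (.sub (.node 299 (.sub (.node 331 .nil) .nil)) .nil))
def c74 : Cert := (.node 171 (.sub (.node 555 (.sub (.node 331 .nil) .nil)) (.sub (.node 299 .nil) (.sub (.node 299 .nil) .nil))))
def c75 : Cert := (.sub (.node 1684 (.sub (.node 740 (.sub (.node 1380 (.sub (.node 932 (.sub (.node 376 (.sub (.node 696 (.sub (.node 728 (.sub (.node 856 (.sub (.node 1432 (.sub (.node 488 (.sub (.node 1640 (.sub (.node 936 (.sub (.node 496 (.sub (.node 1264 (.sub (.node 1840 (.sub (.node 1984 (.sub (.goto [(8, 10), (9, 11)]) .nil)) .nil)) .nil)) .nil)) .nil)) .nil)) .nil)) .nil)) .nil)) .nil)) .nil)) .nil)) .nil)) .nil)) .nil)) .nil)) .nil)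
def c76 : Cert := (.sub (.node 722 (.sub (.node 1362 (.sub (.node 914 (.sub (.node 482 (.sub (.node 866 (.sub (.node 1698 (.sub (.node 124 (.sub (.node 316 (.sub (.node 572 (.sub (.node 1116 (.sub (.node 412 (.sub (.node 364 (.sub (.node 1196 (.sub (.node 460 (.sub (.node 716 (.sub (.node 1804 (.sub (.node 628 (.sub (.node 436 (.sub (.node 468 (.sub (.node 852 c75) .nil)) .nil)) .nil)) .nil)) .nil)) .nil)) .nil)) .nil)) .nil)) .nil)) .nil)) .nil)) .nil)) .nil)) .nil)) .nil)) .nil)) .nil)) .nil)) .nil)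
def c77 : Cert := (.sub (.node 1078 (.sub (.node 214 (.sub (.node 790 (.sub (.node 230 (.sub (.node 806 (.sub (.node 454 (.sub (.node 1606 (.sub (.node 1414 (.sub (.node 122 (.sub (.node 186 (.sub (.node 314 (.sub (.node 218 (.sub (.node 1562 (.sub (.node 234 (.sub (.node 1322 (.sub (.node 1226 (.sub (.node 842 (.sub (.node 906 (.sub (.node 626 (.sub (.node 434 c76) .nil)) .nil)) .nil)) .nil)) .nil)) .nil)) .nil)) .nil)) .nil)) .nil)) .nil)) .nil)) .nil)) .nil)) .nil)) .nil)) .nil)) .nil)) .nil)) .nil)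
def c78 : Cert := (.sub (.node 1353 (.sub (.node 1673 (.sub (.node 369 (.sub (.node 689 (.sub (.node 465 (.sub (.node 1617 (.sub (.node 913 (.sub (.node 737 (.sub (.node 865 (.sub (.node 1441 (.sub (.node 94 (.sub (.node 158 (.sub (.node 286 (.sub (.node 110 (.sub (.node 174 (.sub (.node 558 (.sub (.node 334 (.sub (.node 654 (.sub (.node 118 (.sub (.node 182 c77) .nil)) .nil)) .nil)) .nil)) .nil)) .nil)) .nil)) .nil)) .nil)) .nil)) .nil)) .nil)) .nil)) .nil)) .nil)) .nil)) .nil)) .nil)) .nil)) .nil)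
def c79 : Cert := (.sub (.node 589 (.sub (.node 397 (.sub (.node 117 (.sub (.node 181 (.sub (.node 309 (.sub (.node 213 (.sub (.node 1301 (.sub (.node 229 (.sub (.node 1573 (.sub (.node 1221 (.sub (.node 837 (.sub (.node 901 (.sub (.node 121 (.sub (.node 185 (.sub (.node 1081 (.sub (.node 217 (.sub (.node 793 (.sub (.node 233 (.sub (.node 809 (.sub (.node 457 c78) .nil)) .nil)) .nil)) .nil)) .nil)) .nil)) .nil)) .nil)) .nil)) .nil)) .nil)) .nil)) .nil)) .nil)) .nil)) .nil)) .nil)) .nil)) .nil)) .nil)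
def c80 : Cert := (.node 301 .nil)
def c81 : Cert := (.sub (.node 1684 (.sub (.node 740 (.sub (.node 1380 (.sub (.node 932 (.sub (.node 376 (.sub (.node 696 (.sub (.node 728 (.sub (.node 856 (.sub (.node 1432 (.sub (.node 488 (.sub (.node 1640 (.sub (.node 936 (.sub (.node 496 (.sub (.node 1264 (.sub (.node 1840 (.sub (.node 1984 (.sub (.goto [(6, 7)]) .nil)) .nil)) .nil)) .nil)) .nil)) .nil)) .nil)) .nil)) .nil)) .nil)) .nil)) .nil)) .nil)) .nil)) .nil)) .nil)) .nil)
def c82 : Cert := (.sub (.node 466 (.sub (.node 1618 (.sub (.node 914 (.sub (.node 738 (.sub (.node 866 (.sub (.node 1442 (.sub (.node 124 (.sub (.node 316 (.sub (.node 572 (.sub (.node 1116 (.sub (.node 412 (.sub (.node 364 (.sub (.node 1196 (.sub (.node 460 (.sub (.node 716 (.sub (.node 1804 (.sub (.node 628 (.sub (.node 436 (.sub (.node 468 (.sub (.node 852 c81) .nil)) .nil)) .nil)) .nil)) .nil)) .nil)) .nil)) .nil)) .nil)) .nil)) .nil)) .nil)) .nil)) .nil)) .nil)) .nil)) .nil))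 .nil)) .nil)) .nil)
def c83 : Cert := (.sub (.node 310 (.sub (.node 214 (.sub (.node 1302 (.sub (.node 230 (.sub (.node 1574 (.sub (.node 1222 (.sub (.node 838 (.sub (.node 902 (.sub (.node 122 (.sub (.node 186 (.sub (.node 1082 (.sub (.node 218 (.sub (.node 794 (.sub (.node 234 (.sub (.node 810 (.sub (.node 458 (.sub (.node 1354 (.sub (.node 1674 (.sub (.node 370 (.sub (.node 690 c82) .nil)) .nil)) .nil)) .nil)) .nil)) .nil)) .nil)) .nil)) .nil)) .nil)) .nil)) .nil)) .nil)) .nil)) .nil)) .nil)) .nil)) .nil)) .nil)) .nil)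
def c84 : Cert := (.sub (.node 841 (.sub (.node 905 (.sub (.node 625 (.sub (.node 433 (.sub (.node 721 (.sub (.node 1361 (.sub (.node 913 (.sub (.node 481 (.sub (.node 865 (.sub (.node 1697 (.sub (.node 94 (.sub (.node 158 (.sub (.node 542 (.sub (.node 110 (.sub (.node 174 (.sub (.node 302 (.sub (.node 590 (.sub (.node 398 (.sub (.node 118 (.sub (.node 182 c83) .nil)) .nil)) .nil)) .nil)) .nil)) .nil)) .nil)) .nil)) .nil)) .nil)) .nil)) .nil)) .nil)) .nil)) .nil)) .nil)) .nil)) .nil)) .nil)) .nil)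
def c85 : Cert := (.sub (.node 333 (.sub (.node 653 (.sub (.node 117 (.sub (.node 181 (.sub (.node 1077 (.sub (.node 213 (.sub (.node 789 (.sub (.node 229 (.sub (.node 805 (.sub (.node 453 (.sub (.node 1605 (.sub (.node 1413 (.sub (.node 121 (.sub (.node 185 (.sub (.node 313 (.sub (.node 217 (.sub (.node 1561 (.sub (.node 233 (.sub (.node 1321 (.sub (.node 1225 c84) .nil)) .nil)) .nil)) .nil)) .nil)) .nil)) .nil)) .nil)) .nil)) .nil)) .nil)) .nil)) .nil)) .nil)) .nil)) .nil)) .nil)) .nil)) .nil)) .nil)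
def c86 : Cert := (.node 301 .nil)
def c87 : Cert := (.node 555 (.sub (.node 587 (.sub (.node 395 (.sub (.node 115 (.sub (.node 307 (.sub (.node 1075 (.sub (.node 339 .nil) .nil)) (.sub (.node 563 (.sub (.node 339 (.sub (.node 1171 (.sub (.node 1123 (.sub (.node 419 (.sub (.node 451 (.sub (.node 707 (.sub (.node 1795 (.sub (.node 93 (.sub (.node 157 (.sub (.node 541 .nil) (.sub (.node 541 (.sub (.node 109 (.sub (.node 173 (.sub (.node 557 .nil) (.sub (.node 301 c79) .nil))) (.sub (.node 173 (.sub (.node 557 .nil) (.sub c80 .nil))) .nil))) .nil)) .nil))) (.sub (.node 157 (.sub (.node 285 (.sub (.node 109 (.sub (.node 173 (.sub (.node 557 .nil) (.sub (.node 301 .nil) .nil))) (.sub (.node 173 (.sub (.node 557 c85) (.sub c86 .nil))) .nil))) .nil)) (.sub (.node 285 .nil) .nil))) .nil))) .nil)) .nil)) .nil)) .nil)) .nil)) .nil)) .nil)) .nil)) .nil))) .nil)) .nil)) .nil)) .nil))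
def c88 : Cert := (.sub (.node 555 (.sub (.node 331 .nil) .nil)) .nil)
def cert : Cert := (.node 31 (.sub (.node 79 (.sub (.node 271 (.sub (.node 1039 (.sub (.node 87 (.sub (.node 151 (.sub (.node 1047 .nil) (.sub (.node 535 (.sub (.node 103 (.sub (.node 167 (.sub (.node 1063 .nil) (.sub (.node 295 (.sub (.node 1095 .nil) .nil)) .nil))) (.sub (.node 167 (.sub (.node 551 .nil) (.sub (.node 295 (.sub (.node 583 .nil) .nil)) (.sub (.node 295 .nil) .nil)))) (.sub (.node 167 (.sub (.node 551 (.sub (.node 583 .nil) .nil)) (.sub (.node 295 (.sub (.node 583 (.sub (.node 391 (.sub (.node 91 (.sub (.node 155 (.sub (.node 1051 .nil) (.sub (.node 283 (.sub (.node 107 (.sub (.node 171 (.sub (.node 555 c1) .nil)) (.sub (.node 171 (.sub c14 .nil)) .nil))) .nil)) .nil))) (.sub (.node 155 (.sub (.node 539 .nil) (.sub (.node 283 (.sub (.node 107 (.sub (.node 171 (.sub c15 c26)) (.sub (.node 171 c27) .nil))) .nil)) (.sub (.node 283 .nil) .nil)))) (.sub (.node 155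 (.sub (.node 539 (.sub (.node 107 (.sub (.node 171 (.sub c28 c29)) (.sub (.node 171 c40) (.sub c41 .nil)))) .nil)) (.sub (.node 283 (.sub (.node 107 (.sub (.node 171 c42) (.sub c43 c44))) .nil)) .nil))) .nil)))) .nil)) .nil)) .nil)) .nil))) .nil)))) .nil)) (.iso 1175 [(11, 10)] .nil)))) (.iso 343 [(9, 8)] (.sub (.node 151 (.sub (.node 535 (.sub (.node 103 (.sub (.node 167 (.sub (.node 1063 .nil) (.sub (.node 551 .nil) (.sub (.node 551 (.sub (.node 583 .nil) .nil)) .nil)))) (.sub (.node 167 (.sub (.node 295 (.sub (.node 327 .nil) .nil)) (.sub (.node 295 (.sub (.node 327 (.sub (.node 647 (.sub (.node 91 (.sub (.node 155 (.sub (.node 1051 .nil) (.sub (.node 539 .nil) (.sub (.node 539 (.sub (.node 107 (.sub (.node 171 (.sub c45 c56)) (.sub (.node 171 c57) .nil))) .nil)) .nil)))) (.sub (.node 155 (.sub (.node 283 (.sub (.node 107 (.sub (.node 171 (.sub (.node 1067 .nil) .nil)) (.sub (.node 171 (.sub c58 c59)) (.sub (.node 171 c70) .nil)))) .nil)) (.sub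 (.node 283 (.sub (.node 107 (.sub (.node 171 (.sub c71 c72)) (.sub (.node 171 c73) (.sub c74 .nil)))) .nil)) .nil))) (.sub (.node 155 (.sub (.node 283 (.sub (.node 107 (.sub (.node 171 (.sub c87 .nil)) (.sub (.node 171 c88) .nil))) .nil)) (.sub (.node 283 .nil) .nil))) .nil)))) .nil)) .nil)) .nil)) .nil))) (.sub (.node 167 (.sub (.node 295 (.sub (.node 327 .nil) .nil)) (.sub (.node 295 .nil) .nil))) .nil)))) .nil)) (.iso 407 [(9, 8)] (.sub (.node 279 .nil) .nil)))) (.iso 1111 [(11, 10)] .nil))))) .nil)) (.iso 783 [(10, 9)] (.iso 783 [(11, 9)] .nil)))) (.iso 207 [(8, 7)] (.iso 207 [(9, 7)] (.iso 207 [(10, 7)] (.iso 207 [(11, 7)] .nil)))))) (.iso 63 [(6, 5)] (.iso 63 [(7, 5)] (.iso 63 [(8, 5)] (.iso 63 [(9, 5)] (.iso 63 [(10, 5)] (.iso 63 [(11, 5)] .nil))))))))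

theorem base : PQ 12 5 6 (QM 12 5 (setOf' 12 B0)) B0 := PM_base (by decide +kernel)

theorem main : PQ 12 5 6 (QM 12 5 (setOf' 12 B0)) [] :=
  soundM (r := 1) (by norm_num) rfl base cert true [] [] [] (by decide +kernel)

end Cfsg.Agent.Lib.Helper3.Stq.M12
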