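import Cfsg.Agent.Lib.Helper3.StN22data

set_option autoImplicit false
set_option maxRecDepth 100000

namespace Cfsg.Agent.Lib.Helper3.Stq.N22

open Cfsg Cfsg.Agent.Lib.Helper3.Stq

def phAc1 : Cert := (.node 65584 (.sub (.node 16576 (.sub (.node 32960 (.sub (.node 1344 (.sub (.node 2368 (.sub (.node 1600 (.sub (.node 2624 (.sub (.node 1408 (.sub (.node 2432 (.sub (.node 1664 (.sub (.node 2688 (.sub (.node 17152 (.sub (.node 33536 (.sub (.node 19456 (.sub (.node 35840 (.sub (.node 28672 (.sub (.node 45056 (.sub (.goto []) .nil)) .nil)) .nil)) .nil)) .nil)) .nil)) .nil)) .nil)) .nil)) .nil)) .nil)) .nil)) .nil)) .nil)) .nil)) .nil)) .nil))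
def phAc2 : Cert := (.node 65548 (.sub (.node 84 (.sub (.node 148 (.sub (.node 1044 (.sub (.node 2068 (.sub (.node 100 (.sub (.node 164 (.sub (.node 1060 (.sub (.node 2084 (.sub (.node 88 (.sub (.node 152 (.sub (.node 1048 (.sub (.node 2072 (.sub (.node 104 (.sub (.node 168 (.sub (.node 1064 (.sub (.node 2088 (.sub (.node 112 (.sub (.node 304 (.sub (.node 16432 (.sub phAc1 .nil)) .nil)) .nil)) .nil)) .nil)) .nil)) .nil)) .nil)) .nil)) .nil)) .nil)) .nil)) .nil)) .nil)) .nil)) .nil)) .nil)) .nil)) .nil)) .nil))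
def phAc3 : Cert := (.sub (.node 2096 (.sub (.node 1216 (.sub (.node 2240 (.sub (.node 16704 (.sub (.node 33088 (.sub (.node 1600 (.sub (.node 4672 (.sub (.node 1408 (.sub (.node 4480 (.sub (.node 17024 (.sub (.node 33408 (.sub (.node 1792 (.sub (.node 2816 (.sub (.node 21504 (.sub (.node 70656 (.sub (.node 26624 (.sub (.node 75776 (.sub (.goto [(7, 8), (7, 9), (10, 14), (11, 16), (12, 17), (13, 15), (10, 18), (13, 20), (11, 21), (12, 19)]) .nil)) .nil)) .nil)) .nil)) .nil)) .nil)) .nil)) .nil)) .nil)) .nil)) .nil)) .nil)) .nil)) .nil)) .nil)) .nil)) .nil)) .nil)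
def phAc4 : Cert := (.sub (.node 2060 (.sub (.node 84 (.sub (.node 148 (.sub (.node 16404 (.sub (.node 32788 (.sub (.node 100 (.sub (.node 292 (.sub (.node 1060 (.sub (.node 4132 (.sub (.node 88 (.sub (.node 280 (.sub (.node 1048 (.sub (.node 4120 (.sub (.node 104 (.sub (.node 168 (.sub (.node 16424 (.sub (.node 32808 (.sub (.node 112 (.sub (.node 176 (.sub (.node 1072 phAc3) .nil)) .nil)) .nil)) .nil)) .nil)) .nil)) .nil)) .nil)) .nil)) .nil)) .nil)) .nil)) .nil)) .nil)) .nil)) .nil)) .nil)) .nil)) .nil)) .nil)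
def phAc5 : Cert := (.node 1072 (.sub (.node 2096 (.sub (.node 1216 (.sub (.node 2240 (.sub (.node 1344 (.sub (.node 4416 (.sub (.node 16960 (.sub (.node 66112 (.sub (.node 16768 (.sub (.node 65920 (.sub (.node 1664 (.sub (.node 4736 (.sub (.node 1792 (.sub (.node 2816 (.sub (.node 25600 (.sub (.node 41984 (.sub (.node 22528 (.sub (.node 38912 (.sub (.goto [(7, 9), (8, 7), (10, 18), (11, 21), (12, 19), (13, 20), (14, 10), (15, 13), (16, 11), (17, 12)]) .nil)) .nil)) .nil)) .nil)) .nil)) .nil)) .nil)) .nil)) .nil)) .nil)) .nil)) .nil)) .nil)) .nil)) .nil)) .nil)) .nil)) .nil))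
def phAc6 : Cert := (.node 1036 (.sub (.node 2060 (.sub (.node 84 (.sub (.node 276 (.sub (.node 1044 (.sub (.node 4116 (.sub (.node 100 (.sub (.node 164 (.sub (.node 16420 (.sub (.node 32804 (.sub (.node 88 (.sub (.node 152 (.sub (.node 16408 (.sub (.node 32792 (.sub (.node 104 (.sub (.node 296 (.sub (.node 1064 (.sub (.node 4136 (.sub (.node 112 (.sub (.node 176 (.sub phAc5 .nil)) .nil)) .nil)) .nil)) .nil)) .nil)) .nil)) .nil)) .nil)) .nil)) .nil)) .nil)) .nil)) .nil)) .nil)) .nil)) .nil)) .nil)) .nil)) .nil))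
def phAc7 : Cert := (.node 545 (.sub (.node 70 (.sub (.node 134 (.sub (.node 262 (.sub (.node 518 (.sub (.node 74 (.sub (.node 138 (.sub (.node 266 (.sub (.node 522 (.sub (.node 82 (.sub (.node 146 (.sub (.node 274 (.sub (.node 530 (.sub (.node 98 (.sub (.node 162 (.sub (.node 290 (.sub (.node 546 (.sub (.node 76 (.sub (.node 268 (.sub (.node 16396 (.sub phAc2 .nil)) .nil)) .nil)) .nil)) .nil)) .nil)) .nil)) .nil)) .nil)) .nil)) .nil)) .nil)) .nil)) .nil)) .nil)) .nil)) .nil)) .nil)) (.sub (.node 134 (.sub (.node 262 (.sub (.node 518 (.sub (.node 74 (.sub (.node 138 (.sub (.node 266 (.sub (.node 522 (.sub (.node 82 (.sub (.node 146 (.sub (.node 274 (.sub (.node 530 (.sub (.node 98 (.sub (.node 162 (.sub (.node 290 (.sub (.node 546 (.sub (.node 76 (.sub (.node 140 (.sub (.node 1036 phAc4) .nil)) .nil)) .nil)) .nil)) .nil)) .nil)) .nil)) .nil)) .nil)) .nil)) .nil)) .nil)) .nil)) .nil))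 .nil)) .nil)) .nil)) (.sub (.node 134 (.sub (.node 262 (.sub (.node 518 (.sub (.node 74 (.sub (.node 138 (.sub (.node 266 (.sub (.node 522 (.sub (.node 82 (.sub (.node 146 (.sub (.node 274 (.sub (.node 530 (.sub (.node 98 (.sub (.node 162 (.sub (.node 290 (.sub (.node 546 (.sub (.node 76 (.sub (.node 140 (.sub phAc6 .nil)) .nil)) .nil)) .nil)) .nil)) .nil)) .nil)) .nil)) .nil)) .nil)) .nil)) .nil)) .nil)) .nil)) .nil)) .nil)) .nil)) .nil)))) .nil))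
def phAc8 : Cert := (.sub (.node 65584 (.sub (.node 16576 (.sub (.node 32960 (.sub (.node 1344 (.sub (.node 2368 (.sub (.node 1600 (.sub (.node 2624 (.sub (.node 1408 (.sub (.node 2432 (.sub (.node 1664 (.sub (.node 2688 (.sub (.node 17152 (.sub (.node 33536 (.sub (.node 19456 (.sub (.node 35840 (.sub (.node 28672 (.sub (.node 45056 (.sub (.goto [(8, 9), (12, 13), (14, 18), (15, 19), (16, 21), (17, 20)]) .nil)) .nil)) .nil)) .nil)) .nil)) .nil)) .nil)) .nil)) .nil)) .nil)) .nil)) .nil)) .nil)) .nil)) .nil)) .nil)) .nil)) .nil)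
def phAc9 : Cert := (.sub (.node 65548 (.sub (.node 84 (.sub (.node 148 (.sub (.node 1044 (.sub (.node 2068 (.sub (.node 100 (.sub (.node 164 (.sub (.node 1060 (.sub (.node 2084 (.sub (.node 88 (.sub (.node 152 (.sub (.node 1048 (.sub (.node 2072 (.sub (.node 104 (.sub (.node 168 (.sub (.node 1064 (.sub (.node 2088 (.sub (.node 112 (.sub (.node 304 (.sub (.node 16432 phAc8) .nil)) .nil)) .nil)) .nil)) .nil)) .nil)) .nil)) .nil)) .nil)) .nil)) .nil)) .nil)) .nil)) .nil)) .nil)) .nil)) .nil)) .nil)) .nil)) .nil)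
def phAc10 : Cert := (.node 1072 (.sub (.node 2096 (.sub (.node 1216 (.sub (.node 2240 (.sub (.node 16704 (.sub (.node 33088 (.sub (.node 1600 (.sub (.node 4672 (.sub (.node 1408 (.sub (.node 4480 (.sub (.node 17024 (.sub (.node 33408 (.sub (.node 1792 (.sub (.node 2816 (.sub (.node 21504 (.sub (.node 70656 (.sub (.node 26624 (.sub (.node 75776 (.sub (.goto [(7, 9), (10, 18), (11, 21), (12, 20), (13, 19), (15, 17)]) .nil)) .nil)) .nil)) .nil)) .nil)) .nil)) .nil)) .nil)) .nil)) .nil)) .nil)) .nil)) .nil)) .nil)) .nil)) .nil)) .nil)) .nil))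
def phAc11 : Cert := (.node 1036 (.sub (.node 2060 (.sub (.node 84 (.sub (.node 276 (.sub (.node 1044 (.sub (.node 4116 (.sub (.node 100 (.sub (.node 164 (.sub (.node 16420 (.sub (.node 32804 (.sub (.node 88 (.sub (.node 152 (.sub (.node 16408 (.sub (.node 32792 (.sub (.node 104 (.sub (.node 296 (.sub (.node 1064 (.sub (.node 4136 (.sub (.node 112 (.sub (.node 176 (.sub phAc10 .nil)) .nil)) .nil)) .nil)) .nil)) .nil)) .nil)) .nil)) .nil)) .nil)) .nil)) .nil)) .nil)) .nil)) .nil)) .nil)) .nil)) .nil)) .nil)) .nil))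
def phAc12 : Cert := (.sub (.node 1072 (.sub (.node 2096 (.sub (.node 1216 (.sub (.node 2240 (.sub (.node 1344 (.sub (.node 4416 (.sub (.node 16960 (.sub (.node 66112 (.sub (.node 16768 (.sub (.node 65920 (.sub (.node 1664 (.sub (.node 4736 (.sub (.node 1792 (.sub (.node 2816 (.sub (.node 25600 (.sub (.node 41984 (.sub (.node 22528 (.sub (.node 38912 (.sub (.goto [(7, 8), (10, 14), (11, 16), (12, 15), (13, 17), (19, 20)]) .nil)) .nil)) .nil)) .nil)) .nil)) .nil)) .nil)) .nil)) .nil)) .nil)) .nil)) .nil)) .nil)) .nil)) .nil)) .nil)) .nil)) .nil)) .nil)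
def phAc13 : Cert := (.sub (.node 1036 (.sub (.node 2060 (.sub (.node 84 (.sub (.node 148 (.sub (.node 16404 (.sub (.node 32788 (.sub (.node 100 (.sub (.node 292 (.sub (.node 1060 (.sub (.node 4132 (.sub (.node 88 (.sub (.node 280 (.sub (.node 1048 (.sub (.node 4120 (.sub (.node 104 (.sub (.node 168 (.sub (.node 16424 (.sub (.node 32808 (.sub (.node 112 (.sub (.node 176 phAc12) .nil)) .nil)) .nil)) .nil)) .nil)) .nil)) .nil)) .nil)) .nil)) .nil)) .nil)) .nil)) .nil)) .nil)) .nil)) .nil)) .nil)) .nil)) .nil)) .nil)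
def phAc14 : Cert := (.sub (.node 545 (.sub (.node 70 (.sub (.node 134 (.sub (.node 262 (.sub (.node 518 (.sub (.node 74 (.sub (.node 138 (.sub (.node 266 (.sub (.node 522 (.sub (.node 82 (.sub (.node 146 (.sub (.node 274 (.sub (.node 530 (.sub (.node 98 (.sub (.node 162 (.sub (.node 290 (.sub (.node 546 (.sub (.node 76 (.sub (.node 268 (.sub (.node 16396 phAc9) .nil)) .nil)) .nil)) .nil)) .nil)) .nil)) .nil)) .nil)) .nil)) .nil)) .nil)) .nil)) .nil)) .nil)) .nil)) .nil)) .nil)) (.sub (.node 134 (.sub (.node 262 (.sub (.node 518 (.sub (.node 74 (.sub (.node 138 (.sub (.node 266 (.sub (.node 522 (.sub (.node 82 (.sub (.node 146 (.sub (.node 274 (.sub (.node 530 (.sub (.node 98 (.sub (.node 162 (.sub (.node 290 (.sub (.node 546 (.sub (.node 76 (.sub (.node 140 (.sub phAc11 .nil)) .nil)) .nil)) .nil)) .nil)) .nil)) .nil)) .nil)) .nil)) .nil)) .nil)) .nil)) .nil)) .nil)) .nil)) .nil))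 .nil)) (.sub (.node 134 (.sub (.node 262 (.sub (.node 518 (.sub (.node 74 (.sub (.node 138 (.sub (.node 266 (.sub (.node 522 (.sub (.node 82 (.sub (.node 146 (.sub (.node 274 (.sub (.node 530 (.sub (.node 98 (.sub (.node 162 (.sub (.node 290 (.sub (.node 546 (.sub (.node 76 (.sub (.node 140 phAc13) .nil)) .nil)) .nil)) .nil)) .nil)) .nil)) .nil)) .nil)) .nil)) .nil)) .nil)) .nil)) .nil)) .nil)) .nil)) .nil)) .nil)))) .nil)) .nil)
def phAc15 : Cert := (.node 16432 (.sub (.node 65584 (.sub (.node 16576 (.sub (.node 32960 (.sub (.node 1344 (.sub (.node 2368 (.sub (.node 1600 (.sub (.node 2624 (.sub (.node 1408 (.sub (.node 2432 (.sub (.node 1664 (.sub (.node 2688 (.sub (.node 17152 (.sub (.node 33536 (.sub (.node 19456 (.sub (.node 35840 (.sub (.node 28672 (.sub (.node 45056 (.sub (.goto [(14, 18), (15, 19), (16, 20), (17, 21)]) .nil)) .nil)) .nil)) .nil)) .nil)) .nil)) .nil)) .nil))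 .nil)) .nil)) .nil)) .nil)) .nil)) .nil)) .nil)) .nil)) .nil)) .nil))
def phAc16 : Cert := (.node 16396 (.sub (.node 65548 (.sub (.node 84 (.sub (.node 148 (.sub (.node 1044 (.sub (.node 2068 (.sub (.node 100 (.sub (.node 164 (.sub (.node 1060 (.sub (.node 2084 (.sub (.node 88 (.sub (.node 152 (.sub (.node 1048 (.sub (.node 2072 (.sub (.node 104 (.sub (.node 168 (.sub (.node 1064 (.sub (.node 2088 (.sub (.node 112 (.sub (.node 304 (.sub phAc15 .nil)) .nil)) .nil)) .nil)) .nil)) .nil)) .nil)) .nil)) .nil)) .nil)) .nil)) .nil)) .nil)) .nil)) .nil)) .nil)) .nil)) .nil)) .nil)) .nil))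
def phAc17 : Cert := (.sub (.node 1072 (.sub (.node 2096 (.sub (.node 1216 (.sub (.node 2240 (.sub (.node 16704 (.sub (.node 65856 (.sub (.node 1600 (.sub (.node 4672 (.sub (.node 1408 (.sub (.node 4480 (.sub (.node 17024 (.sub (.node 66176 (.sub (.node 1792 (.sub (.node 2816 (.sub (.node 21504 (.sub (.node 37888 (.sub (.node 26624 (.sub (.node 43008 (.sub (.goto [(7, 8), (7, 9), (10, 14), (11, 16), (12, 17), (13, 15), (13, 12), (11, 13), (19, 20), (19, 21)]) .nil)) .nil)) .nil)) .nil)) .nil)) .nil)) .nil)) .nil)) .nil)) .nil)) .nil)) .nil)) .nil)) .nil)) .nil)) .nil)) .nil)) .nil)) .nil)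
def phAc18 : Cert := (.sub (.node 1036 (.sub (.node 2060 (.sub (.node 84 (.sub (.node 148 (.sub (.node 16404 (.sub (.node 32788 (.sub (.node 100 (.sub (.node 292 (.sub (.node 1060 (.sub (.node 4132 (.sub (.node 88 (.sub (.node 280 (.sub (.node 1048 (.sub (.node 4120 (.sub (.node 104 (.sub (.node 168 (.sub (.node 16424 (.sub (.node 32808 (.sub (.node 112 (.sub (.node 176 phAc17) .nil)) .nil)) .nil)) .nil)) .nil)) .nil)) .nil)) .nil)) .nil)) .nil)) .nil)) .nil)) .nil)) .nil)) .nil)) .nil)) .nil)) .nil)) .nil)) .nil)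
def phAc19 : Cert := (.node 176 (.sub (.node 1072 (.sub (.node 2096 (.sub (.node 1216 (.sub (.node 2240 (.sub (.node 1344 (.sub (.node 4416 (.sub (.node 16960 (.sub (.node 33344 (.sub (.node 16768 (.sub (.node 33152 (.sub (.node 1664 (.sub (.node 4736 (.sub (.node 1792 (.sub (.node 2816 (.sub (.node 25600 (.sub (.node 74752 (.sub (.node 22528 (.sub (.node 71680 (.sub (.goto [(7, 9), (8, 7), (10, 18), (11, 21), (12, 19), (13, 20), (15, 17), (16, 15), (12, 13), (12, 11)]) .nil)) .nil)) .nil)) .nil)) .nil)) .nil)) .nil)) .nil)) .nil)) .nil)) .nil)) .nil)) .nil)) .nil)) .nil)) .nil)) .nil)) .nil)) .nil))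
def phAc20 : Cert := (.node 140 (.sub (.node 1036 (.sub (.node 2060 (.sub (.node 84 (.sub (.node 276 (.sub (.node 1044 (.sub (.node 4116 (.sub (.node 100 (.sub (.node 164 (.sub (.node 16420 (.sub (.node 32804 (.sub (.node 88 (.sub (.node 152 (.sub (.node 16408 (.sub (.node 32792 (.sub (.node 104 (.sub (.node 296 (.sub (.node 1064 (.sub (.node 4136 (.sub (.node 112 (.sub phAc19 .nil)) .nil)) .nil)) .nil)) .nil)) .nil)) .nil)) .nil)) .nil)) .nil)) .nil)) .nil)) .nil)) .nil)) .nil)) .nil)) .nil)) .nil)) .nil)) .nil))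
def phAc21 : Cert := (.node 289 (.sub (.node 545 (.sub (.node 70 (.sub (.node 134 (.sub (.node 262 (.sub (.node 518 (.sub (.node 74 (.sub (.node 138 (.sub (.node 266 (.sub (.node 522 (.sub (.node 82 (.sub (.node 146 (.sub (.node 274 (.sub (.node 530 (.sub (.node 98 (.sub (.node 162 (.sub (.node 290 (.sub (.node 546 (.sub (.node 76 (.sub (.node 268 (.sub phAc16 .nil)) .nil)) .nil)) .nil)) .nil)) .nil)) .nil)) .nil)) .nil)) .nil)) .nil)) .nil)) .nil)) .nil)) .nil)) .nil)) .nil)) (.sub (.node 134 (.sub (.node 262 (.sub (.node 518 (.sub (.node 74 (.sub (.node 138 (.sub (.node 266 (.sub (.node 522 (.sub (.node 82 (.sub (.node 146 (.sub (.node 274 (.sub (.node 530 (.sub (.node 98 (.sub (.node 162 (.sub (.node 290 (.sub (.node 546 (.sub (.node 76 (.sub (.node 140 phAc18) .nil)) .nil)) .nil)) .nil)) .nil)) .nil)) .nil)) .nil)) .nil)) .nil)) .nil)) .nil)) .nil)) .nil)) .nil)) .nil)) (.sub (.node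 134 (.sub (.node 262 (.sub (.node 518 (.sub (.node 74 (.sub (.node 138 (.sub (.node 266 (.sub (.node 522 (.sub (.node 82 (.sub (.node 146 (.sub (.node 274 (.sub (.node 530 (.sub (.node 98 (.sub (.node 162 (.sub (.node 290 (.sub (.node 546 (.sub (.node 76 (.sub phAc20 .nil)) .nil)) .nil)) .nil)) .nil)) .nil)) .nil)) .nil)) .nil)) .nil)) .nil)) .nil)) .nil)) .nil)) .nil)) .nil)) .nil)))) .nil)) .nil))
def phAc22 : Cert := (.sub (.node 16432 (.sub (.node 65584 (.sub (.node 16576 (.sub (.node 32960 (.sub (.node 1344 (.sub (.node 2368 (.sub (.node 1600 (.sub (.node 2624 (.sub (.node 1408 (.sub (.node 2432 (.sub (.node 1664 (.sub (.node 2688 (.sub (.node 17152 (.sub (.node 33536 (.sub (.node 19456 (.sub (.node 35840 (.sub (.node 28672 (.sub (.node 45056 (.sub (.goto [(8, 9), (12, 13), (16, 17), (20, 21)]) .nil)) .nil)) .nil)) .nil)) .nil)) .nil)) .nil)) .nil)) .nil)) .nil)) .nil)) .nil))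 .nil)) .nil)) .nil)) .nil)) .nil)) .nil)) .nil)
def phAc23 : Cert := (.sub (.node 16396 (.sub (.node 65548 (.sub (.node 84 (.sub (.node 148 (.sub (.node 1044 (.sub (.node 2068 (.sub (.node 100 (.sub (.node 164 (.sub (.node 1060 (.sub (.node 2084 (.sub (.node 88 (.sub (.node 152 (.sub (.node 1048 (.sub (.node 2072 (.sub (.node 104 (.sub (.node 168 (.sub (.node 1064 (.sub (.node 2088 (.sub (.node 112 (.sub (.node 304 phAc22) .nil)) .nil)) .nil)) .nil)) .nil)) .nil)) .nil)) .nil)) .nil)) .nil)) .nil)) .nil)) .nil)) .nil)) .nil)) .nil)) .nil)) .nil)) .nil)) .nil)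
def phAc24 : Cert := (.node 176 (.sub (.node 1072 (.sub (.node 2096 (.sub (.node 1216 (.sub (.node 2240 (.sub (.node 16704 (.sub (.node 65856 (.sub (.node 1600 (.sub (.node 4672 (.sub (.node 1408 (.sub (.node 4480 (.sub (.node 17024 (.sub (.node 66176 (.sub (.node 1792 (.sub (.node 2816 (.sub (.node 21504 (.sub (.node 37888 (.sub (.node 26624 (.sub (.node 43008 (.sub (.goto [(7, 9), (10, 18), (11, 21), (12, 20), (13, 19), (14, 10), (15, 13), (16, 12), (17, 11), (15, 17)]) .nil)) .nil)) .nil)) .nil)) .nil)) .nil)) .nil)) .nil)) .nil)) .nil)) .nil)) .nil)) .nil)) .nil)) .nil)) .nil)) .nil)) .nil)) .nil))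
def phAc25 : Cert := (.node 140 (.sub (.node 1036 (.sub (.node 2060 (.sub (.node 84 (.sub (.node 276 (.sub (.node 1044 (.sub (.node 4116 (.sub (.node 100 (.sub (.node 164 (.sub (.node 16420 (.sub (.node 32804 (.sub (.node 88 (.sub (.node 152 (.sub (.node 16408 (.sub (.node 32792 (.sub (.node 104 (.sub (.node 296 (.sub (.node 1064 (.sub (.node 4136 (.sub (.node 112 (.sub phAc24 .nil)) .nil)) .nil)) .nil)) .nil)) .nil)) .nil)) .nil)) .nil)) .nil)) .nil)) .nil)) .nil)) .nil)) .nil)) .nil)) .nil)) .nil)) .nil)) .nil))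
def phAc26 : Cert := (.sub (.node 176 (.sub (.node 1072 (.sub (.node 2096 (.sub (.node 1216 (.sub (.node 2240 (.sub (.node 1344 (.sub (.node 4416 (.sub (.node 16960 (.sub (.node 33344 (.sub (.node 16768 (.sub (.node 33152 (.sub (.node 1664 (.sub (.node 4736 (.sub (.node 1792 (.sub (.node 2816 (.sub (.node 25600 (.sub (.node 74752 (.sub (.node 22528 (.sub (.node 71680 (.sub (.goto [(7, 8), (10, 14), (11, 16), (12, 15), (13, 17), (10, 18), (12, 20), (11, 19), (13, 21), (11, 12)]) .nil)) .nil)) .nil)) .nil)) .nil)) .nil)) .nil)) .nil)) .nil)) .nil)) .nil)) .nil)) .nil)) .nil)) .nil)) .nil)) .nil)) .nil)) .nil)) .nil)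
def phAc27 : Cert := (.sub (.node 140 (.sub (.node 1036 (.sub (.node 2060 (.sub (.node 84 (.sub (.node 148 (.sub (.node 16404 (.sub (.node 32788 (.sub (.node 100 (.sub (.node 292 (.sub (.node 1060 (.sub (.node 4132 (.sub (.node 88 (.sub (.node 280 (.sub (.node 1048 (.sub (.node 4120 (.sub (.node 104 (.sub (.node 168 (.sub (.node 16424 (.sub (.node 32808 (.sub (.node 112 phAc26) .nil)) .nil)) .nil)) .nil)) .nil)) .nil)) .nil)) .nil)) .nil)) .nil)) .nil)) .nil)) .nil)) .nil)) .nil)) .nil)) .nil)) .nil)) .nil)) .nil)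
def phAc28 : Cert := (.sub (.node 289 (.sub (.node 545 (.sub (.node 70 (.sub (.node 134 (.sub (.node 262 (.sub (.node 518 (.sub (.node 74 (.sub (.node 138 (.sub (.node 266 (.sub (.node 522 (.sub (.node 82 (.sub (.node 146 (.sub (.node 274 (.sub (.node 530 (.sub (.node 98 (.sub (.node 162 (.sub (.node 290 (.sub (.node 546 (.sub (.node 76 (.sub (.node 268 phAc23) .nil)) .nil)) .nil)) .nil)) .nil)) .nil)) .nil)) .nil)) .nil)) .nil)) .nil)) .nil)) .nil)) .nil)) .nil)) .nil)) (.sub (.node 134 (.sub (.node 262 (.sub (.node 518 (.sub (.node 74 (.sub (.node 138 (.sub (.node 266 (.sub (.node 522 (.sub (.node 82 (.sub (.node 146 (.sub (.node 274 (.sub (.node 530 (.sub (.node 98 (.sub (.node 162 (.sub (.node 290 (.sub (.node 546 (.sub (.node 76 (.sub phAc25 .nil)) .nil)) .nil)) .nil)) .nil)) .nil)) .nil)) .nil)) .nil)) .nil)) .nil)) .nil)) .nil)) .nil)) .nil)) .nil)) (.sub (.node 134 (.sub (.node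 262 (.sub (.node 518 (.sub (.node 74 (.sub (.node 138 (.sub (.node 266 (.sub (.node 522 (.sub (.node 82 (.sub (.node 146 (.sub (.node 274 (.sub (.node 530 (.sub (.node 98 (.sub (.node 162 (.sub (.node 290 (.sub (.node 546 (.sub (.node 76 phAc27) .nil)) .nil)) .nil)) .nil)) .nil)) .nil)) .nil)) .nil)) .nil)) .nil)) .nil)) .nil)) .nil)) .nil)) .nil)) .nil)))) .nil)) .nil)) .nil)
def phAc29 : Cert := (.sub (.node 1072 (.sub (.node 2096 (.sub (.node 16576 (.sub (.node 32960 (.sub (.node 1344 (.sub (.node 2368 (.sub (.node 1600 (.sub (.node 2624 (.sub (.node 1408 (.sub (.node 2432 (.sub (.node 1664 (.sub (.node 2688 (.sub (.node 17152 (.sub (.node 33536 (.sub (.node 19456 (.sub (.node 35840 (.sub (.node 28672 (.sub (.node 45056 (.sub (.goto [(7, 9), (10, 14), (11, 17), (12, 16), (13, 15), (10, 18), (13, 21), (12, 20), (11, 19), (11, 13)]) .nil)) .nil)) .nil)) .nil)) .nil)) .nil)) .nil))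 .nil)) .nil)) .nil)) .nil)) .nil)) .nil)) .nil)) .nil)) .nil)) .nil)) .nil)) .nil)
def phAc30 : Cert := (.sub (.node 1036 (.sub (.node 2060 (.sub (.node 84 (.sub (.node 276 (.sub (.node 16404 (.sub (.node 65556 (.sub (.node 100 (.sub (.node 164 (.sub (.node 1060 (.sub (.node 2084 (.sub (.node 88 (.sub (.node 152 (.sub (.node 1048 (.sub (.node 2072 (.sub (.node 104 (.sub (.node 296 (.sub (.node 16424 (.sub (.node 65576 (.sub (.node 112 (.sub (.node 176 phAc29) .nil)) .nil)) .nil)) .nil)) .nil)) .nil)) .nil)) .nil)) .nil)) .nil)) .nil)) .nil)) .nil)) .nil)) .nil)) .nil)) .nil)) .nil)) .nil)) .nil)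
def phAc31 : Cert := (.node 176 (.sub (.node 16432 (.sub (.node 32816 (.sub (.node 1216 (.sub (.node 2240 (.sub (.node 16704 (.sub (.node 65856 (.sub (.node 1600 (.sub (.node 4672 (.sub (.node 1408 (.sub (.node 4480 (.sub (.node 17024 (.sub (.node 66176 (.sub (.node 1792 (.sub (.node 2816 (.sub (.node 21504 (.sub (.node 37888 (.sub (.node 26624 (.sub (.node 43008 (.sub (.goto [(7, 8), (11, 12), (15, 16), (19, 20)]) .nil)) .nil)) .nil)) .nil)) .nil)) .nil)) .nil)) .nil)) .nil)) .nil)) .nil)) .nil)) .nil)) .nil)) .nil)) .nil)) .nil)) .nil)) .nil))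
def phAc32 : Cert := (.node 140 (.sub (.node 16396 (.sub (.node 32780 (.sub (.node 84 (.sub (.node 148 (.sub (.node 1044 (.sub (.node 2068 (.sub (.node 100 (.sub (.node 292 (.sub (.node 1060 (.sub (.node 4132 (.sub (.node 88 (.sub (.node 280 (.sub (.node 1048 (.sub (.node 4120 (.sub (.node 104 (.sub (.node 168 (.sub (.node 1064 (.sub (.node 2088 (.sub (.node 112 (.sub phAc31 .nil)) .nil)) .nil)) .nil)) .nil)) .nil)) .nil)) .nil)) .nil)) .nil)) .nil)) .nil)) .nil)) .nil)) .nil)) .nil)) .nil)) .nil)) .nil)) .nil))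
def phAc33 : Cert := (.sub (.node 304 (.sub (.node 1072 (.sub (.node 4144 (.sub (.node 1216 (.sub (.node 2240 (.sub (.node 1344 (.sub (.node 4416 (.sub (.node 16960 (.sub (.node 33344 (.sub (.node 16768 (.sub (.node 33152 (.sub (.node 1664 (.sub (.node 4736 (.sub (.node 1792 (.sub (.node 2816 (.sub (.node 25600 (.sub (.node 74752 (.sub (.node 22528 (.sub (.node 71680 (.sub (.goto [(8, 9), (10, 18), (11, 19), (12, 21), (13, 20), (14, 10), (15, 11), (16, 13), (17, 12), (16, 17)]) .nil)) .nil)) .nil)) .nil)) .nil)) .nil)) .nil)) .nil)) .nil)) .nil)) .nil)) .nil)) .nil)) .nil)) .nil)) .nil)) .nil)) .nil)) .nil)) .nil)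
def phAc34 : Cert := (.sub (.node 268 (.sub (.node 1036 (.sub (.node 4108 (.sub (.node 84 (.sub (.node 148 (.sub (.node 1044 (.sub (.node 2068 (.sub (.node 100 (.sub (.node 164 (.sub (.node 16420 (.sub (.node 32804 (.sub (.node 88 (.sub (.node 152 (.sub (.node 16408 (.sub (.node 32792 (.sub (.node 104 (.sub (.node 168 (.sub (.node 1064 (.sub (.node 2088 (.sub (.node 112 phAc33) .nil)) .nil)) .nil)) .nil)) .nil)) .nil)) .nil)) .nil)) .nil)) .nil)) .nil)) .nil)) .nil)) .nil)) .nil)) .nil)) .nil)) .nil)) .nil)) .nil)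
def phAc35 : Cert := (.sub (.node 289 (.sub (.node 545 (.sub (.node 70 (.sub (.node 134 (.sub (.node 262 (.sub (.node 518 (.sub (.node 74 (.sub (.node 138 (.sub (.node 266 (.sub (.node 522 (.sub (.node 82 (.sub (.node 146 (.sub (.node 274 (.sub (.node 530 (.sub (.node 98 (.sub (.node 162 (.sub (.node 290 (.sub (.node 546 (.sub (.node 76 (.sub (.node 140 phAc30) .nil)) .nil)) .nil)) .nil)) .nil)) .nil)) .nil)) .nil)) .nil)) .nil)) .nil)) .nil)) .nil)) .nil)) .nil)) .nil)) (.sub (.node 134 (.sub (.node 262 (.sub (.node 518 (.sub (.node 74 (.sub (.node 138 (.sub (.node 266 (.sub (.node 522 (.sub (.node 82 (.sub (.node 146 (.sub (.node 274 (.sub (.node 530 (.sub (.node 98 (.sub (.node 162 (.sub (.node 290 (.sub (.node 546 (.sub (.node 76 (.sub phAc32 .nil)) .nil)) .nil)) .nil)) .nil)) .nil)) .nil)) .nil)) .nil)) .nil)) .nil)) .nil)) .nil)) .nil)) .nil)) .nil)) (.sub (.node 134 (.sub (.node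 262 (.sub (.node 518 (.sub (.node 74 (.sub (.node 138 (.sub (.node 266 (.sub (.node 522 (.sub (.node 82 (.sub (.node 146 (.sub (.node 274 (.sub (.node 530 (.sub (.node 98 (.sub (.node 162 (.sub (.node 290 (.sub (.node 546 (.sub (.node 76 phAc34) .nil)) .nil)) .nil)) .nil)) .nil)) .nil)) .nil)) .nil)) .nil)) .nil)) .nil)) .nil)) .nil)) .nil)) .nil)) .nil)))) .nil)) .nil)) .nil)
def phAc36 : Cert := (.node 176 (.sub (.node 1072 (.sub (.node 2096 (.sub (.node 16576 (.sub (.node 32960 (.sub (.node 1344 (.sub (.node 2368 (.sub (.node 1600 (.sub (.node 2624 (.sub (.node 1408 (.sub (.node 2432 (.sub (.node 1664 (.sub (.node 2688 (.sub (.node 17152 (.sub (.node 33536 (.sub (.node 19456 (.sub (.node 35840 (.sub (.node 28672 (.sub (.node 45056 (.sub (.goto [(7, 8), (7, 9), (10, 18), (11, 20), (12, 21), (13, 19), (15, 16), (15, 17), (13, 12), (11, 13)]) .nil)) .nil)) .nil)) .nil)) .nil)) .nil))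 .nil)) .nil)) .nil)) .nil)) .nil)) .nil)) .nil)) .nil)) .nil)) .nil)) .nil)) .nil)) .nil))
def phAc37 : Cert := (.node 140 (.sub (.node 1036 (.sub (.node 2060 (.sub (.node 84 (.sub (.node 148 (.sub (.node 1044 (.sub (.node 2068 (.sub (.node 100 (.sub (.node 292 (.sub (.node 16420 (.sub (.node 65572 (.sub (.node 88 (.sub (.node 280 (.sub (.node 16408 (.sub (.node 65560 (.sub (.node 104 (.sub (.node 168 (.sub (.node 1064 (.sub (.node 2088 (.sub (.node 112 (.sub phAc36 .nil)) .nil)) .nil)) .nil)) .nil)) .nil)) .nil)) .nil)) .nil)) .nil)) .nil)) .nil)) .nil)) .nil)) .nil)) .nil)) .nil)) .nil)) .nil)) .nil))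
def phAc38 : Cert := (.sub (.node 176 (.sub (.node 16432 (.sub (.node 32816 (.sub (.node 1216 (.sub (.node 2240 (.sub (.node 16704 (.sub (.node 65856 (.sub (.node 1600 (.sub (.node 4672 (.sub (.node 1408 (.sub (.node 4480 (.sub (.node 17024 (.sub (.node 66176 (.sub (.node 1792 (.sub (.node 2816 (.sub (.node 21504 (.sub (.node 37888 (.sub (.node 26624 (.sub (.node 43008 (.sub (.goto [(7, 9), (8, 7), (11, 13), (12, 11), (14, 18), (15, 21), (16, 19), (17, 20), (16, 17), (16, 15)]) .nil)) .nil)) .nil)) .nil)) .nil)) .nil)) .nil)) .nil)) .nil)) .nil)) .nil)) .nil)) .nil)) .nil)) .nil)) .nil)) .nil)) .nil)) .nil)) .nil)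
def phAc39 : Cert := (.sub (.node 140 (.sub (.node 16396 (.sub (.node 32780 (.sub (.node 84 (.sub (.node 276 (.sub (.node 1044 (.sub (.node 4116 (.sub (.node 100 (.sub (.node 164 (.sub (.node 1060 (.sub (.node 2084 (.sub (.node 88 (.sub (.node 152 (.sub (.node 1048 (.sub (.node 2072 (.sub (.node 104 (.sub (.node 296 (.sub (.node 1064 (.sub (.node 4136 (.sub (.node 112 phAc38) .nil)) .nil)) .nil)) .nil)) .nil)) .nil)) .nil)) .nil)) .nil)) .nil)) .nil)) .nil)) .nil)) .nil)) .nil)) .nil)) .nil)) .nil)) .nil)) .nil)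
def phAc40 : Cert := (.goto [(10, 14), (11, 15), (12, 16), (13, 17)])
def phAc41 : Cert := (.node 112 (.sub (.node 304 (.sub (.node 1072 (.sub (.node 4144 (.sub (.node 1216 (.sub (.node 2240 (.sub (.node 1344 (.sub (.node 4416 (.sub (.node 16960 (.sub (.node 33344 (.sub (.node 16768 (.sub (.node 33152 (.sub (.node 1664 (.sub (.node 4736 (.sub (.node 1792 (.sub (.node 2816 (.sub (.node 25600 (.sub (.node 74752 (.sub (.node 22528 (.sub (.node 71680 (.sub phAc40 .nil)) .nil)) .nil)) .nil)) .nil)) .nil)) .nil)) .nil)) .nil)) .nil)) .nil)) .nil)) .nil)) .nil)) .nil)) .nil)) .nil)) .nil)) .nil)) .nil))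
def phAc42 : Cert := (.node 76 (.sub (.node 268 (.sub (.node 1036 (.sub (.node 4108 (.sub (.node 84 (.sub (.node 148 (.sub (.node 16404 (.sub (.node 32788 (.sub (.node 100 (.sub (.node 164 (.sub (.node 1060 (.sub (.node 2084 (.sub (.node 88 (.sub (.node 152 (.sub (.node 1048 (.sub (.node 2072 (.sub (.node 104 (.sub (.node 168 (.sub (.node 16424 (.sub (.node 32808 (.sub phAc41 .nil)) .nil)) .nil)) .nil)) .nil)) .nil)) .nil)) .nil)) .nil)) .nil)) .nil)) .nil)) .nil)) .nil)) .nil)) .nil)) .nil)) .nil)) .nil)) .nil))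
def phAc43 : Cert := (.node 161 (.sub (.node 289 (.sub (.node 545 (.sub (.node 70 (.sub (.node 134 (.sub (.node 262 (.sub (.node 518 (.sub (.node 74 (.sub (.node 138 (.sub (.node 266 (.sub (.node 522 (.sub (.node 82 (.sub (.node 146 (.sub (.node 274 (.sub (.node 530 (.sub (.node 98 (.sub (.node 162 (.sub (.node 290 (.sub (.node 546 (.sub (.node 76 (.sub phAc37 .nil)) .nil)) .nil)) .nil)) .nil)) .nil)) .nil)) .nil)) .nil)) .nil)) .nil)) .nil)) .nil)) .nil)) .nil)) .nil)) (.sub (.node 134 (.sub (.node 262 (.sub (.node 518 (.sub (.node 74 (.sub (.node 138 (.sub (.node 266 (.sub (.node 522 (.sub (.node 82 (.sub (.node 146 (.sub (.node 274 (.sub (.node 530 (.sub (.node 98 (.sub (.node 162 (.sub (.node 290 (.sub (.node 546 (.sub (.node 76 phAc39) .nil)) .nil)) .nil)) .nil)) .nil)) .nil)) .nil)) .nil)) .nil)) .nil)) .nil)) .nil)) .nil)) .nil)) .nil)) (.sub (.node 134 (.sub (.node 262 (.sub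 (.node 518 (.sub (.node 74 (.sub (.node 138 (.sub (.node 266 (.sub (.node 522 (.sub (.node 82 (.sub (.node 146 (.sub (.node 274 (.sub (.node 530 (.sub (.node 98 (.sub (.node 162 (.sub (.node 290 (.sub (.node 546 (.sub phAc42 .nil)) .nil)) .nil)) .nil)) .nil)) .nil)) .nil)) .nil)) .nil)) .nil)) .nil)) .nil)) .nil)) .nil)) .nil)) .nil)))) .nil)) .nil)) .nil))
def phAc44 : Cert := (.sub (.node 176 (.sub (.node 1072 (.sub (.node 2096 (.sub (.node 16576 (.sub (.node 32960 (.sub (.node 1344 (.sub (.node 2368 (.sub (.node 1600 (.sub (.node 2624 (.sub (.node 1408 (.sub (.node 2432 (.sub (.node 1664 (.sub (.node 2688 (.sub (.node 17152 (.sub (.node 33536 (.sub (.node 19456 (.sub (.node 35840 (.sub (.node 28672 (.sub (.node 45056 (.sub (.goto [(7, 9), (10, 14), (11, 17), (12, 16), (13, 15), (19, 21)]) .nil)) .nil)) .nil)) .nil)) .nil)) .nil)) .nil)) .nil)) .nil)) .nil)) .nil)) .nil)) .nil))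 .nil)) .nil)) .nil)) .nil)) .nil)) .nil)) .nil)
def phAc45 : Cert := (.sub (.node 140 (.sub (.node 1036 (.sub (.node 2060 (.sub (.node 84 (.sub (.node 276 (.sub (.node 16404 (.sub (.node 65556 (.sub (.node 100 (.sub (.node 164 (.sub (.node 1060 (.sub (.node 2084 (.sub (.node 88 (.sub (.node 152 (.sub (.node 1048 (.sub (.node 2072 (.sub (.node 104 (.sub (.node 296 (.sub (.node 16424 (.sub (.node 65576 (.sub (.node 112 phAc44) .nil)) .nil)) .nil)) .nil)) .nil)) .nil)) .nil)) .nil)) .nil)) .nil)) .nil)) .nil)) .nil)) .nil)) .nil)) .nil)) .nil)) .nil)) .nil)) .nil)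
def phAc46 : Cert := (.goto [(7, 8), (11, 12), (14, 18), (15, 20), (16, 19), (17, 21)])
def phAc47 : Cert := (.node 112 (.sub (.node 176 (.sub (.node 16432 (.sub (.node 32816 (.sub (.node 1216 (.sub (.node 2240 (.sub (.node 16704 (.sub (.node 33088 (.sub (.node 1600 (.sub (.node 4672 (.sub (.node 1408 (.sub (.node 4480 (.sub (.node 17024 (.sub (.node 33408 (.sub (.node 1792 (.sub (.node 2816 (.sub (.node 21504 (.sub (.node 70656 (.sub (.node 26624 (.sub (.node 75776 (.sub phAc46 .nil)) .nil)) .nil)) .nil)) .nil)) .nil)) .nil)) .nil)) .nil)) .nil)) .nil)) .nil)) .nil)) .nil)) .nil)) .nil)) .nil)) .nil)) .nil)) .nil))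
def phAc48 : Cert := (.node 76 (.sub (.node 140 (.sub (.node 16396 (.sub (.node 32780 (.sub (.node 84 (.sub (.node 148 (.sub (.node 1044 (.sub (.node 2068 (.sub (.node 100 (.sub (.node 292 (.sub (.node 1060 (.sub (.node 4132 (.sub (.node 88 (.sub (.node 280 (.sub (.node 1048 (.sub (.node 4120 (.sub (.node 104 (.sub (.node 168 (.sub (.node 1064 (.sub (.node 2088 (.sub phAc47 .nil)) .nil)) .nil)) .nil)) .nil)) .nil)) .nil)) .nil)) .nil)) .nil)) .nil)) .nil)) .nil)) .nil)) .nil)) .nil)) .nil)) .nil)) .nil)) .nil))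
def phAc49 : Cert := (.sub (.goto [(8, 9), (10, 18), (11, 19), (12, 21), (13, 20), (16, 17)]) .nil)
def phAc50 : Cert := (.sub (.node 112 (.sub (.node 304 (.sub (.node 1072 (.sub (.node 4144 (.sub (.node 1216 (.sub (.node 2240 (.sub (.node 1344 (.sub (.node 4416 (.sub (.node 16960 (.sub (.node 66112 (.sub (.node 16768 (.sub (.node 65920 (.sub (.node 1664 (.sub (.node 4736 (.sub (.node 1792 (.sub (.node 2816 (.sub (.node 25600 (.sub (.node 41984 (.sub (.node 22528 (.sub (.node 38912 phAc49) .nil)) .nil)) .nil)) .nil)) .nil)) .nil)) .nil)) .nil)) .nil)) .nil)) .nil)) .nil)) .nil)) .nil)) .nil)) .nil)) .nil)) .nil)) .nil)) .nil)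
def phAc51 : Cert := (.sub (.node 76 (.sub (.node 268 (.sub (.node 1036 (.sub (.node 4108 (.sub (.node 84 (.sub (.node 148 (.sub (.node 1044 (.sub (.node 2068 (.sub (.node 100 (.sub (.node 164 (.sub (.node 16420 (.sub (.node 32804 (.sub (.node 88 (.sub (.node 152 (.sub (.node 16408 (.sub (.node 32792 (.sub (.node 104 (.sub (.node 168 (.sub (.node 1064 (.sub (.node 2088 phAc50) .nil)) .nil)) .nil)) .nil)) .nil)) .nil)) .nil)) .nil)) .nil)) .nil)) .nil)) .nil)) .nil)) .nil)) .nil)) .nil)) .nil)) .nil)) .nil)) .nil)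
def phAc52 : Cert := (.sub (.node 161 (.sub (.node 289 (.sub (.node 545 (.sub (.node 70 (.sub (.node 134 (.sub (.node 262 (.sub (.node 518 (.sub (.node 74 (.sub (.node 138 (.sub (.node 266 (.sub (.node 522 (.sub (.node 82 (.sub (.node 146 (.sub (.node 274 (.sub (.node 530 (.sub (.node 98 (.sub (.node 162 (.sub (.node 290 (.sub (.node 546 (.sub (.node 76 phAc45) .nil)) .nil)) .nil)) .nil)) .nil)) .nil)) .nil)) .nil)) .nil)) .nil)) .nil)) .nil)) .nil)) .nil)) .nil)) (.sub (.node 134 (.sub (.node 262 (.sub (.node 518 (.sub (.node 74 (.sub (.node 138 (.sub (.node 266 (.sub (.node 522 (.sub (.node 82 (.sub (.node 146 (.sub (.node 274 (.sub (.node 530 (.sub (.node 98 (.sub (.node 162 (.sub (.node 290 (.sub (.node 546 (.sub phAc48 .nil)) .nil)) .nil)) .nil)) .nil)) .nil)) .nil)) .nil)) .nil)) .nil)) .nil)) .nil)) .nil)) .nil)) .nil)) (.sub (.node 134 (.sub (.node 262 (.sub (.node 518 (.sub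 (.node 74 (.sub (.node 138 (.sub (.node 266 (.sub (.node 522 (.sub (.node 82 (.sub (.node 146 (.sub (.node 274 (.sub (.node 530 (.sub (.node 98 (.sub (.node 162 (.sub (.node 290 (.sub (.node 546 phAc51) .nil)) .nil)) .nil)) .nil)) .nil)) .nil)) .nil)) .nil)) .nil)) .nil)) .nil)) .nil)) .nil)) .nil)) .nil)))) .nil)) .nil)) .nil)) .nil)
def phAc53 : Cert := (.goto [(7, 8), (7, 9), (10, 18), (11, 20), (12, 21), (13, 19), (14, 10), (15, 12), (16, 13), (17, 11)])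
def phAc54 : Cert := (.node 112 (.sub (.node 176 (.sub (.node 1072 (.sub (.node 2096 (.sub (.node 16576 (.sub (.node 32960 (.sub (.node 1344 (.sub (.node 2368 (.sub (.node 1600 (.sub (.node 2624 (.sub (.node 1408 (.sub (.node 2432 (.sub (.node 1664 (.sub (.node 2688 (.sub (.node 17152 (.sub (.node 33536 (.sub (.node 19456 (.sub (.node 35840 (.sub (.node 28672 (.sub (.node 45056 (.sub phAc53 .nil)) .nil)) .nil)) .nil)) .nil)) .nil)) .nil)) .nil)) .nil)) .nil)) .nil)) .nil)) .nil)) .nil)) .nil)) .nil)) .nil)) .nil)) .nil)) .nil))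
def phAc55 : Cert := (.node 76 (.sub (.node 140 (.sub (.node 1036 (.sub (.node 2060 (.sub (.node 84 (.sub (.node 148 (.sub (.node 1044 (.sub (.node 2068 (.sub (.node 100 (.sub (.node 292 (.sub (.node 16420 (.sub (.node 65572 (.sub (.node 88 (.sub (.node 280 (.sub (.node 16408 (.sub (.node 65560 (.sub (.node 104 (.sub (.node 168 (.sub (.node 1064 (.sub (.node 2088 (.sub phAc54 .nil)) .nil)) .nil)) .nil)) .nil)) .nil)) .nil)) .nil)) .nil)) .nil)) .nil)) .nil)) .nil)) .nil)) .nil)) .nil)) .nil)) .nil)) .nil)) .nil))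
def phAc56 : Cert := (.sub (.goto [(7, 9), (8, 7), (11, 13), (12, 11), (15, 17), (16, 15), (19, 21), (20, 19)]) .nil)
def phAc57 : Cert := (.sub (.node 112 (.sub (.node 176 (.sub (.node 16432 (.sub (.node 32816 (.sub (.node 1216 (.sub (.node 2240 (.sub (.node 16704 (.sub (.node 33088 (.sub (.node 1600 (.sub (.node 4672 (.sub (.node 1408 (.sub (.node 4480 (.sub (.node 17024 (.sub (.node 33408 (.sub (.node 1792 (.sub (.node 2816 (.sub (.node 21504 (.sub (.node 70656 (.sub (.node 26624 (.sub (.node 75776 phAc56) .nil)) .nil)) .nil)) .nil)) .nil)) .nil)) .nil)) .nil)) .nil)) .nil)) .nil)) .nil)) .nil)) .nil)) .nil)) .nil)) .nil)) .nil)) .nil)) .nil)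
def phAc58 : Cert := (.sub (.node 76 (.sub (.node 140 (.sub (.node 16396 (.sub (.node 32780 (.sub (.node 84 (.sub (.node 276 (.sub (.node 1044 (.sub (.node 4116 (.sub (.node 100 (.sub (.node 164 (.sub (.node 1060 (.sub (.node 2084 (.sub (.node 88 (.sub (.node 152 (.sub (.node 1048 (.sub (.node 2072 (.sub (.node 104 (.sub (.node 296 (.sub (.node 1064 (.sub (.node 4136 phAc57) .nil)) .nil)) .nil)) .nil)) .nil)) .nil)) .nil)) .nil)) .nil)) .nil)) .nil)) .nil)) .nil)) .nil)) .nil)) .nil)) .nil)) .nil)) .nil)) .nil)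
def phAc59 : Cert := (.node 38912 (.sub (.goto [(10, 14), (11, 15), (12, 16), (13, 17), (10, 18), (11, 19), (12, 20), (13, 21)]) .nil))
def phAc60 : Cert := (.node 32808 (.sub (.node 112 (.sub (.node 304 (.sub (.node 1072 (.sub (.node 4144 (.sub (.node 1216 (.sub (.node 2240 (.sub (.node 1344 (.sub (.node 4416 (.sub (.node 16960 (.sub (.node 66112 (.sub (.node 16768 (.sub (.node 65920 (.sub (.node 1664 (.sub (.node 4736 (.sub (.node 1792 (.sub (.node 2816 (.sub (.node 25600 (.sub (.node 41984 (.sub (.node 22528 (.sub phAc59 .nil)) .nil)) .nil)) .nil)) .nil)) .nil)) .nil)) .nil)) .nil)) .nil)) .nil)) .nil)) .nil)) .nil)) .nil)) .nil)) .nil)) .nil)) .nil)) .nil))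
def phAc61 : Cert := (.node 546 (.sub (.node 76 (.sub (.node 268 (.sub (.node 1036 (.sub (.node 4108 (.sub (.node 84 (.sub (.node 148 (.sub (.node 16404 (.sub (.node 32788 (.sub (.node 100 (.sub (.node 164 (.sub (.node 1060 (.sub (.node 2084 (.sub (.node 88 (.sub (.node 152 (.sub (.node 1048 (.sub (.node 2072 (.sub (.node 104 (.sub (.node 168 (.sub (.node 16424 (.sub phAc60 .nil)) .nil)) .nil)) .nil)) .nil)) .nil)) .nil)) .nil)) .nil)) .nil)) .nil)) .nil)) .nil)) .nil)) .nil)) .nil)) .nil)) .nil)) .nil)) .nil))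
def phAc62 : Cert := (.node 97 (.sub (.node 161 (.sub (.node 289 (.sub (.node 545 (.sub (.node 70 (.sub (.node 134 (.sub (.node 262 (.sub (.node 518 (.sub (.node 74 (.sub (.node 138 (.sub (.node 266 (.sub (.node 522 (.sub (.node 82 (.sub (.node 146 (.sub (.node 274 (.sub (.node 530 (.sub (.node 98 (.sub (.node 162 (.sub (.node 290 (.sub (.node 546 (.sub phAc55 .nil)) .nil)) .nil)) .nil)) .nil)) .nil)) .nil)) .nil)) .nil)) .nil)) .nil)) .nil)) .nil)) .nil)) .nil)) (.sub (.node 134 (.sub (.node 262 (.sub (.node 518 (.sub (.node 74 (.sub (.node 138 (.sub (.node 266 (.sub (.node 522 (.sub (.node 82 (.sub (.node 146 (.sub (.node 274 (.sub (.node 530 (.sub (.node 98 (.sub (.node 162 (.sub (.node 290 (.sub (.node 546 phAc58) .nil)) .nil)) .nil)) .nil)) .nil)) .nil)) .nil)) .nil)) .nil)) .nil)) .nil)) .nil)) .nil)) .nil)) (.sub (.node 134 (.sub (.node 262 (.sub (.node 518 (.sub (.node 74 (.sub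 (.node 138 (.sub (.node 266 (.sub (.node 522 (.sub (.node 82 (.sub (.node 146 (.sub (.node 274 (.sub (.node 530 (.sub (.node 98 (.sub (.node 162 (.sub (.node 290 (.sub phAc61 .nil)) .nil)) .nil)) .nil)) .nil)) .nil)) .nil)) .nil)) .nil)) .nil)) .nil)) .nil)) .nil)) .nil)) .nil)))) .nil)) .nil)) .nil)) .nil))
def phAc63 : Cert := (.goto [(7, 9), (8, 7), (10, 14), (11, 17), (12, 15), (13, 16), (10, 18), (12, 21), (13, 19), (11, 20)])
def phAc64 : Cert := (.node 112 (.sub (.node 176 (.sub (.node 1072 (.sub (.node 2096 (.sub (.node 16576 (.sub (.node 32960 (.sub (.node 1344 (.sub (.node 2368 (.sub (.node 1600 (.sub (.node 2624 (.sub (.node 1408 (.sub (.node 2432 (.sub (.node 1664 (.sub (.node 2688 (.sub (.node 17152 (.sub (.node 33536 (.sub (.node 19456 (.sub (.node 35840 (.sub (.node 28672 (.sub (.node 45056 (.sub phAc63 .nil)) .nil)) .nil)) .nil)) .nil)) .nil)) .nil)) .nil)) .nil)) .nil))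 .nil)) .nil)) .nil)) .nil)) .nil)) .nil)) .nil)) .nil)) .nil)) .nil))
def phAc65 : Cert := (.node 76 (.sub (.node 140 (.sub (.node 1036 (.sub (.node 2060 (.sub (.node 84 (.sub (.node 276 (.sub (.node 16404 (.sub (.node 65556 (.sub (.node 100 (.sub (.node 164 (.sub (.node 1060 (.sub (.node 2084 (.sub (.node 88 (.sub (.node 152 (.sub (.node 1048 (.sub (.node 2072 (.sub (.node 104 (.sub (.node 296 (.sub (.node 16424 (.sub (.node 65576 (.sub phAc64 .nil)) .nil)) .nil)) .nil)) .nil)) .nil)) .nil)) .nil)) .nil)) .nil)) .nil)) .nil)) .nil)) .nil)) .nil)) .nil)) .nil)) .nil)) .nil)) .nil))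
def phAc66 : Cert := (.sub (.goto [(10, 18), (11, 19), (12, 20), (13, 21), (14, 10), (15, 11), (16, 12), (17, 13)]) .nil)
def phAc67 : Cert := (.sub (.node 112 (.sub (.node 304 (.sub (.node 1072 (.sub (.node 4144 (.sub (.node 1216 (.sub (.node 2240 (.sub (.node 16704 (.sub (.node 33088 (.sub (.node 1600 (.sub (.node 4672 (.sub (.node 1408 (.sub (.node 4480 (.sub (.node 17024 (.sub (.node 33408 (.sub (.node 1792 (.sub (.node 2816 (.sub (.node 21504 (.sub (.node 70656 (.sub (.node 26624 (.sub (.node 75776 phAc66) .nil)) .nil)) .nil)) .nil)) .nil)) .nil)) .nil)) .nil)) .nil)) .nil)) .nil)) .nil)) .nil)) .nil)) .nil)) .nil)) .nil)) .nil)) .nil)) .nil)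
def phAc68 : Cert := (.sub (.node 76 (.sub (.node 268 (.sub (.node 1036 (.sub (.node 4108 (.sub (.node 84 (.sub (.node 148 (.sub (.node 1044 (.sub (.node 2068 (.sub (.node 100 (.sub (.node 164 (.sub (.node 16420 (.sub (.node 32804 (.sub (.node 88 (.sub (.node 152 (.sub (.node 16408 (.sub (.node 32792 (.sub (.node 104 (.sub (.node 168 (.sub (.node 1064 (.sub (.node 2088 phAc67) .nil)) .nil)) .nil)) .nil)) .nil)) .nil)) .nil)) .nil)) .nil)) .nil)) .nil)) .nil)) .nil)) .nil)) .nil)) .nil)) .nil)) .nil)) .nil)) .nil)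
def phAc69 : Cert := (.node 38912 (.sub (.goto [(7, 8), (7, 9), (11, 12), (11, 13), (15, 16), (15, 17), (19, 20), (19, 21)]) .nil))
def phAc70 : Cert := (.node 2088 (.sub (.node 112 (.sub (.node 176 (.sub (.node 16432 (.sub (.node 32816 (.sub (.node 1216 (.sub (.node 2240 (.sub (.node 1344 (.sub (.node 4416 (.sub (.node 16960 (.sub (.node 66112 (.sub (.node 16768 (.sub (.node 65920 (.sub (.node 1664 (.sub (.node 4736 (.sub (.node 1792 (.sub (.node 2816 (.sub (.node 25600 (.sub (.node 41984 (.sub (.node 22528 (.sub phAc69 .nil)) .nil)) .nil)) .nil)) .nil)) .nil)) .nil)) .nil)) .nil)) .nil)) .nil)) .nil)) .nil)) .nil)) .nil)) .nil)) .nil)) .nil)) .nil)) .nil))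
def phAc71 : Cert := (.node 546 (.sub (.node 76 (.sub (.node 140 (.sub (.node 16396 (.sub (.node 32780 (.sub (.node 84 (.sub (.node 148 (.sub (.node 1044 (.sub (.node 2068 (.sub (.node 100 (.sub (.node 292 (.sub (.node 1060 (.sub (.node 4132 (.sub (.node 88 (.sub (.node 280 (.sub (.node 1048 (.sub (.node 4120 (.sub (.node 104 (.sub (.node 168 (.sub (.node 1064 (.sub phAc70 .nil)) .nil)) .nil)) .nil)) .nil)) .nil)) .nil)) .nil)) .nil)) .nil)) .nil)) .nil)) .nil)) .nil)) .nil)) .nil)) .nil)) .nil)) .nil)) .nil))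
def phAc72 : Cert := (.node 97 (.sub (.node 161 (.sub (.node 289 (.sub (.node 545 (.sub (.node 70 (.sub (.node 134 (.sub (.node 262 (.sub (.node 518 (.sub (.node 74 (.sub (.node 138 (.sub (.node 266 (.sub (.node 522 (.sub (.node 82 (.sub (.node 146 (.sub (.node 274 (.sub (.node 530 (.sub (.node 98 (.sub (.node 162 (.sub (.node 290 (.sub (.node 546 (.sub phAc65 .nil)) .nil)) .nil)) .nil)) .nil)) .nil)) .nil)) .nil)) .nil)) .nil)) .nil)) .nil)) .nil)) .nil)) .nil)) (.sub (.node 134 (.sub (.node 262 (.sub (.node 518 (.sub (.node 74 (.sub (.node 138 (.sub (.node 266 (.sub (.node 522 (.sub (.node 82 (.sub (.node 146 (.sub (.node 274 (.sub (.node 530 (.sub (.node 98 (.sub (.node 162 (.sub (.node 290 (.sub (.node 546 phAc68) .nil)) .nil)) .nil)) .nil)) .nil)) .nil)) .nil)) .nil)) .nil)) .nil)) .nil)) .nil)) .nil)) .nil)) (.sub (.node 134 (.sub (.node 262 (.sub (.node 518 (.sub (.node 74 (.sub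 (.node 138 (.sub (.node 266 (.sub (.node 522 (.sub (.node 82 (.sub (.node 146 (.sub (.node 274 (.sub (.node 530 (.sub (.node 98 (.sub (.node 162 (.sub (.node 290 (.sub phAc71 .nil)) .nil)) .nil)) .nil)) .nil)) .nil)) .nil)) .nil)) .nil)) .nil)) .nil)) .nil)) .nil)) .nil)) .nil)))) .nil)) .nil)) .nil)) .nil))
def phAc73 : Cert := (.sub (.goto [(7, 8), (10, 18), (11, 20), (12, 19), (13, 21), (15, 16)]) .nil)
def phAc74 : Cert := (.sub (.node 112 (.sub (.node 176 (.sub (.node 1072 (.sub (.node 2096 (.sub (.node 16576 (.sub (.node 32960 (.sub (.node 1344 (.sub (.node 2368 (.sub (.node 1600 (.sub (.node 2624 (.sub (.node 1408 (.sub (.node 2432 (.sub (.node 1664 (.sub (.node 2688 (.sub (.node 17152 (.sub (.node 33536 (.sub (.node 19456 (.sub (.node 35840 (.sub (.node 28672 (.sub (.node 45056 phAc73) .nil)) .nil)) .nil)) .nil)) .nil)) .nil)) .nil)) .nil)) .nil)) .nil)) .nil)) .nil)) .nil))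 .nil)) .nil)) .nil)) .nil)) .nil)) .nil)) .nil)
def phAc75 : Cert := (.sub (.node 76 (.sub (.node 140 (.sub (.node 1036 (.sub (.node 2060 (.sub (.node 84 (.sub (.node 148 (.sub (.node 1044 (.sub (.node 2068 (.sub (.node 100 (.sub (.node 292 (.sub (.node 16420 (.sub (.node 65572 (.sub (.node 88 (.sub (.node 280 (.sub (.node 16408 (.sub (.node 65560 (.sub (.node 104 (.sub (.node 168 (.sub (.node 1064 (.sub (.node 2088 phAc74) .nil)) .nil)) .nil)) .nil)) .nil)) .nil)) .nil)) .nil)) .nil)) .nil)) .nil)) .nil)) .nil)) .nil)) .nil)) .nil)) .nil)) .nil)) .nil)) .nil)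
def phAc76 : Cert := (.node 75776 (.sub (.goto [(8, 9), (10, 14), (11, 15), (12, 17), (13, 16), (20, 21)]) .nil))
def phAc77 : Cert := (.node 32808 (.sub (.node 112 (.sub (.node 304 (.sub (.node 1072 (.sub (.node 4144 (.sub (.node 1216 (.sub (.node 2240 (.sub (.node 16704 (.sub (.node 33088 (.sub (.node 1600 (.sub (.node 4672 (.sub (.node 1408 (.sub (.node 4480 (.sub (.node 17024 (.sub (.node 33408 (.sub (.node 1792 (.sub (.node 2816 (.sub (.node 21504 (.sub (.node 70656 (.sub (.node 26624 (.sub phAc76 .nil)) .nil)) .nil)) .nil)) .nil)) .nil)) .nil)) .nil)) .nil)) .nil)) .nil)) .nil)) .nil)) .nil)) .nil)) .nil)) .nil)) .nil)) .nil)) .nil))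
def phAc78 : Cert := (.node 546 (.sub (.node 76 (.sub (.node 268 (.sub (.node 1036 (.sub (.node 4108 (.sub (.node 84 (.sub (.node 148 (.sub (.node 16404 (.sub (.node 32788 (.sub (.node 100 (.sub (.node 164 (.sub (.node 1060 (.sub (.node 2084 (.sub (.node 88 (.sub (.node 152 (.sub (.node 1048 (.sub (.node 2072 (.sub (.node 104 (.sub (.node 168 (.sub (.node 16424 (.sub phAc77 .nil)) .nil)) .nil)) .nil)) .nil)) .nil)) .nil)) .nil)) .nil)) .nil)) .nil)) .nil)) .nil)) .nil)) .nil)) .nil)) .nil)) .nil)) .nil)) .nil))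
def phAc79 : Cert := (.sub (.node 38912 (.sub (.goto [(7, 9), (11, 13), (14, 18), (15, 21), (16, 20), (17, 19)]) .nil)) .nil)
def phAc80 : Cert := (.sub (.node 4136 (.sub (.node 112 (.sub (.node 176 (.sub (.node 16432 (.sub (.node 32816 (.sub (.node 1216 (.sub (.node 2240 (.sub (.node 1344 (.sub (.node 4416 (.sub (.node 16960 (.sub (.node 66112 (.sub (.node 16768 (.sub (.node 65920 (.sub (.node 1664 (.sub (.node 4736 (.sub (.node 1792 (.sub (.node 2816 (.sub (.node 25600 (.sub (.node 41984 (.sub (.node 22528 phAc79) .nil)) .nil)) .nil)) .nil)) .nil)) .nil)) .nil)) .nil)) .nil)) .nil)) .nil)) .nil)) .nil)) .nil)) .nil)) .nil)) .nil)) .nil)) .nil)) .nil)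
def phAc81 : Cert := (.sub (.node 546 (.sub (.node 76 (.sub (.node 140 (.sub (.node 16396 (.sub (.node 32780 (.sub (.node 84 (.sub (.node 276 (.sub (.node 1044 (.sub (.node 4116 (.sub (.node 100 (.sub (.node 164 (.sub (.node 1060 (.sub (.node 2084 (.sub (.node 88 (.sub (.node 152 (.sub (.node 1048 (.sub (.node 2072 (.sub (.node 104 (.sub (.node 296 (.sub (.node 1064 phAc80) .nil)) .nil)) .nil)) .nil)) .nil)) .nil)) .nil)) .nil)) .nil)) .nil)) .nil)) .nil)) .nil)) .nil)) .nil)) .nil)) .nil)) .nil)) .nil)) .nil)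
def phAc82 : Cert := (.sub (.node 97 (.sub (.node 161 (.sub (.node 289 (.sub (.node 545 (.sub (.node 70 (.sub (.node 134 (.sub (.node 262 (.sub (.node 518 (.sub (.node 74 (.sub (.node 138 (.sub (.node 266 (.sub (.node 522 (.sub (.node 82 (.sub (.node 146 (.sub (.node 274 (.sub (.node 530 (.sub (.node 98 (.sub (.node 162 (.sub (.node 290 (.sub (.node 546 phAc75) .nil)) .nil)) .nil)) .nil)) .nil)) .nil)) .nil)) .nil)) .nil)) .nil)) .nil)) .nil)) .nil)) .nil)) (.sub (.node 134 (.sub (.node 262 (.sub (.node 518 (.sub (.node 74 (.sub (.node 138 (.sub (.node 266 (.sub (.node 522 (.sub (.node 82 (.sub (.node 146 (.sub (.node 274 (.sub (.node 530 (.sub (.node 98 (.sub (.node 162 (.sub (.node 290 (.sub phAc78 .nil)) .nil)) .nil)) .nil)) .nil)) .nil)) .nil)) .nil)) .nil)) .nil)) .nil)) .nil)) .nil)) .nil)) (.sub (.node 134 (.sub (.node 262 (.sub (.node 518 (.sub (.node 74 (.sub (.node 138 (.sub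 (.node 266 (.sub (.node 522 (.sub (.node 82 (.sub (.node 146 (.sub (.node 274 (.sub (.node 530 (.sub (.node 98 (.sub (.node 162 (.sub (.node 290 phAc81) .nil)) .nil)) .nil)) .nil)) .nil)) .nil)) .nil)) .nil)) .nil)) .nil)) .nil)) .nil)) .nil)) .nil)))) .nil)) .nil)) .nil)) .nil)) .nil)
def phAc83 : Cert := (.node 45056 (.sub (.goto [(7, 9), (8, 7), (10, 14), (11, 17), (12, 15), (13, 16), (12, 13), (12, 11), (19, 21), (20, 19)]) .nil))
def phAc84 : Cert := (.node 65576 (.sub (.node 112 (.sub (.node 176 (.sub (.node 1072 (.sub (.node 2096 (.sub (.node 16576 (.sub (.node 32960 (.sub (.node 1344 (.sub (.node 2368 (.sub (.node 1600 (.sub (.node 2624 (.sub (.node 1408 (.sub (.node 2432 (.sub (.node 1664 (.sub (.node 2688 (.sub (.node 17152 (.sub (.node 33536 (.sub (.node 19456 (.sub (.node 35840 (.sub (.node 28672 (.sub phAc83 .nil)) .nil)) .nil)) .nil)) .nil)) .nil)) .nil)) .nil)) .nil))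 .nil)) .nil)) .nil)) .nil)) .nil)) .nil)) .nil)) .nil)) .nil)) .nil)) .nil))
def phAc85 : Cert := (.node 546 (.sub (.node 76 (.sub (.node 140 (.sub (.node 1036 (.sub (.node 2060 (.sub (.node 84 (.sub (.node 276 (.sub (.node 16404 (.sub (.node 65556 (.sub (.node 100 (.sub (.node 164 (.sub (.node 1060 (.sub (.node 2084 (.sub (.node 88 (.sub (.node 152 (.sub (.node 1048 (.sub (.node 2072 (.sub (.node 104 (.sub (.node 296 (.sub (.node 16424 (.sub phAc84 .nil)) .nil)) .nil)) .nil)) .nil)) .nil)) .nil)) .nil)) .nil)) .nil)) .nil)) .nil)) .nil)) .nil)) .nil)) .nil)) .nil)) .nil)) .nil)) .nil))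
def phAc86 : Cert := (.sub (.node 43008 (.sub (.goto [(10, 18), (11, 19), (12, 20), (13, 21)]) .nil)) .nil)
def phAc87 : Cert := (.sub (.node 2088 (.sub (.node 112 (.sub (.node 304 (.sub (.node 1072 (.sub (.node 4144 (.sub (.node 1216 (.sub (.node 2240 (.sub (.node 16704 (.sub (.node 65856 (.sub (.node 1600 (.sub (.node 4672 (.sub (.node 1408 (.sub (.node 4480 (.sub (.node 17024 (.sub (.node 66176 (.sub (.node 1792 (.sub (.node 2816 (.sub (.node 21504 (.sub (.node 37888 (.sub (.node 26624 phAc86) .nil)) .nil)) .nil)) .nil)) .nil)) .nil)) .nil)) .nil)) .nil)) .nil)) .nil)) .nil)) .nil)) .nil)) .nil)) .nil)) .nil)) .nil)) .nil)) .nil)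
def phAc88 : Cert := (.sub (.node 546 (.sub (.node 76 (.sub (.node 268 (.sub (.node 1036 (.sub (.node 4108 (.sub (.node 84 (.sub (.node 148 (.sub (.node 1044 (.sub (.node 2068 (.sub (.node 100 (.sub (.node 164 (.sub (.node 16420 (.sub (.node 32804 (.sub (.node 88 (.sub (.node 152 (.sub (.node 16408 (.sub (.node 32792 (.sub (.node 104 (.sub (.node 168 (.sub (.node 1064 phAc87) .nil)) .nil)) .nil)) .nil)) .nil)) .nil)) .nil)) .nil)) .nil)) .nil)) .nil)) .nil)) .nil)) .nil)) .nil)) .nil)) .nil)) .nil)) .nil)) .nil)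
def phAc89 : Cert := (.node 22528 (.sub (.node 71680 (.sub (.goto [(7, 8), (7, 9), (11, 12), (11, 13), (14, 18), (15, 20), (16, 21), (17, 19), (17, 16), (15, 17)]) .nil)) .nil))
def phAc90 : Cert := (.node 1064 (.sub (.node 2088 (.sub (.node 112 (.sub (.node 176 (.sub (.node 16432 (.sub (.node 32816 (.sub (.node 1216 (.sub (.node 2240 (.sub (.node 1344 (.sub (.node 4416 (.sub (.node 16960 (.sub (.node 33344 (.sub (.node 16768 (.sub (.node 33152 (.sub (.node 1664 (.sub (.node 4736 (.sub (.node 1792 (.sub (.node 2816 (.sub (.node 25600 (.sub (.node 74752 (.sub phAc89 .nil)) .nil)) .nil)) .nil)) .nil)) .nil)) .nil)) .nil)) .nil)) .nil)) .nil)) .nil)) .nil)) .nil)) .nil)) .nil)) .nil)) .nil)) .nil)) .nil))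
def phAc91 : Cert := (.node 290 (.sub (.node 546 (.sub (.node 76 (.sub (.node 140 (.sub (.node 16396 (.sub (.node 32780 (.sub (.node 84 (.sub (.node 148 (.sub (.node 1044 (.sub (.node 2068 (.sub (.node 100 (.sub (.node 292 (.sub (.node 1060 (.sub (.node 4132 (.sub (.node 88 (.sub (.node 280 (.sub (.node 1048 (.sub (.node 4120 (.sub (.node 104 (.sub (.node 168 (.sub phAc90 .nil)) .nil)) .nil)) .nil)) .nil)) .nil)) .nil)) .nil)) .nil)) .nil)) .nil)) .nil)) .nil)) .nil)) .nil)) .nil)) .nil)) .nil)) .nil)) .nil))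
def phAc92 : Cert := (.node 529 (.sub (.node 97 (.sub (.node 161 (.sub (.node 289 (.sub (.node 545 (.sub (.node 70 (.sub (.node 134 (.sub (.node 262 (.sub (.node 518 (.sub (.node 74 (.sub (.node 138 (.sub (.node 266 (.sub (.node 522 (.sub (.node 82 (.sub (.node 146 (.sub (.node 274 (.sub (.node 530 (.sub (.node 98 (.sub (.node 162 (.sub (.node 290 (.sub phAc85 .nil)) .nil)) .nil)) .nil)) .nil)) .nil)) .nil)) .nil)) .nil)) .nil)) .nil)) .nil)) .nil)) .nil)) (.sub (.node 134 (.sub (.node 262 (.sub (.node 518 (.sub (.node 74 (.sub (.node 138 (.sub (.node 266 (.sub (.node 522 (.sub (.node 82 (.sub (.node 146 (.sub (.node 274 (.sub (.node 530 (.sub (.node 98 (.sub (.node 162 (.sub (.node 290 phAc88) .nil)) .nil)) .nil)) .nil)) .nil)) .nil)) .nil)) .nil)) .nil)) .nil)) .nil)) .nil)) .nil)) (.sub (.node 134 (.sub (.node 262 (.sub (.node 518 (.sub (.node 74 (.sub (.node 138 (.sub (.node 266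 (.sub (.node 522 (.sub (.node 82 (.sub (.node 146 (.sub (.node 274 (.sub (.node 530 (.sub (.node 98 (.sub (.node 162 (.sub phAc91 .nil)) .nil)) .nil)) .nil)) .nil)) .nil)) .nil)) .nil)) .nil)) .nil)) .nil)) .nil)) .nil)) .nil)))) .nil)) .nil)) .nil)) .nil)) .nil))
def phAc93 : Cert := (.sub (.node 45056 (.sub (.goto [(7, 8), (10, 18), (11, 20), (12, 19), (13, 21), (14, 10), (15, 12), (16, 11), (17, 13), (15, 16)]) .nil)) .nil)
def phAc94 : Cert := (.sub (.node 2088 (.sub (.node 112 (.sub (.node 176 (.sub (.node 1072 (.sub (.node 2096 (.sub (.node 16576 (.sub (.node 32960 (.sub (.node 1344 (.sub (.node 2368 (.sub (.node 1600 (.sub (.node 2624 (.sub (.node 1408 (.sub (.node 2432 (.sub (.node 1664 (.sub (.node 2688 (.sub (.node 17152 (.sub (.node 33536 (.sub (.node 19456 (.sub (.node 35840 (.sub (.node 28672 phAc93) .nil)) .nil)) .nil)) .nil)) .nil)) .nil)) .nil)) .nil)) .nil)) .nil))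 .nil)) .nil)) .nil)) .nil)) .nil)) .nil)) .nil)) .nil)) .nil)) .nil)
def phAc95 : Cert := (.sub (.node 546 (.sub (.node 76 (.sub (.node 140 (.sub (.node 1036 (.sub (.node 2060 (.sub (.node 84 (.sub (.node 148 (.sub (.node 1044 (.sub (.node 2068 (.sub (.node 100 (.sub (.node 292 (.sub (.node 16420 (.sub (.node 65572 (.sub (.node 88 (.sub (.node 280 (.sub (.node 16408 (.sub (.node 65560 (.sub (.node 104 (.sub (.node 168 (.sub (.node 1064 phAc94) .nil)) .nil)) .nil)) .nil)) .nil)) .nil)) .nil)) .nil)) .nil)) .nil)) .nil)) .nil)) .nil)) .nil)) .nil)) .nil)) .nil)) .nil)) .nil)) .nil)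
def phAc96 : Cert := (.node 26624 (.sub (.node 43008 (.sub (.goto [(8, 9), (10, 14), (11, 15), (12, 17), (13, 16), (10, 18), (11, 19), (13, 21), (12, 20), (12, 13)]) .nil)) .nil))
def phAc97 : Cert := (.node 16424 (.sub (.node 32808 (.sub (.node 112 (.sub (.node 304 (.sub (.node 1072 (.sub (.node 4144 (.sub (.node 1216 (.sub (.node 2240 (.sub (.node 16704 (.sub (.node 65856 (.sub (.node 1600 (.sub (.node 4672 (.sub (.node 1408 (.sub (.node 4480 (.sub (.node 17024 (.sub (.node 66176 (.sub (.node 1792 (.sub (.node 2816 (.sub (.node 21504 (.sub (.node 37888 (.sub phAc96 .nil)) .nil)) .nil)) .nil)) .nil)) .nil)) .nil)) .nil)) .nil)) .nil)) .nil)) .nil)) .nil)) .nil)) .nil)) .nil)) .nil)) .nil)) .nil)) .nil))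
def phAc98 : Cert := (.node 290 (.sub (.node 546 (.sub (.node 76 (.sub (.node 268 (.sub (.node 1036 (.sub (.node 4108 (.sub (.node 84 (.sub (.node 148 (.sub (.node 16404 (.sub (.node 32788 (.sub (.node 100 (.sub (.node 164 (.sub (.node 1060 (.sub (.node 2084 (.sub (.node 88 (.sub (.node 152 (.sub (.node 1048 (.sub (.node 2072 (.sub (.node 104 (.sub (.node 168 (.sub phAc97 .nil)) .nil)) .nil)) .nil)) .nil)) .nil)) .nil)) .nil)) .nil)) .nil)) .nil)) .nil)) .nil)) .nil)) .nil)) .nil)) .nil)) .nil)) .nil)) .nil))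
def phAc99 : Cert := (.sub (.node 22528 (.sub (.node 71680 (.sub (.goto [(7, 9), (11, 13), (15, 17), (19, 21)]) .nil)) .nil)) .nil)
def phAc100 : Cert := (.sub (.node 1064 (.sub (.node 4136 (.sub (.node 112 (.sub (.node 176 (.sub (.node 16432 (.sub (.node 32816 (.sub (.node 1216 (.sub (.node 2240 (.sub (.node 1344 (.sub (.node 4416 (.sub (.node 16960 (.sub (.node 33344 (.sub (.node 16768 (.sub (.node 33152 (.sub (.node 1664 (.sub (.node 4736 (.sub (.node 1792 (.sub (.node 2816 (.sub (.node 25600 (.sub (.node 74752 phAc99) .nil)) .nil)) .nil)) .nil)) .nil)) .nil)) .nil)) .nil)) .nil)) .nil)) .nil)) .nil)) .nil)) .nil)) .nil)) .nil)) .nil)) .nil)) .nil)) .nil)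
def phAc101 : Cert := (.sub (.node 290 (.sub (.node 546 (.sub (.node 76 (.sub (.node 140 (.sub (.node 16396 (.sub (.node 32780 (.sub (.node 84 (.sub (.node 276 (.sub (.node 1044 (.sub (.node 4116 (.sub (.node 100 (.sub (.node 164 (.sub (.node 1060 (.sub (.node 2084 (.sub (.node 88 (.sub (.node 152 (.sub (.node 1048 (.sub (.node 2072 (.sub (.node 104 (.sub (.node 296 phAc100) .nil)) .nil)) .nil)) .nil)) .nil)) .nil)) .nil)) .nil)) .nil)) .nil)) .nil)) .nil)) .nil)) .nil)) .nil)) .nil)) .nil)) .nil)) .nil)) .nil)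
def phAc102 : Cert := (.sub (.node 529 (.sub (.node 97 (.sub (.node 161 (.sub (.node 289 (.sub (.node 545 (.sub (.node 70 (.sub (.node 134 (.sub (.node 262 (.sub (.node 518 (.sub (.node 74 (.sub (.node 138 (.sub (.node 266 (.sub (.node 522 (.sub (.node 82 (.sub (.node 146 (.sub (.node 274 (.sub (.node 530 (.sub (.node 98 (.sub (.node 162 (.sub (.node 290 phAc95) .nil)) .nil)) .nil)) .nil)) .nil)) .nil)) .nil)) .nil)) .nil)) .nil)) .nil)) .nil)) .nil)) (.sub (.node 134 (.sub (.node 262 (.sub (.node 518 (.sub (.node 74 (.sub (.node 138 (.sub (.node 266 (.sub (.node 522 (.sub (.node 82 (.sub (.node 146 (.sub (.node 274 (.sub (.node 530 (.sub (.node 98 (.sub (.node 162 (.sub phAc98 .nil)) .nil)) .nil)) .nil)) .nil)) .nil)) .nil)) .nil)) .nil)) .nil)) .nil)) .nil)) .nil)) (.sub (.node 134 (.sub (.node 262 (.sub (.node 518 (.sub (.node 74 (.sub (.node 138 (.sub (.node 266 (.sub (.node 522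 (.sub (.node 82 (.sub (.node 146 (.sub (.node 274 (.sub (.node 530 (.sub (.node 98 (.sub (.node 162 phAc101) .nil)) .nil)) .nil)) .nil)) .nil)) .nil)) .nil)) .nil)) .nil)) .nil)) .nil)) .nil)) .nil)))) .nil)) .nil)) .nil)) .nil)) .nil)) .nil)
def phAc103 : Cert := (.iso 279621 [(11, 10), (17, 14), (19, 18)] (.iso 279621 [(11, 10), (17, 14), (20, 18)] (.iso 279621 [(11, 10), (17, 14), (21, 18)] (.iso 279621 [(12, 10)] (.iso 279621 [(12, 10), (19, 18)] (.iso 279621 [(12, 10), (20, 18)] (.iso 279621 [(12, 10), (21, 18)] (.iso 279621 [(12, 10), (15, 14)] (.iso 279621 [(12, 10), (15, 14), (19, 18)] (.iso 279621 [(12, 10), (15, 14), (20, 18)] (.iso 279621 [(12, 10), (15, 14), (21, 18)] (.iso 279621 [(12, 10), (16, 14)] (.iso 279621 [(12, 10), (16, 14), (19, 18)] (.iso 279621 [(12, 10), (16, 14), (20, 18)] (.iso 279621 [(12, 10), (16, 14), (21, 18)] (.iso 279621 [(12, 10), (17, 14)] (.iso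 279621 [(12, 10), (17, 14), (19, 18)] (.iso 279621 [(12, 10), (17, 14), (20, 18)] (.iso 279621 [(12, 10), (17, 14), (21, 18)] (.iso 279621 [(13, 10)] (.iso 279621 [(13, 10), (19, 18)] (.iso 279621 [(13, 10), (20, 18)] (.iso 279621 [(13, 10), (21, 18)] (.iso 279621 [(13, 10), (15, 14)] (.iso 279621 [(13, 10), (15, 14), (19, 18)] (.iso 279621 [(13, 10), (15, 14), (20, 18)] (.iso 279621 [(13, 10), (15, 14), (21, 18)] (.iso 279621 [(13, 10), (16, 14)] (.iso 279621 [(13, 10), (16, 14), (19, 18)] (.iso 279621 [(13, 10), (16, 14), (20, 18)] (.iso 279621 [(13, 10), (16, 14), (21, 18)] (.iso 279621 [(13, 10), (17, 14)] (.iso 279621 [(13, 10), (17, 14), (19, 18)] (.iso 279621 [(13, 10), (17, 14), (20, 18)] (.iso 279621 [(13, 10), (17, 14), (21, 18)] .nil)))))))))))))))))))))))))))))))))))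
def phAc104 : Cert := (.iso 245763 [(18, 15), (20, 16), (21, 17)] (.iso 245763 [(19, 15), (20, 16), (21, 17)] .nil))
def phAc105 : Cert := (.iso 15363 [(17, 11), (18, 12), (19, 13)] (.iso 15363 [(17, 11), (18, 12), (20, 13)] (.iso 15363 [(17, 11), (18, 12), (21, 13)] (.iso 15363 [(17, 11), (19, 12), (20, 13)] (.iso 15363 [(17, 11), (19, 12), (21, 13)] (.iso 15363 [(17, 11), (20, 12), (21, 13)] (.iso 15363 [(18, 11), (19, 12), (20, 13)] (.iso 15363 [(18, 11), (19, 12), (21, 13)] (.iso 15363 [(18, 11), (20, 12), (21, 13)] (.iso 15363 [(19, 11), (20, 12), (21, 13)] .nil))))))))))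
def phAc106 : Cert := (.iso 15363 [(14, 11), (16, 12), (17, 13)] (.iso 15363 [(14, 11), (16, 12), (18, 13)] (.iso 15363 [(14, 11), (16, 12), (19, 13)] (.iso 15363 [(14, 11), (16, 12), (20, 13)] (.iso 15363 [(14, 11), (16, 12), (21, 13)] (.iso 15363 [(14, 11), (17, 12), (18, 13)] (.iso 15363 [(14, 11), (17, 12), (19, 13)] (.iso 15363 [(14, 11), (17, 12), (20, 13)] (.iso 15363 [(14, 11), (17, 12), (21, 13)] (.iso 15363 [(14, 11), (18, 12), (19, 13)] (.iso 15363 [(14, 11), (18, 12), (20, 13)] (.iso 15363 [(14, 11), (18, 12), (21, 13)] (.iso 15363 [(14, 11), (19, 12), (20, 13)] (.iso 15363 [(14, 11), (19, 12), (21, 13)] (.iso 15363 [(14, 11), (20, 12), (21, 13)] (.iso 15363 [(15, 11), (16, 12), (17, 13)] (.iso 15363 [(15, 11), (16, 12), (18, 13)] (.iso 15363 [(15, 11), (16, 12), (19, 13)] (.iso 15363 [(15, 11), (16, 12), (20, 13)] (.iso 15363 [(15, 11), (16, 12), (21, 13)] (.iso 15363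 [(15, 11), (17, 12), (18, 13)] (.iso 15363 [(15, 11), (17, 12), (19, 13)] (.iso 15363 [(15, 11), (17, 12), (20, 13)] (.iso 15363 [(15, 11), (17, 12), (21, 13)] (.iso 15363 [(15, 11), (18, 12), (19, 13)] (.iso 15363 [(15, 11), (18, 12), (20, 13)] (.iso 15363 [(15, 11), (18, 12), (21, 13)] (.iso 15363 [(15, 11), (19, 12), (20, 13)] (.iso 15363 [(15, 11), (19, 12), (21, 13)] (.iso 15363 [(15, 11), (20, 12), (21, 13)] (.iso 15363 [(16, 11), (17, 12), (18, 13)] (.iso 15363 [(16, 11), (17, 12), (19, 13)] (.iso 15363 [(16, 11), (17, 12), (20, 13)] (.iso 15363 [(16, 11), (17, 12), (21, 13)] (.iso 15363 [(16, 11), (18, 12), (19, 13)] (.iso 15363 [(16, 11), (18, 12), (20, 13)] (.iso 15363 [(16, 11), (18, 12), (21, 13)] (.iso 15363 [(16, 11), (19, 12), (20, 13)] (.iso 15363 [(16, 11), (19, 12), (21, 13)] (.iso 15363 [(16, 11), (20, 12), (21, 13)] phAc105))))))))))))))))))))))))))))))))))))))))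
def phAc107 : Cert := (.iso 15363 [(18, 11), (19, 13)] (.iso 15363 [(18, 11), (20, 13)] (.iso 15363 [(18, 11), (21, 13)] (.iso 15363 [(19, 11), (20, 13)] (.iso 15363 [(19, 11), (21, 13)] (.iso 15363 [(20, 11), (21, 13)] (.iso 15363 [(14, 11), (15, 12)] (.iso 15363 [(14, 11), (16, 12)] (.iso 15363 [(14, 11), (17, 12)] (.iso 15363 [(14, 11), (18, 12)] (.iso 15363 [(14, 11), (19, 12)] (.iso 15363 [(14, 11), (20, 12)] (.iso 15363 [(14, 11), (21, 12)] (.iso 15363 [(15, 11), (16, 12)] (.iso 15363 [(15, 11), (17, 12)] (.iso 15363 [(15, 11), (18, 12)] (.iso 15363 [(15, 11), (19, 12)] (.iso 15363 [(15, 11), (20, 12)] (.iso 15363 [(15, 11), (21, 12)] (.iso 15363 [(16, 11), (17, 12)] (.iso 15363 [(16, 11), (18, 12)] (.iso 15363 [(16, 11), (19, 12)] (.iso 15363 [(16, 11), (20, 12)] (.iso 15363 [(16, 11), (21, 12)] (.iso 15363 [(17, 11), (18, 12)] (.iso 15363 [(17, 11), (19, 12)] (.iso 15363 [(17,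 11), (20, 12)] (.iso 15363 [(17, 11), (21, 12)] (.iso 15363 [(18, 11), (19, 12)] (.iso 15363 [(18, 11), (20, 12)] (.iso 15363 [(18, 11), (21, 12)] (.iso 15363 [(19, 11), (20, 12)] (.iso 15363 [(19, 11), (21, 12)] (.iso 15363 [(20, 11), (21, 12)] (.iso 15363 [(14, 11), (15, 12), (16, 13)] (.iso 15363 [(14, 11), (15, 12), (17, 13)] (.iso 15363 [(14, 11), (15, 12), (18, 13)] (.iso 15363 [(14, 11), (15, 12), (19, 13)] (.iso 15363 [(14, 11), (15, 12), (20, 13)] (.iso 15363 [(14, 11), (15, 12), (21, 13)] phAc106))))))))))))))))))))))))))))))))))))))))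
def phAc108 : Cert := (.iso 15363 [(17, 12), (18, 13)] (.iso 15363 [(17, 12), (19, 13)] (.iso 15363 [(17, 12), (20, 13)] (.iso 15363 [(17, 12), (21, 13)] (.iso 15363 [(18, 12), (19, 13)] (.iso 15363 [(18, 12), (20, 13)] (.iso 15363 [(18, 12), (21, 13)] (.iso 15363 [(19, 12), (20, 13)] (.iso 15363 [(19, 12), (21, 13)] (.iso 15363 [(20, 12), (21, 13)] (.iso 15363 [(14, 11)] (.iso 15363 [(15, 11)] (.iso 15363 [(16, 11)] (.iso 15363 [(17, 11)] (.iso 15363 [(18, 11)] (.iso 15363 [(19, 11)] (.iso 15363 [(20, 11)] (.iso 15363 [(21, 11)] (.iso 15363 [(14, 11), (15, 13)] (.iso 15363 [(14, 11), (16, 13)] (.iso 15363 [(14, 11), (17, 13)] (.iso 15363 [(14, 11), (18, 13)] (.iso 15363 [(14, 11), (19, 13)] (.iso 15363 [(14, 11), (20, 13)] (.iso 15363 [(14, 11), (21, 13)] (.iso 15363 [(15, 11), (16, 13)] (.iso 15363 [(15, 11), (17, 13)] (.iso 15363 [(15, 11), (18, 13)] (.iso 15363 [(15, 11), (19,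 13)] (.iso 15363 [(15, 11), (20, 13)] (.iso 15363 [(15, 11), (21, 13)] (.iso 15363 [(16, 11), (17, 13)] (.iso 15363 [(16, 11), (18, 13)] (.iso 15363 [(16, 11), (19, 13)] (.iso 15363 [(16, 11), (20, 13)] (.iso 15363 [(16, 11), (21, 13)] (.iso 15363 [(17, 11), (18, 13)] (.iso 15363 [(17, 11), (19, 13)] (.iso 15363 [(17, 11), (20, 13)] (.iso 15363 [(17, 11), (21, 13)] phAc107))))))))))))))))))))))))))))))))))))))))
def phAc109 : Cert := (.iso 963 [(16, 7), (17, 8), (20, 9)] (.iso 963 [(16, 7), (17, 8), (21, 9)] (.iso 963 [(16, 7), (18, 8), (19, 9)] (.iso 963 [(16, 7), (18, 8), (20, 9)] (.iso 963 [(16, 7), (18, 8), (21, 9)] (.iso 963 [(16, 7), (19, 8), (20, 9)] (.iso 963 [(16, 7), (19, 8), (21, 9)] (.iso 963 [(16, 7), (20, 8), (21, 9)] (.iso 963 [(17, 7), (18, 8), (19, 9)] (.iso 963 [(17, 7), (18, 8), (20, 9)] (.iso 963 [(17, 7), (18, 8), (21, 9)] (.iso 963 [(17, 7), (19, 8), (20, 9)]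 (.iso 963 [(17, 7), (19, 8), (21, 9)] (.iso 963 [(17, 7), (20, 8), (21, 9)] (.iso 963 [(18, 7), (19, 8), (20, 9)] (.iso 963 [(18, 7), (19, 8), (21, 9)] (.iso 963 [(18, 7), (20, 8), (21, 9)] (.iso 963 [(19, 7), (20, 8), (21, 9)] .nil))))))))))))))))))
def phAc110 : Cert := (.iso 963 [(13, 7), (19, 8), (21, 9)] (.iso 963 [(13, 7), (20, 8), (21, 9)] (.iso 963 [(14, 7), (15, 8), (16, 9)] (.iso 963 [(14, 7), (15, 8), (17, 9)] (.iso 963 [(14, 7), (15, 8), (18, 9)] (.iso 963 [(14, 7), (15, 8), (19, 9)] (.iso 963 [(14, 7), (15, 8), (20, 9)] (.iso 963 [(14, 7), (15, 8), (21, 9)] (.iso 963 [(14, 7), (16, 8), (17, 9)] (.iso 963 [(14, 7), (16, 8), (18, 9)] (.iso 963 [(14, 7), (16, 8), (19, 9)] (.iso 963 [(14, 7), (16, 8), (20, 9)] (.iso 963 [(14, 7), (16, 8), (21, 9)] (.iso 963 [(14, 7), (17, 8), (18, 9)] (.iso 963 [(14, 7), (17, 8), (19, 9)] (.iso 963 [(14, 7), (17, 8), (20, 9)] (.iso 963 [(14,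 7), (17, 8), (21, 9)] (.iso 963 [(14, 7), (18, 8), (19, 9)] (.iso 963 [(14, 7), (18, 8), (20, 9)] (.iso 963 [(14, 7), (18, 8), (21, 9)] (.iso 963 [(14, 7), (19, 8), (20, 9)] (.iso 963 [(14, 7), (19, 8), (21, 9)] (.iso 963 [(14, 7), (20, 8), (21, 9)] (.iso 963 [(15, 7), (16, 8), (17, 9)] (.iso 963 [(15, 7), (16, 8), (18, 9)] (.iso 963 [(15, 7), (16, 8), (19, 9)] (.iso 963 [(15, 7), (16, 8), (20, 9)] (.iso 963 [(15, 7), (16, 8), (21, 9)] (.iso 963 [(15, 7), (17, 8), (18, 9)] (.iso 963 [(15, 7), (17, 8), (19, 9)] (.iso 963 [(15, 7), (17, 8), (20, 9)] (.iso 963 [(15, 7), (17, 8), (21, 9)] (.iso 963 [(15, 7), (18, 8), (19, 9)] (.iso 963 [(15, 7), (18, 8), (20, 9)] (.iso 963 [(15, 7), (18, 8), (21, 9)] (.iso 963 [(15, 7), (19, 8), (20, 9)] (.iso 963 [(15, 7), (19, 8), (21, 9)] (.iso 963 [(15, 7), (20, 8), (21, 9)] (.iso 963 [(16, 7), (17, 8), (18, 9)] (.iso 963 [(16, 7), (17, 8), (19, 9)]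 phAc109))))))))))))))))))))))))))))))))))))))))
def phAc111 : Cert := (.iso 963 [(12, 7), (16, 8), (18, 9)] (.iso 963 [(12, 7), (16, 8), (19, 9)] (.iso 963 [(12, 7), (16, 8), (20, 9)] (.iso 963 [(12, 7), (16, 8), (21, 9)] (.iso 963 [(12, 7), (17, 8), (18, 9)] (.iso 963 [(12, 7), (17, 8), (19, 9)] (.iso 963 [(12, 7), (17, 8), (20, 9)] (.iso 963 [(12, 7), (17, 8), (21, 9)] (.iso 963 [(12, 7), (18, 8), (19, 9)] (.iso 963 [(12, 7), (18, 8), (20, 9)] (.iso 963 [(12, 7), (18, 8), (21, 9)] (.iso 963 [(12, 7), (19, 8), (20, 9)] (.iso 963 [(12, 7), (19, 8), (21, 9)] (.iso 963 [(12, 7), (20, 8), (21, 9)] (.iso 963 [(13, 7), (14, 8), (15, 9)] (.iso 963 [(13, 7), (14, 8), (16, 9)] (.iso 963 [(13, 7), (14, 8), (17, 9)] (.iso 963 [(13, 7), (14, 8), (18, 9)] (.iso 963 [(13, 7), (14, 8), (19, 9)] (.iso 963 [(13, 7), (14, 8), (20, 9)] (.iso 963 [(13, 7), (14, 8), (21, 9)] (.iso 963 [(13, 7), (15, 8),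 (16, 9)] (.iso 963 [(13, 7), (15, 8), (17, 9)] (.iso 963 [(13, 7), (15, 8), (18, 9)] (.iso 963 [(13, 7), (15, 8), (19, 9)] (.iso 963 [(13, 7), (15, 8), (20, 9)] (.iso 963 [(13, 7), (15, 8), (21, 9)] (.iso 963 [(13, 7), (16, 8), (17, 9)] (.iso 963 [(13, 7), (16, 8), (18, 9)] (.iso 963 [(13, 7), (16, 8), (19, 9)] (.iso 963 [(13, 7), (16, 8), (20, 9)] (.iso 963 [(13, 7), (16, 8), (21, 9)] (.iso 963 [(13, 7), (17, 8), (18, 9)] (.iso 963 [(13, 7), (17, 8), (19, 9)] (.iso 963 [(13, 7), (17, 8), (20, 9)] (.iso 963 [(13, 7), (17, 8), (21, 9)] (.iso 963 [(13, 7), (18, 8), (19, 9)] (.iso 963 [(13, 7), (18, 8), (20, 9)] (.iso 963 [(13, 7), (18, 8), (21, 9)] (.iso 963 [(13, 7), (19, 8), (20, 9)] phAc110))))))))))))))))))))))))))))))))))))))))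
def phAc112 : Cert := (.iso 963 [(11, 7), (15, 8), (19, 9)] (.iso 963 [(11, 7), (15, 8), (20, 9)] (.iso 963 [(11, 7), (15, 8), (21, 9)] (.iso 963 [(11, 7), (16, 8), (17, 9)] (.iso 963 [(11, 7), (16, 8), (18, 9)] (.iso 963 [(11, 7), (16, 8), (19, 9)] (.iso 963 [(11, 7), (16, 8), (20, 9)] (.iso 963 [(11, 7), (16, 8), (21, 9)] (.iso 963 [(11, 7), (17, 8), (18, 9)] (.iso 963 [(11, 7), (17, 8), (19, 9)] (.iso 963 [(11, 7), (17, 8), (20, 9)] (.iso 963 [(11, 7), (17, 8), (21, 9)] (.iso 963 [(11, 7), (18, 8), (19, 9)] (.iso 963 [(11, 7), (18, 8), (20, 9)] (.iso 963 [(11, 7), (18, 8), (21, 9)] (.iso 963 [(11, 7), (19, 8), (20, 9)] (.iso 963 [(11, 7), (19, 8), (21, 9)] (.iso 963 [(11, 7), (20, 8), (21, 9)] (.iso 963 [(12, 7), (13, 8), (14, 9)] (.iso 963 [(12, 7), (13, 8), (15, 9)] (.iso 963 [(12, 7), (13, 8), (16, 9)] (.iso 963 [(12, 7), (13, 8), (17, 9)] (.iso 963 [(12, 7), (13, 8), (18, 9)]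 (.iso 963 [(12, 7), (13, 8), (19, 9)] (.iso 963 [(12, 7), (13, 8), (20, 9)] (.iso 963 [(12, 7), (13, 8), (21, 9)] (.iso 963 [(12, 7), (14, 8), (15, 9)] (.iso 963 [(12, 7), (14, 8), (16, 9)] (.iso 963 [(12, 7), (14, 8), (17, 9)] (.iso 963 [(12, 7), (14, 8), (18, 9)] (.iso 963 [(12, 7), (14, 8), (19, 9)] (.iso 963 [(12, 7), (14, 8), (20, 9)] (.iso 963 [(12, 7), (14, 8), (21, 9)] (.iso 963 [(12, 7), (15, 8), (16, 9)] (.iso 963 [(12, 7), (15, 8), (17, 9)] (.iso 963 [(12, 7), (15, 8), (18, 9)] (.iso 963 [(12, 7), (15, 8), (19, 9)] (.iso 963 [(12, 7), (15, 8), (20, 9)] (.iso 963 [(12, 7), (15, 8), (21, 9)] (.iso 963 [(12, 7), (16, 8), (17, 9)] phAc111))))))))))))))))))))))))))))))))))))))))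
def phAc113 : Cert := (.iso 963 [(10, 7), (16, 8), (19, 9)] (.iso 963 [(10, 7), (16, 8), (20, 9)] (.iso 963 [(10, 7), (16, 8), (21, 9)] (.iso 963 [(10, 7), (17, 8), (18, 9)] (.iso 963 [(10, 7), (17, 8), (19, 9)] (.iso 963 [(10, 7), (17, 8), (20, 9)] (.iso 963 [(10, 7), (17, 8), (21, 9)] (.iso 963 [(10, 7), (18, 8), (19, 9)] (.iso 963 [(10, 7), (18, 8), (20, 9)] (.iso 963 [(10, 7), (18, 8), (21, 9)] (.iso 963 [(10, 7), (19, 8), (20, 9)] (.iso 963 [(10, 7), (19, 8), (21, 9)] (.iso 963 [(10, 7), (20, 8), (21, 9)] (.iso 963 [(11, 7), (12, 8), (13, 9)] (.iso 963 [(11, 7), (12, 8), (14, 9)] (.iso 963 [(11, 7), (12, 8), (15, 9)] (.iso 963 [(11, 7), (12, 8), (16, 9)] (.iso 963 [(11, 7), (12, 8), (17, 9)] (.iso 963 [(11, 7), (12, 8), (18, 9)] (.iso 963 [(11, 7), (12, 8), (19, 9)] (.iso 963 [(11, 7), (12, 8), (20, 9)] (.iso 963 [(11, 7), (12, 8), (21, 9)] (.iso 963 [(11, 7), (13, 8), (14, 9)]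 (.iso 963 [(11, 7), (13, 8), (15, 9)] (.iso 963 [(11, 7), (13, 8), (16, 9)] (.iso 963 [(11, 7), (13, 8), (17, 9)] (.iso 963 [(11, 7), (13, 8), (18, 9)] (.iso 963 [(11, 7), (13, 8), (19, 9)] (.iso 963 [(11, 7), (13, 8), (20, 9)] (.iso 963 [(11, 7), (13, 8), (21, 9)] (.iso 963 [(11, 7), (14, 8), (15, 9)] (.iso 963 [(11, 7), (14, 8), (16, 9)] (.iso 963 [(11, 7), (14, 8), (17, 9)] (.iso 963 [(11, 7), (14, 8), (18, 9)] (.iso 963 [(11, 7), (14, 8), (19, 9)] (.iso 963 [(11, 7), (14, 8), (20, 9)] (.iso 963 [(11, 7), (14, 8), (21, 9)] (.iso 963 [(11, 7), (15, 8), (16, 9)] (.iso 963 [(11, 7), (15, 8), (17, 9)] (.iso 963 [(11, 7), (15, 8), (18, 9)] phAc112))))))))))))))))))))))))))))))))))))))))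
def phAc114 : Cert := (.iso 963 [(10, 7), (11, 8), (14, 9)] (.iso 963 [(10, 7), (11, 8), (15, 9)] (.iso 963 [(10, 7), (11, 8), (16, 9)] (.iso 963 [(10, 7), (11, 8), (17, 9)] (.iso 963 [(10, 7), (11, 8), (18, 9)] (.iso 963 [(10, 7), (11, 8), (19, 9)] (.iso 963 [(10, 7), (11, 8), (20, 9)] (.iso 963 [(10, 7), (11, 8), (21, 9)] (.iso 963 [(10, 7), (12, 8), (13, 9)] (.iso 963 [(10, 7), (12, 8), (14, 9)] (.iso 963 [(10, 7), (12, 8), (15, 9)] (.iso 963 [(10, 7), (12, 8), (16, 9)] (.iso 963 [(10, 7), (12, 8), (17, 9)] (.iso 963 [(10, 7), (12, 8), (18, 9)] (.iso 963 [(10, 7), (12, 8), (19, 9)] (.iso 963 [(10, 7), (12, 8), (20, 9)] (.iso 963 [(10, 7), (12, 8), (21, 9)] (.iso 963 [(10, 7), (13, 8), (14, 9)] (.iso 963 [(10, 7), (13, 8), (15, 9)] (.iso 963 [(10, 7), (13, 8), (16, 9)] (.iso 963 [(10, 7), (13, 8), (17, 9)] (.iso 963 [(10, 7), (13, 8), (18, 9)] (.iso 963 [(10, 7), (13, 8), (19, 9)]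 (.iso 963 [(10, 7), (13, 8), (20, 9)] (.iso 963 [(10, 7), (13, 8), (21, 9)] (.iso 963 [(10, 7), (14, 8), (15, 9)] (.iso 963 [(10, 7), (14, 8), (16, 9)] (.iso 963 [(10, 7), (14, 8), (17, 9)] (.iso 963 [(10, 7), (14, 8), (18, 9)] (.iso 963 [(10, 7), (14, 8), (19, 9)] (.iso 963 [(10, 7), (14, 8), (20, 9)] (.iso 963 [(10, 7), (14, 8), (21, 9)] (.iso 963 [(10, 7), (15, 8), (16, 9)] (.iso 963 [(10, 7), (15, 8), (17, 9)] (.iso 963 [(10, 7), (15, 8), (18, 9)] (.iso 963 [(10, 7), (15, 8), (19, 9)] (.iso 963 [(10, 7), (15, 8), (20, 9)] (.iso 963 [(10, 7), (15, 8), (21, 9)] (.iso 963 [(10, 7), (16, 8), (17, 9)] (.iso 963 [(10, 7), (16, 8), (18, 9)] phAc113))))))))))))))))))))))))))))))))))))))))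
def phAc115 : Cert := (.iso 963 [(12, 7), (20, 8)] (.iso 963 [(12, 7), (21, 8)] (.iso 963 [(13, 7), (14, 8)] (.iso 963 [(13, 7), (15, 8)] (.iso 963 [(13, 7), (16, 8)] (.iso 963 [(13, 7), (17, 8)] (.iso 963 [(13, 7), (18, 8)] (.iso 963 [(13, 7), (19, 8)] (.iso 963 [(13, 7), (20, 8)] (.iso 963 [(13, 7), (21, 8)] (.iso 963 [(14, 7), (15, 8)] (.iso 963 [(14, 7), (16, 8)] (.iso 963 [(14, 7), (17, 8)] (.iso 963 [(14, 7), (18, 8)] (.iso 963 [(14, 7), (19, 8)] (.iso 963 [(14, 7), (20, 8)] (.iso 963 [(14, 7), (21, 8)] (.iso 963 [(15, 7), (16, 8)] (.iso 963 [(15, 7), (17, 8)] (.iso 963 [(15, 7), (18, 8)] (.iso 963 [(15, 7), (19, 8)] (.iso 963 [(15, 7), (20, 8)] (.iso 963 [(15, 7), (21, 8)] (.iso 963 [(16, 7), (17, 8)] (.iso 963 [(16, 7), (18, 8)] (.iso 963 [(16, 7), (19, 8)] (.iso 963 [(16, 7), (20, 8)] (.iso 963 [(16, 7), (21, 8)] (.iso 963 [(17, 7), (18, 8)] (.iso 963 [(17, 7), (19, 8)] (.iso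 963 [(17, 7), (20, 8)] (.iso 963 [(17, 7), (21, 8)] (.iso 963 [(18, 7), (19, 8)] (.iso 963 [(18, 7), (20, 8)] (.iso 963 [(18, 7), (21, 8)] (.iso 963 [(19, 7), (20, 8)] (.iso 963 [(19, 7), (21, 8)] (.iso 963 [(20, 7), (21, 8)] (.iso 963 [(10, 7), (11, 8), (12, 9)] (.iso 963 [(10, 7), (11, 8), (13, 9)] phAc114))))))))))))))))))))))))))))))))))))))))
def phAc116 : Cert := (.iso 963 [(16, 7), (20, 9)] (.iso 963 [(16, 7), (21, 9)] (.iso 963 [(17, 7), (18, 9)] (.iso 963 [(17, 7), (19, 9)] (.iso 963 [(17, 7), (20, 9)] (.iso 963 [(17, 7), (21, 9)] (.iso 963 [(18, 7), (19, 9)] (.iso 963 [(18, 7), (20, 9)] (.iso 963 [(18, 7), (21, 9)] (.iso 963 [(19, 7), (20, 9)] (.iso 963 [(19, 7), (21, 9)] (.iso 963 [(20, 7), (21, 9)] (.iso 963 [(10, 7), (11, 8)] (.iso 963 [(10, 7), (12, 8)] (.iso 963 [(10, 7), (13, 8)] (.iso 963 [(10, 7), (14, 8)] (.iso 963 [(10, 7), (15, 8)] (.iso 963 [(10, 7), (16, 8)]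 (.iso 963 [(10, 7), (17, 8)] (.iso 963 [(10, 7), (18, 8)] (.iso 963 [(10, 7), (19, 8)] (.iso 963 [(10, 7), (20, 8)] (.iso 963 [(10, 7), (21, 8)] (.iso 963 [(11, 7), (12, 8)] (.iso 963 [(11, 7), (13, 8)] (.iso 963 [(11, 7), (14, 8)] (.iso 963 [(11, 7), (15, 8)] (.iso 963 [(11, 7), (16, 8)] (.iso 963 [(11, 7), (17, 8)] (.iso 963 [(11, 7), (18, 8)] (.iso 963 [(11, 7), (19, 8)] (.iso 963 [(11, 7), (20, 8)] (.iso 963 [(11, 7), (21, 8)] (.iso 963 [(12, 7), (13, 8)] (.iso 963 [(12, 7), (14, 8)] (.iso 963 [(12, 7), (15, 8)] (.iso 963 [(12, 7), (16, 8)] (.iso 963 [(12, 7), (17, 8)] (.iso 963 [(12, 7), (18, 8)] (.iso 963 [(12, 7), (19, 8)] phAc115))))))))))))))))))))))))))))))))))))))))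
def phAc117 : Cert := (.iso 963 [(11, 7), (15, 9)] (.iso 963 [(11, 7), (16, 9)] (.iso 963 [(11, 7), (17, 9)] (.iso 963 [(11, 7), (18, 9)] (.iso 963 [(11, 7), (19, 9)] (.iso 963 [(11, 7), (20, 9)] (.iso 963 [(11, 7), (21, 9)] (.iso 963 [(12, 7), (13, 9)] (.iso 963 [(12, 7), (14, 9)] (.iso 963 [(12, 7), (15, 9)] (.iso 963 [(12, 7), (16, 9)] (.iso 963 [(12, 7), (17, 9)] (.iso 963 [(12, 7), (18, 9)] (.iso 963 [(12, 7), (19, 9)] (.iso 963 [(12, 7), (20, 9)] (.iso 963 [(12, 7), (21, 9)] (.iso 963 [(13, 7), (14, 9)] (.iso 963 [(13, 7), (15, 9)] (.iso 963 [(13, 7), (16, 9)] (.iso 963 [(13, 7), (17, 9)] (.iso 963 [(13, 7), (18, 9)] (.iso 963 [(13, 7), (19, 9)] (.iso 963 [(13, 7), (20, 9)] (.iso 963 [(13, 7), (21, 9)] (.iso 963 [(14, 7), (15, 9)] (.iso 963 [(14, 7), (16, 9)] (.iso 963 [(14, 7), (17, 9)] (.iso 963 [(14, 7), (18, 9)] (.iso 963 [(14, 7), (19, 9)] (.iso 963 [(14, 7), (20, 9)] (.iso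 963 [(14, 7), (21, 9)] (.iso 963 [(15, 7), (16, 9)] (.iso 963 [(15, 7), (17, 9)] (.iso 963 [(15, 7), (18, 9)] (.iso 963 [(15, 7), (19, 9)] (.iso 963 [(15, 7), (20, 9)] (.iso 963 [(15, 7), (21, 9)] (.iso 963 [(16, 7), (17, 9)] (.iso 963 [(16, 7), (18, 9)] (.iso 963 [(16, 7), (19, 9)] phAc116))))))))))))))))))))))))))))))))))))))))
def phAc118 : Cert := (.iso 963 [(16, 8), (18, 9)] (.iso 963 [(16, 8), (19, 9)] (.iso 963 [(16, 8), (20, 9)] (.iso 963 [(16, 8), (21, 9)] (.iso 963 [(17, 8), (18, 9)] (.iso 963 [(17, 8), (19, 9)] (.iso 963 [(17, 8), (20, 9)] (.iso 963 [(17, 8), (21, 9)] (.iso 963 [(18, 8), (19, 9)] (.iso 963 [(18, 8), (20, 9)] (.iso 963 [(18, 8), (21, 9)] (.iso 963 [(19, 8), (20, 9)] (.iso 963 [(19, 8), (21, 9)] (.iso 963 [(20, 8), (21, 9)] (.iso 963 [(10, 7)] (.iso 963 [(11, 7)] (.iso 963 [(12, 7)] (.iso 963 [(13, 7)] (.iso 963 [(14, 7)] (.iso 963 [(15, 7)] (.iso 963 [(16,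 7)] (.iso 963 [(17, 7)] (.iso 963 [(18, 7)] (.iso 963 [(19, 7)] (.iso 963 [(20, 7)] (.iso 963 [(21, 7)] (.iso 963 [(10, 7), (11, 9)] (.iso 963 [(10, 7), (12, 9)] (.iso 963 [(10, 7), (13, 9)] (.iso 963 [(10, 7), (14, 9)] (.iso 963 [(10, 7), (15, 9)] (.iso 963 [(10, 7), (16, 9)] (.iso 963 [(10, 7), (17, 9)] (.iso 963 [(10, 7), (18, 9)] (.iso 963 [(10, 7), (19, 9)] (.iso 963 [(10, 7), (20, 9)] (.iso 963 [(10, 7), (21, 9)] (.iso 963 [(11, 7), (12, 9)] (.iso 963 [(11, 7), (13, 9)] (.iso 963 [(11, 7), (14, 9)] phAc117))))))))))))))))))))))))))))))))))))))))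
def phAc119 : Cert := (.iso 963 [(11, 8), (13, 9)] (.iso 963 [(11, 8), (14, 9)] (.iso 963 [(11, 8), (15, 9)] (.iso 963 [(11, 8), (16, 9)] (.iso 963 [(11, 8), (17, 9)] (.iso 963 [(11, 8), (18, 9)] (.iso 963 [(11, 8), (19, 9)] (.iso 963 [(11, 8), (20, 9)] (.iso 963 [(11, 8), (21, 9)] (.iso 963 [(12, 8), (13, 9)] (.iso 963 [(12, 8), (14, 9)] (.iso 963 [(12, 8), (15, 9)] (.iso 963 [(12, 8), (16, 9)] (.iso 963 [(12, 8), (17, 9)] (.iso 963 [(12, 8), (18, 9)] (.iso 963 [(12, 8), (19, 9)] (.iso 963 [(12, 8), (20, 9)] (.iso 963 [(12, 8), (21, 9)] (.iso 963 [(13, 8), (14, 9)] (.iso 963 [(13, 8), (15, 9)] (.iso 963 [(13, 8), (16, 9)] (.iso 963 [(13, 8), (17, 9)] (.iso 963 [(13, 8), (18, 9)] (.iso 963 [(13, 8), (19, 9)] (.iso 963 [(13, 8), (20, 9)] (.iso 963 [(13, 8), (21, 9)] (.iso 963 [(14, 8), (15, 9)] (.iso 963 [(14, 8), (16, 9)] (.iso 963 [(14, 8), (17, 9)] (.iso 963 [(14, 8), (18, 9)] (.iso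 963 [(14, 8), (19, 9)] (.iso 963 [(14, 8), (20, 9)] (.iso 963 [(14, 8), (21, 9)] (.iso 963 [(15, 8), (16, 9)] (.iso 963 [(15, 8), (17, 9)] (.iso 963 [(15, 8), (18, 9)] (.iso 963 [(15, 8), (19, 9)] (.iso 963 [(15, 8), (20, 9)] (.iso 963 [(15, 8), (21, 9)] (.iso 963 [(16, 8), (17, 9)] phAc118))))))))))))))))))))))))))))))))))))))))
def phAc120 : Cert := (.iso 63 [(17, 3), (18, 4), (19, 5)] (.iso 63 [(17, 3), (18, 4), (20, 5)] (.iso 63 [(17, 3), (18, 4), (21, 5)] (.iso 63 [(17, 3), (19, 4), (20, 5)] (.iso 63 [(17, 3), (19, 4), (21, 5)] (.iso 63 [(17, 3), (20, 4), (21, 5)] (.iso 63 [(18, 3), (19, 4), (20, 5)] (.iso 63 [(18, 3), (19, 4), (21, 5)] (.iso 63 [(18, 3), (20, 4), (21, 5)] (.iso 63 [(19, 3), (20, 4), (21, 5)] .nil))))))))))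
def phAc121 : Cert := (.iso 63 [(14, 3), (16, 4), (17, 5)] (.iso 63 [(14, 3), (16, 4), (18, 5)] (.iso 63 [(14, 3), (16, 4), (19, 5)] (.iso 63 [(14, 3), (16, 4), (20, 5)] (.iso 63 [(14, 3), (16, 4), (21, 5)] (.iso 63 [(14, 3), (17, 4), (18, 5)] (.iso 63 [(14, 3), (17, 4), (19, 5)] (.iso 63 [(14, 3), (17, 4), (20, 5)] (.iso 63 [(14, 3), (17, 4), (21, 5)] (.iso 63 [(14, 3), (18, 4), (19, 5)] (.iso 63 [(14, 3), (18, 4), (20, 5)] (.iso 63 [(14, 3), (18, 4), (21, 5)] (.iso 63 [(14, 3), (19, 4), (20, 5)] (.iso 63 [(14, 3), (19, 4), (21, 5)] (.iso 63 [(14, 3), (20, 4), (21, 5)] (.iso 63 [(15, 3), (16, 4), (17, 5)] (.iso 63 [(15, 3), (16, 4), (18, 5)] (.iso 63 [(15, 3), (16, 4), (19, 5)] (.iso 63 [(15, 3), (16, 4), (20, 5)] (.iso 63 [(15, 3), (16, 4), (21, 5)] (.iso 63 [(15, 3), (17, 4), (18, 5)] (.iso 63 [(15, 3), (17, 4), (19, 5)] (.iso 63 [(15, 3), (17, 4), (20, 5)] (.iso 63 [(15, 3), (17,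 4), (21, 5)] (.iso 63 [(15, 3), (18, 4), (19, 5)] (.iso 63 [(15, 3), (18, 4), (20, 5)] (.iso 63 [(15, 3), (18, 4), (21, 5)] (.iso 63 [(15, 3), (19, 4), (20, 5)] (.iso 63 [(15, 3), (19, 4), (21, 5)] (.iso 63 [(15, 3), (20, 4), (21, 5)] (.iso 63 [(16, 3), (17, 4), (18, 5)] (.iso 63 [(16, 3), (17, 4), (19, 5)] (.iso 63 [(16, 3), (17, 4), (20, 5)] (.iso 63 [(16, 3), (17, 4), (21, 5)] (.iso 63 [(16, 3), (18, 4), (19, 5)] (.iso 63 [(16, 3), (18, 4), (20, 5)] (.iso 63 [(16, 3), (18, 4), (21, 5)] (.iso 63 [(16, 3), (19, 4), (20, 5)] (.iso 63 [(16, 3), (19, 4), (21, 5)] (.iso 63 [(16, 3), (20, 4), (21, 5)] phAc120))))))))))))))))))))))))))))))))))))))))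
def phAc122 : Cert := (.iso 63 [(12, 3), (18, 4), (19, 5)] (.iso 63 [(12, 3), (18, 4), (20, 5)] (.iso 63 [(12, 3), (18, 4), (21, 5)] (.iso 63 [(12, 3), (19, 4), (20, 5)] (.iso 63 [(12, 3), (19, 4), (21, 5)] (.iso 63 [(12, 3), (20, 4), (21, 5)] (.iso 63 [(13, 3), (14, 4), (15, 5)] (.iso 63 [(13, 3), (14, 4), (16, 5)] (.iso 63 [(13, 3), (14, 4), (17, 5)] (.iso 63 [(13, 3), (14, 4), (18, 5)] (.iso 63 [(13, 3), (14, 4), (19, 5)] (.iso 63 [(13, 3), (14, 4), (20, 5)] (.iso 63 [(13, 3), (14, 4), (21, 5)] (.iso 63 [(13, 3), (15, 4), (16, 5)] (.iso 63 [(13, 3), (15, 4), (17, 5)] (.iso 63 [(13, 3), (15, 4), (18, 5)] (.iso 63 [(13, 3), (15, 4), (19, 5)] (.iso 63 [(13, 3), (15, 4), (20, 5)] (.iso 63 [(13, 3), (15, 4), (21, 5)] (.iso 63 [(13, 3), (16, 4), (17, 5)] (.iso 63 [(13, 3), (16, 4), (18, 5)] (.iso 63 [(13, 3), (16, 4), (19, 5)] (.iso 63 [(13, 3), (16, 4), (20, 5)] (.iso 63 [(13, 3), (16,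 4), (21, 5)] (.iso 63 [(13, 3), (17, 4), (18, 5)] (.iso 63 [(13, 3), (17, 4), (19, 5)] (.iso 63 [(13, 3), (17, 4), (20, 5)] (.iso 63 [(13, 3), (17, 4), (21, 5)] (.iso 63 [(13, 3), (18, 4), (19, 5)] (.iso 63 [(13, 3), (18, 4), (20, 5)] (.iso 63 [(13, 3), (18, 4), (21, 5)] (.iso 63 [(13, 3), (19, 4), (20, 5)] (.iso 63 [(13, 3), (19, 4), (21, 5)] (.iso 63 [(13, 3), (20, 4), (21, 5)] (.iso 63 [(14, 3), (15, 4), (16, 5)] (.iso 63 [(14, 3), (15, 4), (17, 5)] (.iso 63 [(14, 3), (15, 4), (18, 5)] (.iso 63 [(14, 3), (15, 4), (19, 5)] (.iso 63 [(14, 3), (15, 4), (20, 5)] (.iso 63 [(14, 3), (15, 4), (21, 5)] phAc121))))))))))))))))))))))))))))))))))))))))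
def phAc123 : Cert := (.iso 63 [(11, 3), (17, 4), (18, 5)] (.iso 63 [(11, 3), (17, 4), (19, 5)] (.iso 63 [(11, 3), (17, 4), (20, 5)] (.iso 63 [(11, 3), (17, 4), (21, 5)] (.iso 63 [(11, 3), (18, 4), (19, 5)] (.iso 63 [(11, 3), (18, 4), (20, 5)] (.iso 63 [(11, 3), (18, 4), (21, 5)] (.iso 63 [(11, 3), (19, 4), (20, 5)] (.iso 63 [(11, 3), (19, 4), (21, 5)] (.iso 63 [(11, 3), (20, 4), (21, 5)] (.iso 63 [(12, 3), (13, 4), (14, 5)] (.iso 63 [(12, 3), (13, 4), (15, 5)] (.iso 63 [(12, 3), (13, 4), (16, 5)] (.iso 63 [(12, 3), (13, 4), (17, 5)] (.iso 63 [(12, 3), (13, 4), (18, 5)] (.iso 63 [(12, 3), (13, 4), (19, 5)] (.iso 63 [(12, 3), (13, 4), (20, 5)] (.iso 63 [(12, 3), (13, 4), (21, 5)] (.iso 63 [(12, 3), (14, 4), (15, 5)] (.iso 63 [(12, 3), (14, 4), (16, 5)] (.iso 63 [(12, 3), (14, 4), (17, 5)] (.iso 63 [(12, 3), (14, 4), (18, 5)] (.iso 63 [(12, 3), (14, 4), (19, 5)] (.iso 63 [(12, 3), (14,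 4), (20, 5)] (.iso 63 [(12, 3), (14, 4), (21, 5)] (.iso 63 [(12, 3), (15, 4), (16, 5)] (.iso 63 [(12, 3), (15, 4), (17, 5)] (.iso 63 [(12, 3), (15, 4), (18, 5)] (.iso 63 [(12, 3), (15, 4), (19, 5)] (.iso 63 [(12, 3), (15, 4), (20, 5)] (.iso 63 [(12, 3), (15, 4), (21, 5)] (.iso 63 [(12, 3), (16, 4), (17, 5)] (.iso 63 [(12, 3), (16, 4), (18, 5)] (.iso 63 [(12, 3), (16, 4), (19, 5)] (.iso 63 [(12, 3), (16, 4), (20, 5)] (.iso 63 [(12, 3), (16, 4), (21, 5)] (.iso 63 [(12, 3), (17, 4), (18, 5)] (.iso 63 [(12, 3), (17, 4), (19, 5)] (.iso 63 [(12, 3), (17, 4), (20, 5)] (.iso 63 [(12, 3), (17, 4), (21, 5)] phAc122))))))))))))))))))))))))))))))))))))))))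
def phAc124 : Cert := (.iso 63 [(10, 3), (18, 4), (20, 5)] (.iso 63 [(10, 3), (18, 4), (21, 5)] (.iso 63 [(10, 3), (19, 4), (20, 5)] (.iso 63 [(10, 3), (19, 4), (21, 5)] (.iso 63 [(10, 3), (20, 4), (21, 5)] (.iso 63 [(11, 3), (12, 4), (13, 5)] (.iso 63 [(11, 3), (12, 4), (14, 5)] (.iso 63 [(11, 3), (12, 4), (15, 5)] (.iso 63 [(11, 3), (12, 4), (16, 5)] (.iso 63 [(11, 3), (12, 4), (17, 5)] (.iso 63 [(11, 3), (12, 4), (18, 5)] (.iso 63 [(11, 3), (12, 4), (19, 5)] (.iso 63 [(11, 3), (12, 4), (20, 5)] (.iso 63 [(11, 3), (12, 4), (21, 5)] (.iso 63 [(11, 3), (13, 4), (14, 5)] (.iso 63 [(11, 3), (13, 4), (15, 5)] (.iso 63 [(11, 3), (13, 4), (16, 5)] (.iso 63 [(11, 3), (13, 4), (17, 5)] (.iso 63 [(11, 3), (13, 4), (18, 5)] (.iso 63 [(11, 3), (13, 4), (19, 5)] (.iso 63 [(11, 3), (13, 4), (20, 5)] (.iso 63 [(11, 3), (13, 4), (21, 5)] (.iso 63 [(11, 3), (14, 4), (15, 5)] (.iso 63 [(11, 3), (14,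 4), (16, 5)] (.iso 63 [(11, 3), (14, 4), (17, 5)] (.iso 63 [(11, 3), (14, 4), (18, 5)] (.iso 63 [(11, 3), (14, 4), (19, 5)] (.iso 63 [(11, 3), (14, 4), (20, 5)] (.iso 63 [(11, 3), (14, 4), (21, 5)] (.iso 63 [(11, 3), (15, 4), (16, 5)] (.iso 63 [(11, 3), (15, 4), (17, 5)] (.iso 63 [(11, 3), (15, 4), (18, 5)] (.iso 63 [(11, 3), (15, 4), (19, 5)] (.iso 63 [(11, 3), (15, 4), (20, 5)] (.iso 63 [(11, 3), (15, 4), (21, 5)] (.iso 63 [(11, 3), (16, 4), (17, 5)] (.iso 63 [(11, 3), (16, 4), (18, 5)] (.iso 63 [(11, 3), (16, 4), (19, 5)] (.iso 63 [(11, 3), (16, 4), (20, 5)] (.iso 63 [(11, 3), (16, 4), (21, 5)] phAc123))))))))))))))))))))))))))))))))))))))))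
def phAc125 : Cert := (.iso 63 [(10, 3), (12, 4), (13, 5)] (.iso 63 [(10, 3), (12, 4), (14, 5)] (.iso 63 [(10, 3), (12, 4), (15, 5)] (.iso 63 [(10, 3), (12, 4), (16, 5)] (.iso 63 [(10, 3), (12, 4), (17, 5)] (.iso 63 [(10, 3), (12, 4), (18, 5)] (.iso 63 [(10, 3), (12, 4), (19, 5)] (.iso 63 [(10, 3), (12, 4), (20, 5)] (.iso 63 [(10, 3), (12, 4), (21, 5)] (.iso 63 [(10, 3), (13, 4), (14, 5)] (.iso 63 [(10, 3), (13, 4), (15, 5)] (.iso 63 [(10, 3), (13, 4), (16, 5)] (.iso 63 [(10, 3), (13, 4), (17, 5)] (.iso 63 [(10, 3), (13, 4), (18, 5)] (.iso 63 [(10, 3), (13, 4), (19, 5)] (.iso 63 [(10, 3), (13, 4), (20, 5)] (.iso 63 [(10, 3), (13, 4), (21, 5)] (.iso 63 [(10, 3), (14, 4), (15, 5)] (.iso 63 [(10, 3), (14, 4), (16, 5)] (.iso 63 [(10, 3), (14, 4), (17, 5)] (.iso 63 [(10, 3), (14, 4), (18, 5)] (.iso 63 [(10, 3), (14, 4), (19, 5)] (.iso 63 [(10, 3), (14, 4), (20, 5)] (.iso 63 [(10, 3), (14,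 4), (21, 5)] (.iso 63 [(10, 3), (15, 4), (16, 5)] (.iso 63 [(10, 3), (15, 4), (17, 5)] (.iso 63 [(10, 3), (15, 4), (18, 5)] (.iso 63 [(10, 3), (15, 4), (19, 5)] (.iso 63 [(10, 3), (15, 4), (20, 5)] (.iso 63 [(10, 3), (15, 4), (21, 5)] (.iso 63 [(10, 3), (16, 4), (17, 5)] (.iso 63 [(10, 3), (16, 4), (18, 5)] (.iso 63 [(10, 3), (16, 4), (19, 5)] (.iso 63 [(10, 3), (16, 4), (20, 5)] (.iso 63 [(10, 3), (16, 4), (21, 5)] (.iso 63 [(10, 3), (17, 4), (18, 5)] (.iso 63 [(10, 3), (17, 4), (19, 5)] (.iso 63 [(10, 3), (17, 4), (20, 5)] (.iso 63 [(10, 3), (17, 4), (21, 5)] (.iso 63 [(10, 3), (18, 4), (19, 5)] phAc124))))))))))))))))))))))))))))))))))))))))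
def phAc126 : Cert := (.iso 63 [(9, 3), (13, 4), (20, 5)] (.iso 63 [(9, 3), (13, 4), (21, 5)] (.iso 63 [(9, 3), (14, 4), (15, 5)] (.iso 63 [(9, 3), (14, 4), (16, 5)] (.iso 63 [(9, 3), (14, 4), (17, 5)] (.iso 63 [(9, 3), (14, 4), (18, 5)] (.iso 63 [(9, 3), (14, 4), (19, 5)] (.iso 63 [(9, 3), (14, 4), (20, 5)] (.iso 63 [(9, 3), (14, 4), (21, 5)] (.iso 63 [(9, 3), (15, 4), (16, 5)] (.iso 63 [(9, 3), (15, 4), (17, 5)] (.iso 63 [(9, 3), (15, 4), (18, 5)] (.iso 63 [(9, 3), (15, 4), (19, 5)] (.iso 63 [(9, 3), (15, 4), (20, 5)] (.iso 63 [(9, 3), (15, 4), (21, 5)] (.iso 63 [(9, 3), (16, 4), (17, 5)] (.iso 63 [(9, 3), (16, 4), (18, 5)] (.iso 63 [(9, 3), (16, 4), (19, 5)] (.iso 63 [(9, 3), (16, 4), (20, 5)] (.iso 63 [(9, 3), (16, 4), (21, 5)] (.iso 63 [(9, 3), (17, 4), (18, 5)] (.iso 63 [(9, 3), (17, 4), (19, 5)] (.iso 63 [(9, 3), (17, 4), (20, 5)] (.iso 63 [(9, 3), (17, 4), (21, 5)] (.iso 63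 [(9, 3), (18, 4), (19, 5)] (.iso 63 [(9, 3), (18, 4), (20, 5)] (.iso 63 [(9, 3), (18, 4), (21, 5)] (.iso 63 [(9, 3), (19, 4), (20, 5)] (.iso 63 [(9, 3), (19, 4), (21, 5)] (.iso 63 [(9, 3), (20, 4), (21, 5)] (.iso 63 [(10, 3), (11, 4), (12, 5)] (.iso 63 [(10, 3), (11, 4), (13, 5)] (.iso 63 [(10, 3), (11, 4), (14, 5)] (.iso 63 [(10, 3), (11, 4), (15, 5)] (.iso 63 [(10, 3), (11, 4), (16, 5)] (.iso 63 [(10, 3), (11, 4), (17, 5)] (.iso 63 [(10, 3), (11, 4), (18, 5)] (.iso 63 [(10, 3), (11, 4), (19, 5)] (.iso 63 [(10, 3), (11, 4), (20, 5)] (.iso 63 [(10, 3), (11, 4), (21, 5)] phAc125))))))))))))))))))))))))))))))))))))))))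
def phAc127 : Cert := (.iso 63 [(8, 3), (18, 4), (21, 5)] (.iso 63 [(8, 3), (19, 4), (20, 5)] (.iso 63 [(8, 3), (19, 4), (21, 5)] (.iso 63 [(8, 3), (20, 4), (21, 5)] (.iso 63 [(9, 3), (10, 4), (11, 5)] (.iso 63 [(9, 3), (10, 4), (12, 5)] (.iso 63 [(9, 3), (10, 4), (13, 5)] (.iso 63 [(9, 3), (10, 4), (14, 5)] (.iso 63 [(9, 3), (10, 4), (15, 5)] (.iso 63 [(9, 3), (10, 4), (16, 5)] (.iso 63 [(9, 3), (10, 4), (17, 5)] (.iso 63 [(9, 3), (10, 4), (18, 5)] (.iso 63 [(9, 3), (10, 4), (19, 5)] (.iso 63 [(9, 3), (10, 4), (20, 5)] (.iso 63 [(9, 3), (10, 4), (21, 5)] (.iso 63 [(9, 3), (11, 4), (12, 5)] (.iso 63 [(9, 3), (11, 4), (13, 5)] (.iso 63 [(9, 3), (11, 4), (14, 5)] (.iso 63 [(9, 3), (11, 4), (15, 5)] (.iso 63 [(9, 3), (11, 4), (16, 5)] (.iso 63 [(9, 3), (11, 4), (17, 5)] (.iso 63 [(9, 3), (11, 4), (18, 5)] (.iso 63 [(9, 3), (11, 4), (19, 5)] (.iso 63 [(9, 3), (11, 4), (20, 5)] (.iso 63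 [(9, 3), (11, 4), (21, 5)] (.iso 63 [(9, 3), (12, 4), (13, 5)] (.iso 63 [(9, 3), (12, 4), (14, 5)] (.iso 63 [(9, 3), (12, 4), (15, 5)] (.iso 63 [(9, 3), (12, 4), (16, 5)] (.iso 63 [(9, 3), (12, 4), (17, 5)] (.iso 63 [(9, 3), (12, 4), (18, 5)] (.iso 63 [(9, 3), (12, 4), (19, 5)] (.iso 63 [(9, 3), (12, 4), (20, 5)] (.iso 63 [(9, 3), (12, 4), (21, 5)] (.iso 63 [(9, 3), (13, 4), (14, 5)] (.iso 63 [(9, 3), (13, 4), (15, 5)] (.iso 63 [(9, 3), (13, 4), (16, 5)] (.iso 63 [(9, 3), (13, 4), (17, 5)] (.iso 63 [(9, 3), (13, 4), (18, 5)] (.iso 63 [(9, 3), (13, 4), (19, 5)] phAc126))))))))))))))))))))))))))))))))))))))))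
def phAc128 : Cert := (.iso 63 [(8, 3), (12, 4), (14, 5)] (.iso 63 [(8, 3), (12, 4), (15, 5)] (.iso 63 [(8, 3), (12, 4), (16, 5)] (.iso 63 [(8, 3), (12, 4), (17, 5)] (.iso 63 [(8, 3), (12, 4), (18, 5)] (.iso 63 [(8, 3), (12, 4), (19, 5)] (.iso 63 [(8, 3), (12, 4), (20, 5)] (.iso 63 [(8, 3), (12, 4), (21, 5)] (.iso 63 [(8, 3), (13, 4), (14, 5)] (.iso 63 [(8, 3), (13, 4), (15, 5)] (.iso 63 [(8, 3), (13, 4), (16, 5)] (.iso 63 [(8, 3), (13, 4), (17, 5)] (.iso 63 [(8, 3), (13, 4), (18, 5)] (.iso 63 [(8, 3), (13, 4), (19, 5)] (.iso 63 [(8, 3), (13, 4), (20, 5)] (.iso 63 [(8, 3), (13, 4), (21, 5)] (.iso 63 [(8, 3), (14, 4), (15, 5)] (.iso 63 [(8, 3), (14, 4), (16, 5)] (.iso 63 [(8, 3), (14, 4), (17, 5)] (.iso 63 [(8, 3), (14, 4), (18, 5)] (.iso 63 [(8, 3), (14, 4), (19, 5)] (.iso 63 [(8, 3), (14, 4), (20, 5)] (.iso 63 [(8, 3), (14, 4), (21, 5)] (.iso 63 [(8, 3), (15, 4), (16, 5)] (.iso 63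 [(8, 3), (15, 4), (17, 5)] (.iso 63 [(8, 3), (15, 4), (18, 5)] (.iso 63 [(8, 3), (15, 4), (19, 5)] (.iso 63 [(8, 3), (15, 4), (20, 5)] (.iso 63 [(8, 3), (15, 4), (21, 5)] (.iso 63 [(8, 3), (16, 4), (17, 5)] (.iso 63 [(8, 3), (16, 4), (18, 5)] (.iso 63 [(8, 3), (16, 4), (19, 5)] (.iso 63 [(8, 3), (16, 4), (20, 5)] (.iso 63 [(8, 3), (16, 4), (21, 5)] (.iso 63 [(8, 3), (17, 4), (18, 5)] (.iso 63 [(8, 3), (17, 4), (19, 5)] (.iso 63 [(8, 3), (17, 4), (20, 5)] (.iso 63 [(8, 3), (17, 4), (21, 5)] (.iso 63 [(8, 3), (18, 4), (19, 5)] (.iso 63 [(8, 3), (18, 4), (20, 5)] phAc127))))))))))))))))))))))))))))))))))))))))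
def phAc129 : Cert := (.iso 63 [(7, 3), (18, 4), (19, 5)] (.iso 63 [(7, 3), (18, 4), (20, 5)] (.iso 63 [(7, 3), (18, 4), (21, 5)] (.iso 63 [(7, 3), (19, 4), (20, 5)] (.iso 63 [(7, 3), (19, 4), (21, 5)] (.iso 63 [(7, 3), (20, 4), (21, 5)] (.iso 63 [(8, 3), (9, 4), (10, 5)] (.iso 63 [(8, 3), (9, 4), (11, 5)] (.iso 63 [(8, 3), (9, 4), (12, 5)] (.iso 63 [(8, 3), (9, 4), (13, 5)] (.iso 63 [(8, 3), (9, 4), (14, 5)] (.iso 63 [(8, 3), (9, 4), (15, 5)] (.iso 63 [(8, 3), (9, 4), (16, 5)] (.iso 63 [(8, 3), (9, 4), (17, 5)] (.iso 63 [(8, 3), (9, 4), (18, 5)] (.iso 63 [(8, 3), (9, 4), (19, 5)] (.iso 63 [(8, 3), (9, 4), (20, 5)] (.iso 63 [(8, 3), (9, 4), (21, 5)] (.iso 63 [(8, 3), (10, 4), (11, 5)] (.iso 63 [(8, 3), (10, 4), (12, 5)] (.iso 63 [(8, 3), (10, 4), (13, 5)] (.iso 63 [(8, 3), (10, 4), (14, 5)] (.iso 63 [(8, 3), (10, 4), (15, 5)] (.iso 63 [(8, 3), (10, 4), (16, 5)] (.iso 63 [(8, 3), (10,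 4), (17, 5)] (.iso 63 [(8, 3), (10, 4), (18, 5)] (.iso 63 [(8, 3), (10, 4), (19, 5)] (.iso 63 [(8, 3), (10, 4), (20, 5)] (.iso 63 [(8, 3), (10, 4), (21, 5)] (.iso 63 [(8, 3), (11, 4), (12, 5)] (.iso 63 [(8, 3), (11, 4), (13, 5)] (.iso 63 [(8, 3), (11, 4), (14, 5)] (.iso 63 [(8, 3), (11, 4), (15, 5)] (.iso 63 [(8, 3), (11, 4), (16, 5)] (.iso 63 [(8, 3), (11, 4), (17, 5)] (.iso 63 [(8, 3), (11, 4), (18, 5)] (.iso 63 [(8, 3), (11, 4), (19, 5)] (.iso 63 [(8, 3), (11, 4), (20, 5)] (.iso 63 [(8, 3), (11, 4), (21, 5)] (.iso 63 [(8, 3), (12, 4), (13, 5)] phAc128))))))))))))))))))))))))))))))))))))))))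
def phAc130 : Cert := (.iso 63 [(7, 3), (11, 4), (21, 5)] (.iso 63 [(7, 3), (12, 4), (13, 5)] (.iso 63 [(7, 3), (12, 4), (14, 5)] (.iso 63 [(7, 3), (12, 4), (15, 5)] (.iso 63 [(7, 3), (12, 4), (16, 5)] (.iso 63 [(7, 3), (12, 4), (17, 5)] (.iso 63 [(7, 3), (12, 4), (18, 5)] (.iso 63 [(7, 3), (12, 4), (19, 5)] (.iso 63 [(7, 3), (12, 4), (20, 5)] (.iso 63 [(7, 3), (12, 4), (21, 5)] (.iso 63 [(7, 3), (13, 4), (14, 5)] (.iso 63 [(7, 3), (13, 4), (15, 5)] (.iso 63 [(7, 3), (13, 4), (16, 5)] (.iso 63 [(7, 3), (13, 4), (17, 5)] (.iso 63 [(7, 3), (13, 4), (18, 5)] (.iso 63 [(7, 3), (13, 4), (19, 5)] (.iso 63 [(7, 3), (13, 4), (20, 5)] (.iso 63 [(7, 3), (13, 4), (21, 5)] (.iso 63 [(7, 3), (14, 4), (15, 5)] (.iso 63 [(7, 3), (14, 4), (16, 5)] (.iso 63 [(7, 3), (14, 4), (17, 5)] (.iso 63 [(7, 3), (14, 4), (18, 5)] (.iso 63 [(7, 3), (14, 4), (19, 5)] (.iso 63 [(7, 3), (14, 4), (20, 5)] (.iso 63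 [(7, 3), (14, 4), (21, 5)] (.iso 63 [(7, 3), (15, 4), (16, 5)] (.iso 63 [(7, 3), (15, 4), (17, 5)] (.iso 63 [(7, 3), (15, 4), (18, 5)] (.iso 63 [(7, 3), (15, 4), (19, 5)] (.iso 63 [(7, 3), (15, 4), (20, 5)] (.iso 63 [(7, 3), (15, 4), (21, 5)] (.iso 63 [(7, 3), (16, 4), (17, 5)] (.iso 63 [(7, 3), (16, 4), (18, 5)] (.iso 63 [(7, 3), (16, 4), (19, 5)] (.iso 63 [(7, 3), (16, 4), (20, 5)] (.iso 63 [(7, 3), (16, 4), (21, 5)] (.iso 63 [(7, 3), (17, 4), (18, 5)] (.iso 63 [(7, 3), (17, 4), (19, 5)] (.iso 63 [(7, 3), (17, 4), (20, 5)] (.iso 63 [(7, 3), (17, 4), (21, 5)] phAc129))))))))))))))))))))))))))))))))))))))))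
def phAc131 : Cert := (.iso 63 [(7, 3), (8, 4), (14, 5)] (.iso 63 [(7, 3), (8, 4), (15, 5)] (.iso 63 [(7, 3), (8, 4), (16, 5)] (.iso 63 [(7, 3), (8, 4), (17, 5)] (.iso 63 [(7, 3), (8, 4), (18, 5)] (.iso 63 [(7, 3), (8, 4), (19, 5)] (.iso 63 [(7, 3), (8, 4), (20, 5)] (.iso 63 [(7, 3), (8, 4), (21, 5)] (.iso 63 [(7, 3), (9, 4), (10, 5)] (.iso 63 [(7, 3), (9, 4), (11, 5)] (.iso 63 [(7, 3), (9, 4), (12, 5)] (.iso 63 [(7, 3), (9, 4), (13, 5)] (.iso 63 [(7, 3), (9, 4), (14, 5)] (.iso 63 [(7, 3), (9, 4), (15, 5)] (.iso 63 [(7, 3), (9, 4), (16, 5)] (.iso 63 [(7, 3), (9, 4), (17, 5)] (.iso 63 [(7, 3), (9, 4), (18, 5)] (.iso 63 [(7, 3), (9, 4), (19, 5)] (.iso 63 [(7, 3), (9, 4), (20, 5)] (.iso 63 [(7, 3), (9, 4), (21, 5)] (.iso 63 [(7, 3), (10, 4), (11, 5)] (.iso 63 [(7, 3), (10, 4), (12, 5)] (.iso 63 [(7, 3), (10, 4), (13, 5)] (.iso 63 [(7, 3), (10, 4), (14, 5)] (.iso 63 [(7, 3), (10, 4), (15,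 5)] (.iso 63 [(7, 3), (10, 4), (16, 5)] (.iso 63 [(7, 3), (10, 4), (17, 5)] (.iso 63 [(7, 3), (10, 4), (18, 5)] (.iso 63 [(7, 3), (10, 4), (19, 5)] (.iso 63 [(7, 3), (10, 4), (20, 5)] (.iso 63 [(7, 3), (10, 4), (21, 5)] (.iso 63 [(7, 3), (11, 4), (12, 5)] (.iso 63 [(7, 3), (11, 4), (13, 5)] (.iso 63 [(7, 3), (11, 4), (14, 5)] (.iso 63 [(7, 3), (11, 4), (15, 5)] (.iso 63 [(7, 3), (11, 4), (16, 5)] (.iso 63 [(7, 3), (11, 4), (17, 5)] (.iso 63 [(7, 3), (11, 4), (18, 5)] (.iso 63 [(7, 3), (11, 4), (19, 5)] (.iso 63 [(7, 3), (11, 4), (20, 5)] phAc130))))))))))))))))))))))))))))))))))))))))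
def phAc132 : Cert := (.iso 63 [(6, 3), (13, 4), (15, 5)] (.iso 63 [(6, 3), (13, 4), (16, 5)] (.iso 63 [(6, 3), (13, 4), (17, 5)] (.iso 63 [(6, 3), (13, 4), (18, 5)] (.iso 63 [(6, 3), (13, 4), (19, 5)] (.iso 63 [(6, 3), (13, 4), (20, 5)] (.iso 63 [(6, 3), (13, 4), (21, 5)] (.iso 63 [(6, 3), (14, 4), (15, 5)] (.iso 63 [(6, 3), (14, 4), (16, 5)] (.iso 63 [(6, 3), (14, 4), (17, 5)] (.iso 63 [(6, 3), (14, 4), (18, 5)] (.iso 63 [(6, 3), (14, 4), (19, 5)] (.iso 63 [(6, 3), (14, 4), (20, 5)] (.iso 63 [(6, 3), (14, 4), (21, 5)] (.iso 63 [(6, 3), (15, 4), (16, 5)] (.iso 63 [(6, 3), (15, 4), (17, 5)] (.iso 63 [(6, 3), (15, 4), (18, 5)] (.iso 63 [(6, 3), (15, 4), (19, 5)] (.iso 63 [(6, 3), (15, 4), (20, 5)] (.iso 63 [(6, 3), (15, 4), (21, 5)] (.iso 63 [(6, 3), (16, 4), (17, 5)] (.iso 63 [(6, 3), (16, 4), (18, 5)] (.iso 63 [(6, 3), (16, 4), (19, 5)] (.iso 63 [(6, 3), (16, 4), (20, 5)] (.iso 63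 [(6, 3), (16, 4), (21, 5)] (.iso 63 [(6, 3), (17, 4), (18, 5)] (.iso 63 [(6, 3), (17, 4), (19, 5)] (.iso 63 [(6, 3), (17, 4), (20, 5)] (.iso 63 [(6, 3), (17, 4), (21, 5)] (.iso 63 [(6, 3), (18, 4), (19, 5)] (.iso 63 [(6, 3), (18, 4), (20, 5)] (.iso 63 [(6, 3), (18, 4), (21, 5)] (.iso 63 [(6, 3), (19, 4), (20, 5)] (.iso 63 [(6, 3), (19, 4), (21, 5)] (.iso 63 [(6, 3), (20, 4), (21, 5)] (.iso 63 [(7, 3), (8, 4), (9, 5)] (.iso 63 [(7, 3), (8, 4), (10, 5)] (.iso 63 [(7, 3), (8, 4), (11, 5)] (.iso 63 [(7, 3), (8, 4), (12, 5)] (.iso 63 [(7, 3), (8, 4), (13, 5)] phAc131))))))))))))))))))))))))))))))))))))))))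
def phAc133 : Cert := (.iso 63 [(6, 3), (9, 4), (13, 5)] (.iso 63 [(6, 3), (9, 4), (14, 5)] (.iso 63 [(6, 3), (9, 4), (15, 5)] (.iso 63 [(6, 3), (9, 4), (16, 5)] (.iso 63 [(6, 3), (9, 4), (17, 5)] (.iso 63 [(6, 3), (9, 4), (18, 5)] (.iso 63 [(6, 3), (9, 4), (19, 5)] (.iso 63 [(6, 3), (9, 4), (20, 5)] (.iso 63 [(6, 3), (9, 4), (21, 5)] (.iso 63 [(6, 3), (10, 4), (11, 5)] (.iso 63 [(6, 3), (10, 4), (12, 5)] (.iso 63 [(6, 3), (10, 4), (13, 5)] (.iso 63 [(6, 3), (10, 4), (14, 5)] (.iso 63 [(6, 3), (10, 4), (15, 5)] (.iso 63 [(6, 3), (10, 4), (16, 5)] (.iso 63 [(6, 3), (10, 4), (17, 5)] (.iso 63 [(6, 3), (10, 4), (18, 5)] (.iso 63 [(6, 3), (10, 4), (19, 5)] (.iso 63 [(6, 3), (10, 4), (20, 5)] (.iso 63 [(6, 3), (10, 4), (21, 5)] (.iso 63 [(6, 3), (11, 4), (12, 5)] (.iso 63 [(6, 3), (11, 4), (13, 5)] (.iso 63 [(6, 3), (11, 4), (14, 5)] (.iso 63 [(6, 3), (11, 4), (15, 5)] (.iso 63 [(6, 3),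 (11, 4), (16, 5)] (.iso 63 [(6, 3), (11, 4), (17, 5)] (.iso 63 [(6, 3), (11, 4), (18, 5)] (.iso 63 [(6, 3), (11, 4), (19, 5)] (.iso 63 [(6, 3), (11, 4), (20, 5)] (.iso 63 [(6, 3), (11, 4), (21, 5)] (.iso 63 [(6, 3), (12, 4), (13, 5)] (.iso 63 [(6, 3), (12, 4), (14, 5)] (.iso 63 [(6, 3), (12, 4), (15, 5)] (.iso 63 [(6, 3), (12, 4), (16, 5)] (.iso 63 [(6, 3), (12, 4), (17, 5)] (.iso 63 [(6, 3), (12, 4), (18, 5)] (.iso 63 [(6, 3), (12, 4), (19, 5)] (.iso 63 [(6, 3), (12, 4), (20, 5)] (.iso 63 [(6, 3), (12, 4), (21, 5)] (.iso 63 [(6, 3), (13, 4), (14, 5)] phAc132))))))))))))))))))))))))))))))))))))))))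
def phAc134 : Cert := (.iso 63 [(17, 3), (18, 4)] (.iso 63 [(17, 3), (19, 4)] (.iso 63 [(17, 3), (20, 4)] (.iso 63 [(17, 3), (21, 4)] (.iso 63 [(18, 3), (19, 4)] (.iso 63 [(18, 3), (20, 4)] (.iso 63 [(18, 3), (21, 4)] (.iso 63 [(19, 3), (20, 4)] (.iso 63 [(19, 3), (21, 4)] (.iso 63 [(20, 3), (21, 4)] (.iso 63 [(6, 3), (7, 4), (8, 5)] (.iso 63 [(6, 3), (7, 4), (9, 5)] (.iso 63 [(6, 3), (7, 4), (10, 5)] (.iso 63 [(6, 3), (7, 4), (11, 5)] (.iso 63 [(6, 3), (7, 4), (12, 5)] (.iso 63 [(6, 3), (7, 4), (13, 5)] (.iso 63 [(6, 3), (7, 4), (14, 5)] (.iso 63 [(6, 3), (7, 4), (15, 5)] (.iso 63 [(6, 3), (7, 4), (16, 5)] (.iso 63 [(6, 3), (7, 4), (17, 5)] (.iso 63 [(6, 3), (7, 4), (18, 5)] (.iso 63 [(6, 3), (7, 4), (19, 5)] (.iso 63 [(6, 3), (7, 4), (20, 5)] (.iso 63 [(6, 3), (7, 4), (21, 5)] (.iso 63 [(6, 3), (8, 4), (9, 5)] (.iso 63 [(6, 3), (8, 4), (10, 5)] (.iso 63 [(6, 3), (8, 4), (11, 5)]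 (.iso 63 [(6, 3), (8, 4), (12, 5)] (.iso 63 [(6, 3), (8, 4), (13, 5)] (.iso 63 [(6, 3), (8, 4), (14, 5)] (.iso 63 [(6, 3), (8, 4), (15, 5)] (.iso 63 [(6, 3), (8, 4), (16, 5)] (.iso 63 [(6, 3), (8, 4), (17, 5)] (.iso 63 [(6, 3), (8, 4), (18, 5)] (.iso 63 [(6, 3), (8, 4), (19, 5)] (.iso 63 [(6, 3), (8, 4), (20, 5)] (.iso 63 [(6, 3), (8, 4), (21, 5)] (.iso 63 [(6, 3), (9, 4), (10, 5)] (.iso 63 [(6, 3), (9, 4), (11, 5)] (.iso 63 [(6, 3), (9, 4), (12, 5)] phAc133))))))))))))))))))))))))))))))))))))))))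
def phAc135 : Cert := (.iso 63 [(11, 3), (17, 4)] (.iso 63 [(11, 3), (18, 4)] (.iso 63 [(11, 3), (19, 4)] (.iso 63 [(11, 3), (20, 4)] (.iso 63 [(11, 3), (21, 4)] (.iso 63 [(12, 3), (13, 4)] (.iso 63 [(12, 3), (14, 4)] (.iso 63 [(12, 3), (15, 4)] (.iso 63 [(12, 3), (16, 4)] (.iso 63 [(12, 3), (17, 4)] (.iso 63 [(12, 3), (18, 4)] (.iso 63 [(12, 3), (19, 4)] (.iso 63 [(12, 3), (20, 4)] (.iso 63 [(12, 3), (21, 4)] (.iso 63 [(13, 3), (14, 4)] (.iso 63 [(13, 3), (15, 4)] (.iso 63 [(13, 3), (16, 4)] (.iso 63 [(13, 3), (17, 4)] (.iso 63 [(13, 3), (18, 4)] (.iso 63 [(13, 3), (19, 4)] (.iso 63 [(13, 3), (20, 4)] (.iso 63 [(13, 3), (21, 4)] (.iso 63 [(14, 3), (15, 4)] (.iso 63 [(14, 3), (16, 4)] (.iso 63 [(14, 3), (17, 4)] (.iso 63 [(14, 3), (18, 4)] (.iso 63 [(14, 3), (19, 4)] (.iso 63 [(14, 3), (20, 4)] (.iso 63 [(14, 3), (21, 4)] (.iso 63 [(15, 3), (16, 4)] (.iso 63 [(15, 3), (17, 4)] (.iso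 63 [(15, 3), (18, 4)] (.iso 63 [(15, 3), (19, 4)] (.iso 63 [(15, 3), (20, 4)] (.iso 63 [(15, 3), (21, 4)] (.iso 63 [(16, 3), (17, 4)] (.iso 63 [(16, 3), (18, 4)] (.iso 63 [(16, 3), (19, 4)] (.iso 63 [(16, 3), (20, 4)] (.iso 63 [(16, 3), (21, 4)] phAc134))))))))))))))))))))))))))))))))))))))))
def phAc136 : Cert := (.iso 63 [(8, 3), (10, 4)] (.iso 63 [(8, 3), (11, 4)] (.iso 63 [(8, 3), (12, 4)] (.iso 63 [(8, 3), (13, 4)] (.iso 63 [(8, 3), (14, 4)] (.iso 63 [(8, 3), (15, 4)] (.iso 63 [(8, 3), (16, 4)] (.iso 63 [(8, 3), (17, 4)] (.iso 63 [(8, 3), (18, 4)] (.iso 63 [(8, 3), (19, 4)] (.iso 63 [(8, 3), (20, 4)] (.iso 63 [(8, 3), (21, 4)] (.iso 63 [(9, 3), (10, 4)] (.iso 63 [(9, 3), (11, 4)] (.iso 63 [(9, 3), (12, 4)] (.iso 63 [(9, 3), (13, 4)] (.iso 63 [(9, 3), (14, 4)] (.iso 63 [(9, 3), (15, 4)] (.iso 63 [(9, 3), (16, 4)] (.iso 63 [(9, 3), (17, 4)] (.iso 63 [(9, 3), (18, 4)] (.iso 63 [(9,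 3), (19, 4)] (.iso 63 [(9, 3), (20, 4)] (.iso 63 [(9, 3), (21, 4)] (.iso 63 [(10, 3), (11, 4)] (.iso 63 [(10, 3), (12, 4)] (.iso 63 [(10, 3), (13, 4)] (.iso 63 [(10, 3), (14, 4)] (.iso 63 [(10, 3), (15, 4)] (.iso 63 [(10, 3), (16, 4)] (.iso 63 [(10, 3), (17, 4)] (.iso 63 [(10, 3), (18, 4)] (.iso 63 [(10, 3), (19, 4)] (.iso 63 [(10, 3), (20, 4)] (.iso 63 [(10, 3), (21, 4)] (.iso 63 [(11, 3), (12, 4)] (.iso 63 [(11, 3), (13, 4)] (.iso 63 [(11, 3), (14, 4)] (.iso 63 [(11, 3), (15, 4)] (.iso 63 [(11, 3), (16, 4)] phAc135))))))))))))))))))))))))))))))))))))))))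
def phAc137 : Cert := (.iso 63 [(17, 3), (18, 5)] (.iso 63 [(17, 3), (19, 5)] (.iso 63 [(17, 3), (20, 5)] (.iso 63 [(17, 3), (21, 5)] (.iso 63 [(18, 3), (19, 5)] (.iso 63 [(18, 3), (20, 5)] (.iso 63 [(18, 3), (21, 5)] (.iso 63 [(19, 3), (20, 5)] (.iso 63 [(19, 3), (21, 5)] (.iso 63 [(20, 3), (21, 5)] (.iso 63 [(6, 3), (7, 4)] (.iso 63 [(6, 3), (8, 4)] (.iso 63 [(6, 3), (9, 4)] (.iso 63 [(6, 3), (10, 4)] (.iso 63 [(6, 3), (11, 4)] (.iso 63 [(6, 3), (12, 4)] (.iso 63 [(6, 3), (13, 4)] (.iso 63 [(6, 3), (14, 4)] (.iso 63 [(6, 3), (15, 4)] (.iso 63 [(6, 3), (16, 4)] (.iso 63 [(6, 3), (17, 4)] (.iso 63 [(6, 3), (18, 4)] (.iso 63 [(6, 3), (19, 4)] (.iso 63 [(6, 3), (20, 4)] (.iso 63 [(6, 3), (21, 4)] (.iso 63 [(7, 3), (8, 4)] (.iso 63 [(7, 3), (9, 4)] (.iso 63 [(7, 3), (10, 4)] (.iso 63 [(7, 3), (11, 4)] (.iso 63 [(7, 3), (12, 4)] (.iso 63 [(7, 3), (13, 4)] (.iso 63 [(7, 3), (14, 4)] (.iso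 63 [(7, 3), (15, 4)] (.iso 63 [(7, 3), (16, 4)] (.iso 63 [(7, 3), (17, 4)] (.iso 63 [(7, 3), (18, 4)] (.iso 63 [(7, 3), (19, 4)] (.iso 63 [(7, 3), (20, 4)] (.iso 63 [(7, 3), (21, 4)] (.iso 63 [(8, 3), (9, 4)] phAc136))))))))))))))))))))))))))))))))))))))))
def phAc138 : Cert := (.iso 63 [(11, 3), (17, 5)] (.iso 63 [(11, 3), (18, 5)] (.iso 63 [(11, 3), (19, 5)] (.iso 63 [(11, 3), (20, 5)] (.iso 63 [(11, 3), (21, 5)] (.iso 63 [(12, 3), (13, 5)] (.iso 63 [(12, 3), (14, 5)] (.iso 63 [(12, 3), (15, 5)] (.iso 63 [(12, 3), (16, 5)] (.iso 63 [(12, 3), (17, 5)] (.iso 63 [(12, 3), (18, 5)] (.iso 63 [(12, 3), (19, 5)] (.iso 63 [(12, 3), (20, 5)] (.iso 63 [(12, 3), (21, 5)] (.iso 63 [(13, 3), (14, 5)] (.iso 63 [(13, 3), (15, 5)] (.iso 63 [(13, 3), (16, 5)] (.iso 63 [(13, 3), (17, 5)] (.iso 63 [(13, 3), (18, 5)] (.iso 63 [(13, 3), (19, 5)] (.iso 63 [(13, 3), (20, 5)] (.iso 63 [(13, 3), (21, 5)]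 (.iso 63 [(14, 3), (15, 5)] (.iso 63 [(14, 3), (16, 5)] (.iso 63 [(14, 3), (17, 5)] (.iso 63 [(14, 3), (18, 5)] (.iso 63 [(14, 3), (19, 5)] (.iso 63 [(14, 3), (20, 5)] (.iso 63 [(14, 3), (21, 5)] (.iso 63 [(15, 3), (16, 5)] (.iso 63 [(15, 3), (17, 5)] (.iso 63 [(15, 3), (18, 5)] (.iso 63 [(15, 3), (19, 5)] (.iso 63 [(15, 3), (20, 5)] (.iso 63 [(15, 3), (21, 5)] (.iso 63 [(16, 3), (17, 5)] (.iso 63 [(16, 3), (18, 5)] (.iso 63 [(16, 3), (19, 5)] (.iso 63 [(16, 3), (20, 5)] (.iso 63 [(16, 3), (21, 5)] phAc137))))))))))))))))))))))))))))))))))))))))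
def phAc139 : Cert := (.iso 63 [(8, 3), (10, 5)] (.iso 63 [(8, 3), (11, 5)] (.iso 63 [(8, 3), (12, 5)] (.iso 63 [(8, 3), (13, 5)] (.iso 63 [(8, 3), (14, 5)] (.iso 63 [(8, 3), (15, 5)] (.iso 63 [(8, 3), (16, 5)] (.iso 63 [(8, 3), (17, 5)] (.iso 63 [(8, 3), (18, 5)] (.iso 63 [(8, 3), (19, 5)] (.iso 63 [(8, 3), (20, 5)] (.iso 63 [(8, 3), (21, 5)] (.iso 63 [(9, 3), (10, 5)] (.iso 63 [(9, 3), (11, 5)] (.iso 63 [(9, 3), (12, 5)] (.iso 63 [(9, 3), (13, 5)] (.iso 63 [(9, 3), (14, 5)] (.iso 63 [(9, 3), (15, 5)] (.iso 63 [(9, 3), (16, 5)] (.iso 63 [(9, 3), (17, 5)] (.iso 63 [(9, 3), (18, 5)] (.iso 63 [(9, 3), (19, 5)] (.iso 63 [(9, 3), (20, 5)] (.iso 63 [(9, 3), (21, 5)] (.iso 63 [(10, 3), (11, 5)] (.iso 63 [(10, 3), (12, 5)] (.iso 63 [(10, 3), (13, 5)] (.iso 63 [(10, 3), (14, 5)] (.iso 63 [(10, 3), (15, 5)] (.iso 63 [(10, 3), (16, 5)] (.iso 63 [(10, 3), (17, 5)] (.iso 63 [(10, 3), (18, 5)]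 (.iso 63 [(10, 3), (19, 5)] (.iso 63 [(10, 3), (20, 5)] (.iso 63 [(10, 3), (21, 5)] (.iso 63 [(11, 3), (12, 5)] (.iso 63 [(11, 3), (13, 5)] (.iso 63 [(11, 3), (14, 5)] (.iso 63 [(11, 3), (15, 5)] (.iso 63 [(11, 3), (16, 5)] phAc138))))))))))))))))))))))))))))))))))))))))
def phAc140 : Cert := (.iso 63 [(12, 3)] (.iso 63 [(13, 3)] (.iso 63 [(14, 3)] (.iso 63 [(15, 3)] (.iso 63 [(16, 3)] (.iso 63 [(17, 3)] (.iso 63 [(18, 3)] (.iso 63 [(19, 3)] (.iso 63 [(20, 3)] (.iso 63 [(21, 3)] (.iso 63 [(6, 3), (7, 5)] (.iso 63 [(6, 3), (8, 5)] (.iso 63 [(6, 3), (9, 5)] (.iso 63 [(6, 3), (10, 5)] (.iso 63 [(6, 3), (11, 5)] (.iso 63 [(6, 3), (12, 5)] (.iso 63 [(6, 3), (13, 5)] (.iso 63 [(6, 3), (14, 5)] (.iso 63 [(6, 3), (15, 5)] (.iso 63 [(6, 3), (16, 5)] (.iso 63 [(6, 3), (17, 5)] (.iso 63 [(6, 3), (18, 5)] (.iso 63 [(6, 3), (19, 5)] (.iso 63 [(6, 3), (20, 5)] (.iso 63 [(6, 3), (21, 5)] (.iso 63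 [(7, 3), (8, 5)] (.iso 63 [(7, 3), (9, 5)] (.iso 63 [(7, 3), (10, 5)] (.iso 63 [(7, 3), (11, 5)] (.iso 63 [(7, 3), (12, 5)] (.iso 63 [(7, 3), (13, 5)] (.iso 63 [(7, 3), (14, 5)] (.iso 63 [(7, 3), (15, 5)] (.iso 63 [(7, 3), (16, 5)] (.iso 63 [(7, 3), (17, 5)] (.iso 63 [(7, 3), (18, 5)] (.iso 63 [(7, 3), (19, 5)] (.iso 63 [(7, 3), (20, 5)] (.iso 63 [(7, 3), (21, 5)] (.iso 63 [(8, 3), (9, 5)] phAc139))))))))))))))))))))))))))))))))))))))))
def phAc141 : Cert := (.iso 63 [(13, 4), (16, 5)] (.iso 63 [(13, 4), (17, 5)] (.iso 63 [(13, 4), (18, 5)] (.iso 63 [(13, 4), (19, 5)] (.iso 63 [(13, 4), (20, 5)] (.iso 63 [(13, 4), (21, 5)] (.iso 63 [(14, 4), (15, 5)] (.iso 63 [(14, 4), (16, 5)] (.iso 63 [(14, 4), (17, 5)] (.iso 63 [(14, 4), (18, 5)] (.iso 63 [(14, 4), (19, 5)] (.iso 63 [(14, 4), (20, 5)] (.iso 63 [(14, 4), (21, 5)] (.iso 63 [(15, 4), (16, 5)] (.iso 63 [(15, 4), (17, 5)] (.iso 63 [(15,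 4), (18, 5)] (.iso 63 [(15, 4), (19, 5)] (.iso 63 [(15, 4), (20, 5)] (.iso 63 [(15, 4), (21, 5)] (.iso 63 [(16, 4), (17, 5)] (.iso 63 [(16, 4), (18, 5)] (.iso 63 [(16, 4), (19, 5)] (.iso 63 [(16, 4), (20, 5)] (.iso 63 [(16, 4), (21, 5)] (.iso 63 [(17, 4), (18, 5)] (.iso 63 [(17, 4), (19, 5)] (.iso 63 [(17, 4), (20, 5)] (.iso 63 [(17, 4), (21, 5)] (.iso 63 [(18, 4), (19, 5)] (.iso 63 [(18, 4), (20, 5)] (.iso 63 [(18, 4), (21, 5)] (.iso 63 [(19, 4), (20, 5)] (.iso 63 [(19, 4), (21, 5)] (.iso 63 [(20, 4), (21, 5)] (.iso 63 [(6, 3)] (.iso 63 [(7, 3)] (.iso 63 [(8, 3)] (.iso 63 [(9, 3)] (.iso 63 [(10, 3)] (.iso 63 [(11, 3)] phAc140))))))))))))))))))))))))))))))))))))))))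
def phAc142 : Cert := (.iso 63 [(9, 4), (14, 5)] (.iso 63 [(9, 4), (15, 5)] (.iso 63 [(9, 4), (16, 5)] (.iso 63 [(9, 4), (17, 5)] (.iso 63 [(9, 4), (18, 5)] (.iso 63 [(9, 4), (19, 5)] (.iso 63 [(9, 4), (20, 5)] (.iso 63 [(9, 4), (21, 5)] (.iso 63 [(10, 4), (11, 5)] (.iso 63 [(10, 4), (12, 5)] (.iso 63 [(10, 4), (13, 5)] (.iso 63 [(10, 4), (14, 5)] (.iso 63 [(10, 4), (15, 5)] (.iso 63 [(10, 4), (16, 5)] (.iso 63 [(10, 4), (17, 5)] (.iso 63 [(10, 4), (18, 5)] (.iso 63 [(10, 4), (19, 5)] (.iso 63 [(10, 4), (20, 5)] (.iso 63 [(10, 4), (21, 5)] (.iso 63 [(11, 4), (12, 5)] (.iso 63 [(11, 4), (13, 5)] (.iso 63 [(11, 4), (14, 5)] (.iso 63 [(11, 4), (15, 5)] (.iso 63 [(11, 4), (16, 5)] (.iso 63 [(11, 4), (17, 5)] (.iso 63 [(11, 4), (18, 5)] (.iso 63 [(11, 4), (19, 5)] (.iso 63 [(11, 4), (20, 5)] (.iso 63 [(11, 4), (21, 5)] (.iso 63 [(12, 4), (13, 5)] (.iso 63 [(12, 4), (14, 5)] (.iso 63 [(12,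 4), (15, 5)] (.iso 63 [(12, 4), (16, 5)] (.iso 63 [(12, 4), (17, 5)] (.iso 63 [(12, 4), (18, 5)] (.iso 63 [(12, 4), (19, 5)] (.iso 63 [(12, 4), (20, 5)] (.iso 63 [(12, 4), (21, 5)] (.iso 63 [(13, 4), (14, 5)] (.iso 63 [(13, 4), (15, 5)] phAc141))))))))))))))))))))))))))))))))))))))))
def phAc143 : Cert := (.iso 63 [(6, 4), (13, 5)] (.iso 63 [(6, 4), (14, 5)] (.iso 63 [(6, 4), (15, 5)] (.iso 63 [(6, 4), (16, 5)] (.iso 63 [(6, 4), (17, 5)] (.iso 63 [(6, 4), (18, 5)] (.iso 63 [(6, 4), (19, 5)] (.iso 63 [(6, 4), (20, 5)] (.iso 63 [(6, 4), (21, 5)] (.iso 63 [(7, 4), (8, 5)] (.iso 63 [(7, 4), (9, 5)] (.iso 63 [(7, 4), (10, 5)] (.iso 63 [(7, 4), (11, 5)] (.iso 63 [(7, 4), (12, 5)] (.iso 63 [(7, 4), (13, 5)] (.iso 63 [(7, 4), (14, 5)] (.iso 63 [(7, 4), (15, 5)] (.iso 63 [(7, 4), (16, 5)] (.iso 63 [(7, 4), (17, 5)] (.iso 63 [(7, 4), (18, 5)] (.iso 63 [(7, 4), (19, 5)] (.iso 63 [(7, 4), (20,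 5)] (.iso 63 [(7, 4), (21, 5)] (.iso 63 [(8, 4), (9, 5)] (.iso 63 [(8, 4), (10, 5)] (.iso 63 [(8, 4), (11, 5)] (.iso 63 [(8, 4), (12, 5)] (.iso 63 [(8, 4), (13, 5)] (.iso 63 [(8, 4), (14, 5)] (.iso 63 [(8, 4), (15, 5)] (.iso 63 [(8, 4), (16, 5)] (.iso 63 [(8, 4), (17, 5)] (.iso 63 [(8, 4), (18, 5)] (.iso 63 [(8, 4), (19, 5)] (.iso 63 [(8, 4), (20, 5)] (.iso 63 [(8, 4), (21, 5)] (.iso 63 [(9, 4), (10, 5)] (.iso 63 [(9, 4), (11, 5)] (.iso 63 [(9, 4), (12, 5)] (.iso 63 [(9, 4), (13, 5)] phAc142))))))))))))))))))))))))))))))))))))))))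
def phAcert : Cert := (.node 7 (.sub (.node 67 (.sub (.node 1027 (.sub (.node 16387 (.sub (.node 262147 (.sub (.node 69 (.sub (.node 133 (.sub (.node 261 (.sub (.node 517 (.sub (.node 73 (.sub (.node 137 (.sub (.node 265 (.sub (.node 521 (.sub (.node 81 (.sub (.node 145 (.sub (.node 273 (.sub (.node 529 (.sub (.node 97 (.sub (.node 161 (.sub (.node 289 (.sub phAc7 .nil)) .nil)) .nil)) .nil)) .nil)) .nil)) (.sub (.node 145 (.sub (.node 273 (.sub (.node 529 (.sub (.node 97 (.sub (.node 161 (.sub (.node 289 phAc14) .nil)) .nil)) .nil)) .nil)) .nil)) .nil))) .nil)) (.sub (.node 521 (.sub (.node 81 .nil) .nil)) .nil))) (.sub (.node 265 (.sub (.node 521 (.sub (.node 81 .nil) .nil)) .nil)) (.sub (.node 265 (.sub (.node 521 (.sub (.node 81 .nil) .nil)) .nil)) .nil)))) (.sub (.node 137 (.sub (.node 265 (.sub (.node 521 (.sub (.node 81 .nil) .nil)) (.sub (.node 521 (.sub (.node 81 (.sub (.node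 145 (.sub (.node 273 (.sub (.node 529 (.sub (.node 97 (.sub (.node 161 (.sub phAc21 .nil)) .nil)) .nil)) .nil)) .nil)) (.sub (.node 145 (.sub (.node 273 (.sub (.node 529 (.sub (.node 97 (.sub (.node 161 phAc28) .nil)) .nil)) .nil)) .nil)) .nil))) .nil)) .nil))) (.sub (.node 265 (.sub (.node 521 (.sub (.node 81 .nil) .nil)) .nil)) (.sub (.node 265 (.sub (.node 521 (.sub (.node 81 .nil) .nil)) .nil)) .nil)))) (.sub (.node 137 (.sub (.node 265 (.sub (.node 521 (.sub (.node 81 .nil) .nil)) .nil)) (.sub (.node 265 (.sub (.node 521 (.sub (.node 81 (.sub (.node 145 (.sub (.node 273 (.sub (.node 529 (.sub (.node 97 (.sub (.node 161 phAc35) .nil)) .nil)) .nil)) .nil)) (.sub (.node 145 (.sub (.node 273 (.sub (.node 529 (.sub (.node 97 (.sub phAc43 .nil)) .nil)) .nil)) .nil)) .nil))) .nil)) (.sub (.node 521 (.sub (.node 81 .nil) .nil)) .nil))) (.sub (.node 265 (.sub (.node 521 (.sub (.node 81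 .nil) .nil)) .nil)) .nil)))) (.sub (.node 137 (.sub (.node 265 (.sub (.node 521 (.sub (.node 81 .nil) .nil)) .nil)) (.sub (.node 265 (.sub (.node 521 (.sub (.node 81 .nil) .nil)) .nil)) (.sub (.node 265 (.sub (.node 521 (.sub (.node 81 (.sub (.node 145 (.sub (.node 273 (.sub (.node 529 (.sub (.node 97 phAc52) .nil)) .nil)) .nil)) (.sub (.node 145 (.sub (.node 273 (.sub (.node 529 (.sub phAc62 .nil)) .nil)) .nil)) .nil))) .nil)) (.sub (.node 521 (.sub (.node 81 .nil) .nil)) .nil))) .nil)))) (.sub (.node 137 (.sub (.node 265 (.sub (.node 521 (.sub (.node 81 .nil) .nil)) .nil)) (.sub (.node 265 (.sub (.node 521 (.sub (.node 81 .nil) .nil)) (.sub (.node 521 (.sub (.node 81 (.sub (.node 145 (.sub (.node 273 (.sub (.node 529 (.sub phAc72 .nil)) .nil)) .nil)) (.sub (.node 145 (.sub (.node 273 (.sub (.node 529 phAc82) .nil)) .nil)) .nil))) .nil)) .nil))) (.sub (.node 265 (.sub (.node 521 (.sub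 (.node 81 .nil) .nil)) .nil)) .nil)))) (.sub (.node 137 (.sub (.node 265 (.sub (.node 521 (.sub (.node 81 .nil) .nil)) .nil)) (.sub (.node 265 (.sub (.node 521 (.sub (.node 81 .nil) .nil)) .nil)) (.sub (.node 265 (.sub (.node 521 (.sub (.node 81 .nil) .nil)) (.sub (.node 521 (.sub (.node 81 (.sub (.node 145 (.sub (.node 273 (.sub phAc92 .nil)) .nil)) (.sub (.node 145 (.sub (.node 273 phAc102) .nil)) .nil))) .nil)) .nil))) .nil)))) .nil))))))) .nil)) (.iso 1118469 [(21, 20)] (.iso 1118469 [(17, 16)] (.iso 1118469 [(17, 16), (21, 20)] (.iso 1118469 [(13, 12)] (.iso 1118469 [(13, 12), (21, 20)] (.iso 1118469 [(13, 12), (17, 16)] (.iso 1118469 [(13, 12), (17, 16), (21, 20)] .nil))))))))) (.iso 559237 [(20, 19)] (.iso 559237 [(21, 19)] (.iso 559237 [(16, 15)] (.iso 559237 [(16, 15), (20, 19)] (.iso 559237 [(16, 15), (21, 19)] (.iso 559237 [(17, 15)] (.iso 559237 [(17, 15), (20, 19)] (.iso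 559237 [(17, 15), (21, 19)] (.iso 559237 [(12, 11)] (.iso 559237 [(12, 11), (20, 19)] (.iso 559237 [(12, 11), (21, 19)] (.iso 559237 [(12, 11), (16, 15)] (.iso 559237 [(12, 11), (16, 15), (20, 19)] (.iso 559237 [(12, 11), (16, 15), (21, 19)] (.iso 559237 [(12, 11), (17, 15)] (.iso 559237 [(12, 11), (17, 15), (20, 19)] (.iso 559237 [(12, 11), (17, 15), (21, 19)] (.iso 559237 [(13, 11)] (.iso 559237 [(13, 11), (20, 19)] (.iso 559237 [(13, 11), (21, 19)] (.iso 559237 [(13, 11), (16, 15)] (.iso 559237 [(13, 11), (16, 15), (20, 19)] (.iso 559237 [(13, 11), (16, 15), (21, 19)] (.iso 559237 [(13, 11), (17, 15)] (.iso 559237 [(13, 11), (17, 15), (20, 19)] (.iso 559237 [(13, 11), (17, 15), (21, 19)] .nil)))))))))))))))))))))))))))) (.iso 279621 [(19, 18)] (.iso 279621 [(20, 18)] (.iso 279621 [(21, 18)] (.iso 279621 [(15, 14)] (.iso 279621 [(15, 14), (19, 18)] (.iso 279621 [(15, 14), (20, 18)]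 (.iso 279621 [(15, 14), (21, 18)] (.iso 279621 [(16, 14)] (.iso 279621 [(16, 14), (19, 18)] (.iso 279621 [(16, 14), (20, 18)] (.iso 279621 [(16, 14), (21, 18)] (.iso 279621 [(17, 14)] (.iso 279621 [(17, 14), (19, 18)] (.iso 279621 [(17, 14), (20, 18)] (.iso 279621 [(17, 14), (21, 18)] (.iso 279621 [(11, 10)] (.iso 279621 [(11, 10), (19, 18)] (.iso 279621 [(11, 10), (20, 18)] (.iso 279621 [(11, 10), (21, 18)] (.iso 279621 [(11, 10), (15, 14)] (.iso 279621 [(11, 10), (15, 14), (19, 18)] (.iso 279621 [(11, 10), (15, 14), (20, 18)] (.iso 279621 [(11, 10), (15, 14), (21, 18)] (.iso 279621 [(11, 10), (16, 14)] (.iso 279621 [(11, 10), (16, 14), (19, 18)] (.iso 279621 [(11, 10), (16, 14), (20, 18)] (.iso 279621 [(11, 10), (16, 14), (21, 18)] (.iso 279621 [(11, 10), (17, 14)] phAc103)))))))))))))))))))))))))))))) .nil)) (.iso 245763 [(18, 17)] (.iso 245763 [(19, 17)] (.iso 245763 [(20, 17)]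 (.iso 245763 [(21, 17)] (.iso 245763 [(18, 16)] (.iso 245763 [(19, 16)] (.iso 245763 [(20, 16)] (.iso 245763 [(21, 16)] (.iso 245763 [(18, 16), (19, 17)] (.iso 245763 [(18, 16), (20, 17)] (.iso 245763 [(18, 16), (21, 17)] (.iso 245763 [(19, 16), (20, 17)] (.iso 245763 [(19, 16), (21, 17)] (.iso 245763 [(20, 16), (21, 17)] (.iso 245763 [(18, 15)] (.iso 245763 [(19, 15)] (.iso 245763 [(20, 15)] (.iso 245763 [(21, 15)] (.iso 245763 [(18, 15), (19, 17)] (.iso 245763 [(18, 15), (20, 17)] (.iso 245763 [(18, 15), (21, 17)] (.iso 245763 [(19, 15), (20, 17)] (.iso 245763 [(19, 15), (21, 17)] (.iso 245763 [(20, 15), (21, 17)] (.iso 245763 [(18, 15), (19, 16)] (.iso 245763 [(18, 15), (20, 16)] (.iso 245763 [(18, 15), (21, 16)] (.iso 245763 [(19, 15), (20, 16)] (.iso 245763 [(19, 15), (21, 16)] (.iso 245763 [(20, 15), (21, 16)] (.iso 245763 [(18, 15), (19, 16), (20, 17)] (.iso 245763 [(18, 15),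 (19, 16), (21, 17)] phAc104)))))))))))))))))))))))))))))))))) (.iso 15363 [(14, 13)] (.iso 15363 [(15, 13)] (.iso 15363 [(16, 13)] (.iso 15363 [(17, 13)] (.iso 15363 [(18, 13)] (.iso 15363 [(19, 13)] (.iso 15363 [(20, 13)] (.iso 15363 [(21, 13)] (.iso 15363 [(14, 12)] (.iso 15363 [(15, 12)] (.iso 15363 [(16, 12)] (.iso 15363 [(17, 12)] (.iso 15363 [(18, 12)] (.iso 15363 [(19, 12)] (.iso 15363 [(20, 12)] (.iso 15363 [(21, 12)] (.iso 15363 [(14, 12), (15, 13)] (.iso 15363 [(14, 12), (16, 13)] (.iso 15363 [(14, 12), (17, 13)] (.iso 15363 [(14, 12), (18, 13)] (.iso 15363 [(14, 12), (19, 13)] (.iso 15363 [(14, 12), (20, 13)] (.iso 15363 [(14, 12), (21, 13)] (.iso 15363 [(15, 12), (16, 13)] (.iso 15363 [(15, 12), (17, 13)] (.iso 15363 [(15, 12), (18, 13)] (.iso 15363 [(15, 12), (19, 13)] (.iso 15363 [(15, 12), (20, 13)] (.iso 15363 [(15, 12), (21, 13)] (.iso 15363 [(16, 12), (17, 13)] (.iso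 15363 [(16, 12), (18, 13)] (.iso 15363 [(16, 12), (19, 13)] (.iso 15363 [(16, 12), (20, 13)] (.iso 15363 [(16, 12), (21, 13)] phAc108)))))))))))))))))))))))))))))))))))) (.iso 963 [(10, 9)] (.iso 963 [(11, 9)] (.iso 963 [(12, 9)] (.iso 963 [(13, 9)] (.iso 963 [(14, 9)] (.iso 963 [(15, 9)] (.iso 963 [(16, 9)] (.iso 963 [(17, 9)] (.iso 963 [(18, 9)] (.iso 963 [(19, 9)] (.iso 963 [(20, 9)] (.iso 963 [(21, 9)] (.iso 963 [(10, 8)] (.iso 963 [(11, 8)] (.iso 963 [(12, 8)] (.iso 963 [(13, 8)] (.iso 963 [(14, 8)] (.iso 963 [(15, 8)] (.iso 963 [(16, 8)] (.iso 963 [(17, 8)] (.iso 963 [(18, 8)] (.iso 963 [(19, 8)] (.iso 963 [(20, 8)] (.iso 963 [(21, 8)] (.iso 963 [(10, 8), (11, 9)] (.iso 963 [(10, 8), (12, 9)] (.iso 963 [(10, 8), (13, 9)] (.iso 963 [(10, 8), (14, 9)] (.iso 963 [(10, 8), (15, 9)] (.iso 963 [(10, 8), (16, 9)] (.iso 963 [(10, 8), (17, 9)] (.iso 963 [(10, 8), (18, 9)] (.iso 963 [(10,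 8), (19, 9)] (.iso 963 [(10, 8), (20, 9)] (.iso 963 [(10, 8), (21, 9)] (.iso 963 [(11, 8), (12, 9)] phAc119)))))))))))))))))))))))))))))))))))))) (.iso 63 [(6, 5)] (.iso 63 [(7, 5)] (.iso 63 [(8, 5)] (.iso 63 [(9, 5)] (.iso 63 [(10, 5)] (.iso 63 [(11, 5)] (.iso 63 [(12, 5)] (.iso 63 [(13, 5)] (.iso 63 [(14, 5)] (.iso 63 [(15, 5)] (.iso 63 [(16, 5)] (.iso 63 [(17, 5)] (.iso 63 [(18, 5)] (.iso 63 [(19, 5)] (.iso 63 [(20, 5)] (.iso 63 [(21, 5)] (.iso 63 [(6, 4)] (.iso 63 [(7, 4)] (.iso 63 [(8, 4)] (.iso 63 [(9, 4)] (.iso 63 [(10, 4)] (.iso 63 [(11, 4)] (.iso 63 [(12, 4)] (.iso 63 [(13, 4)] (.iso 63 [(14, 4)] (.iso 63 [(15, 4)] (.iso 63 [(16, 4)] (.iso 63 [(17, 4)] (.iso 63 [(18, 4)] (.iso 63 [(19, 4)] (.iso 63 [(20, 4)] (.iso 63 [(21, 4)] (.iso 63 [(6, 4), (7, 5)] (.iso 63 [(6, 4), (8, 5)] (.iso 63 [(6, 4), (9, 5)] (.iso 63 [(6, 4), (10, 5)] (.iso 63 [(6, 4), (11, 5)] (.iso 63 [(6, 4),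 (12, 5)] phAc143))))))))))))))))))))))))))))))))))))))))

theorem phA (S0 : Set (Finset (Fin 22))) (h : PQ 22 3 6 (QM 22 3 S0) B0) :
    PQ 22 3 6 (QM 22 3 S0) [] :=
  soundM (r := 3) (by norm_num) rfl h phAcert true [] [] [] (by decide +kernel)

end Cfsg.Agent.Lib.Helper3.Stq.N22
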