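import Cfsg.Agent.Lib.Helper3.StOrd
import Cfsg.Agent.Lib.Helper3.StN22

set_option autoImplicit false
set_option maxRecDepth 100000

namespace Cfsg.Agent.Lib.Helper3.Stq.N22

open Cfsg Cfsg.Agent.Lib.Helper3.Stq

def Tb : List (List (ℕ × ℕ)) := [[], [(6, 7), (8, 9), (10, 11), (12, 13), (14, 15), (16, 17), (18, 19), (20, 21)], [(6, 8), (7, 9), (10, 12), (11, 13), (14, 16), (15, 17), (18, 20), (19, 21)], [(6, 9), (7, 8), (10, 13), (11, 12), (14, 17), (15, 16), (18, 21), (19, 20)], [(6, 10), (7, 11), (8, 12), (9, 13), (14, 18), (15, 19), (16, 20), (17, 21)], [(6, 11), (7, 10), (8, 13), (9, 12), (14, 19), (15, 18), (16, 21), (17, 20)], [(6, 12), (7, 13), (8, 10), (9, 11), (14, 20), (15, 21), (16, 18), (17, 19)], [(6, 13), (7, 12), (8, 11), (9, 10), (14, 21), (15, 20), (16, 19), (17, 18)], [(6, 14), (7, 15), (8, 16), (9, 17), (10, 18), (11, 19), (12, 20), (13, 21)], [(6, 15), (7, 14), (8, 17), (9, 16),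 (10, 19), (11, 18), (12, 21), (13, 20)], [(6, 16), (7, 17), (8, 14), (9, 15), (10, 20), (11, 21), (12, 18), (13, 19)], [(6, 17), (7, 16), (8, 15), (9, 14), (10, 21), (11, 20), (12, 19), (13, 18)], [(6, 18), (7, 19), (8, 20), (9, 21), (10, 14), (11, 15), (12, 16), (13, 17)], [(6, 19), (7, 18), (8, 21), (9, 20), (10, 15), (11, 14), (12, 17), (13, 16)], [(6, 20), (7, 21), (8, 18), (9, 19), (10, 16), (11, 17), (12, 14), (13, 15)], [(6, 21), (7, 20), (8, 19), (9, 18), (10, 17), (11, 16), (12, 15), (13, 14)], [(4, 5), (8, 9), (12, 13), (14, 18), (15, 19), (16, 21), (17, 20)], [(4, 5), (6, 7), (10, 11), (14, 19), (15, 18), (16, 20), (17, 21)], [(4, 5), (6, 8), (7, 9), (6, 7), (10, 12), (11, 13), (10, 11), (14, 20), (15, 21), (16, 19), (17, 18), (17, 16), (14, 15)], [(4, 5), (6, 9), (7, 8), (7, 6), (10, 13), (11, 12), (11, 10), (14, 21), (15, 20), (16, 18), (17, 19), (16, 17), (15, 14)], [(4, 5), (6, 10),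 (7, 11), (8, 13), (9, 12), (16, 17), (20, 21)], [(4, 5), (6, 11), (7, 10), (8, 12), (9, 13), (14, 15), (18, 19)], [(4, 5), (6, 12), (7, 13), (8, 11), (9, 10), (9, 8), (6, 7), (14, 16), (15, 17), (14, 15), (18, 20), (19, 21), (18, 19)], [(4, 5), (6, 13), (7, 12), (8, 10), (9, 11), (8, 9), (7, 6), (14, 17), (15, 16), (15, 14), (18, 21), (19, 20), (19, 18)], [(4, 5), (6, 14), (7, 15), (8, 17), (9, 16), (10, 18), (11, 19), (12, 21), (13, 20), (6, 10), (7, 11), (9, 13), (8, 12)], [(4, 5), (6, 15), (7, 14), (8, 16), (9, 17), (10, 19), (11, 18), (12, 20), (13, 21), (7, 11), (6, 10), (8, 12), (9, 13)], [(4, 5), (6, 16), (7, 17), (8, 15), (9, 14), (10, 20), (11, 21), (12, 19), (13, 18), (9, 12), (8, 13), (6, 11), (7, 10)], [(4, 5), (6, 17), (7, 16), (8, 14), (9, 15), (10, 21), (11, 20), (12, 18), (13, 19), (8, 13), (9, 12), (7, 10), (6, 11)], [(4, 5), (6, 18), (7, 19), (8, 21), (9, 20), (10, 14), (11, 15),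 (12, 17), (13, 16), (10, 6), (11, 7), (13, 9), (12, 8)], [(4, 5), (6, 19), (7, 18), (8, 20), (9, 21), (10, 15), (11, 14), (12, 16), (13, 17), (11, 7), (10, 6), (12, 8), (13, 9)], [(4, 5), (6, 20), (7, 21), (8, 19), (9, 18), (10, 16), (11, 17), (12, 15), (13, 14), (13, 8), (12, 9), (10, 7), (11, 6)], [(4, 5), (6, 21), (7, 20), (8, 18), (9, 19), (10, 17), (11, 16), (12, 14), (13, 15), (12, 9), (13, 8), (11, 6), (10, 7)], [(3, 4), (7, 9), (10, 14), (11, 17), (12, 16), (13, 15), (19, 21)], [(3, 4), (6, 7), (6, 8), (6, 9), (10, 15), (11, 16), (12, 17), (13, 14), (13, 11), (10, 12), (18, 19), (18, 20), (18, 21)], [(3, 4), (6, 8), (10, 16), (11, 15), (12, 14), (13, 17), (18, 20)], [(3, 4), (6, 9), (7, 6), (8, 7), (10, 17), (11, 14), (12, 15), (13, 16), (11, 13), (12, 10), (18, 21), (19, 18), (20, 19)], [(3, 4), (6, 10), (7, 13), (8, 12), (9, 11), (6, 18), (9, 21), (8, 20), (7, 19), (14, 6), (15, 9), (16,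 8), (17, 7)], [(3, 4), (6, 11), (7, 12), (8, 13), (9, 10), (9, 19), (6, 20), (7, 21), (8, 18), (14, 7), (15, 8), (16, 9), (17, 6)], [(3, 4), (6, 12), (7, 11), (8, 10), (9, 13), (8, 20), (7, 19), (6, 18), (9, 21), (14, 8), (15, 7), (16, 6), (17, 9)], [(3, 4), (6, 13), (7, 10), (8, 11), (9, 12), (7, 21), (8, 18), (9, 19), (6, 20), (14, 9), (15, 6), (16, 7), (17, 8)], [(3, 4), (6, 14), (7, 17), (8, 16), (9, 15), (10, 6), (11, 9), (12, 8), (13, 7), (10, 18), (11, 21), (12, 20), (13, 19)], [(3, 4), (6, 15), (7, 16), (8, 17), (9, 14), (10, 7), (11, 8), (12, 9), (13, 6), (12, 19), (13, 20), (10, 21), (11, 18)], [(3, 4), (6, 16), (7, 15), (8, 14), (9, 17), (10, 8), (11, 7), (12, 6), (13, 9), (10, 20), (11, 19), (12, 18), (13, 21)], [(3, 4), (6, 17), (7, 14), (8, 15), (9, 16), (10, 9), (11, 6), (12, 7), (13, 8), (12, 21), (13, 18), (10, 19), (11, 20)], [(3, 4), (6, 18), (7, 21), (8, 20), (9, 19), (11, 13),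 (15, 17)], [(3, 4), (6, 19), (7, 20), (8, 21), (9, 18), (10, 11), (10, 12), (10, 13), (14, 15), (14, 16), (14, 17), (9, 7), (6, 8)], [(3, 4), (6, 20), (7, 19), (8, 18), (9, 21), (10, 12), (14, 16)], [(3, 4), (6, 21), (7, 18), (8, 19), (9, 20), (10, 13), (11, 10), (12, 11), (14, 17), (15, 14), (16, 15), (7, 9), (8, 6)], [(3, 4), (3, 5), (7, 9), (8, 7), (10, 14), (11, 17), (12, 15), (13, 16), (10, 18), (12, 21), (13, 19), (11, 20)], [(3, 4), (3, 5), (6, 7), (6, 8), (10, 15), (11, 16), (12, 14), (13, 17), (12, 19), (10, 20), (11, 18), (13, 21)], [(3, 4), (3, 5), (6, 8), (6, 9), (10, 16), (11, 15), (12, 17), (13, 14), (13, 20), (11, 19), (10, 21), (12, 18)], [(3, 4), (3, 5), (6, 9), (7, 6), (10, 17), (11, 14), (12, 16), (13, 15), (11, 21), (13, 18), (12, 20), (10, 19)], [(3, 4), (3, 5), (6, 10), (7, 13), (8, 11), (9, 12), (6, 18), (8, 21), (9, 19), (7, 20), (15, 17), (16, 15)], [(3, 4), (3, 5), (6, 11),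 (7, 12), (8, 10), (9, 13), (8, 19), (6, 20), (7, 18), (9, 21), (14, 15), (14, 16)], [(3, 4), (3, 5), (6, 12), (7, 11), (8, 13), (9, 10), (9, 20), (7, 19), (6, 21), (8, 18), (14, 16), (14, 17)], [(3, 4), (3, 5), (6, 13), (7, 10), (8, 12), (9, 11), (7, 21), (9, 18), (8, 20), (6, 19), (14, 17), (15, 14)], [(3, 4), (3, 5), (6, 14), (7, 17), (8, 15), (9, 16), (10, 6), (11, 9), (12, 7), (13, 8), (19, 21), (20, 19)], [(3, 4), (3, 5), (6, 15), (7, 16), (8, 14), (9, 17), (10, 7), (11, 8), (12, 6), (13, 9), (18, 19), (18, 20)], [(3, 4), (3, 5), (6, 16), (7, 15), (8, 17), (9, 14), (10, 8), (11, 7), (12, 9), (13, 6), (18, 20), (18, 21)], [(3, 4), (3, 5), (6, 17), (7, 14), (8, 16), (9, 15), (10, 9), (11, 6), (12, 8), (13, 7), (18, 21), (19, 18)], [(3, 4), (3, 5), (6, 18), (7, 21), (8, 19), (9, 20), (11, 13), (12, 11), (14, 6), (15, 9), (16, 7), (17, 8)], [(3, 4), (3, 5), (6, 19), (7, 20), (8, 18), (9, 21), (10,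 11), (10, 12), (14, 7), (15, 8), (16, 6), (17, 9)], [(3, 4), (3, 5), (6, 20), (7, 19), (8, 21), (9, 18), (10, 12), (10, 13), (14, 8), (15, 7), (16, 9), (17, 6)], [(3, 4), (3, 5), (6, 21), (7, 18), (8, 20), (9, 19), (10, 13), (11, 10), (14, 9), (15, 6), (16, 8), (17, 7)], [(3, 5), (4, 3), (7, 8), (7, 9), (10, 18), (11, 20), (12, 21), (13, 19), (14, 10), (15, 12), (16, 13), (17, 11)], [(3, 5), (4, 3), (6, 7), (6, 9), (10, 19), (11, 21), (12, 20), (13, 18), (14, 11), (15, 13), (16, 12), (17, 10)], [(3, 5), (4, 3), (6, 8), (7, 6), (10, 20), (11, 18), (12, 19), (13, 21), (14, 12), (15, 10), (16, 11), (17, 13)], [(3, 5), (4, 3), (6, 9), (8, 6), (10, 21), (11, 19), (12, 18), (13, 20), (14, 13), (15, 11), (16, 10), (17, 12)], [(3, 5), (4, 3), (6, 10), (7, 12), (8, 13), (9, 11), (6, 14), (9, 16), (7, 17), (8, 15), (19, 20), (19, 21)], [(3, 5), (4, 3), (6, 11), (7, 13), (8, 12), (9, 10), (9, 15), (6, 17), (8,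 16), (7, 14), (18, 19), (18, 21)], [(3, 5), (4, 3), (6, 12), (7, 10), (8, 11), (9, 13), (7, 16), (8, 14), (6, 15), (9, 17), (18, 20), (19, 18)], [(3, 5), (4, 3), (6, 13), (7, 11), (8, 10), (9, 12), (8, 17), (7, 15), (9, 14), (6, 16), (18, 21), (20, 18)], [(3, 5), (4, 3), (6, 14), (7, 16), (8, 17), (9, 15), (11, 12), (11, 13), (6, 18), (9, 20), (7, 21), (8, 19)], [(3, 5), (4, 3), (6, 15), (7, 17), (8, 16), (9, 14), (10, 11), (10, 13), (9, 19), (6, 21), (8, 20), (7, 18)], [(3, 5), (4, 3), (6, 16), (7, 14), (8, 15), (9, 17), (10, 12), (11, 10), (7, 20), (8, 18), (6, 19), (9, 21)], [(3, 5), (4, 3), (6, 17), (7, 15), (8, 14), (9, 16), (10, 13), (12, 10), (8, 21), (7, 19), (9, 18), (6, 20)], [(3, 5), (4, 3), (6, 18), (7, 20), (8, 21), (9, 19), (10, 6), (11, 8), (12, 9), (13, 7), (15, 16), (15, 17)], [(3, 5), (4, 3), (6, 19), (7, 21), (8, 20), (9, 18), (10, 7), (11, 9), (12, 8), (13, 6), (14, 15), (14, 17)],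 [(3, 5), (4, 3), (6, 20), (7, 18), (8, 19), (9, 21), (10, 8), (11, 6), (12, 7), (13, 9), (14, 16), (15, 14)], [(3, 5), (4, 3), (6, 21), (7, 19), (8, 18), (9, 20), (10, 9), (11, 7), (12, 6), (13, 8), (14, 17), (16, 14)], [(3, 5), (7, 8), (10, 18), (11, 20), (12, 19), (13, 21), (15, 16)], [(3, 5), (6, 7), (6, 9), (8, 6), (10, 19), (11, 21), (12, 18), (13, 20), (14, 15), (14, 17), (16, 14), (12, 11), (10, 13)], [(3, 5), (6, 8), (7, 6), (7, 9), (10, 20), (11, 18), (12, 21), (13, 19), (14, 16), (15, 14), (15, 17), (11, 12), (13, 10)], [(3, 5), (6, 9), (10, 21), (11, 19), (12, 20), (13, 18), (14, 17)], [(3, 5), (6, 10), (7, 12), (8, 11), (9, 13), (6, 14), (8, 16), (7, 15), (9, 17), (6, 18), (7, 20), (8, 19), (9, 21)], [(3, 5), (6, 11), (7, 13), (8, 10), (9, 12), (8, 15), (6, 17), (9, 14), (7, 16), (9, 19), (8, 21), (7, 18), (6, 20)], [(3, 5), (6, 12), (7, 10), (8, 13), (9, 11), (7, 16), (9, 14), (6, 17),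 (8, 15), (9, 20), (8, 18), (7, 21), (6, 19)], [(3, 5), (6, 13), (7, 11), (8, 12), (9, 10), (9, 17), (7, 15), (8, 16), (6, 14), (6, 21), (7, 19), (8, 20), (9, 18)], [(3, 5), (6, 14), (7, 16), (8, 15), (9, 17), (11, 12), (19, 20)], [(3, 5), (6, 15), (7, 17), (8, 14), (9, 16), (10, 11), (10, 13), (12, 10), (8, 7), (6, 9), (18, 19), (18, 21), (20, 18)], [(3, 5), (6, 16), (7, 14), (8, 17), (9, 15), (10, 12), (11, 10), (11, 13), (7, 8), (9, 6), (18, 20), (19, 18), (19, 21)], [(3, 5), (6, 17), (7, 15), (8, 16), (9, 14), (10, 13), (18, 21)], [(3, 5), (6, 18), (7, 20), (8, 19), (9, 21), (10, 6), (11, 8), (12, 7), (13, 9), (14, 10), (15, 12), (16, 11), (17, 13)], [(3, 5), (6, 19), (7, 21), (8, 18), (9, 20), (10, 7), (11, 9), (12, 6), (13, 8), (14, 11), (15, 13), (16, 10), (17, 12)], [(3, 5), (6, 20), (7, 18), (8, 21), (9, 19), (10, 8), (11, 6), (12, 9), (13, 7), (14, 12), (15, 10), (16, 13), (17, 11)], [(3,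 5), (6, 21), (7, 19), (8, 20), (9, 18), (10, 9), (11, 7), (12, 8), (13, 6), (14, 13), (15, 11), (16, 12), (17, 10)]]

def Ks : List (List ℕ) := [[3, 4, 6], [3, 4, 7], [3, 4, 8], [3, 4, 9], [3, 4, 10], [3, 4, 11], [3, 4, 12], [3, 4, 13], [3, 4, 14], [3, 4, 15], [3, 4, 16], [3, 4, 17], [3, 4, 18], [3, 4, 19], [3, 4, 20], [3, 4, 21], [3, 5, 6], [3, 5, 7], [3, 5, 8], [3, 5, 9], [3, 5, 10], [3, 5, 11], [3, 5, 12], [3, 5, 13], [3, 5, 14], [3, 5, 15], [3, 5, 16], [3, 5, 17], [3, 5, 18], [3, 5, 19], [3, 5, 20], [3, 5, 21], [4, 3, 6], [4, 3, 7], [4, 3, 8], [4, 3, 9], [4, 3, 10], [4, 3, 11], [4, 3, 12], [4, 3, 13], [4, 3, 14], [4, 3, 15], [4, 3, 16], [4, 3, 17], [4, 3, 18], [4, 3, 19], [4, 3, 20], [4, 3, 21], [4, 5, 6], [4, 5, 7], [4, 5, 8], [4, 5, 9], [4, 5, 10], [4, 5, 11], [4, 5, 12], [4, 5, 13], [4, 5, 14], [4, 5, 15], [4, 5, 16], [4, 5, 17], [4, 5, 18], [4, 5, 19], [4, 5, 20], [4, 5, 21], [5, 3, 6], [5,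 3, 7], [5, 3, 8], [5, 3, 9], [5, 3, 10], [5, 3, 11], [5, 3, 12], [5, 3, 13], [5, 3, 14], [5, 3, 15], [5, 3, 16], [5, 3, 17], [5, 3, 18], [5, 3, 19], [5, 3, 20], [5, 3, 21], [5, 4, 6], [5, 4, 7], [5, 4, 8], [5, 4, 9], [5, 4, 10], [5, 4, 11], [5, 4, 12], [5, 4, 13], [5, 4, 14], [5, 4, 15], [5, 4, 16], [5, 4, 17], [5, 4, 18], [5, 4, 19], [5, 4, 20], [5, 4, 21]]

def scr : List Step2 := [.blk ⟨[(8, 8), (16, 16), (64, 64)], 1311064, 1311064⟩, .blk ⟨[(16, 16), (64, 64), (4, 4)], 98900, 98900⟩, .blk ⟨[(8, 8), (64, 64), (4, 4)], 12492, 12492⟩, .blk ⟨[(16, 16), (64, 64), (2, 2)], 2121810, 2121810⟩, .and (12416, 12416) (2121728, 2121728), .xor (12416, 12416) (8192, 8192), .xor (2121728, 2121728) (8192, 8192), .blk ⟨[(8, 8), (2, 2), (8192, 8192)], 1122826, 1122826⟩, .and (1310976, 1310976) (1114624, 1114624), .xor (1310976, 1310976) (1048576, 1048576), .xor (1114624, 1114624) (1048576, 1048576), .xor (98816,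 98816) (66048, 66048), .blk ⟨[(8, 8), (64, 64), (2, 2), (32768, 32768)], 558154, 558154⟩, .blk ⟨[(64, 64), (2, 2), (4, 4), (1048576, 1048576)], 1181766, 1181766⟩, .blk ⟨[(1, 1), (66048, 66048), (525312, 525312)], 591393, 591393⟩, .blk ⟨[(16, 16), (1, 1), (1048576, 1048576)], 1067537, 1067537⟩, .and (66048, 66048) (18944, 18944), .xor (66048, 66048) (512, 512), .xor (18944, 18944) (512, 512), .and (2113536, 2113536) (18944, 18944), .xor (2113536, 2113536) (16384, 16384), .xor (18432, 18432) (16384, 16384), .xor (133120, 133120) (2048, 2048), .blk ⟨[(16, 16), (1, 1), (32768, 32768), (2097152, 2097152)], 2131217, 2131217⟩, .and (262400, 262400) (1280, 1280), .xor (262400, 262400) (256, 256), .xor (1280, 1280) (256, 256), .xor (525312, 525312) (1024, 1024), .blk ⟨[(16, 16), (1, 1), (262144, 262144), (65536, 65536), (8192, 8192)], 336017, 336017⟩, .xor (4224, 4224) (128, 128)]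

theorem chk0 : stepOK 22 3 B0 (marksK 3) ⟨[(1, 1), (2, 2), (4, 4)], 63, 63⟩ = true := by decide +kernel

theorem chk1 : enum 22 Ks [3, 4, 6] [] (newP ⟨[(1, 1), (2, 2), (4, 4)], 63, 63⟩ :: marksK 3) = true := by
  decide +kernel

theorem chk2 : Tb.map (fun s => [3, 4, 6].map (fun x => ap 22 s (Nat.pow 2 x))) =
    Ks.map (fun cs => cs.map (Nat.pow 2)) := by decide +kernel

theorem chk3 : Tb.all (fun s => swOK 3 s && subl (B0.map (ap 22 s)) B0) = true := by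
  decide +kernel

theorem chk4 : (Ks.map (fun cs => cs.map (Nat.pow 2))).Nodup := by decide +kernel

theorem chk5 : rig2 22 3 B0 scr .done
    ([3, 4, 6].map (fun i => (Nat.pow 2 i, Nat.pow 2 i)) ++ marksK 3) = true := by decide +kernel

theorem fixM (steiner : IsSteinerSystem 3 6 (setOf' 22 B0)) : FixM 22 3 B0 = (permOf 22) '' {s | s ∈ Tb} ∧
    Set.InjOn (permOf 22) {s | s ∈ Tb} ∧ Tb.Nodup :=
  stab_enum (by norm_num) (by norm_num) steiner _ [3, 4, 6] Tb Ks chk0 (by decide) chk1 chk2 chk3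
    chk4 scr chk5

theorem card (steiner : IsSteinerSystem 3 6 (setOf' 22 B0)) :
    Nat.card (setSystemAut (setOf' 22 B0)) = Nat.descFactorial 22 3 * 96 :=
  card_aut main steiner (by norm_num) Tb (fixM steiner)

end Cfsg.Agent.Lib.Helper3.Stq.N22
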