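import Cfsg.Agent.Lib.Helper3.StOrd
import Cfsg.Agent.Lib.Helper3.StN23

set_option autoImplicit false
set_option maxRecDepth 100000

namespace Cfsg.Agent.Lib.Helper3.Stq.N23

open Cfsg Cfsg.Agent.Lib.Helper3.Stq

def Tb : List (List (ℕ × ℕ)) := [[], [(7, 8), (9, 10), (11, 12), (13, 14), (15, 16), (17, 18), (19, 20), (21, 22)], [(7, 9), (8, 10), (11, 13), (12, 14), (15, 17), (16, 18), (19, 21), (20, 22)], [(7, 10), (8, 9), (11, 14), (12, 13), (15, 18), (16, 17), (19, 22), (20, 21)], [(7, 11), (8, 12), (9, 13), (10, 14), (15, 19), (16, 20), (17, 21), (18, 22)], [(7, 12), (8, 11), (9, 14), (10, 13), (15, 20), (16, 19), (17, 22), (18, 21)], [(7, 13), (8, 14), (9, 11), (10, 12), (15, 21), (16, 22), (17, 19), (18, 20)], [(7, 14), (8, 13), (9, 12), (10, 11), (15, 22), (16, 21), (17, 20), (18, 19)], [(7, 15), (8, 16), (9, 17), (10, 18), (11, 19), (12, 20), (13, 21), (14, 22)], [(7, 16), (8, 15), (9, 18), (10, 17), (11, 20), (12, 19), (13, 22),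 (14, 21)], [(7, 17), (8, 18), (9, 15), (10, 16), (11, 21), (12, 22), (13, 19), (14, 20)], [(7, 18), (8, 17), (9, 16), (10, 15), (11, 22), (12, 21), (13, 20), (14, 19)], [(7, 19), (8, 20), (9, 21), (10, 22), (11, 15), (12, 16), (13, 17), (14, 18)], [(7, 20), (8, 19), (9, 22), (10, 21), (11, 16), (12, 15), (13, 18), (14, 17)], [(7, 21), (8, 22), (9, 19), (10, 20), (11, 17), (12, 18), (13, 15), (14, 16)], [(7, 22), (8, 21), (9, 20), (10, 19), (11, 18), (12, 17), (13, 16), (14, 15)], [(4, 5), (4, 6), (8, 10), (9, 8), (11, 15), (12, 18), (13, 16), (14, 17), (11, 19), (13, 22), (14, 20), (12, 21)], [(4, 5), (4, 6), (7, 8), (7, 9), (11, 16), (12, 17), (13, 15), (14, 18), (13, 20), (11, 21), (12, 19), (14, 22)], [(4, 5), (4, 6), (7, 9), (7, 10), (11, 17), (12, 16), (13, 18), (14, 15), (14, 21), (12, 20), (11, 22), (13, 19)], [(4, 5), (4, 6), (7, 10), (8, 7), (11, 18), (12, 15), (13, 17), (14, 16), (12, 22), (14, 19), (13, 21), (11, 20)], [(4,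 5), (4, 6), (7, 11), (8, 14), (9, 12), (10, 13), (7, 19), (9, 22), (10, 20), (8, 21), (16, 18), (17, 16)], [(4, 5), (4, 6), (7, 12), (8, 13), (9, 11), (10, 14), (9, 20), (7, 21), (8, 19), (10, 22), (15, 16), (15, 17)], [(4, 5), (4, 6), (7, 13), (8, 12), (9, 14), (10, 11), (10, 21), (8, 20), (7, 22), (9, 19), (15, 17), (15, 18)], [(4, 5), (4, 6), (7, 14), (8, 11), (9, 13), (10, 12), (8, 22), (10, 19), (9, 21), (7, 20), (15, 18), (16, 15)], [(4, 5), (4, 6), (7, 15), (8, 18), (9, 16), (10, 17), (11, 7), (12, 10), (13, 8), (14, 9), (20, 22), (21, 20)], [(4, 5), (4, 6), (7, 16), (8, 17), (9, 15), (10, 18), (11, 8), (12, 9), (13, 7), (14, 10), (19, 20), (19, 21)], [(4, 5), (4, 6), (7, 17), (8, 16), (9, 18), (10, 15), (11, 9), (12, 8), (13, 10), (14, 7), (19, 21), (19, 22)], [(4, 5), (4, 6), (7, 18), (8, 15), (9, 17), (10, 16), (11, 10), (12, 7), (13, 9), (14, 8), (19, 22), (20, 19)], [(4, 5), (4, 6), (7, 19), (8, 22), (9, 20), (10, 21), (12,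 14), (13, 12), (15, 7), (16, 10), (17, 8), (18, 9)], [(4, 5), (4, 6), (7, 20), (8, 21), (9, 19), (10, 22), (11, 12), (11, 13), (15, 8), (16, 9), (17, 7), (18, 10)], [(4, 5), (4, 6), (7, 21), (8, 20), (9, 22), (10, 19), (11, 13), (11, 14), (15, 9), (16, 8), (17, 10), (18, 7)], [(4, 5), (4, 6), (7, 22), (8, 19), (9, 21), (10, 20), (11, 14), (12, 11), (15, 10), (16, 7), (17, 9), (18, 8)], [(4, 6), (5, 4), (8, 9), (8, 10), (11, 19), (12, 21), (13, 22), (14, 20), (15, 11), (16, 13), (17, 14), (18, 12)], [(4, 6), (5, 4), (7, 8), (7, 10), (11, 20), (12, 22), (13, 21), (14, 19), (15, 12), (16, 14), (17, 13), (18, 11)], [(4, 6), (5, 4), (7, 9), (8, 7), (11, 21), (12, 19), (13, 20), (14, 22), (15, 13), (16, 11), (17, 12), (18, 14)], [(4, 6), (5, 4), (7, 10), (9, 7), (11, 22), (12, 20), (13, 19), (14, 21), (15, 14), (16, 12), (17, 11), (18, 13)], [(4, 6), (5, 4), (7, 11), (8, 13), (9, 14), (10, 12), (7, 15), (10, 17), (8, 18), (9, 16), (20, 21),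 (20, 22)], [(4, 6), (5, 4), (7, 12), (8, 14), (9, 13), (10, 11), (10, 16), (7, 18), (9, 17), (8, 15), (19, 20), (19, 22)], [(4, 6), (5, 4), (7, 13), (8, 11), (9, 12), (10, 14), (8, 17), (9, 15), (7, 16), (10, 18), (19, 21), (20, 19)], [(4, 6), (5, 4), (7, 14), (8, 12), (9, 11), (10, 13), (9, 18), (8, 16), (10, 15), (7, 17), (19, 22), (21, 19)], [(4, 6), (5, 4), (7, 15), (8, 17), (9, 18), (10, 16), (12, 13), (12, 14), (7, 19), (10, 21), (8, 22), (9, 20)], [(4, 6), (5, 4), (7, 16), (8, 18), (9, 17), (10, 15), (11, 12), (11, 14), (10, 20), (7, 22), (9, 21), (8, 19)], [(4, 6), (5, 4), (7, 17), (8, 15), (9, 16), (10, 18), (11, 13), (12, 11), (8, 21), (9, 19), (7, 20), (10, 22)], [(4, 6), (5, 4), (7, 18), (8, 16), (9, 15), (10, 17), (11, 14), (13, 11), (9, 22), (8, 20), (10, 19), (7, 21)], [(4, 6), (5, 4), (7, 19), (8, 21), (9, 22), (10, 20), (11, 7), (12, 9), (13, 10), (14, 8), (16, 17), (16, 18)], [(4, 6), (5, 4), (7, 20), (8, 22), (9, 21),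 (10, 19), (11, 8), (12, 10), (13, 9), (14, 7), (15, 16), (15, 18)], [(4, 6), (5, 4), (7, 21), (8, 19), (9, 20), (10, 22), (11, 9), (12, 7), (13, 8), (14, 10), (15, 17), (16, 15)], [(4, 6), (5, 4), (7, 22), (8, 20), (9, 19), (10, 21), (11, 10), (12, 8), (13, 7), (14, 9), (15, 18), (17, 15)]]

def Ks : List (List ℕ) := [[4, 7], [4, 8], [4, 9], [4, 10], [4, 11], [4, 12], [4, 13], [4, 14], [4, 15], [4, 16], [4, 17], [4, 18], [4, 19], [4, 20], [4, 21], [4, 22], [5, 7], [5, 8], [5, 9], [5, 10], [5, 11], [5, 12], [5, 13], [5, 14], [5, 15], [5, 16], [5, 17], [5, 18], [5, 19], [5, 20], [5, 21], [5, 22], [6, 7], [6, 8], [6, 9], [6, 10], [6, 11], [6, 12], [6, 13], [6, 14], [6, 15], [6, 16], [6, 17], [6, 18], [6, 19], [6, 20], [6, 21], [6, 22]]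

def scr : List Step2 := [.blk ⟨[(16, 16), (128, 128), (4, 4), (8, 8)], 164508, 164508⟩, .blk ⟨[(2, 2), (164352, 164352)], 170754, 170754⟩, .blk ⟨[(16, 16), (128, 128), (2, 2), (8, 8)], 3146906, 3146906⟩, .blk ⟨[(16, 16), (128, 128), (2, 2), (4, 4)], 802966, 802966⟩, .blk ⟨[(128, 128), (2, 2), (4, 4), (8, 8)], 4268174, 4268174⟩, .blk ⟨[(1, 1), (4268032, 4268032)], 5464065, 5464065⟩, .and (164352, 164352) (1196032, 1196032), .xor (164352, 164352) (131072, 131072), .xor (1196032, 1196032) (131072, 131072), .and (3146752, 3146752) (1196032, 1196032), .xor (3146752, 3146752) (1048576, 1048576), .xor (1064960, 1064960) (1048576, 1048576), .xor (802816, 802816) (16384, 16384), .blk ⟨[(1, 1), (16384, 16384), (786432, 786432)], 2940929, 2940929⟩, .and (33280, 33280) (2138112, 2138112), .xor (33280, 33280) (32768, 32768), .xor (2138112, 2138112) (32768, 32768), .and (2098176, 2098176) (2138112, 2138112), .xor (2098176, 2098176) (2097152, 2097152),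 .xor (2105344, 2105344) (2097152, 2097152), .xor (4268032, 4268032) (8192, 8192), .blk ⟨[(1, 1), (512, 512), (1048576, 1048576), (2097152, 2097152), (1024, 1024)], 3474945, 3474945⟩, .and (786432, 786432) (327680, 327680), .xor (786432, 786432) (262144, 262144), .xor (327680, 327680) (262144, 262144), .xor (4259840, 4259840) (65536, 65536), .blk ⟨[(1, 1), (131072, 131072), (1024, 1024), (262144, 262144), (8192, 8192)], 406785, 406785⟩, .xor (6400, 6400) (4352, 4352), .blk ⟨[(1, 1), (32768, 32768), (2048, 2048), (1024, 1024), (16384, 16384), (65536, 65536)], 118017, 118017⟩, .xor (4352, 4352) (256, 256), .blk ⟨[(1, 1), (131072, 131072), (2097152, 2097152), (262144, 262144), (4194304, 4194304)], 6684769, 6684769⟩, .blk ⟨[(16, 16), (1, 1), (4096, 4096), (1048576, 1048576), (2097152, 2097152), (8192, 8192)], 3158097, 3158097⟩, .xor (96, 96) (64, 64)]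

theorem chk0 : stepOK 23 4 B0 (marksK 4) ⟨[(1, 1), (2, 2), (4, 4), (8, 8)], 127, 127⟩ = true := by decide +kernel

theorem chk1 : enum 23 Ks [4, 7] [] (newP ⟨[(1, 1), (2, 2), (4, 4), (8, 8)], 127, 127⟩ :: marksK 4) = true := by
  decide +kernel

theorem chk2 : Tb.map (fun s => [4, 7].map (fun x => ap 23 s (Nat.pow 2 x))) =
    Ks.map (fun cs => cs.map (Nat.pow 2)) := by decide +kernel

theorem chk3 : Tb.all (fun s => swOK 4 s && subl (B0.map (ap 23 s)) B0) = true := by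
  decide +kernel

theorem chk4 : (Ks.map (fun cs => cs.map (Nat.pow 2))).Nodup := by decide +kernel

theorem chk5 : rig2 23 4 B0 scr .done
    ([4, 7].map (fun i => (Nat.pow 2 i, Nat.pow 2 i)) ++ marksK 4) = true := by decide +kernel

theorem fixM (steiner : IsSteinerSystem 4 7 (setOf' 23 B0)) : FixM 23 4 B0 = (permOf 23) '' {s | s ∈ Tb} ∧
    Set.InjOn (permOf 23) {s | s ∈ Tb} ∧ Tb.Nodup :=
  stab_enum (by norm_num) (by norm_num) steiner _ [4, 7] Tb Ks chk0 (by decide) chk1 chk2 chk3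
    chk4 scr chk5

theorem card (steiner : IsSteinerSystem 4 7 (setOf' 23 B0)) :
    Nat.card (setSystemAut (setOf' 23 B0)) = Nat.descFactorial 23 4 * 48 :=
  card_aut main steiner (by norm_num) Tb (fixM steiner)

end Cfsg.Agent.Lib.Helper3.Stq.N23
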