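import Cfsg.Agent.Lib.Helper3.StM11
import Cfsg.Agent.Lib.Helper3.StRigid

set_option autoImplicit false
set_option maxRecDepth 100000

namespace Cfsg.Agent.Lib.Helper3.Stq.M11

open Cfsg Cfsg.Agent.Lib.Helper3.Stq

def scr : List (List Step × Term) := [([], .contra (32, 1) (1, 1)),
  ([], .contra (32, 2) (2, 2)),
  ([], .contra (32, 4) (4, 4)),
  ([], .contra (32, 8) (8, 8)),
  ([⟨[(1, 1), (2, 2), (4, 4), (8, 8)], 31, 31⟩], .contra (16, 16) (32, 16)),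
  ([⟨[(1, 1), (2, 2), (4, 4), (8, 8)], 31, 31⟩, ⟨[(1, 1), (2, 2), (4, 4), (32, 32)], 103, 103⟩, ⟨[(1, 1), (2, 2), (8, 8), (32, 32)], 171, 171⟩, ⟨[(1, 1), (2, 2), (4, 4), (128, 128)], 391, 391⟩, ⟨[(1, 1), (2, 2), (8, 8), (64, 64)], 587, 587⟩, ⟨[(1, 1), (2, 2), (4, 4), (512, 512)], 1543, 1543⟩], .done),
  ([⟨[(1, 1), (2, 2), (4, 4), (8, 8)], 31, 31⟩, ⟨[(1, 1), (2, 2), (4, 4), (32, 64)], 103, 103⟩, ⟨[(1, 1), (2, 2), (8, 8), (32, 64)], 171, 587⟩, ⟨[(1, 1), (2, 2), (4, 4), (128, 512)], 391, 1543⟩, ⟨[(1, 1), (2, 2), (8, 8), (64, 32)], 587, 171⟩, ⟨[(1, 1), (2, 2), (4, 4), (512, 128)], 1543, 391⟩, ⟨[(2, 2), (4, 4), (8, 8), (32, 64)], 558, 334⟩], .contra (512, 256) (512, 128)),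
  ([⟨[(1, 1), (2, 2), (4, 4), (8, 8)], 31, 31⟩, ⟨[(1, 1), (2, 2), (4, 4), (32, 128)], 103, 391⟩, ⟨[(1, 1), (2, 2), (8, 8), (32, 128)], 171, 171⟩, ⟨[(1, 1), (2, 2), (4, 4), (128, 32)], 391, 103⟩, ⟨[(1, 1), (2, 2), (8, 8), (64, 256)], 587, 1291⟩, ⟨[(1, 1), (2, 2), (4, 4), (512, 1024)], 1543, 1543⟩, ⟨[(1, 1), (4, 4), (8, 8), (32, 128)], 301, 653⟩], .contra (256, 512) (256, 64)),
  ([⟨[(1, 1), (2, 2), (4, 4), (8, 8)], 31, 31⟩, ⟨[(1, 1), (2, 2), (4, 4), (32, 256)], 103, 391⟩, ⟨[(1, 1), (2, 2), (8, 8), (32, 256)], 171, 1291⟩, ⟨[(1, 1), (2, 2), (4, 4), (128, 1024)], 391, 1543⟩, ⟨[(1, 1), (2, 2), (8, 8), (64, 128)], 587, 171⟩, ⟨[(1, 1), (2, 2), (4, 4), (512, 32)], 1543, 103⟩, ⟨[(1, 1), (4, 4), (8, 8), (32, 256)], 301, 301⟩], .contra (256, 32) (256, 512)),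
  ([⟨[(1, 1), (2, 2), (4, 4), (8, 8)], 31, 31⟩, ⟨[(1, 1), (2, 2), (4, 4), (32, 512)], 103, 1543⟩, ⟨[(1, 1), (2, 2), (8, 8), (32, 512)], 171, 587⟩, ⟨[(1, 1), (2, 2), (4, 4), (128, 64)], 391, 103⟩, ⟨[(1, 1), (2, 2), (8, 8), (64, 1024)], 587, 1291⟩, ⟨[(1, 1), (2, 2), (4, 4), (512, 256)], 1543, 391⟩, ⟨[(1, 1), (4, 4), (8, 8), (32, 512)], 301, 653⟩], .contra (256, 128) (256, 32)),
  ([⟨[(1, 1), (2, 2), (4, 4), (8, 8)], 31, 31⟩, ⟨[(1, 1), (2, 2), (4, 4), (32, 1024)], 103, 1543⟩, ⟨[(1, 1), (2, 2), (8, 8), (32, 1024)], 171, 1291⟩, ⟨[(1, 1), (2, 2), (4, 4), (128, 256)], 391, 391⟩, ⟨[(1, 1), (2, 2), (8, 8), (64, 512)], 587, 587⟩, ⟨[(1, 1), (2, 2), (4, 4), (512, 64)], 1543, 103⟩, ⟨[(1, 1), (4, 4), (8, 8), (32, 1024)], 301, 1101⟩], .contra (256, 64) (256, 128))]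

theorem rigid (hS : IsSteinerSystem 4 5 (setOf' 11 B0)) (σ : Equiv.Perm (Fin 11))
    (hσ : ∀ b ∈ setOf' 11 B0, b.image σ ∈ setOf' 11 B0)
    (hfix : ∀ i : Fin 11, (i : ℕ) < 4 → σ i = i) : σ = 1 :=
  rigid_of (by norm_num) hS hσ 4 5 (by norm_num) (by norm_num) hfix scr (by decide +kernel)

end Cfsg.Agent.Lib.Helper3.Stq.M11
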