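import Cfsg.Agent.Lib.Helper3.StM12
import Cfsg.Agent.Lib.Helper3.StRigid

set_option autoImplicit false
set_option maxRecDepth 100000

namespace Cfsg.Agent.Lib.Helper3.Stq.M12

open Cfsg Cfsg.Agent.Lib.Helper3.Stq

def scr : List (List Step × Term) := [([], .contra (64, 1) (1, 1)),
  ([], .contra (64, 2) (2, 2)),
  ([], .contra (64, 4) (4, 4)),
  ([], .contra (64, 8) (8, 8)),
  ([], .contra (64, 16) (16, 16)),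
  ([⟨[(1, 1), (2, 2), (4, 4), (8, 8), (16, 16)], 63, 63⟩], .contra (32, 32) (64, 32)),
  ([⟨[(1, 1), (2, 2), (4, 4), (8, 8), (16, 16)], 63, 63⟩, ⟨[(1, 1), (2, 2), (4, 4), (8, 8), (64, 64)], 207, 207⟩, ⟨[(1, 1), (2, 2), (4, 4), (16, 16), (64, 64)], 343, 343⟩, ⟨[(1, 1), (2, 2), (4, 4), (8, 8), (256, 256)], 783, 783⟩, ⟨[(1, 1), (2, 2), (4, 4), (16, 16), (128, 128)], 1175, 1175⟩, ⟨[(1, 1), (2, 2), (4, 4), (8, 8), (1024, 1024)], 3087, 3087⟩], .done),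
  ([⟨[(1, 1), (2, 2), (4, 4), (8, 8), (16, 16)], 63, 63⟩, ⟨[(1, 1), (2, 2), (4, 4), (8, 8), (64, 128)], 207, 207⟩, ⟨[(1, 1), (2, 2), (4, 4), (16, 16), (64, 128)], 343, 1175⟩, ⟨[(1, 1), (2, 2), (4, 4), (8, 8), (256, 1024)], 783, 3087⟩, ⟨[(1, 1), (2, 2), (4, 4), (16, 16), (128, 64)], 1175, 343⟩, ⟨[(1, 1), (2, 2), (4, 4), (8, 8), (1024, 256)], 3087, 783⟩, ⟨[(1, 1), (4, 4), (8, 8), (16, 16), (64, 128)], 1117, 669⟩], .contra (1024, 512) (1024, 256)),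
  ([⟨[(1, 1), (2, 2), (4, 4), (8, 8), (16, 16)], 63, 63⟩, ⟨[(1, 1), (2, 2), (4, 4), (8, 8), (64, 256)], 207, 783⟩, ⟨[(1, 1), (2, 2), (4, 4), (16, 16), (64, 256)], 343, 343⟩, ⟨[(1, 1), (2, 2), (4, 4), (8, 8), (256, 64)], 783, 207⟩, ⟨[(1, 1), (2, 2), (4, 4), (16, 16), (128, 512)], 1175, 2583⟩, ⟨[(1, 1), (2, 2), (4, 4), (8, 8), (1024, 2048)], 3087, 3087⟩, ⟨[(1, 1), (2, 2), (8, 8), (16, 16), (64, 256)], 603, 1307⟩], .contra (512, 1024) (512, 128)),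
  ([⟨[(1, 1), (2, 2), (4, 4), (8, 8), (16, 16)], 63, 63⟩, ⟨[(1, 1), (2, 2), (4, 4), (8, 8), (64, 512)], 207, 783⟩, ⟨[(1, 1), (2, 2), (4, 4), (16, 16), (64, 512)], 343, 2583⟩, ⟨[(1, 1), (2, 2), (4, 4), (8, 8), (256, 2048)], 783, 3087⟩, ⟨[(1, 1), (2, 2), (4, 4), (16, 16), (128, 256)], 1175, 343⟩, ⟨[(1, 1), (2, 2), (4, 4), (8, 8), (1024, 64)], 3087, 207⟩, ⟨[(1, 1), (2, 2), (8, 8), (16, 16), (64, 512)], 603, 603⟩], .contra (512, 64) (512, 1024)),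
  ([⟨[(1, 1), (2, 2), (4, 4), (8, 8), (16, 16)], 63, 63⟩, ⟨[(1, 1), (2, 2), (4, 4), (8, 8), (64, 1024)], 207, 3087⟩, ⟨[(1, 1), (2, 2), (4, 4), (16, 16), (64, 1024)], 343, 1175⟩, ⟨[(1, 1), (2, 2), (4, 4), (8, 8), (256, 128)], 783, 207⟩, ⟨[(1, 1), (2, 2), (4, 4), (16, 16), (128, 2048)], 1175, 2583⟩, ⟨[(1, 1), (2, 2), (4, 4), (8, 8), (1024, 512)], 3087, 783⟩, ⟨[(1, 1), (2, 2), (8, 8), (16, 16), (64, 1024)], 603, 1307⟩], .contra (512, 256) (512, 64)),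
  ([⟨[(1, 1), (2, 2), (4, 4), (8, 8), (16, 16)], 63, 63⟩, ⟨[(1, 1), (2, 2), (4, 4), (8, 8), (64, 2048)], 207, 3087⟩, ⟨[(1, 1), (2, 2), (4, 4), (16, 16), (64, 2048)], 343, 2583⟩, ⟨[(1, 1), (2, 2), (4, 4), (8, 8), (256, 512)], 783, 783⟩, ⟨[(1, 1), (2, 2), (4, 4), (16, 16), (128, 1024)], 1175, 1175⟩, ⟨[(1, 1), (2, 2), (4, 4), (8, 8), (1024, 128)], 3087, 207⟩, ⟨[(1, 1), (2, 2), (8, 8), (16, 16), (64, 2048)], 603, 2203⟩], .contra (512, 128) (512, 256))]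

theorem rigid (hS : IsSteinerSystem 5 6 (setOf' 12 B0)) (σ : Equiv.Perm (Fin 12))
    (hσ : ∀ b ∈ setOf' 12 B0, b.image σ ∈ setOf' 12 B0)
    (hfix : ∀ i : Fin 12, (i : ℕ) < 5 → σ i = i) : σ = 1 :=
  rigid_of (by norm_num) hS hσ 5 6 (by norm_num) (by norm_num) hfix scr (by decide +kernel)

end Cfsg.Agent.Lib.Helper3.Stq.M12
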