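import Cfsg.Prelude.Def_Sporadic_a
import Cfsg.Agent.Lib.Helper3.Steiner

set_option autoImplicit false

namespace Cfsg.Agent.Lib.Helper3.Stq

open Cfsg

/-! ### bit masks and finsets -/

def toFs (v : ℕ) (m : ℕ) : Finset (Fin v) := Finset.univ.filter (fun i => m.testBit i = true)

theorem mem_toFs {v m : ℕ} {i : Fin v} : i ∈ toFs v m ↔ m.testBit i = true := by simp [toFs]

theorem toFs_land (v a b : ℕ) : toFs v (a &&& b) = toFs v a ∩ toFs v b := by
  ext i
  simp [mem_toFs, Nat.testBit_and]

theorem toFs_lor_pow (v m : ℕ) (x : Fin v) : toFs v (m ||| 2 ^ (x : ℕ)) = insert x (toFs v m) := by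
  ext i
  simp only [mem_toFs, Nat.testBit_or, Nat.testBit_two_pow, Finset.mem_insert, Bool.or_eq_true,
    decide_eq_true_eq, Fin.ext_iff]
  constructor
  · rintro (h | h)
    · exact Or.inr h
    · exact Or.inl h.symm
  · rintro (h | h)
    · exact Or.inr h.symm
    · exact Or.inl h

def pcR : ℕ → ℕ → ℕ
  | 0, _ => 0
  | n + 1, m => (if m.testBit n then 1 else 0) + pcR n m

theorem card_toFs (v m : ℕ) : (toFs v m).card = pcR v m := by
  induction v with
  | zero => simp [toFs, pcR]
  | succ n ih =>
    rw [pcR, ← ih, toFs, toFs, Finset.card_filter, Finset.card_filter, Fin.sum_univ_castSucc]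
    simp [add_comm]

def tbl12 : ℕ := 0xcbbabaa9baa9a998baa9a998a9989887baa9a998a9989887a998988798878776baa9a998a9989887a998988798878776a9989887988787769887877687767665baa9a998a9989887a998988798878776a9989887988787769887877687767665a998988798878776988787768776766598878776877676658776766576656554baa9a998a9989887a998988798878776a9989887988787769887877687767665a998988798878776988787768776766598878776877676658776766576656554a9989887988787769887877687767665988787768776766587767665766565549887877687767665877676657665655487767665766565547665655465545443baa9a998a9989887a998988798878776a9989887988787769887877687767665a998988798878776988787768776766598878776877676658776766576656554a9989887988787769887877687767665988787768776766587767665766565549887877687767665877676657665655487767665766565547665655465545443a998988798878776988787768776766598878776877676658776766576656554988787768776766587767665766565548776766576656554766565546554544398878776877676658776766576656554877676657665655476656554655454438776766576656554766565546554544376656554655454436554544354434332baa9a998a9989887a998988798878776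a9989887988787769887877687767665a998988798878776988787768776766598878776877676658776766576656554a9989887988787769887877687767665988787768776766587767665766565549887877687767665877676657665655487767665766565547665655465545443a998988798878776988787768776766598878776877676658776766576656554988787768776766587767665766565548776766576656554766565546554544398878776877676658776766576656554877676657665655476656554655454438776766576656554766565546554544376656554655454436554544354434332a9989887988787769887877687767665988787768776766587767665766565549887877687767665877676657665655487767665766565547665655465545443988787768776766587767665766565548776766576656554766565546554544387767665766565547665655465545443766565546554544365545443544343329887877687767665877676657665655487767665766565547665655465545443877676657665655476656554655454437665655465545443655454435443433287767665766565547665655465545443766565546554544365545443544343327665655465545443655454435443433265545443544343325443433243323221baa9a998a9989887a998988798878776a9989887988787769887877687767665a9989887988787769887877687767665988787768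77676658776766576656554a9989887988787769887877687767665988787768776766587767665766565549887877687767665877676657665655487767665766565547665655465545443a998988798878776988787768776766598878776877676658776766576656554988787768776766587767665766565548776766576656554766565546554544398878776877676658776766576656554877676657665655476656554655454438776766576656554766565546554544376656554655454436554544354434332a9989887988787769887877687767665988787768776766587767665766565549887877687767665877676657665655487767665766565547665655465545443988787768776766587767665766565548776766576656554766565546554544387767665766565547665655465545443766565546554544365545443544343329887877687767665877676657665655487767665766565547665655465545443877676657665655476656554655454437665655465545443655454435443433287767665766565547665655465545443766565546554544365545443544343327665655465545443655454435443433265545443544343325443433243323221a998988798878776988787768776766598878776877676658776766576656554988787768776766587767665766565548776766576656554766565546554544398878776877676658776766576656554877676657665655476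656554655454438776766576656554766565546554544376656554655454436554544354434332988787768776766587767665766565548776766576656554766565546554544387767665766565547665655465545443766565546554544365545443544343328776766576656554766565546554544376656554655454436554544354434332766565546554544365545443544343326554544354434332544343324332322198878776877676658776766576656554877676657665655476656554655454438776766576656554766565546554544376656554655454436554544354434332877676657665655476656554655454437665655465545443655454435443433276656554655454436554544354434332655454435443433254434332433232218776766576656554766565546554544376656554655454436554544354434332766565546554544365545443544343326554544354434332544343324332322176656554655454436554544354434332655454435443433254434332433232216554544354434332544343324332322154434332433232214332322132212110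

def pc12 (x : ℕ) : ℕ := Nat.land (Nat.shiftRight tbl12 (Nat.shiftLeft x 2)) 15

def pcG (m : ℕ) : ℕ := Nat.add (pc12 (Nat.land m 4095)) (pc12 (Nat.shiftRight m 12))

theorem pc12_eq_aux : ∀ a < 64, ∀ b < 64, pc12 (64 * a + b) = pcR 12 (64 * a + b) := by
  decide +kernel

theorem pc12_eq : ∀ y < 4096, pc12 y = pcR 12 y := by
  intro y hy
  have := pc12_eq_aux (y / 64) (by omega) (y % 64) (by omega)
  rwa [Nat.div_add_mod] at this

theorem pcR12_and (x : ℕ) : pcR 12 (x &&& 4095) = pcR 12 x := by
  have h : (4095 : ℕ) = 2 ^ 12 - 1 := by norm_num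
  simp only [pcR, h, Nat.and_two_pow_sub_one_eq_mod, Nat.testBit_mod_two_pow]
  simp

theorem pcG_eq {m : ℕ} (hm : m < 2 ^ 24) : pcG m = pcR 24 m := by
  have h1 : pc12 (m &&& 4095) = pcR 12 m := by
    rw [pc12_eq _ (by
      have : m &&& 4095 ≤ 4095 := Nat.and_le_right
      omega), pcR12_and]
  have h2 : pc12 (m >>> 12) = pcR 12 (m >>> 12) := by
    apply pc12_eq
    rw [Nat.shiftRight_eq_div_pow]
    apply Nat.div_lt_of_lt_mul
    norm_num at hm ⊢
    exact hm
  show pc12 (m &&& 4095) + pc12 (m >>> 12) = _
  rw [h1, h2]
  simp only [pcR, Nat.testBit_shiftRight]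
  norm_num
  ring

theorem pcR_mod (v m : ℕ) : ∀ n, pcR n (m % 2 ^ v) = pcR (min n v) m := by
  intro n
  induction n with
  | zero => simp [pcR]
  | succ n ih =>
    by_cases h : n < v
    · have h1 : min (n + 1) v = n + 1 := by omega
      have h2 : min n v = n := by omega
      rw [h1, pcR, pcR, ih, h2, Nat.testBit_mod_two_pow]
      simp [h]
    · have h1 : min (n + 1) v = v := by omega
      have h2 : min n v = v := by omega
      rw [h1, pcR, ih, h2, Nat.testBit_mod_two_pow]
      simp [h]

theorem pcG_card {v : ℕ} (hv : v ≤ 24) {x : ℕ} (hx : x < 2 ^ v) : pcG x = (toFs v x).card := by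
  have h24 : x < 2 ^ 24 := lt_of_lt_of_le hx (Nat.pow_le_pow_right (by norm_num) hv)
  rw [pcG_eq h24, card_toFs]
  conv_lhs => rw [← Nat.mod_eq_of_lt hx]
  rw [pcR_mod, min_eq_right hv]

def tb (m i : ℕ) : ℕ := Nat.land (Nat.shiftRight m i) 1

theorem tb_eq (m i : ℕ) : tb m i = (m.testBit i).toNat := by
  show (m >>> i) &&& 1 = _
  rw [Nat.toNat_testBit, Nat.shiftRight_eq_div_pow, Nat.and_one_is_mod]

theorem tb_eq_zero {m i : ℕ} : tb m i = 0 ↔ m.testBit i = false := by
  rw [tb_eq]
  cases m.testBit i <;> simp

/-! ### swaps -/

def swapBits (a b m : ℕ) : ℕ :=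
  bif Nat.beq (tb m a) (tb m b) then m else Nat.xor m (Nat.lor (Nat.pow 2 a) (Nat.pow 2 b))

theorem swapBits_eq (a b m : ℕ) : swapBits a b m =
    if m.testBit a == m.testBit b then m else m ^^^ (2 ^ a ||| 2 ^ b) := by
  unfold swapBits
  rw [tb_eq, tb_eq]
  cases m.testBit a <;> cases m.testBit b <;> rfl

theorem testBit_swapBits (a b m i : ℕ) :
    (swapBits a b m).testBit i = m.testBit (if i = a then b else if i = b then a else i) := by
  rw [swapBits_eq]
  by_cases h : m.testBit a = m.testBit b
  · simp only [h, beq_self_eq_true, if_true]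
    by_cases h1 : i = a
    · subst h1; simp [h]
    · by_cases h2 : i = b
      · subst h2; simp [h1, h]
      · simp [h1, h2]
  · have hb : (m.testBit a == m.testBit b) = false := by simpa using h
    simp only [hb, Bool.false_eq_true, if_false, Nat.testBit_xor, Nat.testBit_or,
      Nat.testBit_two_pow]
    have hab : a ≠ b := fun e => h (by rw [e])
    by_cases h1 : i = a
    · subst h1
      have : ¬ b = i := fun e => hab e.symm
      simp only [decide_true, this, decide_false, Bool.or_false, if_true]
      cases h3 : m.testBit i <;> cases h4 : m.testBit b <;> simp_all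
    · by_cases h2 : i = b
      · subst h2
        have : ¬ a = i := fun e => hab e
        simp only [h1, if_false, if_true, this, decide_false, decide_true, Bool.false_or]
        cases h3 : m.testBit i <;> cases h4 : m.testBit a <;> simp_all
      · have e1 : ¬ a = i := fun e => h1 e.symm
        have e2 : ¬ b = i := fun e => h2 e.symm
        simp [h1, h2, e1, e2]

def ap (v : ℕ) : List (ℕ × ℕ) → ℕ → ℕ
  | [], m => m
  | (a, b) :: l, m => ap v l (bif Nat.blt a v && Nat.blt b v then swapBits a b m else m)

def permOf (v : ℕ) : List (ℕ × ℕ) → Equiv.Perm (Fin v)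
  | [] => 1
  | (a, b) :: l => permOf v l *
      (if h : a < v ∧ b < v then Equiv.swap (⟨a, h.1⟩ : Fin v) ⟨b, h.2⟩ else (1 : Equiv.Perm (Fin v)))

theorem toFs_swapBits {v a b : ℕ} (ha : a < v) (hb : b < v) (m : ℕ) :
    toFs v (swapBits a b m) = (toFs v m).image (Equiv.swap (⟨a, ha⟩ : Fin v) ⟨b, hb⟩) := by
  ext i
  rw [mem_toFs, testBit_swapBits, Finset.mem_image]
  constructor
  · intro h
    refine ⟨Equiv.swap (⟨a, ha⟩ : Fin v) ⟨b, hb⟩ i, ?_, by simp⟩
    rw [mem_toFs]
    by_cases h1 : (i : ℕ) = a
    · have : i = ⟨a, ha⟩ := Fin.ext h1
      subst this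
      simpa using h
    · by_cases h2 : (i : ℕ) = b
      · have : i = ⟨b, hb⟩ := Fin.ext h2
        subst this
        simpa [h1] using h
      · have e1 : i ≠ ⟨a, ha⟩ := fun e => h1 (congrArg Fin.val e)
        have e2 : i ≠ ⟨b, hb⟩ := fun e => h2 (congrArg Fin.val e)
        rw [Equiv.swap_apply_of_ne_of_ne e1 e2]
        simpa [h1, h2] using h
  · rintro ⟨j, hj, rfl⟩
    rw [mem_toFs] at hj
    by_cases h1 : j = ⟨a, ha⟩
    · subst h1
      rw [Equiv.swap_apply_left]
      by_cases hab : b = a
      · subst hab; simpa using hj
      · simpa [hab] using hj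
    · by_cases h2 : j = ⟨b, hb⟩
      · subst h2
        rw [Equiv.swap_apply_right]
        simpa using hj
      · rw [Equiv.swap_apply_of_ne_of_ne h1 h2]
        have e1 : (j : ℕ) ≠ a := fun e => h1 (Fin.ext e)
        have e2 : (j : ℕ) ≠ b := fun e => h2 (Fin.ext e)
        simpa [e1, e2] using hj

theorem toFs_ap (v : ℕ) : ∀ (l : List (ℕ × ℕ)) (m : ℕ),
    toFs v (ap v l m) = (toFs v m).image (permOf v l)
  | [], m => by simp [ap, permOf]
  | (a, b) :: l, m => by
    rw [ap, permOf, toFs_ap v l]
    by_cases h : a < v ∧ b < v
    · have hb : (Nat.blt a v && Nat.blt b v) = true := by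
        rw [Bool.and_eq_true, Nat.blt_eq, Nat.blt_eq]; exact h
      rw [hb, cond_true, dif_pos h, toFs_swapBits h.1 h.2, Finset.image_image]
      rfl
    · have hb : (Nat.blt a v && Nat.blt b v) = false := by
        rw [← Bool.not_eq_true, Bool.and_eq_true, Nat.blt_eq, Nat.blt_eq]; exact h
      rw [hb, cond_false, dif_neg h]
      simp

/-! ### transport of Steiner systems -/

theorem steiner_image {α β : Type*} [DecidableEq α] [DecidableEq β] {t k : ℕ}
    {B : Set (Finset α)} (e : α ≃ β) (h : IsSteinerSystem t k B) :
    IsSteinerSystem t k ((fun b => b.image e) '' B) := by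
  constructor
  · rintro _ ⟨b, hb, rfl⟩
    simp only
    rw [Finset.card_image_of_injective _ e.injective]
    exact h.1 b hb
  · intro s hs
    obtain ⟨b, ⟨hb, hsb⟩, huniq⟩ := h.2 (s.image e.symm)
      (by rw [Finset.card_image_of_injective _ e.symm.injective]; exact hs)
    refine ⟨b.image e, ⟨⟨b, hb, rfl⟩, ?_⟩, ?_⟩
    · intro x hx
      rw [Finset.mem_image]
      exact ⟨e.symm x, hsb (Finset.mem_image_of_mem _ hx), by simp⟩
    · rintro _ ⟨⟨c, hc, rfl⟩, hsc⟩
      simp only at hsc ⊢
      rw [huniq c ⟨hc, ?_⟩]
      intro x hx
      obtain ⟨y, hy, rfl⟩ := Finset.mem_image.mp hx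
      obtain ⟨z, hz, hzy⟩ := Finset.mem_image.mp (hsc hy)
      rw [← hzy]
      simpa using hz

theorem lt_of_ne {α : Type*} [DecidableEq α] {t k : ℕ} {B : Set (Finset α)}
    (h : IsSteinerSystem t k B) {b c : Finset α} (hb : b ∈ B) (hc : c ∈ B) (hne : b ≠ c) :
    (b ∩ c).card < t := by
  by_contra hcon
  push Not at hcon
  obtain ⟨s, hs, hst⟩ := Finset.exists_subset_card_eq hcon
  obtain ⟨d, _, hu⟩ := h.2 s hst
  exact hne ((hu b ⟨hb, hs.trans Finset.inter_subset_left⟩).trans
    (hu c ⟨hc, hs.trans Finset.inter_subset_right⟩).symm)

/-! ### candidate enumeration -/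

def ext : ℕ → List ℕ → ℕ → List ℕ
  | 0, _, m => [m]
  | _ + 1, [], _ => []
  | r + 1, x :: A, m => ext r A (Nat.lor m (Nat.pow 2 x)) ++ ext (r + 1) A m

theorem ext_complete (v : ℕ) : ∀ (A : List ℕ) (r m : ℕ) (X : Finset (Fin v)), X.card = r →
    (∀ y ∈ X, (y : ℕ) ∈ A) → ∃ m' ∈ ext r A m, toFs v m' = toFs v m ∪ X
  | [], r, m, X, hX, hA => by
    have hX0 : X = ∅ := by
      rw [Finset.eq_empty_iff_forall_notMem]
      intro y hy
      simpa using hA y hy
    subst hX0
    simp only [Finset.card_empty] at hX
    subst hX
    exact ⟨m, by simp [ext], by simp⟩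
  | x :: A, 0, m, X, hX, hA => by
    have hX0 : X = ∅ := Finset.card_eq_zero.mp hX
    subst hX0
    exact ⟨m, by simp [ext], by simp⟩
  | x :: A, r + 1, m, X, hX, hA => by
    by_cases hx : ∃ y ∈ X, (y : ℕ) = x
    · obtain ⟨y, hy, rfl⟩ := hx
      obtain ⟨m', hm', he⟩ := ext_complete v A r (m ||| 2 ^ (y : ℕ)) (X.erase y)
        (by rw [Finset.card_erase_of_mem hy, hX]; rfl)
        (by
          intro z hz
          have hz' := Finset.mem_erase.mp hz
          have := hA z hz'.2
          rcases List.mem_cons.mp this with h | h
          · exact absurd (Fin.ext h) hz'.1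
          · exact h)
      refine ⟨m', by rw [ext]; exact List.mem_append_left _ hm', ?_⟩
      rw [he, toFs_lor_pow]
      ext z
      simp only [Finset.mem_union, Finset.mem_insert, Finset.mem_erase]
      constructor
      · rintro ((h | h) | h)
        · exact Or.inr (h ▸ hy)
        · exact Or.inl h
        · exact Or.inr h.2
      · rintro (h | h)
        · exact Or.inl (Or.inr h)
        · by_cases hzy : z = y
          · exact Or.inl (Or.inl hzy)
          · exact Or.inr ⟨hzy, h⟩
    · obtain ⟨m', hm', he⟩ := ext_complete v A (r + 1) m X hX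
        (by
          intro z hz
          rcases List.mem_cons.mp (hA z hz) with h | h
          · exact absurd ⟨z, hz, h⟩ hx
          · exact h)
      exact ⟨m', by rw [ext]; exact List.mem_append_right _ hm', he⟩

theorem ext_lt {v : ℕ} : ∀ (A : List ℕ) (r m : ℕ), m < 2 ^ v → (∀ x ∈ A, x < v) →
    ∀ m' ∈ ext r A m, m' < 2 ^ v
  | [], 0, m, hm, _, m', h => by
    simp only [ext, List.mem_singleton] at h
    rw [h]; exact hm
  | [], r + 1, m, hm, _, m', h => by simp [ext] at h
  | x :: A, 0, m, hm, _, m', h => by
    simp only [ext, List.mem_singleton] at h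
    rw [h]; exact hm
  | x :: A, r + 1, m, hm, hA, m', h => by
    rw [ext, List.mem_append] at h
    rcases h with h | h
    · refine ext_lt A r _ ?_ (fun y hy => hA y (List.mem_cons_of_mem _ hy)) m' h
      exact Nat.or_lt_two_pow hm (Nat.pow_lt_pow_right (by norm_num) (hA x (by simp)))
    · exact ext_lt A (r + 1) m hm (fun y hy => hA y (List.mem_cons_of_mem _ hy)) m' h

def forbOf (t T : ℕ) (F : List ℕ) : ℕ :=
  (F.filter (fun c => Nat.ble t (Nat.succ (pcG (Nat.land c T))))).foldl Nat.lor T

theorem testBit_foldl_lor (x : ℕ) : ∀ (L : List ℕ) (T : ℕ), T.testBit x = false →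
    (∀ c ∈ L, c.testBit x = false) → (L.foldl Nat.lor T).testBit x = false
  | [], T, hT, _ => hT
  | a :: L, T, hT, hL => by
    rw [List.foldl_cons]
    apply testBit_foldl_lor x L
    · show (T ||| a).testBit x = false
      rw [Nat.testBit_or, hT, hL a (by simp)]
      rfl
    · exact fun c hc => hL c (List.mem_cons_of_mem _ hc)

def allowed (v t T : ℕ) (F : List ℕ) : List ℕ :=
  (List.range v).filter (fun x => Nat.beq (tb (forbOf t T F) x) 0)

def cands (v t r T : ℕ) (F : List ℕ) : List ℕ :=
  (ext r (allowed v t T F) T).filter (fun m => F.all (fun c => Nat.blt (pcG (Nat.land c m)) t))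

inductive Cert where
  | goto (sw : List (ℕ × ℕ))
  | node (T : ℕ) (ch : Cert)
  | nil
  | sub (c : Cert) (rest : Cert)
  | iso (bi : ℕ) (sw : List (ℕ × ℕ)) (rest : Cert)

def memB (c : ℕ) : List ℕ → Bool
  | [] => false
  | a :: l => bif Nat.beq a c then true else memB c l

theorem memB_iff {c : ℕ} : ∀ {L : List ℕ}, memB c L = true ↔ c ∈ L
  | [] => by simp [memB]
  | a :: l => by
    rw [memB, List.mem_cons, ← memB_iff (L := l)]
    by_cases h : a = c
    · subst h; simp
    · have : Nat.beq a c = false := by
        rw [← Bool.not_eq_true, Nat.beq_eq]; exact h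
      rw [this, cond_false]
      constructor
      · exact Or.inr
      · rintro (h' | h')
        · exact absurd h'.symm h
        · exact h'

def subl (G L : List ℕ) : Bool := G.all (fun c => memB c L)

theorem subl_iff {G L : List ℕ} : subl G L = true ↔ ∀ c ∈ G, c ∈ L := by
  simp [subl, memB_iff]

def chk (v t r : ℕ) (G0 : List ℕ) : Cert → Bool → List ℕ → List ℕ → List ℕ → Bool
  | .goto sw, true, F, _, _ => subl G0 (F.map (ap v sw))
  | .node T ch, true, F, _, _ =>
      Nat.blt T (Nat.pow 2 v) && Nat.beq (pcG T) t &&
        F.all (fun c => Nat.blt (pcG (Nat.land c T)) t) &&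
        chk v t r G0 ch false F (cands v t r T F) []
  | .nil, false, _, [], _ => true
  | .sub c rest, false, F, b :: cs, done =>
      chk v t r G0 c true (b :: F) [] [] && chk v t r G0 rest false F cs (b :: done)
  | .iso bi sw rest, false, F, b :: cs, done =>
      memB bi done && subl (bi :: F) ((b :: F).map (ap v sw)) &&
        chk v t r G0 rest false F cs done
  | _, _, _, _, _ => false

def P (v t k : ℕ) (B0 : Set (Finset (Fin v))) (F : List ℕ) : Prop :=
  ∀ B : Set (Finset (Fin v)), IsSteinerSystem t k B → (∀ c ∈ F, toFs v c ∈ B) →
    ∃ σ : Equiv.Perm (Fin v), (fun b => b.image σ) '' B = B0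

theorem P_of_map {v t k : ℕ} {B0 : Set (Finset (Fin v))} {F G : List ℕ} (sw : List (ℕ × ℕ))
    (h : subl G (F.map (ap v sw)) = true) (hG : P v t k B0 G) : P v t k B0 F := by
  intro B hB hF
  rw [subl_iff] at h
  obtain ⟨σ, hσ⟩ := hG _ (steiner_image (permOf v sw) hB) (by
    intro c hc
    obtain ⟨c', hc', rfl⟩ := List.mem_map.mp (h c hc)
    exact ⟨toFs v c', hF c' hc', (toFs_ap v sw c').symm⟩)
  refine ⟨σ * permOf v sw, ?_⟩
  rw [← hσ, Set.image_image]
  congr 1
  funext b
  rw [Finset.image_image]
  rfl

theorem P_node {v t k r : ℕ} (hv : v ≤ 24) (hk : k = t + r) {B0 : Set (Finset (Fin v))}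
    {F : List ℕ} {T : ℕ} (hT2 : T < 2 ^ v) (hT : pcG T = t) (hF : ∀ c ∈ F, pcG (c &&& T) < t)
    (hc : ∀ b ∈ cands v t r T F, P v t k B0 (b :: F)) : P v t k B0 F := by
  intro B hB hFB
  rw [pcG_card hv hT2] at hT
  have hcT : ∀ c : ℕ, c &&& T < 2 ^ v := fun c => lt_of_le_of_lt Nat.and_le_right hT2
  obtain ⟨b, ⟨hb, hTb⟩, -⟩ := hB.2 (toFs v T) hT
  have hne : ∀ c ∈ F, toFs v c ≠ b := by
    intro c hc e
    have h1 := hF c hc
    rw [pcG_card hv (hcT c), toFs_land, e, Finset.inter_eq_right.mpr hTb, hT] at h1
    exact lt_irrefl _ h1
  have hlt : ∀ c ∈ F, (toFs v c ∩ b).card < t := fun c hc =>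
    lt_of_ne hB (hFB c hc) hb (hne c hc)
  have hXc : (b \ toFs v T).card = r := by
    rw [Finset.card_sdiff_of_subset hTb, hB.1 b hb, hT, hk]
    omega
  obtain ⟨m', hm', he⟩ := ext_complete v (allowed v t T F) r T (b \ toFs v T) hXc (by
      intro y hy
      have hy' := Finset.mem_sdiff.mp hy
      unfold allowed
      rw [List.mem_filter]
      refine ⟨List.mem_range.mpr y.2, ?_⟩
      rw [Nat.beq_eq, tb_eq_zero]
      apply testBit_foldl_lor
      · have := hy'.2
        rw [mem_toFs] at this
        simpa using this
      · intro c hc
        rw [List.mem_filter] at hc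
        have h1 : t ≤ pcG (c &&& T) + 1 := Nat.le_of_ble_eq_true hc.2
        rw [pcG_card hv (hcT c), toFs_land] at h1
        by_contra hcon
        have hyc : y ∈ toFs v c := by
          rw [mem_toFs]
          simpa using hcon
        have h2 : insert y (toFs v c ∩ toFs v T) ⊆ toFs v c ∩ b := by
          intro z hz
          rcases Finset.mem_insert.mp hz with rfl | hz
          · exact Finset.mem_inter.mpr ⟨hyc, hy'.1⟩
          · have := Finset.mem_inter.mp hz
            exact Finset.mem_inter.mpr ⟨this.1, hTb this.2⟩
        have h3 := Finset.card_le_card h2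
        rw [Finset.card_insert_of_notMem (fun hz => hy'.2 (Finset.mem_inter.mp hz).2)] at h3
        have := hlt c hc.1
        omega)
  have hm2 : m' < 2 ^ v := ext_lt _ r T hT2 (by
    intro x hx
    unfold allowed at hx
    exact List.mem_range.mp (List.mem_filter.mp hx).1) m' hm'
  have hmb : toFs v m' = b := by
    rw [he]
    exact Finset.union_sdiff_of_subset hTb
  have hmem : m' ∈ cands v t r T F := by
    unfold cands
    rw [List.mem_filter]
    refine ⟨hm', ?_⟩
    rw [List.all_eq_true]
    intro c hc
    rw [Nat.blt_eq]
    show pcG (c &&& m') < t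
    rw [pcG_card hv (lt_of_le_of_lt Nat.and_le_right hm2), toFs_land, hmb]
    exact hlt c hc
  exact hc m' hmem B hB (by
    intro c hc
    rcases List.mem_cons.mp hc with rfl | hc
    · rw [hmb]; exact hb
    · exact hFB c hc)

def Claim (v t k : ℕ) (B0 : Set (Finset (Fin v))) : Bool → List ℕ → List ℕ → List ℕ → Prop
  | true, F, _, _ => P v t k B0 F
  | false, F, cs, done => (∀ b ∈ done, P v t k B0 (b :: F)) → ∀ b ∈ cs, P v t k B0 (b :: F)

theorem sound {v t k r : ℕ} (hv : v ≤ 24) (hk : k = t + r) {B0 : Set (Finset (Fin v))}
    {G0 : List ℕ} (hG0 : P v t k B0 G0) : ∀ (c : Cert) (mode : Bool) (F cs done : List ℕ),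
    chk v t r G0 c mode F cs done = true → Claim v t k B0 mode F cs done := by
  intro c
  induction c with
  | goto sw =>
    intro mode F cs done h
    cases mode with
    | false => simp [chk] at h
    | true => exact P_of_map sw (by simpa [chk] using h) hG0
  | node T ch ih =>
    intro mode F cs done h
    cases mode with
    | false => simp [chk] at h
    | true =>
      simp only [chk, Bool.and_eq_true, List.all_eq_true, Nat.blt_eq, Nat.beq_eq] at h
      have := ih false F _ [] h.2
      exact P_node hv hk h.1.1.1 h.1.1.2 h.1.2 (this (by simp))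
  | nil =>
    intro mode F cs done h
    cases mode with
    | true => simp [chk] at h
    | false =>
      cases cs with
      | nil => intro _ b hb; simp at hb
      | cons b cs => simp [chk] at h
  | sub c rest ih1 ih2 =>
    intro mode F cs done h
    cases mode with
    | true => simp [chk] at h
    | false =>
      cases cs with
      | nil => simp [chk] at h
      | cons b cs =>
        simp only [chk, Bool.and_eq_true] at h
        have h1 : P v t k B0 (b :: F) := ih1 true (b :: F) [] [] h.1
        have h2 := ih2 false F cs (b :: done) h.2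
        intro hd b' hb'
        rcases List.mem_cons.mp hb' with rfl | hb'
        · exact h1
        · refine h2 ?_ b' hb'
          intro d hd'
          rcases List.mem_cons.mp hd' with rfl | hd'
          · exact h1
          · exact hd d hd'
  | iso bi sw rest ih =>
    intro mode F cs done h
    cases mode with
    | true => simp [chk] at h
    | false =>
      cases cs with
      | nil => simp [chk] at h
      | cons b cs =>
        simp only [chk, Bool.and_eq_true] at h
        have h2 := ih false F cs done h.2
        intro hd b' hb'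
        rcases List.mem_cons.mp hb' with rfl | hb'
        · exact P_of_map sw h.1.2 (hd bi (memB_iff.mp h.1.1))
        · exact h2 hd b' hb'

/-! ### the base case and the final statements -/

def setOf' (v : ℕ) (L : List ℕ) : Set (Finset (Fin v)) := {s | ∃ c ∈ L, toFs v c = s}

theorem toFs_inj {v a b : ℕ} (ha : a < 2 ^ v) (hb : b < 2 ^ v) (h : toFs v a = toFs v b) :
    a = b := by
  apply Nat.eq_of_testBit_eq
  intro i
  by_cases hi : i < v
  · have h1 : ((⟨i, hi⟩ : Fin v) ∈ toFs v a) ↔ ((⟨i, hi⟩ : Fin v) ∈ toFs v b) := by rw [h]
    rw [mem_toFs, mem_toFs] at h1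
    simp only at h1
    cases h3 : a.testBit i <;> cases h4 : b.testBit i <;> simp_all
  · have hle : 2 ^ v ≤ 2 ^ i := Nat.pow_le_pow_right (by norm_num) (by omega)
    rw [Nat.testBit_lt_two_pow (lt_of_lt_of_le ha hle),
      Nat.testBit_lt_two_pow (lt_of_lt_of_le hb hle)]

def nodupB : List ℕ → Bool
  | [] => true
  | a :: l => bif memB a l then false else nodupB l

theorem nodupB_iff : ∀ {L : List ℕ}, nodupB L = true → L.Nodup
  | [], _ => List.nodup_nil
  | a :: l, h => by
    rw [nodupB] at h
    cases hm : memB a l with
    | true => rw [hm] at h; simp at h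
    | false =>
      rw [hm, cond_false] at h
      refine List.nodup_cons.mpr ⟨?_, nodupB_iff h⟩
      intro hmem
      rw [← memB_iff, hm] at hmem
      simp at hmem

def baseOK (v t k : ℕ) (L : List ℕ) : Bool :=
  L.all (fun c => decide (c < 2 ^ v)) && nodupB L &&
    decide (L.length * k.choose t = v.choose t) && decide (0 < k.choose t)

theorem P_base {v t k : ℕ} {L : List ℕ} (h : baseOK v t k L = true) :
    P v t k (setOf' v L) L := by
  classical
  simp only [baseOK, Bool.and_eq_true, List.all_eq_true, decide_eq_true_eq] at h
  obtain ⟨⟨⟨h1, h2⟩, h3⟩, h4⟩ := h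
  replace h2 := nodupB_iff h2
  intro B hB hL
  refine ⟨1, ?_⟩
  have hid : (fun b : Finset (Fin v) => b.image (1 : Equiv.Perm (Fin v))) = id := by
    funext b
    simp
  rw [hid, Set.image_id]
  have hc := Stn.card_through hB (I := ∅) (by simp)
  simp only [Finset.card_empty, Nat.sub_zero, Finset.empty_subset, Finset.filter_true,
    Fintype.card_fin] at hc
  have hcard : (Stn.Bf B).card = L.length := by
    have : (Stn.Bf B).card * k.choose t = L.length * k.choose t := by rw [hc, h3]
    exact Nat.eq_of_mul_eq_mul_right h4 this
  have hsub : (L.toFinset.image (toFs v)) ⊆ Stn.Bf B := by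
    intro s hs
    obtain ⟨c, hc, rfl⟩ := Finset.mem_image.mp hs
    exact Stn.mem_Bf.mpr (hL c (List.mem_toFinset.mp hc))
  have hcard2 : (L.toFinset.image (toFs v)).card = L.length := by
    rw [Finset.card_image_of_injOn, List.toFinset_card_of_nodup h2]
    intro a ha b hb hab
    exact toFs_inj (h1 a (List.mem_toFinset.mp ha)) (h1 b (List.mem_toFinset.mp hb)) hab
  have heq := Finset.eq_of_subset_of_card_le hsub (by rw [hcard, hcard2])
  ext s
  rw [← Stn.mem_Bf, ← heq]
  simp [setOf']

theorem iso_of_P {v t k : ℕ} {B0 : Set (Finset (Fin v))} (hP : P v t k B0 [])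
    {α : Type*} [Fintype α] [DecidableEq α] (hα : Fintype.card α = v) {B : Set (Finset α)}
    (hB : IsSteinerSystem t k B) : ∃ e : α ≃ Fin v, (fun b => b.image e) '' B = B0 := by
  obtain ⟨σ, hσ⟩ := hP _ (steiner_image (Fintype.equivFinOfCardEq hα) hB) (by simp)
  refine ⟨(Fintype.equivFinOfCardEq hα).trans σ, ?_⟩
  rw [← hσ, Set.image_image]
  congr 1
  funext b
  rw [Finset.image_image]
  rfl

theorem uniq_of_P {v t k : ℕ} {B0 : Set (Finset (Fin v))} (hP : P v t k B0 [])
    {α β : Type*} [Fintype α] [DecidableEq α] [Fintype β] [DecidableEq β]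
    (hα : Fintype.card α = v) (hβ : Fintype.card β = v) {B : Set (Finset α)}
    {B' : Set (Finset β)} (hB : IsSteinerSystem t k B) (hB' : IsSteinerSystem t k B') :
    SetSystemIso B B' := by
  obtain ⟨e1, h1⟩ := iso_of_P hP hα hB
  obtain ⟨e2, h2⟩ := iso_of_P hP hβ hB'
  refine ⟨e1.trans e2.symm, ?_⟩
  have : (fun b : Finset α => b.image (e1.trans e2.symm)) =
      (fun c : Finset (Fin v) => c.image e2.symm) ∘ (fun b : Finset α => b.image e1) := by
    funext b
    simp only [Function.comp]
    rw [Finset.image_image]
    rfl
  rw [this, Set.image_comp, h1, ← h2, Set.image_image]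
  convert Set.image_id B' using 2
  rw [Finset.image_image]
  simp

end Cfsg.Agent.Lib.Helper3.Stq
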