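import Mathlib
import Cfsg.Prelude.Def_Spor_Mathieu
import Cfsg.Agent.Lib.Helper3.M12Chain
import Cfsg.Agent.S0376
import Cfsg.Agent.S0378

set_option autoImplicit false
open scoped Pointwise
open Cfsg

namespace Cfsg.Agent.Lib.Helper3.Syl

theorem sq_eq_D0 : Cfsg.Spor.squareDodecad = D0 := by
  have h : mask Cfsg.Spor.squareDodecad = 0x5335f := by
    rw [Cfsg.Spor.squareDodecad, mask_support₂]
    decide +kernel
  rw [← unmask_mask Cfsg.Spor.squareDodecad, h]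
  rfl

theorem smul_D0_iff (g : Equiv.Perm GolayPt) :
    g • D0 = D0 ↔ ∀ p, (340831 : ℕ).testBit (idx (g p)) = (340831 : ℕ).testBit (idx p) := by
  have hm : ∀ p, p ∈ D0 ↔ (340831 : ℕ).testBit (idx p) = true := fun p => mem_unmask _ p
  constructor
  · intro h p
    rw [Bool.eq_iff_iff, ← hm, ← hm]
    conv_lhs => rw [← h]
    exact Finset.smul_mem_smul_finset_iff g
  · intro h
    ext x
    rw [← Finset.inv_smul_mem_iff, hm, hm, ← h (g⁻¹ • x)]
    simp

theorem desc24 (g : Equiv.Perm GolayPt) : g ∈ M24 ↔ g ∈ M24 ∧ (∀ a ∈ ([] : List ℕ), g (pt a) = pt a) ∧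
    ∀ p, (0 : ℕ).testBit (idx (g p)) = (0 : ℕ).testBit (idx p) := by
  simp

theorem desc23 (g : Equiv.Perm GolayPt) : g ∈ Spor.M23 ↔ g ∈ M24 ∧
    (∀ a ∈ ([23] : List ℕ), g (pt a) = pt a) ∧
    ∀ p, (0 : ℕ).testBit (idx (g p)) = (0 : ℕ).testBit (idx p) := by
  simp only [Spor.M23, Subgroup.mem_inf, MulAction.mem_stabilizer_iff, List.mem_singleton,
    forall_eq, Nat.zero_testBit, implies_true, and_true]
  rfl

theorem desc22 (g : Equiv.Perm GolayPt) : g ∈ Spor.M22 ↔ g ∈ M24 ∧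
    (∀ a ∈ ([23, 0] : List ℕ), g (pt a) = pt a) ∧
    ∀ p, (0 : ℕ).testBit (idx (g p)) = (0 : ℕ).testBit (idx p) := by
  simp only [Spor.M22, Spor.M23, Subgroup.mem_inf, MulAction.mem_stabilizer_iff, List.mem_cons,
    List.not_mem_nil, or_false, forall_eq_or_imp, forall_eq, Nat.zero_testBit, implies_true,
    and_true, and_assoc]
  rfl

theorem desc12 (g : Equiv.Perm GolayPt) : g ∈ Spor.M12 ↔ g ∈ M24 ∧
    (∀ a ∈ ([] : List ℕ), g (pt a) = pt a) ∧
    ∀ p, (340831 : ℕ).testBit (idx (g p)) = (340831 : ℕ).testBit (idx p) := by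
  simp only [Spor.M12, Subgroup.mem_inf, MulAction.mem_stabilizer_iff, sq_eq_D0, smul_D0_iff,
    List.not_mem_nil, false_imp_iff, implies_true, true_and]

theorem desc11 (g : Equiv.Perm GolayPt) : g ∈ Spor.M11 ↔ g ∈ M24 ∧
    (∀ a ∈ ([0] : List ℕ), g (pt a) = pt a) ∧
    ∀ p, (340831 : ℕ).testBit (idx (g p)) = (340831 : ℕ).testBit (idx p) := by
  simp only [Spor.M11, Spor.M12, Subgroup.mem_inf, MulAction.mem_stabilizer_iff, sq_eq_D0,
    smul_D0_iff, List.mem_singleton, forall_eq, and_assoc]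
  constructor
  · rintro ⟨h1, h2, h3⟩
    exact ⟨h1, h3, h2⟩
  · rintro ⟨h1, h2, h3⟩
    exact ⟨h1, h3, h2⟩

theorem card24 : Nat.card M24 = 2 ^ 10 * 239085 := by
  rw [card_M24]; norm_num

theorem card23 : Nat.card Spor.M23 = 2 ^ 7 * 79695 := by
  have h := Cfsg.Agent.S0376.result none
  have e : MulAction.stabilizer M24 (none : GolayPt) ≃ Spor.M23 :=
    { toFun := fun x => ⟨x.1.1, x.1.2, x.2⟩
      invFun := fun y => ⟨⟨y.1, y.2.1⟩, y.2.2⟩
      left_inv := fun _ => rfl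
      right_inv := fun _ => rfl }
  rw [← Nat.card_congr e, h]; norm_num

theorem card22 : Nat.card Spor.M22 = 2 ^ 7 * 3465 := by
  have h := Cfsg.Agent.S0378.result none (some 0) (by decide)
  have e : ↥(MulAction.stabilizer M24 (none : GolayPt) ⊓
      MulAction.stabilizer M24 (some 0 : GolayPt)) ≃ Spor.M22 :=
    { toFun := fun x => ⟨x.1.1, ⟨x.1.2, x.2.1⟩, x.2.2⟩
      invFun := fun y => ⟨⟨y.1, y.2.1.1⟩, y.2.1.2, y.2.2⟩
      left_inv := fun _ => rfl
      right_inv := fun _ => rfl }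
  rw [← Nat.card_congr e, h]; norm_num

theorem card12 : Nat.card Spor.M12 = 2 ^ 6 * 1485 := by
  have : Spor.M12 = L 0 := by
    rw [Spor.M12, sq_eq_D0]
    rfl
  rw [this, card_L0]; norm_num

theorem card11 : Nat.card Spor.M11 = 2 ^ 4 * 495 := by
  have : Spor.M11 = L 1 := by
    rw [L_succ, Spor.M11, Spor.M12, sq_eq_D0]
    rfl
  rw [this, card_L_values.1]; norm_num

end Cfsg.Agent.Lib.Helper3.Syl
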