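import Mathlib
import Cfsg.Agent.Lib.Helper3.ClassThm

set_option autoImplicit false
open scoped Pointwise
open Cfsg

/-! Explicit `2`-subgroups of the group of the Golay code, given by the list of the packed tables of
all their elements. -/

namespace Cfsg.Agent.Lib.Helper3.Syl

/-- `T` is the packed table of the permutation `g`. -/
def HasTab (g : Equiv.Perm GolayPt) (T : ℕ) : Prop := ∀ p, idx (g p) = look T (idx p)

/-- the table `T` agrees with the function `f`. -/
def agree (T : ℕ) (f : ℕ → ℕ) : Bool := (List.range 24).all fun i => look T i == f i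

theorem agree_iff {T : ℕ} {f : ℕ → ℕ} : agree T f = true ↔ ∀ i < 24, look T i = f i := by
  simp [agree, List.all_eq_true]

/-- packing of a list of five-bit numbers. -/
def packL (l : List ℕ) : ℕ := l.foldr (fun a acc => Nat.lor a (Nat.shiftLeft acc 5)) 0

/-- the packed table of a function. -/
def packF (f : ℕ → ℕ) : ℕ := packL ((List.range 24).map f)

theorem packF_congr {f f' : ℕ → ℕ} (h : ∀ i < 24, f i = f' i) : packF f = packF f' := by
  unfold packF
  congr 1
  apply List.map_congr_left
  intro i hi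
  exact h i (List.mem_range.1 hi)

theorem HasTab.inj {g g' : Equiv.Perm GolayPt} {T : ℕ} (h : HasTab g T) (h' : HasTab g' T) :
    g = g' := by
  apply Equiv.ext
  intro p
  apply idx_injective
  rw [h p, h' p]

theorem HasTab.look_eq {g : Equiv.Perm GolayPt} {T T' : ℕ} (h : HasTab g T) (h' : HasTab g T') :
    ∀ i < 24, look T i = look T' i := by
  intro i hi
  have h1 := h (pt i)
  have h2 := h' (pt i)
  rw [idx_pt hi] at h1 h2
  rw [← h1, ← h2]

theorem hasTab_of_fun {g : Equiv.Perm GolayPt} {T : ℕ} {f : ℕ → ℕ} (hf : ∀ p, idx (g p) = f (idx p))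
    (h : agree T f = true) : HasTab g T := by
  intro p
  rw [hf p, agree_iff.1 h _ (idx_lt p)]

theorem HasTab.agree_fun {g : Equiv.Perm GolayPt} {T : ℕ} {f : ℕ → ℕ} (h : HasTab g T)
    (hf : ∀ p, idx (g p) = f (idx p)) : ∀ i < 24, look T i = f i := by
  intro i hi
  have h1 := h (pt i)
  have h2 := hf (pt i)
  rw [idx_pt hi] at h1 h2
  rw [← h1, ← h2]

theorem hasTab_wperm {w : List ℕ} {T : ℕ} (h : agree T (wact w) = true) : HasTab (wperm w) T :=
  hasTab_of_fun (idx_wperm w) h

theorem HasTab.mul_fun {g h : Equiv.Perm GolayPt} {T U : ℕ} (hg : HasTab g T) (hh : HasTab h U) :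
    ∀ p, idx ((g * h) p) = look T (look U (idx p)) := by
  intro p
  rw [Equiv.Perm.mul_apply, hg, hh]

theorem HasTab.fix_iff {g : Equiv.Perm GolayPt} {T : ℕ} (h : HasTab g T) {a : ℕ} (ha : a < 24) :
    g (pt a) = pt a ↔ look T a = a := by
  have h1 := h (pt a)
  rw [idx_pt ha] at h1
  constructor
  · intro e
    rw [← h1, e, idx_pt ha]
  · intro e
    apply idx_injective
    rw [h1, e, idx_pt ha]

/-- evaluate a number before using it. -/
def force (X : ℕ) (k : ℕ → Bool) : Bool :=
  match X with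
  | 0 => k 0
  | Nat.succ n => k (Nat.succ n)

theorem force_eq (X : ℕ) (k : ℕ → Bool) : force X k = k X := by
  cases X <;> rfl

/-- membership in a list of numbers. -/
def memB (X : ℕ) : List ℕ → Bool
  | [] => false
  | a :: l => cond (Nat.beq a X) true (memB X l)

theorem memB_iff {X : ℕ} {l : List ℕ} : memB X l = true ↔ X ∈ l := by
  induction l with
  | nil => simp [memB]
  | cons a l ih =>
    rw [memB, List.mem_cons]
    by_cases h : a = X
    · subst h
      simp
    · have h' : Nat.beq a X = false := by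
        rw [← Bool.not_eq_true]
        intro e
        exact h (Nat.eq_of_beq_eq_true e)
      rw [h', cond_false, ih]
      constructor
      · exact Or.inr
      · rintro (e | e)
        · exact absurd e.symm h
        · exact e

/-- a list of numbers has no repetition. -/
def nodupB : List ℕ → Bool
  | [] => true
  | a :: l => cond (memB a l) false (nodupB l)

theorem nodupB_sound {l : List ℕ} (h : nodupB l = true) : l.Nodup := by
  induction l with
  | nil => exact List.nodup_nil
  | cons a l ih =>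
    rw [nodupB] at h
    rw [List.nodup_cons]
    by_cases e : memB a l = true
    · rw [e] at h
      simp at h
    · rw [Bool.not_eq_true] at e
      rw [e, cond_false] at h
      refine ⟨fun hm => ?_, ih h⟩
      rw [← memB_iff, e] at hm
      simp at hm

/-- membership of a function in a list of tables. -/
def hasT (tabs : List ℕ) (f : ℕ → ℕ) : Bool := force (packF f) fun X => memB X tabs && agree X f

theorem hasT_sound {tabs : List ℕ} {f : ℕ → ℕ} (h : hasT tabs f = true) :
    ∃ T ∈ tabs, agree T f = true := by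
  unfold hasT at h
  rw [force_eq, Bool.and_eq_true] at h
  exact ⟨_, memB_iff.1 h.1, h.2⟩

/-- the subgroup generated by a list of words. -/
noncomputable def SP (ws : List (List ℕ)) : Subgroup (Equiv.Perm GolayPt) :=
  Subgroup.closure {g | ∃ w ∈ ws, g = wperm w}

/-- the tables `gt` are the tables of the words `ws`, and they are closed under inversion. -/
def chkGen (ws : List (List ℕ)) (gt : List ℕ) : Bool :=
  (ws.all fun w => gt.any fun T => agree T (wact w)) &&
  (gt.all fun T => ws.any fun w => agree T (wact w)) &&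
  (gt.all fun T => gt.any fun T' => (List.range 24).all fun i => look T' (look T i) == i)

theorem chkGen_1 {ws : List (List ℕ)} {gt : List ℕ} (h : chkGen ws gt = true) :
    ∀ w ∈ ws, ∃ T ∈ gt, HasTab (wperm w) T := by
  unfold chkGen at h
  simp only [Bool.and_eq_true, List.all_eq_true, List.any_eq_true] at h
  intro w hw
  obtain ⟨T, hT, e⟩ := h.1.1 w hw
  exact ⟨T, hT, hasTab_wperm e⟩

theorem chkGen_2 {ws : List (List ℕ)} {gt : List ℕ} (h : chkGen ws gt = true) :
    ∀ T ∈ gt, ∃ g ∈ SP ws, HasTab g T := by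
  unfold chkGen at h
  simp only [Bool.and_eq_true, List.all_eq_true, List.any_eq_true] at h
  intro T hT
  obtain ⟨w, hw, e⟩ := h.1.2 T hT
  exact ⟨wperm w, Subgroup.subset_closure ⟨w, hw, rfl⟩, hasTab_wperm e⟩

theorem chkGen_3 {ws : List (List ℕ)} {gt : List ℕ} (h : chkGen ws gt = true) :
    ∀ w ∈ ws, ∃ T ∈ gt, HasTab (wperm w)⁻¹ T := by
  intro w hw
  obtain ⟨T, hT, e⟩ := chkGen_1 h w hw
  unfold chkGen at h
  simp only [Bool.and_eq_true, List.all_eq_true, List.any_eq_true] at h
  obtain ⟨T', hT', e'⟩ := h.2 T hT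
  refine ⟨T', hT', ?_⟩
  intro p
  have h1 := e ((wperm w)⁻¹ p)
  have h0 : wperm w ((wperm w)⁻¹ p) = p := by
    rw [← Equiv.Perm.mul_apply, mul_inv_cancel, Equiv.Perm.one_apply]
  rw [h0] at h1
  have h2 := e' (idx ((wperm w)⁻¹ p)) (List.mem_range.2 (idx_lt _))
  rw [← h1] at h2
  exact (beq_iff_eq.1 h2).symm

/-- the list of tables is closed under the generators. -/
def chkClosed (gt tabs : List ℕ) : Bool :=
  hasT tabs id && tabs.all fun T => gt.all fun G => hasT tabs (fun i => look G (look T i))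

theorem closed_sound {ws : List (List ℕ)} {gt tabs : List ℕ} (hg : chkGen ws gt = true)
    (h : chkClosed gt tabs = true) : ∀ g ∈ SP ws, ∃ T ∈ tabs, HasTab g T := by
  unfold chkClosed at h
  simp only [Bool.and_eq_true, List.all_eq_true] at h
  have step : ∀ x : Equiv.Perm GolayPt, (∃ G ∈ gt, HasTab x G) → ∀ y : Equiv.Perm GolayPt,
      (∃ T ∈ tabs, HasTab y T) → ∃ T ∈ tabs, HasTab (x * y) T := by
    rintro x ⟨G, hG, hx⟩ y ⟨T, hT, hy⟩
    obtain ⟨V, hV, e⟩ := hasT_sound (h.2 T hT G hG)
    exact ⟨V, hV, hasTab_of_fun (hx.mul_fun hy) e⟩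
  intro g hgP
  unfold SP at hgP
  induction hgP using Subgroup.closure_induction_left with
  | one =>
    obtain ⟨V, hV, e⟩ := hasT_sound h.1
    exact ⟨V, hV, hasTab_of_fun (fun p => rfl) e⟩
  | mul_left x hx y _ ih =>
    obtain ⟨w, hw, rfl⟩ := hx
    exact step _ (chkGen_1 hg w hw) _ ih
  | inv_mul_cancel x hx y _ ih =>
    obtain ⟨w, hw, rfl⟩ := hx
    exact step _ (chkGen_3 hg w hw) _ ih

/-- every table is obtained from an earlier one by a generator. -/
def chkPar (gt tabs : List ℕ) (par : List (ℕ × ℕ)) : Bool :=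
  (List.range tabs.length).all fun k =>
    (k == 0 && agree (tabs.getD 0 0) id) ||
    (decide ((par.getD k (0, 0)).1 < k) &&
      force (gt.getD (par.getD k (0, 0)).2 0) fun G =>
      force (tabs.getD (par.getD k (0, 0)).1 0) fun T' =>
      force (tabs.getD k 0) fun T => memB G gt && agree T (fun i => look G (look T' i)))

theorem par_sound {ws : List (List ℕ)} {gt tabs : List ℕ} {par : List (ℕ × ℕ)}
    (hg : chkGen ws gt = true) (h : chkPar gt tabs par = true) :
    ∀ T ∈ tabs, ∃ g ∈ SP ws, HasTab g T := by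
  unfold chkPar at h
  simp only [List.all_eq_true, List.mem_range] at h
  have key : ∀ k, k < tabs.length → ∃ g ∈ SP ws, HasTab g (tabs.getD k 0) := by
    intro k
    induction k using Nat.strong_induction_on with
    | _ k ih =>
      intro hk
      have hk' := h k hk
      rw [Bool.or_eq_true] at hk'
      rcases hk' with h0 | h1
      · rw [Bool.and_eq_true] at h0
        have : k = 0 := by simpa using h0.1
        subst this
        exact ⟨1, one_mem _, hasTab_of_fun (fun p => rfl) h0.2⟩
      · simp only [force_eq, Bool.and_eq_true, decide_eq_true_eq] at h1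
        obtain ⟨hj, hb, e⟩ := h1
        obtain ⟨y, hy, hyT⟩ := ih _ hj (lt_trans hj hk)
        obtain ⟨x, hx, hxT⟩ := chkGen_2 hg _ (memB_iff.1 hb)
        exact ⟨x * y, mul_mem hx hy, hasTab_of_fun (hxT.mul_fun hyT) e⟩
  intro T hT
  obtain ⟨k, hk, rfl⟩ := List.mem_iff_getElem.1 hT
  have := key k hk
  rwa [List.getD_eq_getElem _ _ hk] at this

/-- the tables are canonical. -/
def chkCanon (tabs : List ℕ) : Bool := tabs.all fun T => packF (look T) == T

theorem canon_sound {tabs : List ℕ} (h : chkCanon tabs = true) {T : ℕ} (hT : T ∈ tabs) {f : ℕ → ℕ}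
    (hf : ∀ i < 24, look T i = f i) : T = packF f := by
  unfold chkCanon at h
  rw [List.all_eq_true] at h
  have := h T hT
  rw [← packF_congr hf]
  exact (by simpa using this : packF (look T) = T).symm

/-- `tabs` is the list of the tables of the elements of `P`. -/
structure IsTab (P : Subgroup (Equiv.Perm GolayPt)) (tabs : List ℕ) : Prop where
  A : ∀ g ∈ P, ∃ T ∈ tabs, HasTab g T
  B : ∀ T ∈ tabs, ∃ g ∈ P, HasTab g T
  canon : chkCanon tabs = true
  nodup : tabs.Nodup

theorem IsTab.sep {P : Subgroup (Equiv.Perm GolayPt)} {tabs : List ℕ} (h : IsTab P tabs) {T T' : ℕ}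
    (hT : T ∈ tabs) (hT' : T' ∈ tabs) (e : ∀ i < 24, look T i = look T' i) : T = T' := by
  exact (canon_sound h.canon hT e).trans (canon_sound h.canon hT' (fun _ _ => rfl)).symm

/-- the pointwise stabiliser of a list of points in `P`. -/
def fixG (P : Subgroup (Equiv.Perm GolayPt)) (l : List ℕ) : Subgroup (Equiv.Perm GolayPt) where
  carrier := {g | g ∈ P ∧ ∀ a ∈ l, g (pt a) = pt a}
  one_mem' := ⟨one_mem _, fun _ _ => rfl⟩
  mul_mem' := by
    rintro x y ⟨hx, hx'⟩ ⟨hy, hy'⟩
    refine ⟨mul_mem hx hy, fun a ha => ?_⟩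
    rw [Equiv.Perm.mul_apply, hy' a ha, hx' a ha]
  inv_mem' := by
    rintro x ⟨hx, hx'⟩
    refine ⟨inv_mem hx, fun a ha => ?_⟩
    rw [Equiv.Perm.inv_eq_iff_eq, hx' a ha]

theorem mem_fixG {P : Subgroup (Equiv.Perm GolayPt)} {l : List ℕ} {g : Equiv.Perm GolayPt} :
    g ∈ fixG P l ↔ g ∈ P ∧ ∀ a ∈ l, g (pt a) = pt a := Iff.rfl

/-- the table fixes the points of the list. -/
def fixL (l : List ℕ) (T : ℕ) : Bool := l.all fun a => look T a == a

theorem fixL_iff {g : Equiv.Perm GolayPt} {T : ℕ} (h : HasTab g T) {l : List ℕ}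
    (hl : ∀ a ∈ l, a < 24) : fixL l T = true ↔ ∀ a ∈ l, g (pt a) = pt a := by
  unfold fixL
  simp only [List.all_eq_true, beq_iff_eq]
  constructor
  · intro e a ha
    exact (h.fix_iff (hl a ha)).2 (e a ha)
  · intro e a ha
    exact (h.fix_iff (hl a ha)).1 (e a ha)

theorem card_fixG {P : Subgroup (Equiv.Perm GolayPt)} {tabs : List ℕ} (h : IsTab P tabs)
    {l : List ℕ} (hl : ∀ a ∈ l, a < 24) :
    Nat.card (fixG P l) = (tabs.filter (fixL l)).length := by
  classical
  have hA : ∀ g : fixG P l, ∃ T, T ∈ (tabs.filter (fixL l)).toFinset ∧ HasTab g.1 T := by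
    intro g
    obtain ⟨T, hT, e⟩ := h.A g.1 g.2.1
    refine ⟨T, ?_, e⟩
    rw [List.mem_toFinset, List.mem_filter]
    exact ⟨hT, (fixL_iff e hl).2 g.2.2⟩
  choose f hf1 hf2 using hA
  have hbij : Function.Bijective
      (fun g : fixG P l => (⟨f g, hf1 g⟩ : {T // T ∈ (tabs.filter (fixL l)).toFinset})) := by
    constructor
    · intro g g' e
      have e' : f g = f g' := congrArg Subtype.val e
      apply Subtype.ext
      have := hf2 g'
      rw [← e'] at this
      exact (hf2 g).inj this
    · rintro ⟨T, hT⟩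
      have hT' := hT
      rw [List.mem_toFinset, List.mem_filter] at hT'
      obtain ⟨g, hg, e⟩ := h.B T hT'.1
      refine ⟨⟨g, hg, (fixL_iff e hl).1 hT'.2⟩, ?_⟩
      apply Subtype.ext
      show f _ = T
      have h1 := hf1 ⟨g, hg, (fixL_iff e hl).1 hT'.2⟩
      rw [List.mem_toFinset, List.mem_filter] at h1
      exact h.sep h1.1 hT'.1 ((hf2 ⟨g, hg, (fixL_iff e hl).1 hT'.2⟩).look_eq e)
  rw [Nat.card_congr (Equiv.ofBijective _ hbij), Nat.card_eq_fintype_card, Fintype.card_coe,
    List.toFinset_card_of_nodup (h.nodup.filter _)]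

theorem IsTab.card {P : Subgroup (Equiv.Perm GolayPt)} {tabs : List ℕ} (h : IsTab P tabs) :
    Nat.card P = tabs.length := by
  have h1 := card_fixG h (l := []) (by simp)
  have h2 : fixG P [] = P := by
    ext g
    simp [mem_fixG]
  rw [h2] at h1
  rw [h1]
  congr 1
  apply List.filter_eq_self.2
  intro a _
  rfl


theorem conj_fix {n g : Equiv.Perm GolayPt} {r s : GolayPt} (h : n r = s) (hg : g r = r) :
    (n * g * n⁻¹) s = s := by
  have h1 : n⁻¹ s = r := by rw [Equiv.Perm.inv_eq_iff_eq, h]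
  rw [Equiv.Perm.mul_apply, Equiv.Perm.mul_apply, h1, hg, h]

theorem conj_fix' {n g : Equiv.Perm GolayPt} {r s : GolayPt} (h : n r = s) (hg : g s = s) :
    (n⁻¹ * g * n) r = r := by
  rw [Equiv.Perm.mul_apply, Equiv.Perm.mul_apply, h, hg, Equiv.Perm.inv_eq_iff_eq, h]

/-- conjugation by a normalising element fixing the points of `l`. -/
theorem card_fixG_conj {P : Subgroup (Equiv.Perm GolayPt)} {n : Equiv.Perm GolayPt}
    (hn : ∀ x, x ∈ P ↔ n * x * n⁻¹ ∈ P) {l : List ℕ} (hl : ∀ a ∈ l, n (pt a) = pt a) {b q : ℕ}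
    (hq : n (pt b) = pt q) : Nat.card (fixG P (b :: l)) = Nat.card (fixG P (q :: l)) := by
  apply Nat.card_congr
  refine ⟨fun g => ⟨n * g.1 * n⁻¹, (hn _).1 g.2.1, ?_⟩, fun g => ⟨n⁻¹ * g.1 * n, ?_, ?_⟩, ?_, ?_⟩
  · intro a ha
    rcases List.mem_cons.1 ha with rfl | ha
    · exact conj_fix hq (g.2.2 b (by simp))
    · exact conj_fix (hl a ha) (g.2.2 a (by simp [ha]))
  · rw [hn]
    have : n * (n⁻¹ * g.1 * n) * n⁻¹ = g.1 := by group
    rw [this]
    exact g.2.1
  · intro a ha
    rcases List.mem_cons.1 ha with rfl | ha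
    · exact conj_fix' hq (g.2.2 q (by simp))
    · exact conj_fix' (hl a ha) (g.2.2 a (by simp [ha]))
  · intro g
    apply Subtype.ext
    show n⁻¹ * (n * g.1 * n⁻¹) * n = g.1
    group
  · intro g
    apply Subtype.ext
    show n * (n⁻¹ * g.1 * n) * n⁻¹ = g.1
    group

/-- the number of tables fixing a list of points. -/
def cnt (tabs l : List ℕ) : ℕ := (tabs.filter (fixL l)).length

/-- one step of the normaliser chain. -/
def stepOK (tabs : List ℕ) (A : ℕ) (l : List ℕ) (b : ℕ) : Bool :=
  !l.contains b && decide (b < 24) && (List.range 24).all fun q =>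
    l.contains q || (A.testBit q != A.testBit b) || (cnt tabs (q :: l) != cnt tabs (b :: l)) ||
    tabs.any fun T => fixL l T && look T b == q

/-- the last step of the normaliser chain. -/
def finOK (gt tabs : List ℕ) (A : ℕ) (u : List ℕ) (l : List ℕ) : Bool :=
  (List.range 5).all (fun j => l.contains (wact (winv u) j)) &&
  (List.range 24).all fun q5 => (List.range 24).all fun q6 =>
    !(allow 5).testBit q5 || !(allow 6).testBit q6 ||
    hasT tabs (wact (winv u ++ w5 q5 q6 ++ u)) ||
    (List.range 24).any (fun i => A.testBit (wact (winv u ++ w5 q5 q6 ++ u) i) != A.testBit i) ||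
    gt.any fun G => force (packF fun i =>
      wact (winv u ++ w5 q5 q6 ++ u) (look G (wact (winv (winv u ++ w5 q5 q6 ++ u)) i)))
      fun X => !memB X tabs

/-- the normaliser chain. -/
def chain (gt tabs : List ℕ) (A : ℕ) (u : List ℕ) : List ℕ → List ℕ → Bool
  | l, [] => finOK gt tabs A u l
  | l, b :: bs => stepOK tabs A l b && chain gt tabs A u (b :: l) bs

theorem fin_sound {P G : Subgroup (Equiv.Perm GolayPt)} {gt tabs : List ℕ} {A : ℕ} {u : List ℕ}
    (hT : IsTab P tabs) (hGM : G ≤ M24)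
    (hA : ∀ n ∈ G, ∀ p, A.testBit (idx (n p)) = A.testBit (idx p))
    (hgt : ∀ T ∈ gt, ∃ g ∈ P, HasTab g T) {l : List ℕ} (h : finOK gt tabs A u l = true)
    (hl : ∀ a ∈ l, a < 24) {n : Equiv.Perm GolayPt} (hnG : n ∈ G)
    (hn : ∀ x, x ∈ P ↔ n * x * n⁻¹ ∈ P) (hfix : ∀ a ∈ l, n (pt a) = pt a) : n ∈ P := by
  unfold finOK at h
  rw [Bool.and_eq_true] at h
  obtain ⟨h1, h2⟩ := h
  rw [List.all_eq_true] at h1 h2
  have hK : wperm u * n * (wperm u)⁻¹ ∈ K 5 := by
    rw [mem_K]
    refine ⟨M24.mul_mem (M24.mul_mem (wperm_mem u) (hGM hnG)) (M24.inv_mem (wperm_mem u)), ?_⟩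
    intro j hj
    rw [bpt_eq_pt hj]
    have ha : wact (winv u) j ∈ l := by simpa using h1 j (List.mem_range.2 hj)
    apply conj_fix (r := pt (wact (winv u) j)) _ (hfix _ ha)
    have e1 : wperm (winv u) (pt j) = pt (wact (winv u) j) := by
      apply idx_injective
      rw [idx_wperm, idx_pt (by omega), idx_pt (hl _ ha)]
    rw [← e1, wperm_winv, ← Equiv.Perm.mul_apply, mul_inv_cancel, Equiv.Perm.one_apply]
  obtain ⟨q5, hq5, q6, hq6, b5, b6, e⟩ := K5_word hK
  have hnW : n = wperm (winv u ++ w5 q5 q6 ++ u) := by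
    rw [wperm_append, wperm_append, wperm_winv, ← e]
    group
  have h3 := h2 q5 (List.mem_range.2 hq5)
  rw [List.all_eq_true] at h3
  have h4 := h3 q6 (List.mem_range.2 hq6)
  generalize winv u ++ w5 q5 q6 ++ u = W at hnW h4
  simp only [Bool.or_eq_true, b5, b6, Bool.not_true, Bool.false_eq_true, false_or] at h4
  rcases h4 with (h4 | h4) | h4
  · obtain ⟨T, hTt, hag⟩ := hasT_sound h4
    obtain ⟨g, hg, hgT⟩ := hT.B T hTt
    have : n = g := by
      rw [hnW]
      exact (hasTab_wperm hag).inj hgT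
    rw [this]
    exact hg
  · exfalso
    rw [List.any_eq_true] at h4
    obtain ⟨i, hi, hne⟩ := h4
    have h5 := hA n hnG (pt i)
    rw [hnW, idx_wperm, idx_pt (List.mem_range.1 hi)] at h5
    rw [h5] at hne
    simp at hne
  · exfalso
    rw [List.any_eq_true] at h4
    obtain ⟨Gt, hGt, hne⟩ := h4
    obtain ⟨g, hg, hgT⟩ := hgt Gt hGt
    obtain ⟨T, hTt, hTT⟩ := hT.A _ ((hn g).1 hg)
    have hf : ∀ p, idx ((n * g * n⁻¹) p) = wact W (look Gt (wact (winv W) (idx p))) := by
      intro p
      rw [hnW, ← wperm_winv, Equiv.Perm.mul_apply, Equiv.Perm.mul_apply, idx_wperm, hgT, idx_wperm]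
    have := canon_sound hT.canon hTt
      (hTT.agree_fun (f := fun i => wact W (look Gt (wact (winv W) i))) hf)
    rw [force_eq, ← this, memB_iff.2 hTt] at hne
    simp at hne

theorem chain_sound {P G : Subgroup (Equiv.Perm GolayPt)} {gt tabs : List ℕ} {A : ℕ} {u : List ℕ}
    (hT : IsTab P tabs) (hPG : P ≤ G) (hGM : G ≤ M24)
    (hA : ∀ n ∈ G, ∀ p, A.testBit (idx (n p)) = A.testBit (idx p))
    (hgt : ∀ T ∈ gt, ∃ g ∈ P, HasTab g T) (bs : List ℕ) :
    ∀ l : List ℕ, chain gt tabs A u l bs = true → (∀ a ∈ l, a < 24) →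
      ∀ n ∈ G, (∀ x, x ∈ P ↔ n * x * n⁻¹ ∈ P) → (∀ a ∈ l, n (pt a) = pt a) → n ∈ P := by
  induction bs with
  | nil =>
    intro l h hl n hnG hn hfix
    exact fin_sound hT hGM hA hgt h hl hnG hn hfix
  | cons b bs ih =>
    intro l h hl n hnG hn hfix
    rw [chain, Bool.and_eq_true] at h
    obtain ⟨h1, h2⟩ := h
    unfold stepOK at h1
    simp only [Bool.and_eq_true, decide_eq_true_eq, List.all_eq_true, List.mem_range] at h1
    obtain ⟨⟨hbl, hb⟩, h1⟩ := h1
    have hbl' : b ∉ l := by simpa using hbl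
    have hq : n (pt b) = pt (idx (n (pt b))) := (pt_idx _).symm
    have hq24 := idx_lt (n (pt b))
    generalize idx (n (pt b)) = q at hq hq24
    have h3 := h1 q hq24
    have hql : q ∉ l := by
      intro hql
      have := n.injective (hq.trans (hfix q hql).symm)
      have := congrArg idx this
      rw [idx_pt hb, idx_pt hq24] at this
      exact hbl' (this ▸ hql)
    have hAq : A.testBit q = A.testBit b := by
      have := hA n hnG (pt b)
      rwa [hq, idx_pt hq24, idx_pt hb] at this
    have hcnt : cnt tabs (q :: l) = cnt tabs (b :: l) := by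
      unfold cnt
      rw [← card_fixG hT, ← card_fixG hT, card_fixG_conj hn hfix hq]
      · intro a ha
        rcases List.mem_cons.1 ha with rfl | ha
        · exact hb
        · exact hl a ha
      · intro a ha
        rcases List.mem_cons.1 ha with rfl | ha
        · exact hq24
        · exact hl a ha
    simp only [Bool.or_eq_true, List.contains_eq_mem, decide_eq_true_eq, hql, false_or, hAq, hcnt,
      bne_self_eq_false, Bool.false_eq_true, List.any_eq_true, Bool.and_eq_true, beq_iff_eq] at h3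
    obtain ⟨T, hTt, hTl, hTb⟩ := h3
    obtain ⟨g, hg, hgT⟩ := hT.B T hTt
    have hgl := (fixL_iff hgT hl).1 hTl
    have hgb : g (pt b) = pt q := by
      apply idx_injective
      rw [hgT, idx_pt hb, idx_pt hq24, hTb]
    have key : g⁻¹ * n ∈ P := by
      apply ih (b :: l) h2
      · intro a ha
        rcases List.mem_cons.1 ha with rfl | ha
        · exact hb
        · exact hl a ha
      · exact G.mul_mem (G.inv_mem (hPG hg)) hnG
      · intro x
        have e : g⁻¹ * n * x * (g⁻¹ * n)⁻¹ = g⁻¹ * (n * x * n⁻¹) * g := by group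
        rw [e, hn x]
        constructor
        · intro hx
          exact P.mul_mem (P.mul_mem (P.inv_mem hg) hx) hg
        · intro hx
          have := P.mul_mem (P.mul_mem hg hx) (P.inv_mem hg)
          have e2 : g * (g⁻¹ * (n * x * n⁻¹) * g) * g⁻¹ = n * x * n⁻¹ := by group
          rwa [e2] at this
      · intro a ha
        rw [Equiv.Perm.mul_apply, Equiv.Perm.inv_eq_iff_eq]
        rcases List.mem_cons.1 ha with rfl | ha
        · rw [hq, hgb]
        · rw [hfix a ha, hgl a ha]
    have := P.mul_mem hg key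
    rwa [mul_inv_cancel_left] at this

/-- the centre has order two. -/
def chkZ (gt tabs : List ℕ) (Tz : ℕ) : Bool :=
  tabs.all fun T => agree T id || T == Tz ||
    gt.any fun G => (List.range 24).any fun i => look G (look T i) != look T (look G i)

theorem centre_sound {P : Subgroup (Equiv.Perm GolayPt)} {gt tabs : List ℕ} {Tz : ℕ}
    (hT : IsTab P tabs) (hgt : ∀ T ∈ gt, ∃ g ∈ P, HasTab g T) (h : chkZ gt tabs Tz = true)
    {z0 : Equiv.Perm GolayPt} (hz0 : HasTab z0 Tz) :
    ∀ z ∈ P, (∀ x ∈ P, x * z = z * x) → z = 1 ∨ z = z0 := by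
  intro z hz hc
  obtain ⟨T, hTt, hzT⟩ := hT.A z hz
  unfold chkZ at h
  rw [List.all_eq_true] at h
  have h1 := h T hTt
  simp only [Bool.or_eq_true, beq_iff_eq] at h1
  rcases h1 with (h1 | h1) | h1
  · left
    exact hzT.inj (hasTab_of_fun (fun p => rfl) h1)
  · right
    rw [h1] at hzT
    exact hzT.inj hz0
  · exfalso
    simp only [List.any_eq_true, List.mem_range] at h1
    obtain ⟨Gt, hGt, i, hi, hne⟩ := h1
    obtain ⟨g, hg, hgT⟩ := hgt Gt hGt
    have e := congrArg (fun s : Equiv.Perm GolayPt => idx (s (pt i))) (hc g hg)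
    simp only [hgT.mul_fun hzT, hzT.mul_fun hgT, idx_pt hi] at e
    rw [e] at hne
    simp at hne

/-- generators obtained by successive fusion. -/
def bld (wz : List ℕ) : List (List ℕ × List ℕ) → List (List ℕ)
  | [] => [wz]
  | ce :: r => (ce.1 ++ (ce.2.flatMap fun i => (bld wz r).getD i []) ++ winv ce.1) :: bld wz r

theorem wperm_flatMap_mem (T : Subgroup (Equiv.Perm GolayPt)) (L : List (List ℕ))
    (hL : ∀ w ∈ L, wperm w ∈ T) (e : List ℕ) : wperm (e.flatMap fun i => L.getD i []) ∈ T := by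
  induction e with
  | nil => exact T.one_mem
  | cons i e ih =>
    rw [List.flatMap_cons, wperm_append]
    apply T.mul_mem _ ih
    by_cases hi : i < L.length
    · rw [List.getD_eq_getElem _ _ hi]
      exact hL _ (List.getElem_mem hi)
    · rw [List.getD_eq_default _ _ (by omega)]
      exact T.one_mem

theorem bld_mem {T G P : Subgroup (Equiv.Perm GolayPt)} {wz : List ℕ} (hz : wperm wz ∈ T)
    (hcl : ∀ x ∈ T, ∀ g ∈ G, g * x * g⁻¹ ∈ P → g * x * g⁻¹ ∈ T) (rc : List (List ℕ × List ℕ)) :
    (∀ ce ∈ rc, wperm ce.1 ∈ G) → (∀ w ∈ bld wz rc, wperm w ∈ P) →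
      ∀ w ∈ bld wz rc, wperm w ∈ T := by
  induction rc with
  | nil =>
    intro _ _ w hw
    rw [bld, List.mem_singleton] at hw
    rw [hw]
    exact hz
  | cons ce r ih =>
    intro hG hP w hw
    have ih' := ih (fun x hx => hG x (by simp [hx])) (fun x hx => hP x (by rw [bld]; simp [hx]))
    rw [bld, List.mem_cons] at hw
    rcases hw with rfl | hw
    · have h1 := hP (ce.1 ++ (ce.2.flatMap fun i => (bld wz r).getD i []) ++ winv ce.1)
        (by rw [bld]; simp)
      rw [wperm_append, wperm_append, wperm_winv] at h1 ⊢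
      exact hcl _ (wperm_flatMap_mem T _ ih' _) _ (hG ce (by simp)) h1
    · exact ih' w hw

/-- membership of a word in the subgroup fixing the points `l0` and the set `A`. -/
def inG (l0 : List ℕ) (A : ℕ) (c : List ℕ) : Bool :=
  l0.all (fun a => wact c a == a) && (List.range 24).all fun i => A.testBit (wact c i) == A.testBit i

theorem inG_sound {l0 : List ℕ} {A : ℕ} {c : List ℕ} (hl0 : ∀ a ∈ l0, a < 24)
    (h : inG l0 A c = true) : wperm c ∈ M24 ∧ (∀ a ∈ l0, wperm c (pt a) = pt a) ∧
      ∀ p, A.testBit (idx (wperm c p)) = A.testBit (idx p) := by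
  unfold inG at h
  simp only [Bool.and_eq_true, List.all_eq_true, beq_iff_eq, List.mem_range] at h
  refine ⟨wperm_mem c, ?_, ?_⟩
  · intro a ha
    apply idx_injective
    rw [idx_wperm, idx_pt (hl0 a ha), h.1 a ha]
  · intro p
    rw [idx_wperm, h.2 _ (idx_lt p)]

end Cfsg.Agent.Lib.Helper3.Syl
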