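import Mathlib
import Cfsg.Agent.Lib.Helper3.Fast
import Cfsg.Agent.Lib.Helper3.Abstract

set_option autoImplicit false

namespace Cfsg.Agent.Lib.Helper3

open Cfsg
open scoped Pointwise

/-- move a configuration to a standard one, apply two elements of the standard stabiliser. -/
theorem transfer_pair {α β : Type*} [MulAction (Equiv.Perm GolayPt) α]
    [MulAction (Equiv.Perm GolayPt) β] {S : Subgroup (Equiv.Perm GolayPt)} {Y0 y : α}
    (hS : ∀ σ ∈ S, σ ∈ M24 ∧ σ • Y0 = Y0) {h : Equiv.Perm GolayPt} (hh : h ∈ M24)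
    (hy : h • y = Y0) {a b : β} {σa σb : Equiv.Perm GolayPt} (ha : σa ∈ S) (hb : σb ∈ S)
    (heq : σa • h • a = σb • h • b) : ∃ g ∈ M24, g • y = y ∧ g • a = b := by
  refine ⟨h⁻¹ * σb⁻¹ * σa * h, ?_, ?_, ?_⟩
  · exact M24.mul_mem (M24.mul_mem (M24.mul_mem (M24.inv_mem hh) (M24.inv_mem (hS _ hb).1))
      (hS _ ha).1) hh
  · rw [mul_smul, mul_smul, mul_smul, hy, (hS _ ha).2, inv_smul_eq_iff.2 (hS _ hb).2.symm,
      inv_smul_eq_iff, hy]
  · rw [mul_smul, mul_smul, mul_smul, heq, inv_smul_smul, inv_smul_smul]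

theorem smul_mem_octads_iff {σ : Equiv.Perm GolayPt} (hσ : σ ∈ M24) {s : Finset GolayPt} :
    σ • s ∈ octads ↔ s ∈ octads :=
  ⟨fun h => by simpa using smul_mem_octads (M24.inv_mem hσ) h, smul_mem_octads hσ⟩

theorem smul_mem_dodecads_iff {σ : Equiv.Perm GolayPt} (hσ : σ ∈ M24) {s : Finset GolayPt} :
    σ • s ∈ dodecads ↔ s ∈ dodecads :=
  ⟨fun h => by simpa using smul_mem_dodecads (M24.inv_mem hσ) h, smul_mem_dodecads hσ⟩

theorem card_smul_inter (σ : Equiv.Perm GolayPt) (s t : Finset GolayPt) :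
    (σ • s ∩ σ • t).card = (s ∩ t).card := by
  rw [← Finset.smul_finset_inter, Finset.card_smul_finset]

theorem StabM_one {m : ℕ} {σ : Equiv.Perm GolayPt} (h : σ ∈ StabM [m]) :
    σ ∈ M24 ∧ σ • unmask m = unmask m := ⟨h.1, h.2 m (by simp)⟩

end Cfsg.Agent.Lib.Helper3
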